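import Mathlib

/-!
# Composite valuation rings

Given a valuation subring `B` of a field `K` and a valuation subring `A₁` of the residue field of
`B`, the preimage of `A₁` in `B` is a valuation subring of `K`.
-/

universe u

open IsLocalRing

namespace Groth.Agent.Lib.Helper13.Composite

variable {K : Type u} [Field K]

theorem aux_mem_or_inv_mem (B : ValuationSubring K) (A₁ : ValuationSubring (ResidueField B))
    (x : K) (hx : x ∈ B) :
    x ∈ (A₁.toSubring.comap (residue B)).map B.subtype ∨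
      x⁻¹ ∈ (A₁.toSubring.comap (residue B)).map B.subtype := by
  rcases A₁.mem_or_inv_mem (residue B ⟨x, hx⟩) with h | h
  · exact Or.inl ⟨⟨x, hx⟩, h, rfl⟩
  · by_cases h0 : residue B ⟨x, hx⟩ = 0
    · refine Or.inl ⟨⟨x, hx⟩, ?_, rfl⟩
      change residue B ⟨x, hx⟩ ∈ A₁
      rw [h0]; exact zero_mem _
    · have hu : IsUnit (⟨x, hx⟩ : B) := by
        by_contra hnu
        exact h0 ((residue_eq_zero_iff _).mpr ((mem_maximalIdeal _).mpr hnu))
      obtain ⟨u, hu⟩ := hu
      have hinv : ((↑u⁻¹ : B) : K) = x⁻¹ := by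
        have h1 : (u : B) * (↑u⁻¹ : B) = 1 := u.mul_inv
        have h2 : x * ((↑u⁻¹ : B) : K) = 1 := by
          have := congrArg (Subtype.val : B → K) h1
          rw [hu] at this
          simpa using this
        exact eq_inv_of_mul_eq_one_right h2
      refine Or.inr ⟨(↑u⁻¹ : B), ?_, hinv⟩
      change residue B (↑u⁻¹ : B) ∈ A₁
      have h3 : residue B (↑u⁻¹ : B) = (residue B ⟨x, hx⟩)⁻¹ := by
        rw [← hu]
        have h1 : residue B (u : B) * residue B (↑u⁻¹ : B) = 1 := by
          rw [← map_mul, u.mul_inv, map_one]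
        exact eq_inv_of_mul_eq_one_right h1
      rw [h3]; exact h

/-- the composite of a valuation subring `B` with a valuation subring of its residue field -/
def composite (B : ValuationSubring K) (A₁ : ValuationSubring (ResidueField B)) :
    ValuationSubring K :=
  ValuationSubring.ofSubring ((A₁.toSubring.comap (residue B)).map B.subtype) (by
    intro x
    rcases B.mem_or_inv_mem x with h | h
    · exact aux_mem_or_inv_mem B A₁ x h
    · have := aux_mem_or_inv_mem B A₁ x⁻¹ h
      rw [inv_inv] at this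
      exact this.symm)

theorem mem_composite {B : ValuationSubring K} {A₁ : ValuationSubring (ResidueField B)} {x : K} :
    x ∈ composite B A₁ ↔ ∃ h : x ∈ B, residue B ⟨x, h⟩ ∈ A₁ := by
  constructor
  · rintro ⟨b, hb, rfl⟩
    exact ⟨b.2, hb⟩
  · rintro ⟨h, hx⟩
    exact ⟨⟨x, h⟩, hx, rfl⟩

theorem composite_le (B : ValuationSubring K) (A₁ : ValuationSubring (ResidueField B)) :
    composite B A₁ ≤ B := fun _ hx => (mem_composite.mp hx).1

/-- valuation rings are maximal for domination (along a field extension) -/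
theorem mem_of_map_mem {κ k₀ : Type u} [Field κ] [Field k₀] (j : κ →+* k₀)
    (A : ValuationSubring κ) (A₁ : ValuationSubring k₀) (h : ∀ a : A, j a ∈ A₁.toSubring)
    (hloc : IsLocalHom ((j.comp A.subtype).codRestrict A₁.toSubring h)) (z : κ)
    (hz : j z ∈ A₁) : z ∈ A := by
  by_contra hzA
  have hinv : z⁻¹ ∈ A := (A.mem_or_inv_mem z).resolve_left hzA
  have hz0 : z ≠ 0 := fun h0 => hzA (h0 ▸ zero_mem _)
  have hnu : ¬ IsUnit (⟨z⁻¹, hinv⟩ : A) := by
    rintro ⟨u, hu⟩
    apply hzA
    have h1 : ((↑u⁻¹ : A) : κ) = z := by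
      have h2 : (u : A) * (↑u⁻¹ : A) = 1 := u.mul_inv
      have h3 := congrArg (Subtype.val : A → κ) h2
      rw [hu] at h3
      have h4 : z⁻¹ * ((↑u⁻¹ : A) : κ) = 1 := by simpa using h3
      have := eq_inv_of_mul_eq_one_right h4
      rwa [inv_inv] at this
    rw [← h1]; exact (↑u⁻¹ : A).2
  apply hnu
  apply hloc.map_nonunit
  have hmem : (j z)⁻¹ ∈ A₁ := by
    have := h ⟨z⁻¹, hinv⟩
    simpa using this
  refine ⟨⟨⟨(j z)⁻¹, hmem⟩, ⟨j z, hz⟩, ?_, ?_⟩, ?_⟩
  · apply Subtype.ext
    change (j z)⁻¹ * j z = 1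
    exact inv_mul_cancel₀ ((map_ne_zero j).mpr hz0)
  · apply Subtype.ext
    change j z * (j z)⁻¹ = 1
    exact mul_inv_cancel₀ ((map_ne_zero j).mpr hz0)
  · apply Subtype.ext
    change (j z)⁻¹ = j z⁻¹
    rw [map_inv₀]

end Groth.Agent.Lib.Helper13.Composite
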