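import Mathlib

set_option autoImplicit false
universe u

namespace Groth.Agent.Lib.Helper13.KA

variable {K : Type u} [Field K]

section core

variable (B C : Subring K) (hBC : B ≤ C) [IsFractionRing B K] [IsNoetherianRing B]
  [Ring.KrullDimLE 1 B]

omit [IsNoetherianRing B] [Ring.KrullDimLE 1 B] in
theorem coe_ne_zero {a : B} (ha : a ≠ 0) : (a : K) ≠ 0 := fun h => ha (Subtype.ext h)

theorem isArtinian_quotient (q : B) (hq : q ≠ 0) : IsArtinian B (B ⧸ Ideal.span {q}) := by
  have hfl := isFiniteLength_quotient_span_singleton (R := B)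
    (mem_nonZeroDivisors_of_ne_zero hq)
  exact (isFiniteLength_iff_isNoetherian_isArtinian.mp hfl).2

/-- (Kp-a) -/
theorem exists_pow_mul_eq (a : B) (c : K) :
    ∃ (m : ℕ) (r s : B), (a : K) ^ m * c = (a : K) ^ (m + 1) * ((r : K) * c) + (s : K) := by
  obtain ⟨p, q, hq, rfl⟩ := IsFractionRing.div_surjective (A := B) c
  have hq0 : q ≠ 0 := nonZeroDivisors.ne_zero hq
  have hart := isArtinian_quotient B q hq0
  obtain ⟨n, y, hy⟩ := IsArtinian.exists_pow_succ_smul_dvd a (1 : B ⧸ Ideal.span {q})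
  obtain ⟨y₀, rfl⟩ := Ideal.Quotient.mk_surjective y
  have h0 : (Ideal.Quotient.mk (Ideal.span {q}) (a ^ (n + 1) * y₀ - a ^ n)) = 0 := by
    have h1 : a ^ (n + 1) • (Ideal.Quotient.mk (Ideal.span {q}) y₀) =
        Ideal.Quotient.mk (Ideal.span {q}) (a ^ (n + 1) * y₀) := rfl
    have h2 : a ^ n • (1 : B ⧸ Ideal.span {q}) = Ideal.Quotient.mk (Ideal.span {q}) (a ^ n) := by
      have : a ^ n • (Ideal.Quotient.mk (Ideal.span {q}) 1) =
        Ideal.Quotient.mk (Ideal.span {q}) (a ^ n * 1) := rfl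
      rw [mul_one, map_one] at this
      exact this
    rw [map_sub, ← h1, ← h2]
    rw [Nat.succ_eq_add_one] at hy
    rw [hy, sub_self]
  rw [Ideal.Quotient.eq_zero_iff_mem, Ideal.mem_span_singleton'] at h0
  obtain ⟨s, hs⟩ := h0
  refine ⟨n, y₀, -s * p, ?_⟩
  have hqK : (q : K) ≠ 0 := coe_ne_zero B hq0
  have hsK : (s : K) * (q : K) = (a : K) ^ (n + 1) * (y₀ : K) - (a : K) ^ n := by
    have := congrArg (fun z : B => (z : K)) hs
    simpa using this
  change (a : K) ^ n * ((p : K) / (q : K)) = (a : K) ^ (n + 1) * ((y₀ : K) * ((p : K) / (q : K)))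
    + ((-s * p : B) : K)
  simp only [Subring.coe_mul, Subring.coe_neg]
  field_simp
  linear_combination (p : K) * hsK

/-- the ideal `a^n C ∩ B` of `B` -/
def Jn (a : B) (n : ℕ) : Ideal B :=
  Ideal.comap (Subring.inclusion hBC) (Ideal.span {(Subring.inclusion hBC a) ^ n})

omit [IsFractionRing B K] [IsNoetherianRing B] [Ring.KrullDimLE 1 B] in
theorem mem_Jn (a : B) (n : ℕ) (β : B) :
    β ∈ Jn B C hBC a n ↔ ∃ c : K, c ∈ C ∧ (β : K) = (a : K) ^ n * c := by
  rw [Jn, Ideal.mem_comap, Ideal.mem_span_singleton']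
  constructor
  · rintro ⟨c, hc⟩
    refine ⟨c, c.2, ?_⟩
    have := congrArg (fun z : C => (z : K)) hc
    simp only [Subring.coe_mul, Subring.coe_pow] at this
    rw [mul_comm]
    exact this.symm
  · rintro ⟨c, hc, h⟩
    refine ⟨⟨c, hc⟩, Subtype.ext ?_⟩
    simp only [Subring.coe_mul, Subring.coe_pow]
    rw [mul_comm]
    exact h.symm

omit [IsFractionRing B K] [IsNoetherianRing B] [Ring.KrullDimLE 1 B] in
theorem Jn_antitone (a : B) : Antitone (Jn B C hBC a) := by
  apply antitone_nat_of_succ_le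
  intro n β hβ
  rw [mem_Jn] at hβ ⊢
  obtain ⟨c, hc, h⟩ := hβ
  exact ⟨(a : K) * c, C.mul_mem (hBC a.2) hc, by rw [h, pow_succ]; ring⟩

/-- (Kp-b) -/
theorem exists_stable (a : B) (ha : a ≠ 0) :
    ∃ h : ℕ, ∀ n, h ≤ n → ∀ β : B, β ∈ Jn B C hBC a n →
      ∃ β'' ∈ Jn B C hBC a (n + 1), ∃ β' : B, β = β'' + a * β' := by
  have hart : IsArtinian B (B ⧸ Ideal.span {a}) := isArtinian_quotient B a ha
  have hartR : IsArtinianRing (B ⧸ Ideal.span {a}) := isArtinian_of_tower B hart
  let f : ℕ →o (Ideal (B ⧸ Ideal.span {a}))ᵒᵈ :=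
    ⟨fun n => OrderDual.toDual ((Jn B C hBC a n).map (Ideal.Quotient.mk (Ideal.span {a}))),
      fun m n hmn => OrderDual.toDual_le_toDual.mpr
        (Ideal.map_mono (Jn_antitone B C hBC a hmn))⟩
  obtain ⟨h, hh⟩ := IsArtinian.monotone_stabilizes f
  refine ⟨h, fun n hn β hβ => ?_⟩
  have h1 : (Jn B C hBC a n).map (Ideal.Quotient.mk (Ideal.span {a})) =
      (Jn B C hBC a (n + 1)).map (Ideal.Quotient.mk (Ideal.span {a})) := by
    have e1 := hh n hn
    have e2 := hh (n + 1) (by omega)
    have e3 : f n = f (n + 1) := e1.symm.trans e2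
    exact congrArg OrderDual.ofDual e3
  have h2 : Ideal.Quotient.mk (Ideal.span {a}) β ∈
      (Jn B C hBC a (n + 1)).map (Ideal.Quotient.mk (Ideal.span {a})) := by
    rw [← h1]; exact Ideal.mem_map_of_mem _ hβ
  obtain ⟨β'', hβ'', he⟩ := (Ideal.mem_map_iff_of_surjective _
    Ideal.Quotient.mk_surjective).mp h2
  have h3 : β - β'' ∈ Ideal.span {a} := by
    rw [← Ideal.Quotient.eq_zero_iff_mem, map_sub, he, sub_self]
  obtain ⟨β', hβ'⟩ := Ideal.mem_span_singleton'.mp h3
  refine ⟨β'', hβ'', β', ?_⟩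
  rw [mul_comm, hβ']; ring

include hBC in
/-- (Kp-c) -/
theorem exists_uniform (a : B) (ha : a ≠ 0) :
    ∃ h : ℕ, ∀ c : K, c ∈ C → ∃ c' : K, c' ∈ C ∧ ∃ s : B,
      (a : K) ^ h * c = (a : K) ^ (h + 1) * c' + (s : K) := by
  obtain ⟨h, hh⟩ := exists_stable B C hBC a ha
  have haK : (a : K) ≠ 0 := coe_ne_zero B ha
  refine ⟨h, fun c hc => ?_⟩
  -- upward closure
  have up : ∀ m k : ℕ, (∃ c' : K, c' ∈ C ∧ ∃ s : B,
      (a : K) ^ m * c = (a : K) ^ (m + 1) * c' + (s : K)) →
      (∃ c' : K, c' ∈ C ∧ ∃ s : B,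
      (a : K) ^ (m + k) * c = (a : K) ^ (m + k + 1) * c' + (s : K)) := by
    intro m k
    rintro ⟨c', hc', s, hs⟩
    refine ⟨c', hc', a ^ k * s, ?_⟩
    simp only [Subring.coe_mul, Subring.coe_pow]
    rw [pow_add, mul_assoc ((a : K) ^ m), mul_comm ((a : K) ^ k), ← mul_assoc, hs]
    ring
  -- downward step
  have down : ∀ k : ℕ, (∃ c' : K, c' ∈ C ∧ ∃ s : B,
      (a : K) ^ (h + k) * c = (a : K) ^ (h + k + 1) * c' + (s : K)) →
      (∃ c' : K, c' ∈ C ∧ ∃ s : B,
      (a : K) ^ h * c = (a : K) ^ (h + 1) * c' + (s : K)) := by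
    intro k
    induction k with
    | zero => intro hk; simpa using hk
    | succ k ih =>
      rintro ⟨c', hc', s, hs⟩
      apply ih
      -- s ∈ Jn (h + k + 1)
      have hsJ : s ∈ Jn B C hBC a (h + (k + 1)) := by
        rw [mem_Jn]
        refine ⟨c - (a : K) * c', C.sub_mem hc (C.mul_mem (hBC a.2) hc'), ?_⟩
        have : (s : K) = (a : K) ^ (h + (k + 1)) * c - (a : K) ^ (h + (k + 1) + 1) * c' := by
          rw [hs]; ring
        rw [this]; ring
      obtain ⟨β'', hβ'', β', hβ'⟩ := hh (h + (k + 1)) (by omega) s hsJ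
      rw [mem_Jn] at hβ''
      obtain ⟨c'', hc'', h''⟩ := hβ''
      refine ⟨c' + c'', C.add_mem hc' hc'', β', ?_⟩
      have hsK : (s : K) = (β'' : K) + (a : K) * (β' : K) := by
        have := congrArg (fun z : B => (z : K)) hβ'
        simpa using this
      have key : (a : K) * ((a : K) ^ (h + k) * c) =
          (a : K) * ((a : K) ^ (h + k + 1) * (c' + c'') + (β' : K)) := by
        have e1 : (a : K) * ((a : K) ^ (h + k) * c) = (a : K) ^ (h + (k + 1)) * c := by
          rw [← add_assoc, pow_succ]; ring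
        rw [e1, hs, hsK, h'']
        rw [← add_assoc h k 1]
        ring
      exact mul_left_cancel₀ haK key
  obtain ⟨m, r, s, hm⟩ := exists_pow_mul_eq B a c
  have hP : ∃ c' : K, c' ∈ C ∧ ∃ s : B,
      (a : K) ^ m * c = (a : K) ^ (m + 1) * c' + (s : K) :=
    ⟨(r : K) * c, C.mul_mem (hBC r.2) hc, s, hm⟩
  rcases le_total m h with hmh | hmh
  · obtain ⟨k, rfl⟩ := Nat.exists_eq_add_of_le hmh
    exact up m k hP
  · obtain ⟨k, rfl⟩ := Nat.exists_eq_add_of_le hmh
    exact down k hP

end core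

section quot

variable (B C : Subring K) [IsFractionRing B K] [IsNoetherianRing B]
  [Ring.KrullDimLE 1 B] [Algebra B C] (halg : ∀ b : B, ((algebraMap B C b : C) : K) = (b : K))

include halg

omit [IsFractionRing B K] [IsNoetherianRing B] [Ring.KrullDimLE 1 B] in
theorem le_of_algebra : B ≤ C := fun x hx => by
  have := (algebraMap B C ⟨x, hx⟩).2
  rwa [halg] at this

/-- (Kp-d): `C / aC` is a noetherian `B`-module. -/
theorem isNoetherian_quotient (a : B) (ha : a ≠ 0) :
    IsNoetherian B (C ⧸ Ideal.span {algebraMap B C a}) := by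
  have hBC : B ≤ C := le_of_algebra B C halg
  obtain ⟨h, hh⟩ := exists_uniform B C hBC a ha
  have haK : (a : K) ≠ 0 := coe_ne_zero B ha
  have hsmul : ∀ (b : B) (c : C), ((b • c : C) : K) = (b : K) * (c : K) := fun b c => by
    rw [Algebra.smul_def, Subring.coe_mul, halg]
  -- S' = {c ∈ C | a^h c ∈ B}
  let S' : Submodule B C :=
    { carrier := {c | (a : K) ^ h * (c : K) ∈ B}
      add_mem' := by
        intro x y hx hy
        change (a : K) ^ h * ((x + y : C) : K) ∈ B
        rw [Subring.coe_add, mul_add]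
        exact B.add_mem hx hy
      zero_mem' := by
        change (a : K) ^ h * ((0 : C) : K) ∈ B
        simp
      smul_mem' := by
        intro b x hx
        change (a : K) ^ h * ((b • x : C) : K) ∈ B
        rw [hsmul, mul_left_comm]
        exact B.mul_mem b.2 hx }
  let f : S' →ₗ[B] B :=
    { toFun := fun c => ⟨(a : K) ^ h * ((c : C) : K), c.2⟩
      map_add' := by
        intro x y
        apply Subtype.ext
        simp [mul_add]
      map_smul' := by
        intro b x
        apply Subtype.ext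
        simp only [Submodule.coe_smul, hsmul, RingHom.id_apply, smul_eq_mul, Subring.coe_mul]
        ring }
  have hf : Function.Injective f := by
    intro x y hxy
    have := congrArg (fun z : B => (z : K)) hxy
    simp only [f, LinearMap.coe_mk, AddHom.coe_mk] at this
    have h2 := mul_left_cancel₀ (pow_ne_zero h haK) this
    exact Subtype.ext (Subtype.ext h2)
  have hS'noeth : IsNoetherian B S' := isNoetherian_of_injective f hf
  let g : S' →ₗ[B] (C ⧸ Ideal.span {algebraMap B C a}) :=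
    ((Ideal.Quotient.mkₐ B (Ideal.span {algebraMap B C a})).toLinearMap).comp S'.subtype
  have hg : Function.Surjective g := by
    intro z
    obtain ⟨c, rfl⟩ := Ideal.Quotient.mk_surjective z
    obtain ⟨c', hc', s, hs⟩ := hh c c.2
    have hmem : (c - (algebraMap B C a) * ⟨c', hc'⟩ : C) ∈ S' := by
      change (a : K) ^ h * ((c - (algebraMap B C a) * ⟨c', hc'⟩ : C) : K) ∈ B
      have : (a : K) ^ h * ((c - (algebraMap B C a) * ⟨c', hc'⟩ : C) : K) = (s : K) := by
        have e : ((c - (algebraMap B C a) * ⟨c', hc'⟩ : C) : K) = (c : K) - (a : K) * c' := by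
          push_cast
          rw [halg]
        rw [e, mul_sub, hs, pow_succ]; ring
      rw [this]; exact s.2
    refine ⟨⟨_, hmem⟩, ?_⟩
    change Ideal.Quotient.mk _ (c - (algebraMap B C a) * ⟨c', hc'⟩ : C) =
      Ideal.Quotient.mk _ c
    rw [map_sub, sub_eq_self, Ideal.Quotient.eq_zero_iff_mem]
    exact Ideal.mul_mem_right _ _ (Ideal.mem_span_singleton_self _)
  exact isNoetherian_of_surjective g (LinearMap.range_eq_top.mpr hg)

/-- a nonzero ideal of `C` contains a nonzero element of `B` -/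
theorem exists_ne_zero_mem (I : Ideal C) (hI : I ≠ ⊥) :
    ∃ a : B, a ≠ 0 ∧ algebraMap B C a ∈ I := by
  obtain ⟨c, hcI, hc0⟩ := Submodule.exists_mem_ne_zero_of_ne_bot hI
  obtain ⟨p, q, hq, hpq⟩ := IsFractionRing.div_surjective (A := B) (c : K)
  have hq0 : q ≠ 0 := nonZeroDivisors.ne_zero hq
  have hqK : (q : K) ≠ 0 := coe_ne_zero B hq0
  have hcK : (c : K) ≠ 0 := fun h => hc0 (Subtype.ext h)
  have hpK : (p : K) = (c : K) * (q : K) := by
    have : (p : K) / (q : K) = (c : K) := hpq
    rw [← this]; field_simp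
  refine ⟨p, ?_, ?_⟩
  · intro h
    rw [h] at hpK
    exact mul_ne_zero hcK hqK hpK.symm
  · have : algebraMap B C p = c * algebraMap B C q := by
      apply Subtype.ext
      rw [Subring.coe_mul, halg, halg, hpK]
    rw [this]
    exact Ideal.mul_mem_right _ _ hcI

theorem isNoetherianRing_of_algebra : IsNoetherianRing C := by
  rw [isNoetherianRing_iff_ideal_fg]
  intro I
  by_cases hI : I = ⊥
  · rw [hI]; exact Submodule.fg_bot
  obtain ⟨a, ha0, haI⟩ := exists_ne_zero_mem B C halg I hI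
  have hN := isNoetherian_quotient B C halg a ha0
  have hNR : IsNoetherianRing (C ⧸ Ideal.span {algebraMap B C a}) :=
    isNoetherian_of_tower B hN
  refine Ideal.fg_of_fg_map_of_fg_inf_ker_of_surjective
    (f := Ideal.Quotient.mk (Ideal.span {algebraMap B C a}))
    (IsNoetherian.noetherian _) ?_ Ideal.Quotient.mk_surjective
  rw [Ideal.mk_ker, inf_of_le_right ((Ideal.span_singleton_le_iff_mem I).mpr haI)]
  exact ⟨{algebraMap B C a}, by simp⟩

theorem krullDimLE_one_of_algebra : Ring.KrullDimLE 1 C := by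
  apply Ring.KrullDimLE.mk₁'
  intro P hP0 hPprime
  obtain ⟨a, ha0, haP⟩ := exists_ne_zero_mem B C halg P hP0
  have hN := isNoetherian_quotient B C halg a ha0
  have hfin : Module.Finite B (C ⧸ Ideal.span {algebraMap B C a}) :=
    Module.IsNoetherian.finite _ _
  have hle : Ideal.span {algebraMap B C a} ≤ P := (Ideal.span_singleton_le_iff_mem P).mpr haP
  have hfinP : Module.Finite B (C ⧸ P) :=
    Module.Finite.of_surjective (Ideal.Quotient.factorₐ B hle).toLinearMap
      (Ideal.Quotient.factor_surjective hle)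
  have hint : Algebra.IsIntegral B (C ⧸ P) := Algebra.IsIntegral.of_finite B (C ⧸ P)
  have hcomap_prime : ((⊥ : Ideal (C ⧸ P)).comap (algebraMap B (C ⧸ P))).IsPrime :=
    Ideal.comap_isPrime _ _
  have hcomap_ne : ((⊥ : Ideal (C ⧸ P)).comap (algebraMap B (C ⧸ P))) ≠ ⊥ := by
    intro h
    have : a ∈ ((⊥ : Ideal (C ⧸ P)).comap (algebraMap B (C ⧸ P))) := by
      rw [Ideal.mem_comap, Ideal.mem_bot, IsScalarTower.algebraMap_apply B C (C ⧸ P),
        Ideal.Quotient.algebraMap_eq, Ideal.Quotient.eq_zero_iff_mem]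
      exact haP
    rw [h, Ideal.mem_bot] at this
    exact ha0 this
  have hmax := hcomap_prime.isMaximal_of_ne_bot hcomap_ne
  have hbotmax : (⊥ : Ideal (C ⧸ P)).IsMaximal :=
    Ideal.isMaximal_of_isIntegral_of_isMaximal_comap (R := B) ⊥ hmax
  exact Ideal.Quotient.maximal_of_isField P (Ring.isField_iff_maximal_bot.mpr hbotmax)

end quot

section wrap

variable (B C : Subring K) (hBC : B ≤ C) [IsFractionRing B K]

include hBC

theorem isFractionRing_of_le : IsFractionRing C K := by
  refine (isLocalization_iff (nonZeroDivisors C) K).mpr ⟨?_, ?_, ?_⟩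
  · intro y
    refine IsUnit.mk0 _ ?_
    intro h
    exact nonZeroDivisors.ne_zero y.2 (Subtype.ext h)
  · intro z
    obtain ⟨p, q, hq, rfl⟩ := IsFractionRing.div_surjective (A := B) z
    have hq0 : q ≠ 0 := nonZeroDivisors.ne_zero hq
    have hqK : (q : K) ≠ 0 := coe_ne_zero B hq0
    refine ⟨(⟨p, hBC p.2⟩, ⟨⟨q, hBC q.2⟩, ?_⟩), ?_⟩
    · apply mem_nonZeroDivisors_of_ne_zero
      intro h
      exact hqK (congrArg (fun z : C => (z : K)) h)
    · change (p : K) / (q : K) * (q : K) = (p : K)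
      field_simp
  · intro a b h
    exact ⟨1, by rw [Subtype.ext h]⟩

/-- Krull--Akizuki for overrings inside the fraction field. -/
theorem krullAkizuki [IsNoetherianRing B] [Ring.KrullDimLE 1 B] :
    IsNoetherianRing C ∧ Ring.KrullDimLE 1 C := by
  let _ : Algebra B C := (Subring.inclusion hBC).toAlgebra
  exact ⟨isNoetherianRing_of_algebra B C (fun _ => rfl),
    krullDimLE_one_of_algebra B C (fun _ => rfl)⟩

end wrap

section icl

variable (B : Subring K)

/-- the integral closure of `B` in `K` as a subring -/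
def icl : Subring K := (integralClosure B K).toSubring

theorem mem_icl {x : K} : x ∈ icl B ↔ IsIntegral B x := Iff.rfl

theorem le_icl : B ≤ icl B := fun x hx =>
  (mem_icl B).mpr (isIntegral_algebraMap (R := B) (A := K) (x := ⟨x, hx⟩))

variable [IsFractionRing B K]

instance : IsFractionRing (icl B) K := isFractionRing_of_le B (icl B) (le_icl B)

omit [IsFractionRing B K] in
theorem isIntegral_icl :
    @Algebra.IsIntegral B (icl B) _ _ (Subring.inclusion (le_icl B)).toAlgebra := by
  let _ : Algebra B (icl B) := (Subring.inclusion (le_icl B)).toAlgebra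
  have : IsScalarTower B (icl B) K := IsScalarTower.of_algebraMap_eq (fun _ => rfl)
  constructor
  intro y
  have hy : IsIntegral B (y : K) := y.2
  exact (isIntegral_algebraMap_iff (A := icl B) (B := K) Subtype.val_injective).mp hy

omit [IsFractionRing B K] in
theorem isIntegral_of_mem_icl_integral {x : K} (hx : IsIntegral (icl B) x) : x ∈ icl B := by
  let _ : Algebra B (icl B) := (Subring.inclusion (le_icl B)).toAlgebra
  have : IsScalarTower B (icl B) K := IsScalarTower.of_algebraMap_eq (fun _ => rfl)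
  have hint : Algebra.IsIntegral B (icl B) := isIntegral_icl B
  exact isIntegral_trans (R := B) (A := icl B) x hx

theorem isDedekindDomain_icl [IsNoetherianRing B] [Ring.KrullDimLE 1 B] :
    IsDedekindDomain (icl B) := by
  obtain ⟨hN, hD⟩ := krullAkizuki B (icl B) (le_icl B)
  rw [isDedekindDomain_iff (icl B) K]
  refine ⟨inferInstance, hN, ⟨fun {p} hp0 hp => hp.isMaximal_of_ne_bot hp0⟩, ?_⟩
  intro x hx
  exact ⟨⟨x, isIntegral_of_mem_icl_integral B hx⟩, rfl⟩

end icl

end Groth.Agent.Lib.Helper13.KA
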