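import Groth.Agent.Lib.Helper13.GlueDimOne
import Groth.Agent.Lib.Helper13.KrullAkizuki

set_option autoImplicit false
universe u

namespace Groth.Agent.Lib.Helper13.Glue

open Groth.Agent.Lib.Helper13.KA IsDedekindDomain

variable {K : Type u} [Field K]

/-- approximation: finitely many valuations, each with a pole of some element of `A` -/
theorem exists_forall_one_lt {Γ : Type*} [LinearOrderedCommGroupWithZero Γ] [MulArchimedean Γ]
    (A : Subring K) {ι : Type*} (s : Finset ι) (v : ι → Valuation K Γ)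
    (h : ∀ i ∈ s, ∃ α ∈ A, 1 < v i α) : ∃ α ∈ A, ∀ i ∈ s, 1 < v i α := by
  classical
  induction s using Finset.induction_on with
  | empty => exact ⟨1, A.one_mem, by simp⟩
  | insert i₀ s hi₀ ih =>
    obtain ⟨x, hxA, hx⟩ := ih (fun i hi => h i (Finset.mem_insert_of_mem hi))
    obtain ⟨y, hyA, hy⟩ := h i₀ (Finset.mem_insert_self _ _)
    -- exponents
    have hex : ∀ i : ι, ∃ e : ℕ, 1 < v i y → v i x < (v i y) ^ e := by
      intro i
      by_cases hi : 1 < v i y
      · obtain ⟨n, hn⟩ := MulArchimedean.arch (v i x) hi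
        refine ⟨n + 1, fun _ => lt_of_le_of_lt hn ?_⟩
        exact pow_lt_pow_right₀ hi (Nat.lt_succ_self n)
      · exact ⟨0, fun h => absurd h hi⟩
    choose e he using hex
    set E : ℕ := 1 + ∑ i ∈ insert i₀ s, e i with hE
    have hEge : ∀ i ∈ insert i₀ s, e i ≤ E := by
      intro i hi
      have := Finset.single_le_sum (f := e) (fun j _ => Nat.zero_le _) hi
      omega
    have hbig : ∀ i ∈ insert i₀ s, 1 < v i y → v i x < (v i y) ^ E := by
      intro i hi h1
      exact lt_of_lt_of_le (he i h1) (pow_le_pow_right₀ h1.le (hEge i hi))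
    refine ⟨x + y ^ E, A.add_mem hxA (A.pow_mem hyA E), ?_⟩
    intro i hi
    rcases Finset.mem_insert.mp hi with rfl | his
    · have h1 := hbig i hi hy
      rw [Valuation.map_add_eq_of_lt_right _ (by rw [map_pow]; exact h1), map_pow]
      exact one_lt_pow₀ hy (by omega)
    · by_cases h1 : 1 < v i y
      · have h2 := hbig i hi h1
        rw [Valuation.map_add_eq_of_lt_right _ (by rw [map_pow]; exact h2), map_pow]
        exact lt_trans (hx i his) h2
      · have h2 : v i (y ^ E) ≤ 1 := by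
          rw [map_pow]; exact pow_le_one₀ zero_le' (not_lt.mp h1)
        rw [Valuation.map_add_eq_of_lt_left _ (lt_of_le_of_lt h2 (hx i his))]
        exact hx i his

section dedekind

variable (B : Subring K) [IsFractionRing B K] [IsNoetherianRing B] [Ring.KrullDimLE 1 B]

/-- every height-one prime of the integral closure contains the Jacobson radical of `B` -/
theorem jacobson_le_heightOne [IsDedekindDomain (icl B)]
    (v : HeightOneSpectrum (icl B)) (b : B) (hb : b ∈ Ideal.jacobson (⊥ : Ideal B)) :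
    (⟨(b : K), le_icl B b.2⟩ : icl B) ∈ v.asIdeal := by
  have hprime : (v.asIdeal.comap (Subring.inclusion (le_icl B))).IsPrime :=
    Ideal.comap_isPrime _ _
  have hne : v.asIdeal.comap (Subring.inclusion (le_icl B)) ≠ ⊥ := by
    obtain ⟨z, hz, hz0⟩ := Submodule.exists_mem_ne_zero_of_ne_bot v.ne_bot
    obtain ⟨p, q, hq, hpq⟩ := IsFractionRing.div_surjective (A := B) (z : K)
    have hq0 : (q : K) ≠ 0 := fun h => nonZeroDivisors.ne_zero hq (Subtype.ext h)
    have hzK : (z : K) ≠ 0 := fun h => hz0 (Subtype.ext h)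
    have hpK : (p : K) = (z : K) * (q : K) := by
      have : (p : K) / (q : K) = (z : K) := hpq
      rw [← this]; field_simp
    intro hbot
    have hmem : p ∈ v.asIdeal.comap (Subring.inclusion (le_icl B)) := by
      rw [Ideal.mem_comap]
      have : Subring.inclusion (le_icl B) p = z * Subring.inclusion (le_icl B) q :=
        Subtype.ext hpK
      rw [this]
      exact Ideal.mul_mem_right _ _ hz
    rw [hbot, Ideal.mem_bot] at hmem
    rw [hmem] at hpK
    exact mul_ne_zero hzK hq0 hpK.symm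
  have hmax := hprime.isMaximal_of_ne_bot hne
  have := (Ideal.mem_sInf.mp hb) ⟨bot_le, hmax⟩
  exact this

theorem finite_heightOneSpectrum_icl [IsDedekindDomain (icl B)] [Finite (MaximalSpectrum B)]
    (hf : ¬ IsField B) : Finite (HeightOneSpectrum (icl B)) := by
  obtain ⟨b, hb0, hbJ⟩ := exists_ne_zero_mem_jacobson B hf
  set b' : icl B := ⟨(b : K), le_icl B b.2⟩ with hb'
  have hb'0 : b' ≠ 0 := fun h => hb0 (Subtype.ext (congrArg (fun z : icl B => (z : K)) h))
  have hfin := Ideal.finite_minimalPrimes_of_isNoetherianRing (icl B) (Ideal.span {b'})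
  have := hfin.to_subtype
  let f : HeightOneSpectrum (icl B) → ↥((Ideal.span {b'}).minimalPrimes) := fun v =>
    ⟨v.asIdeal, by
      have hmem := jacobson_le_heightOne B v b hbJ
      refine ⟨⟨v.isPrime, (Ideal.span_singleton_le_iff_mem _).mpr hmem⟩, ?_⟩
      rintro Q ⟨hQ, hQb⟩ hQv
      have hQ0 : Q ≠ ⊥ := by
        intro h
        rw [h] at hQb
        exact hb'0 (by simpa using hQb)
      have hQmax : Q.IsMaximal := hQ.isMaximal hQ0
      exact (hQmax.eq_of_le v.isPrime.ne_top hQv).ge⟩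
  refine Finite.of_injective f ?_
  intro v w hvw
  have : v.asIdeal = w.asIdeal := congrArg Subtype.val hvw
  exact HeightOneSpectrum.ext this

theorem exists_one_lt_valuation [IsDedekindDomain (icl B)] (A : Subring K) (hAB : A ⊔ B = ⊤)
    (v : HeightOneSpectrum (icl B)) : ∃ α ∈ A, 1 < v.valuation K α := by
  by_contra hcon
  push Not at hcon
  have hA : A ≤ (v.valuation K).valuationSubring.toSubring := fun α hα => hcon α hα
  have hB : B ≤ (v.valuation K).valuationSubring.toSubring := fun β hβ =>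
    v.valuation_le_one (K := K) ⟨β, le_icl B hβ⟩
  have htop : (⊤ : Subring K) ≤ (v.valuation K).valuationSubring.toSubring :=
    hAB ▸ sup_le hA hB
  obtain ⟨z, hz, hz0⟩ := Submodule.exists_mem_ne_zero_of_ne_bot v.ne_bot
  have hzK : (z : K) ≠ 0 := fun h => hz0 (Subtype.ext h)
  have h1 : v.valuation K (z : K) < 1 := (v.valuation_lt_one_iff_mem (K := K) z).mpr hz
  have h2 : v.valuation K ((z : K)⁻¹) ≤ 1 := htop (Subring.mem_top _)
  rw [map_inv₀] at h2
  have h3 : v.valuation K (z : K) ≠ 0 := (Valuation.ne_zero_iff _).mpr hzK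
  have h4 : 1 < (v.valuation K (z : K))⁻¹ := (one_lt_inv₀ (zero_lt_iff.mpr h3)).mpr h1
  exact absurd h2 (not_le.mpr h4)

theorem exists_forall_one_lt_valuation [IsDedekindDomain (icl B)]
    [Finite (HeightOneSpectrum (icl B))] (A : Subring K) (hAB : A ⊔ B = ⊤) :
    ∃ α ∈ A, ∀ v : HeightOneSpectrum (icl B), 1 < v.valuation K α := by
  have := Fintype.ofFinite (HeightOneSpectrum (icl B))
  obtain ⟨α, hα, h⟩ := exists_forall_one_lt A (Finset.univ)
    (fun v : HeightOneSpectrum (icl B) => v.valuation K)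
    (fun v _ => exists_one_lt_valuation B A hAB v)
  exact ⟨α, hα, fun v => h v (Finset.mem_univ _)⟩

/-- conductor argument: an element in all height-one primes of the integral closure has a power
in the Jacobson radical of `B` -/
theorem exists_pow_mem_jacobson [IsDedekindDomain (icl B)] (hf : ¬ IsField B) (ν : K)
    (hν : ∀ v : HeightOneSpectrum (icl B), v.valuation K ν < 1) :
    ∃ N : ℕ, ∃ h : ν ^ N ∈ B, (⟨ν ^ N, h⟩ : B) ∈ Ideal.jacobson (⊥ : Ideal B) := by
  -- ν ∈ icl B
  obtain ⟨y, hy⟩ := HeightOneSpectrum.mem_integers_of_valuation_le_one (R := icl B) K ν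
    (fun v => (hν v).le)
  have hyK : (y : K) = ν := hy
  have hyv : ∀ v : HeightOneSpectrum (icl B), y ∈ v.asIdeal := fun v => by
    rw [← v.valuation_lt_one_iff_mem (K := K)]
    have := hν v
    rw [← hyK] at this
    exact this
  have hνint : IsIntegral B ν := by rw [← hyK]; exact y.2
  -- the finite B-algebra B[ν]
  have hFG := hνint.fg_adjoin_singleton
  obtain ⟨S, hS⟩ := hFG
  obtain ⟨c, hc⟩ := IsLocalization.exist_integer_multiples_of_finset (nonZeroDivisors B) S
  have hc0 : (c : B) ≠ 0 := nonZeroDivisors.ne_zero c.2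
  have hcK : ((c : B) : K) ≠ 0 := coe_ne_zero B hc0
  have hcmul' : ∀ t ∈ Submodule.span B (S : Set K), ((c : B) : K) * t ∈ B := by
    intro t ht
    induction ht using Submodule.span_induction with
    | mem x hx =>
      obtain ⟨β, hβ⟩ := hc x hx
      have : ((c : B) : K) * x = (β : K) := by
        have h1 : ((c : B) • x : K) = ((c : B) : K) * x := Algebra.smul_def _ _
        rw [← h1, ← hβ]; rfl
      rw [this]; exact β.2
    | zero => simp
    | add x z _ _ hx hz => rw [mul_add]; exact B.add_mem hx hz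
    | smul r x _ hx =>
      have : ((c : B) : K) * (r • x) = (r : K) * (((c : B) : K) * x) := by
        rw [Algebra.smul_def]; change _ * ((r : K) * x) = _; ring
      rw [this]; exact B.mul_mem r.2 hx
  have hcmul : ∀ t ∈ Algebra.adjoin B {ν}, ((c : B) : K) * t ∈ B := by
    intro t ht
    have ht' : t ∈ (Algebra.adjoin B {ν}).toSubmodule := ht
    rw [← hS] at ht'
    exact hcmul' t ht'
  have hle : Algebra.adjoin B {ν} ≤ integralClosure B K := by
    rw [Algebra.adjoin_le_iff, Set.singleton_subset_iff]; exact hνint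
  -- ring hom B[ν] → icl B
  let ι : ↥(Algebra.adjoin B {ν}) →+* icl B :=
    { toFun := fun t => ⟨(t : K), hle t.2⟩
      map_one' := rfl
      map_mul' := fun _ _ => rfl
      map_zero' := rfl
      map_add' := fun _ _ => rfl }
  have hιinj : Function.Injective ι := fun a b hab =>
    Subtype.ext (congrArg (fun z : icl B => (z : K)) hab)
  let _ : Algebra ↥(Algebra.adjoin B {ν}) (icl B) := ι.toAlgebra
  let _ : Algebra B (icl B) := (Subring.inclusion (le_icl B)).toAlgebra
  have : IsScalarTower B ↥(Algebra.adjoin B {ν}) (icl B) :=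
    IsScalarTower.of_algebraMap_eq (fun _ => rfl)
  have hintB : Algebra.IsIntegral B (icl B) := isIntegral_icl B
  have hint1 : Algebra.IsIntegral ↥(Algebra.adjoin B {ν}) (icl B) :=
    Algebra.IsIntegral.tower_top (R := B)
  set ν₁ : ↥(Algebra.adjoin B {ν}) := ⟨ν, Algebra.subset_adjoin (Set.mem_singleton ν)⟩ with hν₁
  have hιν : ι ν₁ = y := Subtype.ext hyK.symm
  set c₁ : ↥(Algebra.adjoin B {ν}) := algebraMap B _ (c : B) with hc₁
  have hc₁K : (c₁ : K) = ((c : B) : K) := rfl
  have hc₁0 : c₁ ≠ 0 := fun h => hcK (by rw [← hc₁K, h]; rfl)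
  have hrad : ν₁ ∈ (Ideal.span {c₁}).radical := by
    rw [Ideal.radical_eq_sInf, Ideal.mem_sInf]
    rintro P ⟨hcP, hP⟩
    have hP0 : P ≠ ⊥ := by
      intro h
      rw [h, Ideal.span_le, Set.singleton_subset_iff] at hcP
      exact hc₁0 (by simpa using hcP)
    have hker : (⊥ : Ideal (icl B)).comap (algebraMap ↥(Algebra.adjoin B {ν}) (icl B)) ≤ P := by
      intro t ht
      rw [Ideal.mem_comap, Ideal.mem_bot] at ht
      have : t = 0 := hιinj (by rw [map_zero]; exact ht)
      rw [this]; exact P.zero_mem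
    obtain ⟨Q, -, hQ, hQP⟩ := Ideal.exists_ideal_over_prime_of_isIntegral P
      (⊥ : Ideal (icl B)) hker
    have hQ0 : Q ≠ ⊥ := by
      intro h
      apply hP0
      rw [← hQP, h]
      ext t
      rw [Ideal.mem_comap, Ideal.mem_bot, Ideal.mem_bot]
      constructor
      · intro ht; exact hιinj (by rw [map_zero]; exact ht)
      · intro ht; rw [ht]; exact map_zero _
    have hyQ : y ∈ Q := hyv ⟨Q, hQ, hQ0⟩
    rw [← hQP, Ideal.mem_comap]
    change ι ν₁ ∈ Q
    rw [hιν]; exact hyQ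
  obtain ⟨N, hN⟩ := hrad
  obtain ⟨t, ht⟩ := Ideal.mem_span_singleton'.mp hN
  have htK : ν ^ N = (t : K) * ((c : B) : K) := by
    have := congrArg (fun z : ↥(Algebra.adjoin B {ν}) => (z : K)) ht
    simp only [MulMemClass.coe_mul, SubmonoidClass.coe_pow] at this
    rw [hc₁K] at this
    exact this.symm
  have hmem : ν ^ (N + 1) ∈ B := by
    have : ν ^ (N + 1) = ((c : B) : K) * (ν * (t : K)) := by
      rw [pow_succ, htK]; ring
    rw [this]
    exact hcmul _ ((Algebra.adjoin B {ν}).mul_mem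
      (Algebra.subset_adjoin (Set.mem_singleton ν)) t.2)
  refine ⟨N + 1, hmem, ?_⟩
  rw [Ideal.jacobson, Ideal.mem_sInf]
  rintro n ⟨-, hn⟩
  have hkerB : RingHom.ker (algebraMap B (icl B)) ≤ n := by
    intro t ht
    have : t = 0 := Subring.inclusion_injective (le_icl B) (by rw [map_zero]; exact ht)
    rw [this]; exact n.zero_mem
  obtain ⟨Q, hQmax, hQn⟩ := Ideal.exists_ideal_over_maximal_of_isIntegral n hkerB
  have hn0 : n ≠ ⊥ := Ring.ne_bot_of_isMaximal_of_not_isField hn hf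
  have hQ0 : Q ≠ ⊥ := by
    intro h
    apply hn0
    rw [← hQn, h]
    ext t
    rw [Ideal.mem_comap, Ideal.mem_bot, Ideal.mem_bot]
    constructor
    · intro ht; exact Subring.inclusion_injective (le_icl B) (by rw [map_zero]; exact ht)
    · intro ht; rw [ht]; exact map_zero _
  have hyQ : y ∈ Q := hyv ⟨Q, hQmax.isPrime, hQ0⟩
  rw [← hQn, Ideal.mem_comap]
  have : algebraMap B (icl B) ⟨ν ^ (N + 1), hmem⟩ = y ^ (N + 1) := by
    apply Subtype.ext
    change ν ^ (N + 1) = ((y ^ (N + 1) : icl B) : K)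
    rw [Subring.coe_pow, hyK]
  rw [this]
  exact Ideal.pow_mem_of_mem _ hyQ _ (Nat.succ_pos N)

theorem nonempty_heightOneSpectrum_icl [IsDedekindDomain (icl B)] (hf : ¬ IsField B) :
    Nonempty (HeightOneSpectrum (icl B)) := by
  let _ : Algebra B (icl B) := (Subring.inclusion (le_icl B)).toAlgebra
  have hintB : Algebra.IsIntegral B (icl B) := isIntegral_icl B
  obtain ⟨n, hn⟩ := Ideal.exists_maximal B
  have hkerB : RingHom.ker (algebraMap B (icl B)) ≤ n := by
    intro t ht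
    have : t = 0 := Subring.inclusion_injective (le_icl B) (by rw [map_zero]; exact ht)
    rw [this]; exact n.zero_mem
  obtain ⟨Q, hQmax, hQn⟩ := Ideal.exists_ideal_over_maximal_of_isIntegral n hkerB
  have hn0 : n ≠ ⊥ := Ring.ne_bot_of_isMaximal_of_not_isField hn hf
  have hQ0 : Q ≠ ⊥ := by
    intro h
    apply hn0
    rw [← hQn, h]
    ext t
    rw [Ideal.mem_comap, Ideal.mem_bot, Ideal.mem_bot]
    constructor
    · intro ht; exact Subring.inclusion_injective (le_icl B) (by rw [map_zero]; exact ht)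
    · intro ht; rw [ht]; exact map_zero _
  exact ⟨⟨Q, hQmax.isPrime, hQ0⟩⟩

end dedekind

/-- Key lemma: if `A` and `B` generate `K`, some unit of `A` lies in the Jacobson radical
of `B`. -/
theorem exists_unit_mem_jacobson (A B : Subring K) [IsFractionRing A K] [IsFractionRing B K]
    [IsNoetherianRing B] [Ring.KrullDimLE 1 A] [Ring.KrullDimLE 1 B]
    [Finite (MaximalSpectrum A)] [Finite (MaximalSpectrum B)]
    (hfA : ¬ IsField A) (hfB : ¬ IsField B) (hAB : A ⊔ B = ⊤) :
    ∃ x : K, x ≠ 0 ∧ x ∈ A ∧ x⁻¹ ∈ A ∧ ∃ hxB : x ∈ B,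
      (⟨x, hxB⟩ : B) ∈ Ideal.jacobson (⊥ : Ideal B) := by
  have hDed := isDedekindDomain_icl B
  have hfin := finite_heightOneSpectrum_icl B hfB
  obtain ⟨α, hαA, hα⟩ := exists_forall_one_lt_valuation B A hAB
  obtain ⟨v₀⟩ := nonempty_heightOneSpectrum_icl B hfB
  have hα0 : α ≠ 0 := by
    intro h
    have := hα v₀
    rw [h, map_zero] at this
    exact not_lt.mpr zero_le' this
  have hν : ∀ v : HeightOneSpectrum (icl B), v.valuation K α⁻¹ < 1 := by
    intro v
    rw [map_inv₀]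
    exact inv_lt_one_of_one_lt₀ (hα v)
  obtain ⟨N, hmem, hJ⟩ := exists_pow_mem_jacobson B hfB α⁻¹ hν
  set μ : K := α⁻¹ ^ N with hμ
  have hμ0 : μ ≠ 0 := pow_ne_zero _ (inv_ne_zero hα0)
  obtain ⟨j, hj0, hjJ⟩ := exists_ne_zero_mem_jacobson A hfA
  have hjK : (j : K) ≠ 0 := fun h => hj0 (Subtype.ext h)
  obtain ⟨k, hk⟩ := exists_pow_mul_mem B ⟨μ, hmem⟩ hJ ((j : K))⁻¹
  have hk' : μ ^ k * ((j : K))⁻¹ ∈ B := hk
  -- w = j * (α^N)^(k+1)
  have hwA : (j : K) * (α ^ N) ^ (k + 1) ∈ A := A.mul_mem j.2 (A.pow_mem (A.pow_mem hαA N) _)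
  have hw0 : (j : K) * (α ^ N) ^ (k + 1) ≠ 0 :=
    mul_ne_zero hjK (pow_ne_zero _ (pow_ne_zero _ hα0))
  have hwJ : (⟨(j : K) * (α ^ N) ^ (k + 1), hwA⟩ : A) ∈ Ideal.jacobson (⊥ : Ideal A) := by
    have : (⟨(j : K) * (α ^ N) ^ (k + 1), hwA⟩ : A) =
        j * (⟨α ^ N, A.pow_mem hαA N⟩ : A) ^ (k + 1) := Subtype.ext (by simp)
    rw [this]
    exact Ideal.mul_mem_right _ _ hjJ
  have hwi_eq : ((j : K) * (α ^ N) ^ (k + 1))⁻¹ = μ * (μ ^ k * ((j : K))⁻¹) := by
    rw [hμ, mul_inv, ← inv_pow, ← inv_pow, pow_succ]; ring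
  have hwiB : ((j : K) * (α ^ N) ^ (k + 1))⁻¹ ∈ B := by
    rw [hwi_eq]; exact B.mul_mem hmem hk'
  have hwiJ : (⟨((j : K) * (α ^ N) ^ (k + 1))⁻¹, hwiB⟩ : B) ∈
      Ideal.jacobson (⊥ : Ideal B) := by
    have : (⟨((j : K) * (α ^ N) ^ (k + 1))⁻¹, hwiB⟩ : B) =
        (⟨μ, hmem⟩ : B) * ⟨μ ^ k * ((j : K))⁻¹, hk'⟩ :=
      Subtype.ext (by simp only [Subring.coe_mul]; exact hwi_eq)
    rw [this]
    exact Ideal.mul_mem_right _ _ hJ
  obtain ⟨h1w0, h1wA⟩ := unit_add_jacobson A 1 (by simp) one_ne_zero _ hwA hwJ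
  obtain ⟨h1wi0, h1wiB⟩ := unit_add_jacobson B 1 (by simp) one_ne_zero _ hwiB hwiJ
  refine ⟨(1 + (j : K) * (α ^ N) ^ (k + 1))⁻¹, inv_ne_zero h1w0, h1wA, ?_, ?_⟩
  · rw [inv_inv]; exact A.add_mem A.one_mem hwA
  · have hx_eq : (1 + (j : K) * (α ^ N) ^ (k + 1))⁻¹ =
        ((j : K) * (α ^ N) ^ (k + 1))⁻¹ * (1 + ((j : K) * (α ^ N) ^ (k + 1))⁻¹)⁻¹ := by
      have h3 : (j : K) * (α ^ N) ^ (k + 1) + 1 ≠ 0 := by rwa [add_comm]
      field_simp
      ring
    have hxB : (1 + (j : K) * (α ^ N) ^ (k + 1))⁻¹ ∈ B := by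
      rw [hx_eq]; exact B.mul_mem hwiB h1wiB
    refine ⟨hxB, ?_⟩
    have : (⟨(1 + (j : K) * (α ^ N) ^ (k + 1))⁻¹, hxB⟩ : B) =
        (⟨((j : K) * (α ^ N) ^ (k + 1))⁻¹, hwiB⟩ : B) *
          ⟨(1 + ((j : K) * (α ^ N) ^ (k + 1))⁻¹)⁻¹, h1wiB⟩ :=
      Subtype.ext (by simp only [Subring.coe_mul]; exact hx_eq)
    rw [this]
    exact Ideal.mul_mem_right _ _ hwiJ

/-- Two semi-local noetherian one-dimensional subrings generating `K` glue. -/
theorem exists_glueData_of_sup_eq_top (A B : Subring K) [IsFractionRing A K]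
    [IsFractionRing B K] [IsNoetherianRing B] [Ring.KrullDimLE 1 A] [Ring.KrullDimLE 1 B]
    [Finite (MaximalSpectrum A)] [Finite (MaximalSpectrum B)]
    (hfA : ¬ IsField A) (hfB : ¬ IsField B) (hAB : A ⊔ B = ⊤) :
    ∃ x y : K, GlueData A B x y := by
  obtain ⟨x, hx0, hxA, hxiA, hxB, hxJ⟩ := exists_unit_mem_jacobson A B hfA hfB hAB
  obtain ⟨a, ha0, haJ⟩ := exists_ne_zero_mem_jacobson A hfA
  obtain ⟨y, hy⟩ := exists_glueData A B a haJ ha0 x hx0 hxA hxiA hxB hxJ
  exact ⟨x, y, hy⟩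

end Groth.Agent.Lib.Helper13.Glue
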