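import Mathlib
import Groth.Agent.Lib.Helper13.KrullAkizuki
import Groth.Agent.Lib.Helper13.GlueSemiLocal

/-!
# Existence of discrete valuation rings dominating a Noetherian local domain

(EGA II 7.1.7 / Stacks 00PH.)  Main results:

* `exists_dvr_of_dimOne` : a one-dimensional Noetherian subring `D` of a field `L` with fraction
  field `L` is contained in a discrete valuation subring of `L` whose maximal ideal contains the
  Jacobson radical of `D` (Krull--Akizuki).
* `exists_dvr_dominating` : a Noetherian local domain `A`, not a field, mapping injectively to a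
  field `L` which is finitely generated (as a field) over the image, is dominated by a discrete
  valuation subring of `L`.
-/

universe u

namespace Groth.Agent.Lib.Helper13.Dvr

open Groth.Agent.Lib.Helper13.KA Groth.Agent.Lib.Helper13.Glue IsDedekindDomain

variable {L : Type u} [Field L]

/-- a subring whose generated subfield is everything has `L` as fraction field -/
theorem isFractionRing_of_closure (B : Subring L) (h : Subfield.closure (B : Set L) = ⊤) :
    IsFractionRing B L := by
  refine (isLocalization_iff (nonZeroDivisors B) L).mpr ⟨?_, ?_, ?_⟩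
  · intro y
    refine IsUnit.mk0 _ ?_
    intro h
    exact nonZeroDivisors.ne_zero y.2 (Subtype.ext h)
  · intro z
    have hz : z ∈ Subfield.closure (B : Set L) := by rw [h]; trivial
    obtain ⟨p, hp, q, hq, rfl⟩ := Subfield.mem_closure_iff.mp hz
    rw [Subring.closure_eq] at hp hq
    by_cases hq0 : q = 0
    · refine ⟨(0, 1), ?_⟩
      simp [hq0]
    · refine ⟨(⟨p, hp⟩, ⟨⟨q, hq⟩, ?_⟩), ?_⟩
      · apply mem_nonZeroDivisors_of_ne_zero
        intro h
        exact hq0 (congrArg (fun z : B => (z : L)) h)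
      · change p / q * q = p
        field_simp
  · intro a b h
    exact ⟨1, by rw [Subtype.ext h]⟩

theorem exists_dvr_of_dimOne (D : Subring L) [IsFractionRing D L] [IsNoetherianRing D]
    [Ring.KrullDimLE 1 D] (hf : ¬ IsField D) :
    ∃ R : ValuationSubring L, IsDiscreteValuationRing R ∧ D ≤ R.toSubring ∧
      ∀ d : D, d ∈ Ideal.jacobson (⊥ : Ideal D) → R.valuation (d : L) < 1 := by
  have hDed := isDedekindDomain_icl D
  obtain ⟨v⟩ := nonempty_heightOneSpectrum_icl D hf
  refine ⟨HeightOneSpectrum.valuationSubringAtPrime L v, ?_, ?_, ?_⟩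
  · exact IsLocalization.AtPrime.isDiscreteValuationRing_of_dedekind_domain
        ↥(icl D) (P := v.asIdeal) v.ne_bot _
  · intro x hx
    rw [HeightOneSpectrum.valuationSubringAtPrime_eq_valuationSubring]
    exact v.valuation_le_one (K := L) ⟨x, le_icl D hx⟩
  · intro d hd
    have hmem := jacobson_le_heightOne D v d hd
    have h1 : v.valuation L ((⟨(d : L), le_icl D d.2⟩ : icl D) : L) < 1 :=
      (v.valuation_lt_one_iff_mem (K := L) _).mpr hmem
    rw [HeightOneSpectrum.valuationSubringAtPrime_eq_valuationSubring]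
    exact (Valuation.isEquiv_valuation_valuationSubring (v.valuation L)).lt_one_iff_lt_one.mp h1

/-- Main existence theorem: a Noetherian local domain `A`, not a field, mapping injectively to a
field `L` which is generated as a field by the image of `A` and a finite set `T`, is dominated by a
discrete valuation subring of `L`. -/
theorem exists_dvr_dominating (A : Type u) [CommRing A] [IsDomain A] [IsNoetherianRing A]
    [IsLocalRing A] (hA : ¬ IsField A) [Algebra A L]
    (hinj : Function.Injective (algebraMap A L)) (T : Finset L)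
    (hT : Subfield.closure (Set.range (algebraMap A L) ∪ (T : Set L)) = ⊤) :
    ∃ R : ValuationSubring L, IsDiscreteValuationRing R ∧ (∀ a : A, algebraMap A L a ∈ R) ∧
      ∀ a ∈ IsLocalRing.maximalIdeal A, R.valuation (algebraMap A L a) < 1 := by
  classical
  obtain ⟨V, hV, hloc⟩ := IsLocalRing.exists_factor_valuationRing (algebraMap A L)
  have hVlt : ∀ a ∈ IsLocalRing.maximalIdeal A, V.valuation (algebraMap A L a) < 1 := by
    intro a ha
    have hnu : ¬ IsUnit ((algebraMap A L).codRestrict V.toSubring hV a) := by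
      intro hu
      exact ha (hloc.map_nonunit a hu)
    exact (V.valuation_lt_one_iff ⟨_, hV a⟩).mp ((IsLocalRing.mem_maximalIdeal _).mpr hnu)
  -- generators of the maximal ideal
  obtain ⟨G, hG⟩ : (IsLocalRing.maximalIdeal A).FG := IsNoetherian.noetherian _
  have hm0 : IsLocalRing.maximalIdeal A ≠ ⊥ := fun h =>
    hA (IsLocalRing.isField_iff_maximalIdeal_eq.mpr h)
  obtain ⟨g₀, hg₀G, hg₀⟩ : ∃ g ∈ G, g ≠ 0 := by
    by_contra hcon
    push Not at hcon
    apply hm0
    rw [← hG, Submodule.span_eq_bot]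
    exact fun x hx => hcon x hx
  obtain ⟨y₀, hy₀G, hy₀max⟩ := Finset.exists_max_image G
    (fun g => V.valuation (algebraMap A L g)) ⟨g₀, hg₀G⟩
  have hGm : ∀ g ∈ G, g ∈ IsLocalRing.maximalIdeal A := fun g hg => by
    rw [← hG]; exact Submodule.subset_span hg
  have hy0 : algebraMap A L y₀ ≠ 0 := by
    intro h
    have h1 := hy₀max g₀ hg₀G
    simp only [h, map_zero] at h1
    have h2 : V.valuation (algebraMap A L g₀) = 0 := le_antisymm h1 zero_le
    rw [map_eq_zero] at h2
    exact hg₀ (hinj (by rw [h2, map_zero]))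
  obtain ⟨y, hy⟩ : ∃ y : L, y = algebraMap A L y₀ := ⟨_, rfl⟩
  rw [← hy] at hy0
  have hdivV : ∀ g ∈ G, algebraMap A L g / y ∈ V := by
    intro g hg
    rw [← V.valuation_le_one_iff, map_div₀]
    have hpos : 0 < V.valuation y := zero_lt_iff.mpr ((map_ne_zero _).mpr hy0)
    rw [div_le_one₀ hpos, hy]
    exact hy₀max g hg
  obtain ⟨u, hu⟩ : ∃ u : L → L, ∀ t, u t ∈ V ∧ (u t = t ∨ u t = t⁻¹) := by
    refine ⟨fun t => if t ∈ V then t else t⁻¹, fun t => ?_⟩
    by_cases ht : t ∈ V
    · simp [ht]
    · simp only [if_neg ht]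
      exact ⟨(V.mem_or_inv_mem t).resolve_left ht, Or.inr trivial⟩
  obtain ⟨S, hS⟩ : ∃ S : Finset L, S = G.image (fun g => algebraMap A L g / y) ∪ T.image u :=
    ⟨_, rfl⟩
  have hSV : ∀ s ∈ S, s ∈ V := by
    intro s hs
    rw [hS, Finset.mem_union, Finset.mem_image, Finset.mem_image] at hs
    rcases hs with ⟨g, hg, rfl⟩ | ⟨t, _, rfl⟩
    · exact hdivV g hg
    · exact (hu t).1
  obtain ⟨B, hB⟩ : ∃ B : Subalgebra A L, B = Algebra.adjoin A (S : Set L) := ⟨_, rfl⟩
  have hSB : ∀ s ∈ S, s ∈ B := fun s hs => by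
    rw [hB]; exact Algebra.subset_adjoin (Finset.mem_coe.mpr hs)
  have hBV : ∀ b ∈ B, b ∈ V := by
    intro b hb
    rw [hB] at hb
    induction hb using Algebra.adjoin_induction with
    | mem x hx => exact hSV x hx
    | algebraMap r => exact hV r
    | add x y _ _ hx hy => exact V.add_mem _ _ hx hy
    | mul x y _ _ hx hy => exact V.mul_mem _ _ hx hy
  have hBN : IsNoetherianRing B := by
    have : Algebra.FiniteType A B :=
      (Subalgebra.fg_iff_finiteType B).mp (hB ▸ Subalgebra.fg_adjoin_finset S)
    exact Algebra.FiniteType.isNoetherianRing A B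
  have hAB : ∀ a : A, algebraMap A L a ∈ B.toSubring := fun a => B.algebraMap_mem a
  have hBN' : IsNoetherianRing B.toSubring := hBN
  -- fraction field
  have hBfr : IsFractionRing B.toSubring L := by
    apply isFractionRing_of_closure
    rw [eq_top_iff, ← hT, Subfield.closure_le]
    rintro z (⟨a, rfl⟩ | hz)
    · exact Subfield.subset_closure (hAB a)
    · have huB : u z ∈ B := hSB _ (by
        rw [hS]; exact Finset.mem_union_right _ (Finset.mem_image_of_mem _ hz))
      have huc : u z ∈ Subfield.closure ((B.toSubring : Subring L) : Set L) :=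
        Subfield.subset_closure huB
      rcases (hu z).2 with h | h
      · rw [h] at huc; exact huc
      · rw [h] at huc
        have := inv_mem huc
        rwa [inv_inv] at this
  -- the element `y` of `B`
  obtain ⟨φ, hφ⟩ : ∃ φ : A →+* B.toSubring, ∀ a, ((φ a : B.toSubring) : L) = algebraMap A L a :=
    ⟨(algebraMap A L).codRestrict B.toSubring hAB, fun a => rfl⟩
  have hyB : ¬ IsUnit (φ y₀) := by
    intro hunit
    obtain ⟨w, hw⟩ := isUnit_iff_exists_inv.mp hunit
    have hwL : y * (w : L) = 1 := by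
      have := congrArg (fun z : B.toSubring => (z : L)) hw
      simpa [hφ, ← hy] using this
    have hwV : (w : L) ∈ V := hBV _ w.2
    have h1 : V.valuation y * V.valuation (w : L) = 1 := by
      rw [← map_mul, hwL, map_one]
    have h2 : V.valuation y < 1 := hy ▸ hVlt y₀ (hGm y₀ hy₀G)
    have h3 : V.valuation (w : L) ≤ 1 := (V.valuation_le_one_iff _).mpr hwV
    have h4 : V.valuation y * V.valuation (w : L) < 1 := by
      calc V.valuation y * V.valuation (w : L) ≤ V.valuation y * 1 :=
            mul_le_mul_right h3 _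
        _ = V.valuation y := mul_one _
        _ < 1 := h2
    exact absurd h1 (ne_of_lt h4)
  have hI : Ideal.span {φ y₀} ≠ ⊤ := by
    rw [Ne, Ideal.span_singleton_eq_top]; exact hyB
  obtain ⟨p, hp⟩ := Ideal.nonempty_minimalPrimes hI
  have hpprime : p.IsPrime := hp.1.1
  have hyp : φ y₀ ∈ p := hp.1.2 (Ideal.mem_span_singleton_self _)
  have hpht : p.height ≤ 1 :=
    Ideal.height_le_one_of_isPrincipal_of_mem_minimalPrimes (Ideal.span {φ y₀}) p hp
  have hmp : ∀ a ∈ IsLocalRing.maximalIdeal A, φ a ∈ p := by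
    intro a ha
    have hle : IsLocalRing.maximalIdeal A ≤ p.comap φ := by
      rw [← hG, Ideal.span_le]
      intro g hg
      rw [SetLike.mem_coe, Ideal.mem_comap]
      apply hp.1.2
      rw [Ideal.mem_span_singleton']
      refine ⟨⟨algebraMap A L g / y, hSB _ (by
        rw [hS]; exact Finset.mem_union_left _ (Finset.mem_image_of_mem _ hg))⟩, ?_⟩
      apply Subtype.ext
      rw [Subring.coe_mul, hφ, hφ, ← hy]
      field_simp
    exact hle ha
  -- localize at `p`
  obtain ⟨D, hD⟩ : ∃ D : LocalSubring L, D = LocalSubring.ofPrime B.toSubring p := ⟨_, rfl⟩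
  have hBD : B.toSubring ≤ D.toSubring := hD ▸ LocalSubring.le_ofPrime B.toSubring p
  have hDfr : IsFractionRing D.toSubring L := isFractionRing_of_le B.toSubring D.toSubring hBD
  have hDN : IsNoetherianRing D.toSubring := by
    subst hD
    exact IsLocalization.isNoetherianRing p.primeCompl _ hBN'
  have hDdim : Ring.KrullDimLE 1 D.toSubring := by
    subst hD
    rw [Ring.krullDimLE_iff,
      IsLocalization.AtPrime.ringKrullDim_eq_height p (LocalSubring.ofPrime B.toSubring p).toSubring]
    exact_mod_cast hpht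
  have hmaxD : ∀ b : B.toSubring, b ∈ p →
      (⟨(b : L), hBD b.2⟩ : D.toSubring) ∈ IsLocalRing.maximalIdeal D.toSubring := by
    subst hD
    intro b hb
    rw [← IsLocalization.AtPrime.map_eq_maximalIdeal p
      (LocalSubring.ofPrime B.toSubring p).toSubring]
    exact Ideal.mem_map_of_mem _ hb
  have hDf : ¬ IsField D.toSubring := by
    intro hf
    have h1 := hmaxD (φ y₀) hyp
    rw [IsLocalRing.isField_iff_maximalIdeal_eq.mp hf, Ideal.mem_bot] at h1
    have h2 := congrArg (fun z : D.toSubring => (z : L)) h1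
    simp only [hφ, ← hy] at h2
    exact hy0 h2
  obtain ⟨R, hR, hDR, hjac⟩ := exists_dvr_of_dimOne D.toSubring hDf
  refine ⟨R, hR, fun a => hDR (hBD (hAB a)), fun a ha => ?_⟩
  have h1 := hmaxD (φ a) (hmp a ha)
  rw [← IsLocalRing.jacobson_eq_maximalIdeal ⊥ bot_ne_top] at h1
  have h2 := hjac _ h1
  simpa only [hφ] using h2

/-- finite generation of `L/K` in terms of subfield closures over a ring `A` with `Frac A = K` -/
theorem exists_finset_closure_eq_top (A K : Type u) [CommRing A] [IsDomain A] [Field K]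
    [Algebra A K] [IsFractionRing A K] [Algebra K L] [Algebra A L] [IsScalarTower A K L]
    (hfg : (⊤ : IntermediateField K L).FG) :
    ∃ T : Finset L, Subfield.closure (Set.range (algebraMap A L) ∪ (T : Set L)) = ⊤ := by
  obtain ⟨T, hT⟩ := hfg
  refine ⟨T, ?_⟩
  rw [eq_top_iff]
  have h1 : (IntermediateField.adjoin K (T : Set L)).toSubfield = ⊤ := by rw [hT]; rfl
  rw [← h1]
  change Subfield.closure (Set.range (algebraMap K L) ∪ T) ≤ _
  rw [Subfield.closure_le]
  rintro z (⟨k, rfl⟩ | hz)
  · obtain ⟨a, b, hb, rfl⟩ := IsFractionRing.div_surjective (A := A) k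
    rw [map_div₀, ← IsScalarTower.algebraMap_apply, ← IsScalarTower.algebraMap_apply]
    exact div_mem (Subfield.subset_closure (Or.inl ⟨a, rfl⟩))
      (Subfield.subset_closure (Or.inl ⟨b, rfl⟩))
  · exact Subfield.subset_closure (Or.inr hz)

open Polynomial Algebra in
/-- an element which is not integral over a Noetherian domain `A` is avoided by some discrete
valuation subring containing `A` -/
theorem exists_dvr_notMem_of_not_isIntegral (A : Type u) [CommRing A] [IsDomain A]
    [IsNoetherianRing A] [Algebra A L] (T : Finset L)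
    (hT : Subfield.closure (Set.range (algebraMap A L) ∪ (T : Set L)) = ⊤)
    (x : L) (hx : ¬ IsIntegral A x) :
    ∃ R : ValuationSubring L, IsDiscreteValuationRing R ∧ (∀ a : A, algebraMap A L a ∈ R) ∧
      x ∉ R := by
  have hx0 : x ≠ 0 := fun h => hx (h ▸ isIntegral_zero)
  let := invertibleOfNonzero hx0
  obtain ⟨B, hB⟩ : ∃ B : Subalgebra A L, B = A[x⁻¹] := ⟨_, rfl⟩
  have hxB : x⁻¹ ∈ B.toSubring := hB ▸ subset_adjoin rfl
  have hI : Ideal.span {(⟨x⁻¹, hxB⟩ : B.toSubring)} ≠ ⊤ := by
    subst hB
    intro eq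
    apply hx
    have ⟨p, hp, hpx⟩ := exists_aeval_invOf_eq_zero_of_idealMap_adjoin_sup_span_eq_top (x⁻¹)
      (⊥ : Ideal A) bot_ne_top (top_unique <| eq.ge.trans le_add_self)
    exact ⟨p, by simpa [Monic, sub_eq_zero] using hp, by simpa [aeval_def] using hpx⟩
  have hBN : IsNoetherianRing B.toSubring := by
    have : Algebra.FiniteType A B := by
      refine (Subalgebra.fg_iff_finiteType B).mp ?_
      rw [hB]
      have := Subalgebra.fg_adjoin_finset (R := A) ({x⁻¹} : Finset L)
      simpa using this
    exact Algebra.FiniteType.isNoetherianRing A B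
  obtain ⟨M, hM, hIM⟩ := Ideal.exists_le_maximal _ hI
  have hxM : (⟨x⁻¹, hxB⟩ : B.toSubring) ∈ M := hIM (Ideal.mem_span_singleton_self _)
  have hMprime : M.IsPrime := hM.isPrime
  obtain ⟨C, hC⟩ : ∃ C : LocalSubring L, C = LocalSubring.ofPrime B.toSubring M := ⟨_, rfl⟩
  have hBC : B.toSubring ≤ C.toSubring := hC ▸ LocalSubring.le_ofPrime B.toSubring M
  have hCN : IsNoetherianRing C.toSubring := by
    subst hC
    exact IsLocalization.isNoetherianRing M.primeCompl _ hBN
  have hmaxC : (⟨x⁻¹, hBC hxB⟩ : C.toSubring) ∈ IsLocalRing.maximalIdeal C.toSubring := by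
    subst hC
    rw [← IsLocalization.AtPrime.map_eq_maximalIdeal M
      (LocalSubring.ofPrime B.toSubring M).toSubring]
    exact Ideal.mem_map_of_mem _ hxM
  have hCf : ¬ IsField C.toSubring := by
    intro hf
    have h1 := hmaxC
    rw [IsLocalRing.isField_iff_maximalIdeal_eq.mp hf, Ideal.mem_bot] at h1
    have h2 := congrArg (fun z : C.toSubring => (z : L)) h1
    exact inv_ne_zero hx0 h2
  have hAC : ∀ a : A, algebraMap A L a ∈ C.toSubring := fun a => hBC (B.algebraMap_mem a)
  have hTC : Subfield.closure (Set.range (algebraMap C.toSubring L) ∪ (T : Set L)) = ⊤ := by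
    rw [_root_.eq_top_iff, ← hT]
    apply Subfield.closure_mono
    rintro z (⟨a, rfl⟩ | hz)
    · exact Or.inl ⟨⟨_, hAC a⟩, rfl⟩
    · exact Or.inr hz
  obtain ⟨R, hR, hCR, hlt⟩ := exists_dvr_dominating (L := L) C.toSubring hCf
    Subtype.val_injective T hTC
  refine ⟨R, hR, fun a => hCR ⟨_, hAC a⟩, fun hxR => ?_⟩
  have h1 : R.valuation x⁻¹ < 1 := hlt _ hmaxC
  have h2 : R.valuation x ≤ 1 := (R.valuation_le_one_iff x).mpr hxR
  have h3 : R.valuation x * R.valuation x⁻¹ = 1 := by
    rw [← map_mul, mul_inv_cancel₀ hx0, map_one]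
  have h4 : R.valuation x * R.valuation x⁻¹ < 1 := by
    calc R.valuation x * R.valuation x⁻¹ ≤ 1 * R.valuation x⁻¹ := mul_le_mul_left h2 _
      _ = R.valuation x⁻¹ := one_mul _
      _ < 1 := h1
  exact absurd h3 (ne_of_lt h4)

/-- version for a (not necessarily injective) ring homomorphism from a Noetherian local ring -/
theorem exists_dvr_dominating_ringHom (O : Type u) [CommRing O] [IsNoetherianRing O]
    [IsLocalRing O] (ψ : O →+* L) (hker : RingHom.ker ψ ≠ IsLocalRing.maximalIdeal O)
    (T : Finset L) (hT : Subfield.closure (Set.range ψ ∪ (T : Set L)) = ⊤) :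
    ∃ R : ValuationSubring L, IsDiscreteValuationRing R ∧ (∀ a : O, ψ a ∈ R) ∧
      ∀ a ∈ IsLocalRing.maximalIdeal O, R.valuation (ψ a) < 1 := by
  have hprime : (RingHom.ker ψ).IsPrime := RingHom.ker_isPrime ψ
  have hloc : IsLocalRing (O ⧸ RingHom.ker ψ) :=
    .of_surjective' _ Ideal.Quotient.mk_surjective
  let _ : Algebra (O ⧸ RingHom.ker ψ) L := (RingHom.kerLift ψ).toAlgebra
  have halg : ∀ a : O, algebraMap (O ⧸ RingHom.ker ψ) L (Ideal.Quotient.mk _ a) = ψ a :=
    fun a => rfl
  have hnf : ¬ IsField (O ⧸ RingHom.ker ψ) := by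
    intro hf
    have hmax : (RingHom.ker ψ).IsMaximal :=
      (Ideal.Quotient.maximal_ideal_iff_isField_quotient _).mpr hf
    exact hker (IsLocalRing.eq_maximalIdeal hmax)
  have hT' : Subfield.closure
      (Set.range (algebraMap (O ⧸ RingHom.ker ψ) L) ∪ (T : Set L)) = ⊤ := by
    rw [eq_top_iff, ← hT]
    apply Subfield.closure_mono
    rintro z (⟨a, rfl⟩ | hz)
    · exact Or.inl ⟨Ideal.Quotient.mk _ a, rfl⟩
    · exact Or.inr hz
  obtain ⟨R, hR, hAR, hlt⟩ := exists_dvr_dominating (L := L) (O ⧸ RingHom.ker ψ) hnf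
    (RingHom.kerLift_injective ψ) T hT'
  refine ⟨R, hR, fun a => hAR (Ideal.Quotient.mk _ a), fun a ha => ?_⟩
  refine hlt (Ideal.Quotient.mk _ a) ?_
  rw [IsLocalRing.mem_maximalIdeal, mem_nonunits_iff] at ha ⊢
  intro hu
  have : IsLocalHom (Ideal.Quotient.mk (RingHom.ker ψ)) :=
    .of_surjective _ Ideal.Quotient.mk_surjective
  exact ha (isUnit_of_map_unit (Ideal.Quotient.mk (RingHom.ker ψ)) a hu)

/-- a discrete valuation ring centred on a given nonzero prime of a Noetherian domain -/
theorem exists_dvr_of_prime (B : Type u) [CommRing B] [IsDomain B] [IsNoetherianRing B]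
    [Algebra B L] (hinj : Function.Injective (algebraMap B L)) (M : Ideal B) [M.IsPrime]
    (hM : M ≠ ⊥) (T : Finset L)
    (hT : Subfield.closure (Set.range (algebraMap B L) ∪ (T : Set L)) = ⊤) :
    ∃ R : ValuationSubring L, IsDiscreteValuationRing R ∧ (∀ b : B, algebraMap B L b ∈ R) ∧
      ∀ b ∈ M, R.valuation (algebraMap B L b) < 1 := by
  have hunit : ∀ y : M.primeCompl, IsUnit (algebraMap B L y) := fun y => by
    refine IsUnit.mk0 _ ?_
    intro h
    have : (y : B) = 0 := hinj (by rw [h, map_zero])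
    exact y.2 (this ▸ M.zero_mem)
  obtain ⟨g, hg⟩ : ∃ g : Localization.AtPrime M →+* L,
      ∀ b, g (algebraMap B (Localization.AtPrime M) b) = algebraMap B L b :=
    ⟨IsLocalization.lift hunit, IsLocalization.lift_eq hunit⟩
  have hSinj : Function.Injective (algebraMap B (Localization.AtPrime M)) :=
    IsLocalization.injective _ M.primeCompl_le_nonZeroDivisors
  have hginj : Function.Injective g := by
    intro a b hab
    obtain ⟨a1, a2, rfl⟩ := IsLocalization.exists_mk'_eq M.primeCompl a
    obtain ⟨b1, b2, rfl⟩ := IsLocalization.exists_mk'_eq M.primeCompl b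
    rw [IsLocalization.mk'_eq_iff_eq]
    have h1 : ∀ (c : B) (d : M.primeCompl),
        g (IsLocalization.mk' (Localization.AtPrime M) c d) * algebraMap B L d =
          algebraMap B L c := by
      intro c d
      rw [← hg d, ← map_mul, IsLocalization.mk'_spec, hg]
    congr 1
    apply hinj
    have e1 := h1 a1 a2
    have e2 := h1 b1 b2
    rw [map_mul, map_mul, ← e1, ← e2, hab]
    ring
  let _ : Algebra (Localization.AtPrime M) L := g.toAlgebra
  have halg : ∀ b, algebraMap (Localization.AtPrime M) L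
      (algebraMap B (Localization.AtPrime M) b) = algebraMap B L b := hg
  have hdom : IsDomain (Localization.AtPrime M) :=
    IsLocalization.isDomain_localization M.primeCompl_le_nonZeroDivisors
  have hmaxS : ∀ b ∈ M, algebraMap B (Localization.AtPrime M) b ∈
      IsLocalRing.maximalIdeal (Localization.AtPrime M) := by
    intro b hb
    rw [← IsLocalization.AtPrime.map_eq_maximalIdeal M (Localization.AtPrime M)]
    exact Ideal.mem_map_of_mem _ hb
  have hnf : ¬ IsField (Localization.AtPrime M) := by
    intro hf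
    apply hM
    rw [eq_bot_iff]
    intro b hb
    have h1 := hmaxS b hb
    rw [IsLocalRing.isField_iff_maximalIdeal_eq.mp hf, Ideal.mem_bot] at h1
    exact hSinj (by rw [h1, map_zero])
  have hT' : Subfield.closure
      (Set.range (algebraMap (Localization.AtPrime M) L) ∪ (T : Set L)) = ⊤ := by
    rw [eq_top_iff, ← hT]
    apply Subfield.closure_mono
    rintro z (⟨a, rfl⟩ | hz)
    · exact Or.inl ⟨algebraMap B _ a, halg a⟩
    · exact Or.inr hz
  obtain ⟨R, hR, hAR, hlt⟩ := exists_dvr_dominating (L := L) (Localization.AtPrime M) hnf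
    hginj T hT'
  refine ⟨R, hR, fun b => halg b ▸ hAR _, fun b hb => ?_⟩
  rw [← halg b]
  exact hlt _ (hmaxS b hb)

end Groth.Agent.Lib.Helper13.Dvr
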