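import Mathlib
import Groth.Agent.Lib.Helper13.DvrDominate

/-!
# The discrete valuative criterion implies the valuative criterion (Noetherian case)

Let `Y` be a locally Noetherian scheme and `f : X ⟶ Y` a morphism of finite type.  If every
commutative square `Spec (Frac A) ⟶ X`, `Spec A ⟶ Y` with `A` a discrete valuation ring has a
lift, then every valuative square has a lift (`existence_of_dvr`), hence `f` is universally
closed (`universallyClosed_of_dvr`).  (EGA II 7.3.8.)
-/

universe u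

open CategoryTheory CategoryTheory.Limits AlgebraicGeometry IsLocalRing

namespace Groth.Agent.Lib.Helper13.DvrProper

/-- a morphism from an affine scheme landing in an affine open factors through it -/
theorem exists_factor {X : Scheme.{u}} {U : X.Opens} (hU : IsAffineOpen U) (C : CommRingCat.{u})
    (g : Spec C ⟶ X) (hg : ∀ p, g.base p ∈ U) :
    ∃ φ : Γ(X, U) ⟶ C, g = Spec.map φ ≫ hU.fromSpec := by
  have hrange : Set.range g.base ⊆ Set.range hU.fromSpec.base := by
    rw [hU.range_fromSpec]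
    rintro _ ⟨p, rfl⟩
    exact hg p
  refine ⟨Spec.preimage (IsOpenImmersion.lift hU.fromSpec g hrange), ?_⟩
  rw [Spec.map_preimage, IsOpenImmersion.lift_fac]

theorem factor_unique {X : Scheme.{u}} {U : X.Opens} (hU : IsAffineOpen U) (C : CommRingCat.{u})
    (φ ψ : Γ(X, U) ⟶ C) (h : Spec.map φ ≫ hU.fromSpec = Spec.map ψ ≫ hU.fromSpec) : φ = ψ := by
  rw [cancel_mono] at h
  exact Spec.map_injective h

/-- a morphism from a local scheme whose closed point lands in an affine open factors through it -/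
theorem exists_factor_of_closedPoint {X : Scheme.{u}} {U : X.Opens} (hU : IsAffineOpen U)
    (C : Type u) [CommRing C] [IsLocalRing C]
    (g : Spec (CommRingCat.of C) ⟶ X) (hg : g.base (closedPoint C) ∈ U) :
    ∃ φ : Γ(X, U) ⟶ CommRingCat.of C, g = Spec.map φ ≫ hU.fromSpec :=
  exists_factor hU _ g fun p =>
    ((specializes_closedPoint p).map g.continuous).mem_open U.isOpen hg

theorem fromSpecResidueField_eq {X : Scheme.{u}} {U : X.Opens} (hU : IsAffineOpen U) (x : X)
    (hx : x ∈ U) :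
    X.fromSpecResidueField x = Spec.map (X.evaluation U x hx) ≫ hU.fromSpec := by
  rw [Scheme.fromSpecResidueField, ← hU.fromSpecStalk_eq_fromSpecStalk hx,
    IsAffineOpen.fromSpecStalk, ← Spec.map_comp_assoc]
  rfl

theorem essFiniteType_evaluation {X Y : Scheme.{u}} (f : X ⟶ Y) [LocallyOfFiniteType f]
    {U : Y.Opens} (hU : IsAffineOpen U) {V : X.Opens} (hV : IsAffineOpen V) (e : V ≤ f ⁻¹ᵁ U)
    (x : X) (hx : x ∈ V) :
    (f.appLE U V e ≫ X.evaluation V x hx).hom.EssFiniteType := by
  have h1 : (f.appLE U V e).hom.EssFiniteType :=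
    RingHom.FiniteType.essFiniteType (f.finiteType_appLE hU hV e)
  have h2 : (X.presheaf.germ V x hx).hom.EssFiniteType := by
    let _ := X.presheaf.algebra_section_stalk ⟨x, hx⟩
    have hloc := hV.isLocalization_stalk ⟨x, hx⟩
    have : Algebra.EssFiniteType Γ(X, V) (X.presheaf.stalk x) :=
      Algebra.EssFiniteType.of_isLocalization _ (hV.primeIdealOf ⟨x, hx⟩).asIdeal.primeCompl
    exact RingHom.essFiniteType_algebraMap.mpr this
  have h3 : (X.residue x).hom.EssFiniteType := by
    apply RingHom.FiniteType.essFiniteType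
    apply RingHom.FiniteType.of_surjective
    exact IsLocalRing.residue_surjective
  exact h1.comp (h2.comp h3)

theorem exists_finset_closure_of_essFiniteType {O L : Type u} [CommRing O] [Field L]
    (ψ : O →+* L) (h : ψ.EssFiniteType) :
    ∃ T : Finset L, Subfield.closure (Set.range ψ ∪ (T : Set L)) = ⊤ := by
  algebraize [ψ]
  obtain ⟨σ, hσ⟩ := (Algebra.essFiniteType_iff (R := O) (S := L)).mp h
  refine ⟨σ, ?_⟩
  rw [eq_top_iff]
  have hle : ∀ z ∈ Algebra.adjoin O (σ : Set L),
      z ∈ Subfield.closure (Set.range ψ ∪ (σ : Set L)) := by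
    intro z hz
    induction hz using Algebra.adjoin_induction with
    | mem x hx => exact Subfield.subset_closure (Or.inr hx)
    | algebraMap r => exact Subfield.subset_closure (Or.inl ⟨r, rfl⟩)
    | add x y _ _ hx hy => exact add_mem hx hy
    | mul x y _ _ hx hy => exact mul_mem hx hy
  intro s _
  obtain ⟨t, ht, htu, hst⟩ := hσ s
  have ht0 : t ≠ 0 := htu.ne_zero
  have : s = (s * t) / t := by field_simp
  rw [this]
  exact div_mem (hle _ hst) (hle _ ht)

/-- the existence part of the discrete valuative criterion -/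
def DvrExistence {X Y : Scheme.{u}} (f : X ⟶ Y) : Prop :=
  ∀ (A : Type u) [CommRing A] [IsDomain A] [IsDiscreteValuationRing A]
    (x : Spec (CommRingCat.of (FractionRing A)) ⟶ X) (y : Spec (CommRingCat.of A) ⟶ Y),
    x ≫ f = Spec.map (CommRingCat.ofHom (algebraMap A (FractionRing A))) ≫ y →
    ∃ l : Spec (CommRingCat.of A) ⟶ X, l ≫ f = y ∧
      Spec.map (CommRingCat.ofHom (algebraMap A (FractionRing A))) ≫ l = x

/-- the generic-point map of a valuation subring factors through `Spec` of the ambient field -/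
theorem specMap_algebraMap_fractionRing {K : Type u} [Field K] (A : ValuationSubring K) :
    Spec.map (CommRingCat.ofHom (algebraMap A (FractionRing A))) =
      Spec.map (CommRingCat.ofHom
        ((FractionRing.algEquiv A K).symm : K →+* FractionRing A)) ≫
        Spec.map (CommRingCat.ofHom A.subtype) := by
  rw [← Spec.map_comp]
  congr 1
  ext a
  exact ((FractionRing.algEquiv A K).symm.commutes a).symm

/-- the discrete valuative criterion for valuation subrings of a field -/
theorem DvrExistence.subring {X Y : Scheme.{u}} {f : X ⟶ Y} (H : DvrExistence f)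
    {L : Type u} [Field L] (A : ValuationSubring L) [IsDiscreteValuationRing A]
    (x : Spec (CommRingCat.of L) ⟶ X) (y : Spec (CommRingCat.of A) ⟶ Y)
    (hxy : x ≫ f = Spec.map (CommRingCat.ofHom A.subtype) ≫ y) :
    ∃ l : Spec (CommRingCat.of A) ⟶ X, l ≫ f = y ∧
      Spec.map (CommRingCat.ofHom A.subtype) ≫ l = x := by
  obtain ⟨l, hl1, hl2⟩ := H A
    (Spec.map (CommRingCat.ofHom
        ((FractionRing.algEquiv A L).symm : L →+* FractionRing A)) ≫ x) y (by
      rw [specMap_algebraMap_fractionRing, Category.assoc, Category.assoc, hxy])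
  refine ⟨l, hl1, ?_⟩
  rw [specMap_algebraMap_fractionRing, Category.assoc] at hl2
  have hiso : IsIso (Spec.map (CommRingCat.ofHom
        ((FractionRing.algEquiv A L).symm : L →+* FractionRing A))) := by
    have : IsIso (CommRingCat.ofHom
        ((FractionRing.algEquiv A L).symm : L →+* FractionRing A)) :=
      (FractionRing.algEquiv A L).symm.toRingEquiv.toCommRingCatIso.isIso_hom
    infer_instance
  exact (cancel_epi _).mp hl2

/-- algebraic core: a discrete valuation ring excluding finitely many elements which do not lie in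
a given valuation subring -/
theorem exists_dvr_excluding {B L : Type u} [CommRing B] [IsNoetherianRing B] [Field L]
    (ψ : B →+* L) (T : Finset L) (hT : Subfield.closure (Set.range ψ ∪ (T : Set L)) = ⊤)
    (V₁ : ValuationSubring L) (hψ : ∀ b, ψ b ∈ V₁) (C : Finset L) (hC : ∀ c ∈ C, c ∉ V₁)
    (hne : C.Nonempty) :
    ∃ A : ValuationSubring L, IsDiscreteValuationRing A ∧ (∀ b, ψ b ∈ A) ∧ ∀ c ∈ C, c ∉ A := by
  classical
  let _ : Algebra B L := ψ.toAlgebra
  have halg : ∀ b, algebraMap B L b = ψ b := fun b => rfl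
  let D' : Subalgebra B L := Algebra.adjoin B ((C.image (·⁻¹) : Finset L) : Set L)
  have hinv : ∀ c ∈ C, c⁻¹ ∈ V₁ := fun c hc => (V₁.mem_or_inv_mem c).resolve_left (hC c hc)
  have hle : ∀ z ∈ D', z ∈ V₁ := by
    intro z hz
    induction hz using Algebra.adjoin_induction with
    | mem x hx =>
      simp only [Finset.coe_image, Set.mem_image, Finset.mem_coe] at hx
      obtain ⟨c, hc, rfl⟩ := hx
      exact hinv c hc
    | algebraMap r => exact hψ r
    | add x y _ _ hx hy => exact add_mem hx hy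
    | mul x y _ _ hx hy => exact mul_mem hx hy
  have hfg : D'.FG := Subalgebra.fg_adjoin_finset _
  have hft : Algebra.FiniteType B D' := (Subalgebra.fg_iff_finiteType D').mp hfg
  have hNoeth : IsNoetherianRing D' := Algebra.FiniteType.isNoetherianRing B D'
  let j : D' →+* V₁ := (D'.val : D' →+* L).codRestrict V₁.toSubring (fun d => hle d d.2)
  let q : Ideal D' := (maximalIdeal V₁).comap j
  have hqprime : q.IsPrime := Ideal.comap_isPrime j _
  have hmemD : ∀ c ∈ C, c⁻¹ ∈ D' := fun c hc =>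
    Algebra.subset_adjoin (by simp only [Finset.coe_image, Set.mem_image, Finset.mem_coe]; exact ⟨c, hc, rfl⟩)
  have hc0 : ∀ c ∈ C, c ≠ 0 := fun c hc h0 => hC c hc (h0 ▸ zero_mem _)
  have hvalgt : ∀ (W : ValuationSubring L) (c : L), c ≠ 0 → (W.valuation c⁻¹ < 1 ↔ c ∉ W) := by
    intro W c hc
    rw [← W.valuation_le_one_iff, not_le, map_inv₀, inv_lt_one₀]
    exact (W.valuation.pos_iff).mpr hc
  have hmemq : ∀ c (hc : c ∈ C), (⟨c⁻¹, hmemD c hc⟩ : D') ∈ q := by
    intro c hc
    change j ⟨c⁻¹, hmemD c hc⟩ ∈ maximalIdeal V₁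
    have : V₁.valuation ((j ⟨c⁻¹, hmemD c hc⟩ : V₁) : L) < 1 :=
      (hvalgt V₁ c (hc0 c hc)).mpr (hC c hc)
    exact (V₁.valuation_lt_one_iff _).mpr this
  have hq : q ≠ ⊥ := by
    obtain ⟨c, hc⟩ := hne
    intro hbot
    have h1 := hmemq c hc
    rw [hbot, Ideal.mem_bot] at h1
    have h2 : c⁻¹ = 0 := congrArg Subtype.val h1
    exact hc0 c hc (inv_eq_zero.mp h2)
  have hT' : Subfield.closure (Set.range (algebraMap D' L) ∪ (T : Set L)) = ⊤ := by
    rw [eq_top_iff, ← hT]
    apply Subfield.closure_mono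
    rintro z (⟨a, rfl⟩ | hz)
    · exact Or.inl ⟨algebraMap B D' a, rfl⟩
    · exact Or.inr hz
  obtain ⟨A, hA, hAmem, hAlt⟩ := Groth.Agent.Lib.Helper13.Dvr.exists_dvr_of_prime (L := L) D'
    Subtype.val_injective q hq T hT'
  refine ⟨A, hA, fun b => hAmem (algebraMap B D' b), fun c hc => ?_⟩
  exact (hvalgt A c (hc0 c hc)).mp (hAlt _ (hmemq c hc))

/-- the existence part of the discrete valuative criterion at a point `x`, for discrete valuation
subrings of the residue field of `x` -/
def DvrResExistenceAt {X Y : Scheme.{u}} (f : X ⟶ Y) (x : X) : Prop :=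
  ∀ (A : ValuationSubring (X.residueField x)), IsDiscreteValuationRing A →
    ∀ y : Spec (CommRingCat.of A) ⟶ Y,
      X.fromSpecResidueField x ≫ f = Spec.map (CommRingCat.ofHom A.subtype) ≫ y →
      ∃ l : Spec (CommRingCat.of A) ⟶ X, l ≫ f = y ∧
        Spec.map (CommRingCat.ofHom A.subtype) ≫ l = X.fromSpecResidueField x

theorem DvrExistence.dvrResExistenceAt {X Y : Scheme.{u}} {f : X ⟶ Y} (H : DvrExistence f)
    (x : X) : DvrResExistenceAt f x := fun A hA y hxy => by
  haveI := hA
  exact H.subring A _ y hxy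

set_option maxHeartbeats 800000 in
/-- a valuative square has a lift as soon as the discrete valuative criterion holds at the image
of its generic point -/
theorem hasLift_of_dvrResExistenceAt {X Y : Scheme.{u}} [IsLocallyNoetherian Y] (f : X ⟶ Y)
    [LocallyOfFiniteType f] [QuasiCompact f] (S : ValuativeCommSq f)
    (H : DvrResExistenceAt f (S.i₁.base (closedPoint S.K))) : S.commSq.HasLift := by
  classical
  rcases S with ⟨R, K, i₁, i₂, ⟨w⟩⟩
  dsimp only at H
  -- an affine open of `Y` through which `i₂` factors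
  obtain ⟨Y₀, hY₀, hyY₀, -⟩ := exists_isAffineOpen_mem_and_subset (U := ⊤)
    (x := i₂.base (closedPoint R)) (by simp)
  obtain ⟨ρ, hρ⟩ := exists_factor_of_closedPoint hY₀ R i₂ hyY₀
  have hNoeth : IsNoetherianRing Γ(Y, Y₀) := IsLocallyNoetherian.component_noetherian ⟨Y₀, hY₀⟩
  -- finite affine cover of the preimage
  have hcpt : IsCompact (f ⁻¹ᵁ Y₀ : Set X) :=
    quasiCompact_iff_forall_isAffineOpen.mp ‹_› Y₀ hY₀
  obtain ⟨s, hsfin, hs⟩ := isCompact_iff_finite_and_eq_biUnion_affineOpens.mp hcpt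
  have hsle : ∀ V ∈ s, (V : X.Opens) ≤ f ⁻¹ᵁ Y₀ := fun V hV => by
    rw [hs]; exact le_iSup₂ (f := fun (i : X.affineOpens) (_ : i ∈ s) => (i : X.Opens)) V hV
  -- the point `x₁` and its residue field
  obtain ⟨x₁, hx₁⟩ : ∃ x₁ : X, x₁ = i₁.base (closedPoint K) := ⟨_, rfl⟩
  have H' : DvrResExistenceAt f x₁ := by rw [hx₁]; exact H
  have hi₂Y₀ : ∀ p, i₂.base p ∈ Y₀ := fun p =>
    ((specializes_closedPoint p).map i₂.continuous).mem_open Y₀.isOpen hyY₀
  have hx₁Y₀ : x₁ ∈ f ⁻¹ᵁ Y₀ := by
    change f.base x₁ ∈ Y₀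
    rw [hx₁, ← Scheme.Hom.comp_apply, w, Scheme.Hom.comp_apply]
    exact hi₂Y₀ _
  obtain ⟨ι, hι⟩ : ∃ ι : X.residueField x₁ ⟶ CommRingCat.of K,
      Spec.map ι ≫ X.fromSpecResidueField x₁ = i₁ := by
    subst hx₁
    exact ⟨_, Scheme.descResidueField_stalkClosedPointTo_fromSpecResidueField K X i₁⟩
  -- relations on each chart through `x₁`
  have hrel1 : ∀ (V : X.affineOpens) (hxV : x₁ ∈ (V : X.Opens)),
      i₁ = Spec.map (X.evaluation V x₁ hxV ≫ ι) ≫ V.2.fromSpec := by
    intro V hxV
    rw [← hι, fromSpecResidueField_eq V.2 x₁ hxV, Spec.map_comp, Category.assoc]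
  have hrel2 : ∀ (V : X.affineOpens) (hV : V ∈ s) (hxV : x₁ ∈ (V : X.Opens)),
      f.appLE Y₀ V (hsle V hV) ≫ X.evaluation V x₁ hxV ≫ ι =
        ρ ≫ CommRingCat.ofHom (algebraMap R K) := by
    intro V hV hxV
    apply factor_unique hY₀
    rw [Spec.map_comp, Category.assoc, IsAffineOpen.SpecMap_appLE_fromSpec f hY₀ V.2 (hsle V hV),
      ← Category.assoc, ← hrel1 V hxV, w, hρ, Spec.map_comp, Category.assoc]
  have hinjRK : Function.Injective (algebraMap R K) := IsFractionRing.injective R K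
  by_cases hA : ∃ (V : X.affineOpens) (_ : V ∈ s) (hxV : x₁ ∈ (V : X.Opens)),
      ∀ b, (X.evaluation V x₁ hxV ≫ ι).hom b ∈ (algebraMap R K).range
  · -- the good case: some chart maps into the valuation ring
    obtain ⟨V, hV, hxV, hb⟩ := hA
    obtain ⟨e, he⟩ : ∃ e : R ≃+* (algebraMap R K).range,
        ∀ r, ((e r : (algebraMap R K).range) : K) = algebraMap R K r :=
      ⟨RingEquiv.ofBijective (algebraMap R K).rangeRestrict
        ⟨fun a b hab => hinjRK (congrArg Subtype.val hab),
          (algebraMap R K).rangeRestrict_surjective⟩, fun r => rfl⟩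
    obtain ⟨θ, hθ⟩ : ∃ θ : Γ(X, V) →+* R,
        ∀ b, algebraMap R K (θ b) = (X.evaluation V x₁ hxV ≫ ι).hom b := by
      refine ⟨(e.symm : (algebraMap R K).range →+* R).comp
        ((X.evaluation V x₁ hxV ≫ ι).hom.codRestrict (algebraMap R K).range hb), fun b => ?_⟩
      rw [← he]
      simp
    have hθ' : CommRingCat.ofHom θ ≫ CommRingCat.ofHom (algebraMap R K) =
        X.evaluation V x₁ hxV ≫ ι := by
      ext b
      exact hθ b
    refine ⟨⟨⟨Spec.map (CommRingCat.ofHom θ) ≫ V.2.fromSpec, ?_, ?_⟩⟩⟩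
    · change Spec.map (CommRingCat.ofHom (algebraMap R K)) ≫
        Spec.map (CommRingCat.ofHom θ) ≫ V.2.fromSpec = i₁
      rw [← Category.assoc, ← Spec.map_comp, hθ', ← hrel1 V hxV]
    · change (Spec.map (CommRingCat.ofHom θ) ≫ V.2.fromSpec) ≫ f = i₂
      rw [Category.assoc, ← IsAffineOpen.SpecMap_appLE_fromSpec f hY₀ V.2 (hsle V hV),
        ← Category.assoc, ← Spec.map_comp]
      refine Eq.trans ?_ hρ.symm
      congr 2
      ext r
      apply hinjRK
      have h1 := congrArg (fun φ : Γ(Y, Y₀) ⟶ CommRingCat.of K => φ.hom r) (hrel2 V hV hxV)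
      simp only [CommRingCat.hom_comp, RingHom.comp_apply] at h1
      rw [CommRingCat.hom_comp, RingHom.comp_apply, CommRingCat.hom_ofHom, hθ]
      simpa using h1
  · -- the bad case: derive a contradiction from a suitable discrete valuation ring
    exfalso
    push Not at hA
    choose b hb using hA
    -- valuation subrings
    obtain ⟨V', hV'⟩ : ∃ V' : ValuationSubring K, ∀ z : K, z ∈ V' ↔ z ∈ (algebraMap R K).range :=
      ⟨⟨(algebraMap R K).range, ValuationRing.isInteger_or_isInteger R⟩, fun z => Iff.rfl⟩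
    obtain ⟨V₁, hV₁⟩ : ∃ V₁ : ValuationSubring (X.residueField x₁),
        ∀ z, z ∈ V₁ ↔ ι.hom z ∈ V' := ⟨V'.comap ι.hom, fun z => Iff.rfl⟩
    -- the elements `c V` and their inverses
    obtain ⟨c, hc⟩ : ∃ c : X.affineOpens → X.residueField x₁,
        ∀ (V : X.affineOpens) (hV : V ∈ s) (hxV : x₁ ∈ (V : X.Opens)),
          c V = (X.evaluation V x₁ hxV).hom (b V hV hxV) :=
      ⟨fun V => if h : V ∈ s ∧ x₁ ∈ (V : X.Opens) then
        (X.evaluation V x₁ h.2).hom (b V h.1 h.2) else 1, fun V hV hxV => by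
          simp only [dif_pos (And.intro hV hxV)]⟩
    have hcV : ∀ (V : X.affineOpens) (hV : V ∈ s) (hxV : x₁ ∈ (V : X.Opens)), c V ∉ V₁ := by
      intro V hV hxV hmem
      rw [hV₁, hV', hc V hV hxV] at hmem
      exact hb V hV hxV hmem
    -- a chart through `x₁`
    obtain ⟨V₀, hV₀, hxV₀⟩ : ∃ V₀ ∈ s, x₁ ∈ (V₀ : X.Opens) := by
      have h1 := hx₁Y₀
      rw [hs] at h1
      simpa using h1
    -- the algebraic input
    obtain ⟨ψ, hψdef⟩ : ∃ ψ : Γ(Y, Y₀) ⟶ X.residueField x₁,
        ψ = f.appLE Y₀ V₀ (hsle V₀ hV₀) ≫ X.evaluation V₀ x₁ hxV₀ := ⟨_, rfl⟩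
    obtain ⟨T, hT⟩ := exists_finset_closure_of_essFiniteType ψ.hom (by
      rw [hψdef]; exact essFiniteType_evaluation f hY₀ V₀.2 (hsle V₀ hV₀) x₁ hxV₀)
    have hψV₁ : ∀ b, ψ.hom b ∈ V₁ := by
      intro b
      rw [hV₁, hV']
      have h1 := congrArg (fun φ : Γ(Y, Y₀) ⟶ CommRingCat.of K => φ.hom b) (hrel2 V₀ hV₀ hxV₀)
      simp only [CommRingCat.hom_comp, RingHom.comp_apply, CommRingCat.hom_ofHom] at h1
      refine ⟨ρ.hom b, ?_⟩
      rw [← h1, hψdef]
      simp
    obtain ⟨C, hCdef⟩ : ∃ C : Finset (X.residueField x₁),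
        C = (hsfin.toFinset.filter (fun V : X.affineOpens => x₁ ∈ (V : X.Opens))).image c :=
      ⟨_, rfl⟩
    have hCmem : ∀ (V : X.affineOpens), V ∈ s → x₁ ∈ (V : X.Opens) → c V ∈ C := by
      intro V hV hxV
      rw [hCdef]
      exact Finset.mem_image_of_mem _ (Finset.mem_filter.mpr ⟨hsfin.mem_toFinset.mpr hV, hxV⟩)
    have hC : ∀ z ∈ C, z ∉ V₁ := by
      intro z hz
      rw [hCdef] at hz
      obtain ⟨V, hVmem, rfl⟩ := Finset.mem_image.mp hz
      obtain ⟨hV, hxV⟩ := Finset.mem_filter.mp hVmem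
      exact hcV V (hsfin.mem_toFinset.mp hV) hxV
    obtain ⟨A, hAdvr, hAψ, hAC⟩ := exists_dvr_excluding ψ.hom T hT V₁ hψV₁ C hC
      ⟨c V₀, hCmem V₀ hV₀ hxV₀⟩
    -- the discrete valuative square
    obtain ⟨ψ', hψ'⟩ : ∃ ψ' : Γ(Y, Y₀) ⟶ CommRingCat.of A,
        ψ' ≫ CommRingCat.ofHom A.subtype = ψ :=
      ⟨CommRingCat.ofHom (ψ.hom.codRestrict A.toSubring hAψ), by ext b; rfl⟩
    obtain ⟨l, hl1, hl2⟩ := H' A hAdvr
      (Spec.map ψ' ≫ hY₀.fromSpec) (by
        rw [fromSpecResidueField_eq V₀.2 x₁ hxV₀, Category.assoc,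
          ← IsAffineOpen.SpecMap_appLE_fromSpec f hY₀ V₀.2 (hsle V₀ hV₀), ← Category.assoc,
          ← Spec.map_comp, ← Category.assoc, ← Spec.map_comp, hψ', hψdef])
    have hfromSpec : ∀ {Z : Scheme.{u}} {U : Z.Opens} (hU : IsAffineOpen U) (p : Spec Γ(Z, U)),
        hU.fromSpec.base p ∈ U := by
      intro Z U hU p
      have h1 : hU.fromSpec.base p ∈ Set.range hU.fromSpec.base := Set.mem_range_self _
      rw [hU.range_fromSpec] at h1
      exact h1
    have hz : l.base (closedPoint A) ∈ f ⁻¹ᵁ Y₀ := by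
      change f.base (l.base _) ∈ Y₀
      rw [← Scheme.Hom.comp_apply, hl1, Scheme.Hom.comp_apply]
      exact hfromSpec hY₀ _
    obtain ⟨V, hV, hzV⟩ : ∃ V ∈ s, l.base (closedPoint A) ∈ (V : X.Opens) := by
      rw [hs] at hz
      simpa using hz
    obtain ⟨θ, hθ⟩ := exists_factor_of_closedPoint V.2 A l hzV
    have hxV : x₁ ∈ (V : X.Opens) := by
      have h1 : (X.fromSpecResidueField x₁).base (closedPoint (X.residueField x₁)) = x₁ :=
        Scheme.fromSpecResidueField_apply _ _
      rw [← h1, ← hl2, hθ, Scheme.Hom.comp_apply, Scheme.Hom.comp_apply]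
      exact hfromSpec V.2 _
    have hθ' : θ ≫ CommRingCat.ofHom A.subtype = X.evaluation V x₁ hxV := by
      apply factor_unique V.2
      rw [Spec.map_comp, Category.assoc, ← hθ, hl2, fromSpecResidueField_eq V.2 x₁ hxV]
    apply hAC (c V) (hCmem V hV hxV)
    rw [hc V hV hxV, ← hθ']
    exact (θ.hom (b V hV hxV)).2

theorem existence_of_dvr {X Y : Scheme.{u}} [IsLocallyNoetherian Y] (f : X ⟶ Y)
    [LocallyOfFiniteType f] [QuasiCompact f] (H : DvrExistence f) :
    ValuativeCriterion.Existence f :=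
  fun S => hasLift_of_dvrResExistenceAt f S (H.dvrResExistenceAt _)

/-- the discrete valuative criterion implies universal closedness (Noetherian case) -/
theorem universallyClosed_of_dvr {X Y : Scheme.{u}} [IsLocallyNoetherian Y] (f : X ⟶ Y)
    [LocallyOfFiniteType f] [QuasiCompact f] (H : DvrExistence f) :
    UniversallyClosed f :=
  UniversallyClosed.of_valuativeCriterion f (existence_of_dvr f H)

end Groth.Agent.Lib.Helper13.DvrProper
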