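import Mathlib
import Groth.Agent.Lib.Helper13.DvrProper
import Groth.Agent.Lib.Helper13.Composite

/-!
# Valuative criteria at points

`ResExistenceAt f x`: every valuative square whose field is the residue field of `x` (mapping
canonically to `X`) has a lift.  We show
* `hasLift_of_resExistenceAt`: a valuative square has a lift as soon as `ResExistenceAt` holds at
  the image of its generic point;
* `resExistenceAt_of_dvr`: in the Noetherian finite type case it is enough to test discrete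
  valuation rings;
* `resExistenceAt_of_specializes`: for separated `f`, `ResExistenceAt` passes to specializations
  (composite valuation rings).
-/

universe u

open CategoryTheory CategoryTheory.Limits AlgebraicGeometry IsLocalRing

namespace Groth.Agent.Lib.Helper13.ValCrit

open Groth.Agent.Lib.Helper13.DvrProper Groth.Agent.Lib.Helper13.Composite

/-- existence of lifts for valuative squares on the residue field of `x` -/
def ResExistenceAt {X Y : Scheme.{u}} (f : X ⟶ Y) (x : X) : Prop :=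
  ∀ (A : ValuationSubring (X.residueField x)) (y : Spec (CommRingCat.of A) ⟶ Y),
    X.fromSpecResidueField x ≫ f = Spec.map (CommRingCat.ofHom A.subtype) ≫ y →
    ∃ l : Spec (CommRingCat.of A) ⟶ X, l ≫ f = y ∧
      Spec.map (CommRingCat.ofHom A.subtype) ≫ l = X.fromSpecResidueField x

/-- uniqueness of lifts for valuative squares on the residue field of `x` -/
def ResUniquenessAt {X Y : Scheme.{u}} (f : X ⟶ Y) (x : X) : Prop :=
  ∀ (B : ValuationSubring (X.residueField x)) (l₁ l₂ : Spec (CommRingCat.of B) ⟶ X),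
    l₁ ≫ f = l₂ ≫ f →
    Spec.map (CommRingCat.ofHom B.subtype) ≫ l₁ = X.fromSpecResidueField x →
    Spec.map (CommRingCat.ofHom B.subtype) ≫ l₂ = X.fromSpecResidueField x → l₁ = l₂

theorem resUniquenessAt_of_isSeparated {X Y : Scheme.{u}} (f : X ⟶ Y) [IsSeparated f] (x : X) :
    ResUniquenessAt f x := by
  intro B l₁ l₂ h12 h1 h2
  have huniq := IsSeparated.valuativeCriterion f
  let Sq : ValuativeCommSq f :=
    { R := B, K := X.residueField x,
      i₁ := X.fromSpecResidueField x,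
      i₂ := l₁ ≫ f,
      commSq := ⟨by rw [← h1, Category.assoc]; rfl⟩ }
  have := huniq Sq
  let m₁ : Sq.commSq.LiftStruct := ⟨l₁, h1, rfl⟩
  let m₂ : Sq.commSq.LiftStruct := ⟨l₂, h2, h12.symm⟩
  exact congrArg CommSq.LiftStruct.l (Subsingleton.elim m₁ m₂)

theorem fromSpec_mem {Z : Scheme.{u}} {U : Z.Opens} (hU : IsAffineOpen U) (p : Spec Γ(Z, U)) :
    hU.fromSpec.base p ∈ U := by
  have h1 : hU.fromSpec.base p ∈ Set.range hU.fromSpec.base := Set.mem_range_self _
  rw [hU.range_fromSpec] at h1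
  exact h1

set_option maxHeartbeats 800000 in
theorem hasLift_of_resExistenceAt {X Y : Scheme.{u}} (f : X ⟶ Y) (S : ValuativeCommSq f)
    (H : ResExistenceAt f (S.i₁.base (closedPoint S.K))) : S.commSq.HasLift := by
  classical
  rcases S with ⟨R, K, i₁, i₂, ⟨w⟩⟩
  dsimp only at H
  obtain ⟨Y₀, hY₀, hyY₀, -⟩ := exists_isAffineOpen_mem_and_subset (U := ⊤)
    (x := i₂.base (closedPoint R)) (by simp)
  obtain ⟨ρ, hρ⟩ := exists_factor_of_closedPoint hY₀ R i₂ hyY₀
  obtain ⟨x₁, hx₁⟩ : ∃ x₁ : X, x₁ = i₁.base (closedPoint K) := ⟨_, rfl⟩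
  have H' : ResExistenceAt f x₁ := by rw [hx₁]; exact H
  have hi₂Y₀ : ∀ p, i₂.base p ∈ Y₀ := fun p =>
    ((specializes_closedPoint p).map i₂.continuous).mem_open Y₀.isOpen hyY₀
  have hx₁Y₀ : x₁ ∈ f ⁻¹ᵁ Y₀ := by
    change f.base x₁ ∈ Y₀
    rw [hx₁, ← Scheme.Hom.comp_apply, w, Scheme.Hom.comp_apply]
    exact hi₂Y₀ _
  obtain ⟨ι, hι⟩ : ∃ ι : X.residueField x₁ ⟶ CommRingCat.of K,
      Spec.map ι ≫ X.fromSpecResidueField x₁ = i₁ := by
    subst hx₁
    exact ⟨_, Scheme.descResidueField_stalkClosedPointTo_fromSpecResidueField K X i₁⟩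
  obtain ⟨V, hV, hxV, hVle⟩ := exists_isAffineOpen_mem_and_subset (U := f ⁻¹ᵁ Y₀) (x := x₁) hx₁Y₀
  have hVle' : V ≤ f ⁻¹ᵁ Y₀ := hVle
  have hrel1 : i₁ = Spec.map (X.evaluation V x₁ hxV ≫ ι) ≫ hV.fromSpec := by
    rw [← hι, fromSpecResidueField_eq hV x₁ hxV, Spec.map_comp, Category.assoc]
  have hrel2 : f.appLE Y₀ V hVle' ≫ X.evaluation V x₁ hxV ≫ ι =
      ρ ≫ CommRingCat.ofHom (algebraMap R K) := by
    apply factor_unique hY₀
    rw [Spec.map_comp, Category.assoc, IsAffineOpen.SpecMap_appLE_fromSpec f hY₀ hV hVle',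
      ← Category.assoc, ← hrel1, w, hρ, Spec.map_comp, Category.assoc]
  have hinjRK : Function.Injective (algebraMap R K) := IsFractionRing.injective R K
  -- valuation subrings
  obtain ⟨V', hV'⟩ : ∃ V' : ValuationSubring K, ∀ z : K, z ∈ V' ↔ z ∈ (algebraMap R K).range :=
    ⟨⟨(algebraMap R K).range, ValuationRing.isInteger_or_isInteger R⟩, fun z => Iff.rfl⟩
  obtain ⟨A, hA⟩ : ∃ A : ValuationSubring (X.residueField x₁),
      ∀ z, z ∈ A ↔ ι.hom z ∈ V' := ⟨V'.comap ι.hom, fun z => Iff.rfl⟩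
  obtain ⟨ψ, hψdef⟩ : ∃ ψ : Γ(Y, Y₀) ⟶ X.residueField x₁,
      ψ = f.appLE Y₀ V hVle' ≫ X.evaluation V x₁ hxV := ⟨_, rfl⟩
  have hψι : ∀ b, ι.hom (ψ.hom b) = algebraMap R K (ρ.hom b) := by
    intro b
    have h1 := congrArg (fun φ : Γ(Y, Y₀) ⟶ CommRingCat.of K => φ.hom b) hrel2
    simp only [CommRingCat.hom_comp, RingHom.comp_apply, CommRingCat.hom_ofHom] at h1
    rw [← h1, hψdef]
    simp
  have hψA : ∀ b, ψ.hom b ∈ A := by
    intro b
    rw [hA, hV', hψι]
    exact ⟨ρ.hom b, rfl⟩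
  obtain ⟨ψ', hψ'⟩ : ∃ ψ' : Γ(Y, Y₀) ⟶ CommRingCat.of A,
      ψ' ≫ CommRingCat.ofHom A.subtype = ψ :=
    ⟨CommRingCat.ofHom (ψ.hom.codRestrict A.toSubring hψA), by ext b; rfl⟩
  obtain ⟨l, hl1, hl2⟩ := H' A (Spec.map ψ' ≫ hY₀.fromSpec) (by
    rw [fromSpecResidueField_eq hV x₁ hxV, Category.assoc,
      ← IsAffineOpen.SpecMap_appLE_fromSpec f hY₀ hV hVle', ← Category.assoc,
      ← Spec.map_comp, ← Category.assoc, ← Spec.map_comp, hψ', hψdef])
  -- the map `A → R`
  have hAmem : ∀ a : A, ∃ r : R, algebraMap R K r = ι.hom a := by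
    intro a
    have h1 := (hA a).mp a.2
    rw [hV'] at h1
    exact h1
  choose j₀ hj₀ using hAmem
  obtain ⟨j, hj⟩ : ∃ j : A →+* R, ∀ a : A, algebraMap R K (j a) = ι.hom a := by
    refine ⟨{ toFun := j₀, map_one' := ?_, map_mul' := ?_, map_zero' := ?_, map_add' := ?_ },
      hj₀⟩
    · apply hinjRK; rw [hj₀]; simp
    · intro a b; apply hinjRK; rw [hj₀, map_mul, hj₀, hj₀]; simp
    · apply hinjRK; rw [hj₀]; simp
    · intro a b; apply hinjRK; rw [hj₀, map_add, hj₀, hj₀]; simp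
  have hj' : CommRingCat.ofHom j ≫ CommRingCat.ofHom (algebraMap R K) =
      CommRingCat.ofHom A.subtype ≫ ι := by
    ext a
    exact hj a
  refine ⟨⟨⟨Spec.map (CommRingCat.ofHom j) ≫ l, ?_, ?_⟩⟩⟩
  · change Spec.map (CommRingCat.ofHom (algebraMap R K)) ≫
      Spec.map (CommRingCat.ofHom j) ≫ l = i₁
    rw [← Category.assoc, ← Spec.map_comp, hj', Spec.map_comp, Category.assoc, hl2, hι]
  · change (Spec.map (CommRingCat.ofHom j) ≫ l) ≫ f = i₂
    rw [Category.assoc, hl1, ← Category.assoc, ← Spec.map_comp, hρ]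
    congr 2
    ext b
    apply hinjRK
    rw [CommRingCat.hom_comp, RingHom.comp_apply, CommRingCat.hom_ofHom, hj, ← hψι, ← hψ']
    rfl

set_option maxHeartbeats 1600000 in
/-- `ResExistenceAt` passes to specializations of a point with unique lifts -/
theorem resExistenceAt_of_specializes' {X Y : Scheme.{u}} (f : X ⟶ Y) {η x : X}
    (hηx : η ⤳ x) (Hη : ResExistenceAt f η) (Uη : ResUniquenessAt f η) :
    ResExistenceAt f x := by
  classical
  intro A y hxy
  -- charts
  obtain ⟨Y₀, hY₀, hyY₀, -⟩ := exists_isAffineOpen_mem_and_subset (U := ⊤)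
    (x := y.base (closedPoint A)) (by simp)
  obtain ⟨ρ, hρ⟩ := exists_factor_of_closedPoint hY₀ A y hyY₀
  have hxY₀ : x ∈ f ⁻¹ᵁ Y₀ := by
    change f.base x ∈ Y₀
    have h1 : (X.fromSpecResidueField x).base (closedPoint (X.residueField x)) = x :=
      Scheme.fromSpecResidueField_apply _ _
    rw [← h1, ← Scheme.Hom.comp_apply, hxy, hρ, Scheme.Hom.comp_apply, Scheme.Hom.comp_apply]
    exact fromSpec_mem hY₀ _
  obtain ⟨U, hU, hxU, hUle⟩ := exists_isAffineOpen_mem_and_subset (U := f ⁻¹ᵁ Y₀) (x := x) hxY₀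
  have hUle' : U ≤ f ⁻¹ᵁ Y₀ := hUle
  have hηU : η ∈ U := hηx.mem_open U.isOpen hxU
  have hE3 : ρ ≫ CommRingCat.ofHom A.subtype =
      f.appLE Y₀ U hUle' ≫ X.evaluation U x hxU := by
    apply factor_unique hY₀
    rw [Spec.map_comp, Category.assoc, ← hρ, ← hxy, fromSpecResidueField_eq hU x hxU,
      Category.assoc, ← IsAffineOpen.SpecMap_appLE_fromSpec f hY₀ hU hUle', Spec.map_comp,
      Category.assoc]
  -- the valuation ring `B` of `κ(η)` dominating `O_{X,x}`
  obtain ⟨φ, hφdef⟩ : ∃ φ : X.presheaf.stalk x ⟶ X.residueField η,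
      φ = X.presheaf.stalkSpecializes hηx ≫ X.residue η := ⟨_, rfl⟩
  obtain ⟨B, hφB, hlocB⟩ := exists_factor_valuationRing φ.hom
  obtain ⟨φB, hφBdef⟩ : ∃ φB : X.presheaf.stalk x →+* B,
      φB = φ.hom.codRestrict B.toSubring hφB := ⟨_, rfl⟩
  haveI : IsLocalHom φB := hφBdef ▸ hlocB
  have hφBval : ∀ a, ((φB a : B) : X.residueField η) = φ.hom a := fun a => by
    rw [hφBdef]; rfl
  obtain ⟨j, hjdef⟩ : ∃ j : X.residueField x →+* ResidueField B,
      ∀ a : X.presheaf.stalk x, j ((X.residue x).hom a) = residue B (φB a) :=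
    ⟨ResidueField.map φB, fun a => ResidueField.map_residue φB a⟩
  -- the valuation ring `A₁` of the residue field of `B` dominating `A`
  obtain ⟨A₁, hA₁, hlocA₁⟩ := exists_factor_valuationRing (j.comp A.subtype)
  have hA₁A : ∀ z, j z ∈ A₁ → z ∈ A := fun z hz => mem_of_map_mem j A A₁ hA₁ hlocA₁ z hz
  obtain ⟨V, hVdef⟩ : ∃ V : ValuationSubring (X.residueField η), V = composite B A₁ := ⟨_, rfl⟩
  have hVB : V ≤ B := hVdef ▸ composite_le B A₁
  -- evaluation maps
  have hE1 : ∀ s : Γ(X, U), (X.evaluation U η hηU).hom s =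
      φ.hom ((X.presheaf.germ U x hxU).hom s) := by
    intro s
    have h1 : X.evaluation U η hηU = X.presheaf.germ U x hxU ≫ φ := by
      rw [hφdef, ← Category.assoc, TopCat.Presheaf.germ_stalkSpecializes]
      rfl
    rw [h1]
    rfl
  have hE2 : ∀ s : Γ(X, U), j ((X.evaluation U x hxU).hom s) =
      residue B (φB ((X.presheaf.germ U x hxU).hom s)) := by
    intro s
    rw [← hjdef]
    rfl
  -- the morphism `Spec V ⟶ Y`
  obtain ⟨ψY, hψYdef⟩ : ∃ ψY : Γ(Y, Y₀) ⟶ X.residueField η,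
      ψY = f.appLE Y₀ U hUle' ≫ X.evaluation U η hηU := ⟨_, rfl⟩
  have hψYB : ∀ t, ψY.hom t =
      ((φB ((X.presheaf.germ U x hxU).hom ((f.appLE Y₀ U hUle').hom t)) : B) :
        X.residueField η) := by
    intro t
    rw [hφBval, ← hE1, hψYdef]
    rfl
  have hρj : ∀ t, residue B (φB ((X.presheaf.germ U x hxU).hom ((f.appLE Y₀ U hUle').hom t))) =
      j ((ρ.hom t : A) : X.residueField x) := by
    intro t
    rw [← hE2]
    have h1 := congrArg (fun ξ : Γ(Y, Y₀) ⟶ X.residueField x => ξ.hom t) hE3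
    simp only [CommRingCat.hom_comp, RingHom.comp_apply, CommRingCat.hom_ofHom] at h1
    rw [← h1]
    rfl
  have hψYV : ∀ t, ψY.hom t ∈ V := by
    intro t
    rw [hVdef, mem_composite, hψYB]
    refine ⟨Subtype.coe_prop _, ?_⟩
    rw [Subtype.coe_eta, hρj]
    exact hA₁ (ρ.hom t)
  obtain ⟨ψV, hψV⟩ : ∃ ψV : Γ(Y, Y₀) ⟶ CommRingCat.of V,
      ψV ≫ CommRingCat.ofHom V.subtype = ψY :=
    ⟨CommRingCat.ofHom (ψY.hom.codRestrict V.toSubring hψYV), by ext b; rfl⟩
  obtain ⟨lV, hlV1, hlV2⟩ := Hη V (Spec.map ψV ≫ hY₀.fromSpec) (by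
    rw [fromSpecResidueField_eq hU η hηU, Category.assoc,
      ← IsAffineOpen.SpecMap_appLE_fromSpec f hY₀ hU hUle', ← Category.assoc,
      ← Spec.map_comp, ← Category.assoc, ← Spec.map_comp, hψV, hψYdef])
  -- the two `B`-points of `X`
  obtain ⟨incl, hincl⟩ : ∃ incl : V →+* B, ∀ v : V, ((incl v : B) : X.residueField η) = v :=
    ⟨ValuationSubring.inclusion V B hVB, fun v => rfl⟩
  have hinclV : CommRingCat.ofHom incl ≫ CommRingCat.ofHom B.subtype =
      CommRingCat.ofHom V.subtype := by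
    ext v
    exact hincl v
  have hφBφ : CommRingCat.ofHom φB ≫ CommRingCat.ofHom B.subtype = φ := by
    ext a
    exact hφBval a
  have hfromStalk : ∀ (W : X.Opens) (hW : IsAffineOpen W) (hxW : x ∈ W),
      X.fromSpecStalk x = Spec.map (X.presheaf.germ W x hxW) ≫ hW.fromSpec := by
    intro W hW hxW
    rw [← hW.fromSpecStalk_eq_fromSpecStalk hxW]
    rfl
  have hring : ψV ≫ CommRingCat.ofHom incl =
      f.appLE Y₀ U hUle' ≫ X.presheaf.germ U x hxU ≫ CommRingCat.ofHom φB := by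
    ext t
    change ((incl (ψV.hom t) : B) : X.residueField η) =
      ((φB ((X.presheaf.germ U x hxU).hom ((f.appLE Y₀ U hUle').hom t)) : B) :
        X.residueField η)
    rw [hincl, ← hψYB, ← hψV]
    rfl
  have hp1f : (Spec.map (CommRingCat.ofHom incl) ≫ lV) ≫ f =
      Spec.map (ψV ≫ CommRingCat.ofHom incl) ≫ hY₀.fromSpec := by
    rw [Category.assoc, hlV1, Spec.map_comp, Category.assoc]
  have hp2f : (Spec.map (CommRingCat.ofHom φB) ≫ X.fromSpecStalk x) ≫ f =
      Spec.map (f.appLE Y₀ U hUle' ≫ X.presheaf.germ U x hxU ≫ CommRingCat.ofHom φB) ≫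
        hY₀.fromSpec := by
    rw [Spec.map_comp, Spec.map_comp, hfromStalk U hU hxU]
    simp only [Category.assoc]
    rw [IsAffineOpen.SpecMap_appLE_fromSpec f hY₀ hU hUle']
    rfl
  have hp : Spec.map (CommRingCat.ofHom incl) ≫ lV =
      Spec.map (CommRingCat.ofHom φB) ≫ X.fromSpecStalk x := by
    apply Uη B
    · rw [hp1f, hp2f, hring]
    · rw [← Category.assoc, ← Spec.map_comp, hinclV, hlV2]
    · rw [← Category.assoc, ← Spec.map_comp, hφBφ, hφdef, Spec.map_comp, Category.assoc,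
        Scheme.SpecMap_stalkSpecializes_fromSpecStalk]
      rfl
  -- a chart around the centre of `V`
  have hx'Y₀ : lV.base (closedPoint V) ∈ f ⁻¹ᵁ Y₀ := by
    change f.base (lV.base _) ∈ Y₀
    rw [← Scheme.Hom.comp_apply, hlV1, Scheme.Hom.comp_apply]
    exact fromSpec_mem hY₀ _
  obtain ⟨W, hW, hx'W, hWle⟩ := exists_isAffineOpen_mem_and_subset (U := f ⁻¹ᵁ Y₀)
    (x := lV.base (closedPoint V)) hx'Y₀
  have hWle' : W ≤ f ⁻¹ᵁ Y₀ := hWle
  obtain ⟨θ, hθ⟩ := exists_factor_of_closedPoint hW V lV hx'W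
  have hxW : x ∈ W := by
    have h1 : (Spec.map (CommRingCat.ofHom φB) ≫ X.fromSpecStalk x).base (closedPoint B) = x := by
      rw [Scheme.Hom.comp_apply]
      have h2 : (Spec.map (CommRingCat.ofHom φB)).base (closedPoint B) =
          closedPoint (X.presheaf.stalk x) := IsLocalRing.comap_closedPoint φB
      rw [h2]
      exact Scheme.fromSpecStalk_closedPoint
    rw [← h1, ← hp, hθ, Scheme.Hom.comp_apply, Scheme.Hom.comp_apply]
    exact fromSpec_mem hW _
  have hE4 : θ ≫ CommRingCat.ofHom incl =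
      X.presheaf.germ W x hxW ≫ CommRingCat.ofHom φB := by
    apply factor_unique hW
    rw [Spec.map_comp, Category.assoc, ← hθ, hp, hfromStalk W hW hxW, Spec.map_comp,
      Category.assoc]
    rfl
  have hjW : ∀ s : Γ(X, W), j ((X.evaluation W x hxW).hom s) =
      residue B (incl (θ.hom s)) := by
    intro s
    have h1 : incl (θ.hom s) = φB ((X.presheaf.germ W x hxW).hom s) :=
      congrArg (fun ξ : Γ(X, W) ⟶ CommRingCat.of B => ξ.hom s) hE4
    rw [h1, ← hjdef]
    rfl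
  have hevA : ∀ s : Γ(X, W), (X.evaluation W x hxW).hom s ∈ A := by
    intro s
    apply hA₁A
    rw [hjW]
    have h1 : ((θ.hom s : V) : X.residueField η) ∈ composite B A₁ := hVdef ▸ (θ.hom s).2
    obtain ⟨h2, h3⟩ := mem_composite.mp h1
    have h4 : incl (θ.hom s) = ⟨((θ.hom s : V) : X.residueField η), h2⟩ :=
      Subtype.ext (hincl _)
    rw [h4]
    exact h3
  obtain ⟨θA, hθA⟩ : ∃ θA : Γ(X, W) ⟶ CommRingCat.of A,
      θA ≫ CommRingCat.ofHom A.subtype = X.evaluation W x hxW :=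
    ⟨CommRingCat.ofHom ((X.evaluation W x hxW).hom.codRestrict A.toSubring hevA), by
      ext b; rfl⟩
  have hθψ : f.appLE Y₀ W hWle' ≫ θ = ψV := by
    apply factor_unique hY₀
    rw [Spec.map_comp, Category.assoc, IsAffineOpen.SpecMap_appLE_fromSpec f hY₀ hW hWle',
      ← Category.assoc, ← hθ, hlV1]
  refine ⟨Spec.map θA ≫ hW.fromSpec, ?_, ?_⟩
  · rw [Category.assoc, ← IsAffineOpen.SpecMap_appLE_fromSpec f hY₀ hW hWle', ← Category.assoc,
      ← Spec.map_comp, hρ]
    congr 2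
    ext t
    apply j.injective
    change j (((f.appLE Y₀ W hWle' ≫ θA).hom t : A) : X.residueField x) =
      j ((ρ.hom t : A) : X.residueField x)
    have h1 : (((f.appLE Y₀ W hWle' ≫ θA).hom t : A) : X.residueField x) =
        (X.evaluation W x hxW).hom ((f.appLE Y₀ W hWle').hom t) := by
      rw [← hθA]
      rfl
    rw [h1, hjW, ← hρj]
    congr 1
    have h2 : θ.hom ((f.appLE Y₀ W hWle').hom t) = ψV.hom t := by
      rw [← hθψ]
      rfl
    rw [h2]
    have h3 : incl (ψV.hom t) =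
        φB ((X.presheaf.germ U x hxU).hom ((f.appLE Y₀ U hUle').hom t)) :=
      congrArg (fun ξ : Γ(Y, Y₀) ⟶ CommRingCat.of B => ξ.hom t) hring
    exact h3
  · rw [← Category.assoc, ← Spec.map_comp, hθA, ← fromSpecResidueField_eq hW x hxW]

/-- for a separated morphism, `ResExistenceAt` passes to specializations -/
theorem resExistenceAt_of_specializes {X Y : Scheme.{u}} (f : X ⟶ Y) [IsSeparated f] {η x : X}
    (hηx : η ⤳ x) (Hη : ResExistenceAt f η) : ResExistenceAt f x :=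
  resExistenceAt_of_specializes' f hηx Hη (resUniquenessAt_of_isSeparated f η)

/-- in the Noetherian case, `ResExistenceAt` may be tested on discrete valuation rings -/
theorem resExistenceAt_of_dvr {X Y : Scheme.{u}} [IsLocallyNoetherian Y] (f : X ⟶ Y)
    [LocallyOfFiniteType f] [QuasiCompact f] (x : X) (H : DvrResExistenceAt f x) :
    ResExistenceAt f x := by
  intro A y hxy
  let S : ValuativeCommSq f :=
    { R := A, K := X.residueField x, i₁ := X.fromSpecResidueField x, i₂ := y, commSq := ⟨hxy⟩ }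
  have hpt : S.i₁.base (closedPoint S.K) = x := Scheme.fromSpecResidueField_apply _ _
  have := hasLift_of_dvrResExistenceAt f S (by rw [hpt]; exact H)
  obtain ⟨⟨l⟩⟩ := this
  exact ⟨l.l, l.fac_right, l.fac_left⟩

end Groth.Agent.Lib.Helper13.ValCrit
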