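import Mathlib
import Groth.Agent.Lib.Helper13.ValCrit

/-!
# Valuative criteria through a dominant morphism

Tools for refined valuative criteria: squares whose generic point factors through a dominant
quasi-compact morphism `h : Z ⟶ Y`.
-/

universe u

open CategoryTheory CategoryTheory.Limits AlgebraicGeometry IsLocalRing

namespace Groth.Agent.Lib.Helper13.Dominant

open Groth.Agent.Lib.Helper13.DvrProper Groth.Agent.Lib.Helper13.ValCrit
  Groth.Agent.Lib.Helper13.Composite

/-- every point of the target of a dominant quasi-compact morphism is a specialization of a point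
of the image -/
theorem exists_specializes_of_denseRange {Z Y : Scheme.{u}} (h : Z ⟶ Y) [QuasiCompact h]
    (hd : DenseRange h.base) (y : Y) : ∃ z : Z, h.base z ⤳ y := by
  obtain ⟨W, hW, hyW, -⟩ := exists_isAffineOpen_mem_and_subset (U := ⊤) (x := y) (by simp)
  have hcpt : IsCompact (h ⁻¹ᵁ W : Set Z) :=
    quasiCompact_iff_forall_isAffineOpen.mp ‹_› W hW
  obtain ⟨S, g, hg⟩ := isCompact_iff_exists.mp hcpt
  have hgW : ∀ p, (g ≫ h).base p ∈ W := fun p => by
    have h1 : g.base p ∈ (h ⁻¹ᵁ W : Set Z) := by
      rw [← hg]; exact Set.mem_range_self p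
    exact h1
  obtain ⟨φ, hφ⟩ := exists_factor hW S (g ≫ h) hgW
  have hdense : DenseRange (Spec.map φ).base := by
    rw [DenseRange, dense_iff_inter_open]
    intro O hO hOne
    obtain ⟨o, ho⟩ := hOne
    have hopen : IsOpen (hW.fromSpec.base '' O) :=
      hW.fromSpec.isOpenEmbedding.isOpenMap O hO
    obtain ⟨_, ⟨o', ho', rfl⟩, ⟨z, hz⟩⟩ :=
      hd.inter_open_nonempty _ hopen ⟨_, o, ho, rfl⟩
    have hzW : z ∈ (h ⁻¹ᵁ W : Set Z) := by
      change h.base z ∈ W
      rw [hz]; exact fromSpec_mem hW _
    rw [← hg] at hzW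
    obtain ⟨p', rfl⟩ := hzW
    refine ⟨o', ho', p', ?_⟩
    apply hW.fromSpec.isOpenEmbedding.injective
    rw [← Scheme.Hom.comp_apply, ← hφ, Scheme.Hom.comp_apply, hz]
  obtain ⟨p, hp⟩ : ∃ p : Spec Γ(Y, W), hW.fromSpec.base p = y := by
    have h1 : y ∈ Set.range hW.fromSpec.base := by rw [hW.range_fromSpec]; exact hyW
    exact h1
  obtain ⟨q, hq, hqp⟩ := Ideal.exists_minimalPrimes_le (I := ⊥) (J := p.asIdeal) bot_le
  obtain ⟨q', hq'⟩ :=
    (PrimeSpectrum.denseRange_comap_iff_minimalPrimes φ.hom).mp hdense q hq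
  refine ⟨g.base q', ?_⟩
  rw [← Scheme.Hom.comp_apply, hφ, Scheme.Hom.comp_apply, ← hp]
  apply Specializes.map _ hW.fromSpec.continuous
  have h1 : (Spec.map φ).base q' = ⟨q, hq.1.1⟩ := hq'
  rw [h1]
  exact (PrimeSpectrum.le_iff_specializes _ _).mp hqp

/-- morphisms from the spectrum of a local ring can be compared after an injective local
extension -/
theorem cancel_specMap_of_injective {X : Scheme.{u}} {A R : Type u} [CommRing A] [CommRing R]
    [IsLocalRing A] [IsLocalRing R] (ι : A →+* R) (hinj : Function.Injective ι) [IsLocalHom ι]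
    (a b : Spec (CommRingCat.of A) ⟶ X)
    (hab : Spec.map (CommRingCat.ofHom ι) ≫ a = Spec.map (CommRingCat.ofHom ι) ≫ b) : a = b := by
  have hcl : (Spec.map (CommRingCat.ofHom ι)).base (closedPoint R) = closedPoint A :=
    IsLocalRing.comap_closedPoint ι
  have hpt : a.base (closedPoint A) = b.base (closedPoint A) := by
    rw [← hcl, ← Scheme.Hom.comp_apply, hab, Scheme.Hom.comp_apply]
  obtain ⟨W, hW, haW, -⟩ := exists_isAffineOpen_mem_and_subset (U := ⊤)
    (x := a.base (closedPoint A)) (by simp)
  obtain ⟨α, hα⟩ := exists_factor_of_closedPoint hW A a haW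
  obtain ⟨β, hβ⟩ := exists_factor_of_closedPoint hW A b (hpt ▸ haW)
  have h1 : α ≫ CommRingCat.ofHom ι = β ≫ CommRingCat.ofHom ι := by
    apply factor_unique hW
    rw [Spec.map_comp, Spec.map_comp, Category.assoc, Category.assoc, ← hα, ← hβ, hab]
  have hαβ : α = β := by
    ext s
    apply hinj
    exact congrArg (fun ξ : Γ(X, W) ⟶ CommRingCat.of R => ξ.hom s) h1
  rw [hα, hβ, hαβ]

/-- a specialization of the image of a point `z` is the centre of a valuation ring of the
residue field of `z` -/
theorem exists_valuationSubring_of_specializes {Z W : Scheme.{u}} (g : Z ⟶ W) (z : Z) (w : W)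
    (hsp : g.base z ⤳ w) :
    ∃ (R : ValuationSubring (Z.residueField z)) (k : Spec (CommRingCat.of R) ⟶ W),
      k.base (closedPoint R) = w ∧
      Spec.map (CommRingCat.ofHom R.subtype) ≫ k = Z.fromSpecResidueField z ≫ g := by
  let ψ : W.presheaf.stalk w ⟶ Z.residueField z :=
    W.presheaf.stalkSpecializes hsp ≫ g.stalkMap z ≫ Z.residue z
  obtain ⟨R, hRmem, hlocal⟩ := exists_factor_valuationRing ψ.hom
  let toR : W.presheaf.stalk w ⟶ .of R := CommRingCat.ofHom (ψ.hom.codRestrict R.toSubring hRmem)
  refine ⟨R, Spec.map toR ≫ W.fromSpecStalk w, ?_, ?_⟩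
  · have : Spec.map toR (IsLocalRing.closedPoint R) =
        IsLocalRing.closedPoint (W.presheaf.stalk w) :=
      IsLocalRing.comap_closedPoint (S := R) (ψ.hom.codRestrict R.toSubring hRmem)
    simp only [Scheme.Hom.comp_base, TopCat.coe_comp, Function.comp_apply]
    rw [this, W.fromSpecStalk_closedPoint]
  · rw [Scheme.fromSpecResidueField, Category.assoc, ← Scheme.SpecMap_stalkMap_fromSpecStalk,
      ← Scheme.SpecMap_stalkSpecializes_fromSpecStalk hsp]
    simp_rw [← Spec.map_comp_assoc]
    rfl

/-- an extension of valuation rings along the residue field map is injective and local -/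
theorem extension_injective_local {Y Z : Scheme.{u}} (h : Z ⟶ Y) (z : Z)
    (A : ValuationSubring (Y.residueField (h.base z)))
    (R : ValuationSubring (Z.residueField z))
    (ι : A →+* R) (hι : ∀ a : A, ((ι a : R) : Z.residueField z) = (h.residueFieldMap z).hom a)
    (hRA : ∀ c, (h.residueFieldMap z).hom c ∈ R → c ∈ A) :
    Function.Injective ι ∧ IsLocalHom ι := by
  have hjinj : Function.Injective (h.residueFieldMap z).hom := RingHom.injective _
  have hιinj : Function.Injective ι := by
    intro a b hab
    apply Subtype.ext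
    apply hjinj
    rw [← hι, ← hι, hab]
  refine ⟨hιinj, ?_⟩
  constructor
  intro a ha
  have ha0 : (a : Y.residueField (h.base z)) ≠ 0 := by
    intro h0
    have h1 : a = 0 := Subtype.ext h0
    rw [h1, map_zero] at ha
    exact not_isUnit_zero ha
  obtain ⟨u, hu⟩ := ha
  have hinvR : (h.residueFieldMap z).hom ((a : Y.residueField (h.base z))⁻¹) ∈ R := by
    rw [map_inv₀, ← hι, ← hu]
    have h1 : (u : R) * (↑u⁻¹ : R) = 1 := u.mul_inv
    have h2 : ((u : R) : Z.residueField z) * ((↑u⁻¹ : R) : Z.residueField z) = 1 :=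
      congrArg (Subtype.val : R → Z.residueField z) h1
    rw [← eq_inv_of_mul_eq_one_right h2]
    exact (↑u⁻¹ : R).2
  have hinvA := hRA _ hinvR
  exact IsUnit.of_mul_eq_one (⟨_, hinvA⟩ : A) (Subtype.ext (mul_inv_cancel₀ ha0))

set_option maxHeartbeats 800000 in
/-- descent of a lift along an extension of valuation rings -/
theorem exists_lift_of_extension {X Y Z : Scheme.{u}} (h : Z ⟶ Y) (f : Y ⟶ X) (z : Z)
    (A : ValuationSubring (Y.residueField (h.base z))) (yA : Spec (CommRingCat.of A) ⟶ X)
    (R : ValuationSubring (Z.residueField z))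
    (ι : A →+* R) (hι : ∀ a : A, ((ι a : R) : Z.residueField z) = (h.residueFieldMap z).hom a)
    (hRA : ∀ c, (h.residueFieldMap z).hom c ∈ R → c ∈ A)
    (φ' : Spec (CommRingCat.of R) ⟶ Y)
    (hφ'1 : Spec.map (CommRingCat.ofHom R.subtype) ≫ φ' = Z.fromSpecResidueField z ≫ h)
    (hφ'2 : φ' ≫ f = Spec.map (CommRingCat.ofHom ι) ≫ yA) :
    ∃ l : Spec (CommRingCat.of A) ⟶ Y, l ≫ f = yA ∧
      Spec.map (CommRingCat.ofHom A.subtype) ≫ l = Y.fromSpecResidueField (h.base z) ∧
      Spec.map (CommRingCat.ofHom ι) ≫ l = φ' := by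
  classical
  obtain ⟨hιinj, hιloc⟩ := extension_injective_local h z A R ι hι hRA
  obtain ⟨W, hW, hy'W, -⟩ := exists_isAffineOpen_mem_and_subset (U := ⊤)
    (x := φ'.base (closedPoint R)) (by simp)
  obtain ⟨θ, hθ⟩ := exists_factor_of_closedPoint hW R φ' hy'W
  have hzW : h.base z ∈ W := by
    have h1 : (Z.fromSpecResidueField z ≫ h).base (closedPoint (Z.residueField z)) =
        h.base z := by
      rw [Scheme.Hom.comp_apply, Scheme.fromSpecResidueField_apply]
    rw [← h1, ← hφ'1, hθ, Scheme.Hom.comp_apply, Scheme.Hom.comp_apply]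
    exact fromSpec_mem hW _
  have hθev : θ ≫ CommRingCat.ofHom R.subtype =
      Y.evaluation W (h.base z) hzW ≫ h.residueFieldMap z := by
    apply factor_unique hW
    rw [Spec.map_comp, Category.assoc, ← hθ, hφ'1,
      ← Scheme.Hom.SpecMap_residueFieldMap_fromSpecResidueField,
      fromSpecResidueField_eq hW (h.base z) hzW, Spec.map_comp, Category.assoc]
  have hθval : ∀ s, (h.residueFieldMap z).hom ((Y.evaluation W (h.base z) hzW).hom s) =
      ((θ.hom s : R) : Z.residueField z) := by
    intro s
    exact (congrArg (fun ξ : Γ(Y, W) ⟶ Z.residueField z => ξ.hom s) hθev).symm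
  have hevA : ∀ s, (Y.evaluation W (h.base z) hzW).hom s ∈ A := by
    intro s
    apply hRA
    rw [hθval]
    exact (θ.hom s).2
  obtain ⟨θA, hθA⟩ : ∃ θA : Γ(Y, W) ⟶ CommRingCat.of A,
      θA ≫ CommRingCat.ofHom A.subtype = Y.evaluation W (h.base z) hzW :=
    ⟨CommRingCat.ofHom ((Y.evaluation W (h.base z) hzW).hom.codRestrict A.toSubring hevA), by
      ext b; rfl⟩
  have hθAι : θA ≫ CommRingCat.ofHom ι = θ := by
    ext s
    change ((ι (θA.hom s) : R) : Z.residueField z) = ((θ.hom s : R) : Z.residueField z)
    rw [hι, ← hθval, ← hθA]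
    rfl
  have hl3 : Spec.map (CommRingCat.ofHom ι) ≫ Spec.map θA ≫ hW.fromSpec = φ' := by
    rw [← Category.assoc, ← Spec.map_comp, hθAι, ← hθ]
  refine ⟨Spec.map θA ≫ hW.fromSpec, ?_, ?_, hl3⟩
  · apply cancel_specMap_of_injective ι hιinj
    rw [← Category.assoc, hl3, hφ'2]
  · rw [← Category.assoc, ← Spec.map_comp, hθA, ← fromSpecResidueField_eq hW (h.base z) hzW]

/-- extension of a valuation ring of the residue field of `h z` to the residue field of `z` -/
theorem exists_valuationSubring_extension {Y Z : Scheme.{u}} (h : Z ⟶ Y) (z : Z)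
    (A : ValuationSubring (Y.residueField (h.base z))) :
    ∃ (R : ValuationSubring (Z.residueField z)) (ι : A →+* R),
      (∀ a : A, ((ι a : R) : Z.residueField z) = (h.residueFieldMap z).hom a) ∧
      ∀ c, (h.residueFieldMap z).hom c ∈ R → c ∈ A := by
  obtain ⟨R, hR, hloc⟩ :=
    exists_factor_valuationRing ((h.residueFieldMap z).hom.comp A.subtype)
  exact ⟨R, ((h.residueFieldMap z).hom.comp A.subtype).codRestrict R.toSubring hR,
    fun a => rfl, fun c hc => mem_of_map_mem (h.residueFieldMap z).hom A R hR hloc c hc⟩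

theorem essFiniteType_residueFieldMap {Y Z : Scheme.{u}} (h : Z ⟶ Y) [LocallyOfFiniteType h]
    (z : Z) : (h.residueFieldMap z).hom.EssFiniteType := by
  have h1 : (Y.residue (h.base z) ≫ h.residueFieldMap z).hom.EssFiniteType := by
    rw [Scheme.residue_residueFieldMap]
    have h2 : (h.stalkMap z).hom.EssFiniteType := LocallyOfFiniteType.stalkMap (f := h) z
    have h3 : (Z.residue z).hom.EssFiniteType := by
      apply RingHom.FiniteType.essFiniteType
      apply RingHom.FiniteType.of_surjective
      exact IsLocalRing.residue_surjective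
    exact h2.comp h3
  exact RingHom.EssFiniteType.of_comp _ h1

/-- extension of a discrete valuation ring of the residue field of `h z` to a discrete valuation
ring of the residue field of `z`, for `h` locally of finite type -/
theorem exists_dvr_extension {Y Z : Scheme.{u}} (h : Z ⟶ Y) [LocallyOfFiniteType h] (z : Z)
    (A : ValuationSubring (Y.residueField (h.base z))) [IsDiscreteValuationRing A] :
    ∃ (R : ValuationSubring (Z.residueField z)) (ι : A →+* R), IsDiscreteValuationRing R ∧
      (∀ a : A, ((ι a : R) : Z.residueField z) = (h.residueFieldMap z).hom a) ∧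
      ∀ c, (h.residueFieldMap z).hom c ∈ R → c ∈ A := by
  classical
  obtain ⟨T, hT⟩ := exists_finset_closure_of_essFiniteType (h.residueFieldMap z).hom
    (essFiniteType_residueFieldMap h z)
  let _ : Algebra A (Z.residueField z) := ((h.residueFieldMap z).hom.comp A.subtype).toAlgebra
  have halg : ∀ a : A, algebraMap A (Z.residueField z) a = (h.residueFieldMap z).hom a :=
    fun a => rfl
  have hinj : Function.Injective (algebraMap A (Z.residueField z)) := by
    intro a b hab
    apply Subtype.ext
    exact (RingHom.injective (h.residueFieldMap z).hom) hab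
  have hT' : Subfield.closure (Set.range (algebraMap A (Z.residueField z)) ∪
      (T : Set (Z.residueField z))) = ⊤ := by
    rw [eq_top_iff, ← hT]
    rw [Subfield.closure_le]
    rintro w (⟨c, rfl⟩ | hw)
    · rcases A.mem_or_inv_mem c with hc | hc
      · exact Subfield.subset_closure (Or.inl ⟨⟨c, hc⟩, rfl⟩)
      · have h1 : (h.residueFieldMap z).hom c⁻¹ ∈ Subfield.closure
            (Set.range (algebraMap A (Z.residueField z)) ∪ (T : Set (Z.residueField z))) :=
          Subfield.subset_closure (Or.inl ⟨⟨c⁻¹, hc⟩, rfl⟩)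
        have h2 := inv_mem h1
        rwa [map_inv₀, inv_inv] at h2
    · exact Subfield.subset_closure (Or.inr hw)
  obtain ⟨R, hRdvr, hRmem, hRlt⟩ := Groth.Agent.Lib.Helper13.Dvr.exists_dvr_dominating
    (L := Z.residueField z) A (IsDiscreteValuationRing.not_isField A) hinj T hT'
  have hmem' : ∀ a : A, ((h.residueFieldMap z).hom.comp A.subtype) a ∈ R.toSubring := hRmem
  have hloc : IsLocalHom (((h.residueFieldMap z).hom.comp A.subtype).codRestrict
      R.toSubring hmem') := by
    constructor
    intro a ha
    by_contra hnu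
    have h1 : a ∈ IsLocalRing.maximalIdeal A := (IsLocalRing.mem_maximalIdeal _).mpr hnu
    have h2 := hRlt a h1
    have h3 := (R.valuation_lt_one_iff ⟨_, hRmem a⟩).mpr h2
    exact (IsLocalRing.mem_maximalIdeal _).mp h3 ha
  exact ⟨R, ((h.residueFieldMap z).hom.comp A.subtype).codRestrict R.toSubring hmem', hRdvr,
    fun a => rfl, fun c hc => mem_of_map_mem (h.residueFieldMap z).hom A R hmem' hloc c hc⟩

/-- a generization of the generic point of an irreducible component is that generic point -/
theorem eq_of_specializes_of_mem_irreducibleComponents {X : Scheme.{u}} {x η : X}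
    (hη : closure {η} ∈ irreducibleComponents (X : Type u)) (hx : x ⤳ η) : x = η := by
  have h1 : closure ({η} : Set X) ⊆ closure {x} := specializes_iff_closure_subset.mp hx
  have h2 : closure ({x} : Set X) ⊆ closure {η} :=
    hη.2 (isIrreducible_singleton.closure) h1
  have h3 : η ⤳ x := specializes_iff_closure_subset.mpr h2
  exact (hx.antisymm h3).eq

/-- the generic points of the irreducible components lie in the image of a dominant quasi-compact
morphism -/
theorem exists_eq_of_mem_irreducibleComponents {Z Y : Scheme.{u}} (h : Z ⟶ Y) [QuasiCompact h]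
    (hd : DenseRange h.base) {η : Y} (hη : closure {η} ∈ irreducibleComponents (Y : Type u)) :
    ∃ z : Z, h.base z = η := by
  obtain ⟨z, hz⟩ := exists_specializes_of_denseRange h hd η
  exact ⟨z, eq_of_specializes_of_mem_irreducibleComponents hη hz⟩

/-- the comparison of `Spec (Frac R)` with `Spec` of the ambient field of a valuation subring -/
theorem isIso_specMap_algEquiv_symm {L : Type u} [Field L] (R : ValuationSubring L) :
    IsIso (Spec.map (CommRingCat.ofHom
      ((FractionRing.algEquiv R L).symm : L →+* FractionRing R))) := by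
  have : IsIso (CommRingCat.ofHom
      ((FractionRing.algEquiv R L).symm : L →+* FractionRing R)) :=
    (FractionRing.algEquiv R L).symm.toRingEquiv.toCommRingCatIso.isIso_hom
  infer_instance

end Groth.Agent.Lib.Helper13.Dominant
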