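import Mathlib

/-!
# A finite type ring map inducing an isomorphism on local rings is locally an open immersion
-/

universe u

namespace Groth.Agent.Lib.Helper13.LocalIso

/-- Key algebra lemma.  `φ : A → B` of finite type, `q` a prime of `B` over `p`, `A → A_p`
injective, `A_p → B_q` bijective.  Then there are `u ∉ q` and `a ∉ p` such that `B_u` is the
localization of `A` away from `a`. -/
theorem exists_isLocalization_away {A B : Type u} [CommRing A] [CommRing B] (φ : A →+* B)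
    (hφ : φ.FiniteType) (q : Ideal B) [q.IsPrime] (Ap Bq : Type u) [CommRing Ap] [CommRing Bq]
    [Algebra A Ap] [Algebra B Bq] [IsLocalization.AtPrime Ap (q.comap φ)]
    [IsLocalization.AtPrime Bq q] (ψ : Ap →+* Bq)
    (hψφ : ψ.comp (algebraMap A Ap) = (algebraMap B Bq).comp φ)
    (hinjA : Function.Injective (algebraMap A Ap)) (hψ : Function.Bijective ψ) :
    ∃ (u : B) (a : A), u ∉ q ∧ a ∉ q.comap φ ∧
      ∀ (Bu : Type u) [CommRing Bu] [Algebra B Bu] [IsLocalization.Away u Bu],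
      (letI := ((algebraMap B Bu).comp φ).toAlgebra
       IsLocalization.Away a Bu) := by
  classical
  letI := φ.toAlgebra
  have hft : Algebra.FiniteType A B := hφ
  obtain ⟨s, hs⟩ := hft.out
  have hcomm : ∀ c : A, ψ (algebraMap A Ap c) = algebraMap B Bq (φ c) := fun c =>
    congrArg (fun ξ : A →+* Bq => ξ c) hψφ
  -- Step 1: each generator is a fraction
  have h1 : ∀ b : B, ∃ (t : A) (c : A) (v : B), t ∉ q.comap φ ∧ v ∉ q ∧
      v * (φ t * b) = v * φ c := by
    intro b
    obtain ⟨y, hy⟩ := hψ.2 (algebraMap B Bq b)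
    obtain ⟨⟨c, t⟩, hct⟩ := IsLocalization.surj (q.comap φ).primeCompl y
    -- y * t = c
    have h2 : algebraMap B Bq (φ t * b) = algebraMap B Bq (φ c) := by
      rw [map_mul, ← hcomm, ← hcomm, ← hy, ← map_mul, mul_comm]
      exact congrArg ψ hct
    obtain ⟨v, hv⟩ := (IsLocalization.eq_iff_exists q.primeCompl Bq).mp h2
    exact ⟨t, c, v, t.2, v.2, hv⟩
  choose tf cf vf htf hvf hcv using h1
  -- Step 2: common denominators
  obtain ⟨t, ht⟩ : ∃ t : A, t = ∏ b ∈ s, tf b := ⟨_, rfl⟩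
  obtain ⟨v, hv⟩ : ∃ v : B, v = ∏ b ∈ s, vf b := ⟨_, rfl⟩
  have htp : t ∉ q.comap φ := by
    rw [ht]
    intro hmem
    obtain ⟨b, -, hb⟩ := (Ideal.IsPrime.prod_mem_iff).mp hmem
    exact htf b hb
  have hvq : v ∉ q := by
    rw [hv]
    intro hmem
    obtain ⟨b, -, hb⟩ := (Ideal.IsPrime.prod_mem_iff).mp hmem
    exact hvf b hb
  have hgen : ∀ b ∈ s, ∃ c : A, v * (φ t * b) = v * φ c := by
    intro b hb
    refine ⟨cf b * ∏ b' ∈ s.erase b, tf b', ?_⟩
    have e1 : t = tf b * ∏ b' ∈ s.erase b, tf b' := by rw [ht, Finset.mul_prod_erase s tf hb]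
    have e2 : v = vf b * ∏ b' ∈ s.erase b, vf b' := by rw [hv, Finset.mul_prod_erase s vf hb]
    rw [e1, e2, map_mul, map_mul]
    have := hcv b
    linear_combination (φ (∏ b' ∈ s.erase b, tf b') * ∏ b' ∈ s.erase b, vf b') * this
  -- Step 3: every element is a fraction with denominator a power of `t`
  have hall : ∀ x : B, ∃ (n : ℕ) (c : A), v * (φ t ^ n * x) = v * φ c := by
    intro x
    have hx : x ∈ Algebra.adjoin A (s : Set B) := by rw [hs]; trivial
    induction hx using Algebra.adjoin_induction with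
    | mem b hb =>
      obtain ⟨c, hc⟩ := hgen b hb
      exact ⟨1, c, by rw [pow_one]; exact hc⟩
    | algebraMap r => exact ⟨0, r, by rw [pow_zero, one_mul]; rfl⟩
    | add x y _ _ hx hy =>
      obtain ⟨n, c, hc⟩ := hx
      obtain ⟨n', c', hc'⟩ := hy
      refine ⟨n + n', t ^ n' * c + t ^ n * c', ?_⟩
      rw [map_add, map_mul, map_mul, map_pow, map_pow]
      linear_combination φ t ^ n' * hc + φ t ^ n * hc'
    | mul x y _ _ hx hy =>
      obtain ⟨n, c, hc⟩ := hx
      obtain ⟨n', c', hc'⟩ := hy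
      refine ⟨n + n', c * c', ?_⟩
      rw [map_mul]
      linear_combination (φ t ^ n' * y) * hc + φ c * hc'
  -- Step 4
  obtain ⟨n, c, hc⟩ := hall v
  have hφt : φ t ∉ q := htp
  have hu : φ t * v ∉ q := fun hmem => (Ideal.IsPrime.mem_or_mem ‹_› hmem).elim hφt hvq
  have hcp : c ∉ q.comap φ := by
    intro hmem
    have h2 : v * (φ t ^ n * v) ∈ q := by rw [hc]; exact q.mul_mem_left _ hmem
    rcases Ideal.IsPrime.mem_or_mem ‹_› h2 with h3 | h3
    · exact hvq h3
    · rcases Ideal.IsPrime.mem_or_mem ‹_› h3 with h4 | h4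
      · exact hφt (Ideal.IsPrime.mem_of_pow_mem ‹_› n h4)
      · exact hvq h4
  have hap : t * c ∉ q.comap φ := fun hmem =>
    (Ideal.IsPrime.mem_or_mem (Ideal.comap_isPrime φ q) hmem).elim htp hcp
  refine ⟨φ t * v, t * c, hu, hap, ?_⟩
  intro Bu _ _ _
  letI : Algebra A Bu := ((algebraMap B Bu).comp φ).toAlgebra
  have halg : ∀ r : A, algebraMap A Bu r = algebraMap B Bu (φ r) := fun r => rfl
  obtain ⟨ι, hι⟩ : ∃ ι : B →+* Bu, ι = algebraMap B Bu := ⟨_, rfl⟩
  have huu : IsUnit (ι (φ t * v)) := by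
    rw [hι]; exact IsLocalization.Away.algebraMap_isUnit (φ t * v)
  rw [map_mul] at huu
  have hut : IsUnit (ι (φ t)) := isUnit_of_mul_isUnit_left huu
  have huv : IsUnit (ι v) := isUnit_of_mul_isUnit_right huu
  have hkey : ι (φ c) = ι (φ t) ^ n * ι v := by
    have h2 := congrArg ι hc
    rw [map_mul, map_mul, map_mul, map_pow] at h2
    exact (huv.mul_left_cancel h2).symm
  have hua : IsUnit (ι (φ (t * c))) := by
    rw [map_mul, map_mul, hkey]
    exact hut.mul ((hut.pow n).mul huv)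
  rw [IsLocalization.Away, isLocalization_iff]
  refine ⟨?_, ?_, ?_⟩
  · rintro ⟨_, k, rfl⟩
    rw [halg, ← hι, map_pow, map_pow]
    exact hua.pow k
  · intro z
    obtain ⟨⟨x, ⟨_, k, rfl⟩⟩, hz⟩ := IsLocalization.surj (Submonoid.powers (φ t * v)) z
    obtain ⟨m, cx, hcx⟩ := hall x
    have hcx' : ι (φ t) ^ m * ι x = ι (φ cx) := by
      have h2 := congrArg ι hcx
      rw [map_mul, map_mul, map_mul, map_pow] at h2
      exact huv.mul_left_cancel h2
    refine ⟨⟨t ^ (n * k) * c ^ m * cx, ⟨(t * c) ^ (k + m), k + m, rfl⟩⟩, ?_⟩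
    change z * algebraMap A _ ((t * c) ^ (k + m)) = algebraMap A _ (t ^ (n * k) * c ^ m * cx)
    rw [halg, halg, ← hι]
    have hz' : z * (ι (φ t) * ι v) ^ k = ι x := by
      rw [← map_mul, ← map_pow, hι]; exact hz
    simp only [map_mul, map_pow]
    rw [hkey, ← hcx', ← hz']
    ring
  · intro x y hxy
    refine ⟨1, ?_⟩
    rw [halg, halg] at hxy
    obtain ⟨⟨_, k, rfl⟩, hk⟩ :=
      (IsLocalization.eq_iff_exists (Submonoid.powers (φ t * v)) _).mp hxy
    have h2 := congrArg (algebraMap B Bq) hk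
    rw [map_mul, map_mul] at h2
    have hunit : IsUnit (algebraMap B Bq ((φ t * v) ^ k)) :=
      IsLocalization.map_units Bq (⟨(φ t * v) ^ k, q.primeCompl.pow_mem hu k⟩ : q.primeCompl)
    have h3 := hunit.mul_left_cancel h2
    rw [← hcomm, ← hcomm] at h3
    have h4 := hinjA (hψ.1 h3)
    rw [h4]

end Groth.Agent.Lib.Helper13.LocalIso
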