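import Mathlib
import Groth.Agent.Lib.Helper13.LocalIso

/-!
# A morphism locally of finite type inducing an isomorphism of local rings is a local isomorphism
-/

universe u

open CategoryTheory CategoryTheory.Limits AlgebraicGeometry TopologicalSpace

namespace Groth.Agent.Lib.Helper13.LocalIso

/-- membership in the prime ideal of a point of an affine open -/
theorem mem_primeIdealOf_iff {X : Scheme.{u}} {W : X.Opens} (hW : IsAffineOpen W) (x : X)
    (hx : x ∈ W) (a : Γ(X, W)) :
    a ∈ (hW.primeIdealOf ⟨x, hx⟩).asIdeal ↔ ¬ IsUnit (X.presheaf.germ W x hx a) := by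
  letI := X.presheaf.algebra_section_stalk ⟨x, hx⟩
  haveI := hW.isLocalization_stalk ⟨x, hx⟩
  rw [← IsLocalization.AtPrime.to_map_mem_maximal_iff (X.presheaf.stalk x)
    (hW.primeIdealOf ⟨x, hx⟩).asIdeal a, IsLocalRing.mem_maximalIdeal, mem_nonunits_iff]
  rfl

theorem exists_isOpenImmersion_of_isIso_stalkMap {X S : Scheme.{u}} (f : X ⟶ S)
    [LocallyOfFiniteType f] (x : X) [S.IsGermInjectiveAt (f.base x)]
    (hx : IsIso (f.stalkMap x)) :
    ∃ U : X.Opens, x ∈ U ∧ IsOpenImmersion (U.ι ≫ f) := by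
  obtain ⟨V, hsV, hV, hinj⟩ := S.exists_germ_injective (f.base x)
  obtain ⟨W, hW, hxW, hWV⟩ := exists_isAffineOpen_mem_and_subset (x := x) (U := f ⁻¹ᵁ V) hsV
  have hft : (f.appLE V W hWV).hom.FiniteType := f.finiteType_appLE hV hW hWV
  letI algV := S.presheaf.algebra_section_stalk ⟨f.base x, hsV⟩
  letI algW := X.presheaf.algebra_section_stalk ⟨x, hxW⟩
  haveI locW := hW.isLocalization_stalk ⟨x, hxW⟩
  have hcompat : (f.stalkMap x).hom.comp (algebraMap Γ(S, V) (S.presheaf.stalk (f.base x))) =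
      (algebraMap Γ(X, W) (X.presheaf.stalk x)).comp (f.appLE V W hWV).hom := by
    ext a
    change (f.stalkMap x).hom ((S.presheaf.germ V (f.base x) hsV).hom a) =
      (X.presheaf.germ W x hxW).hom ((f.appLE V W hWV).hom a)
    rw [Scheme.Hom.appLE, CommRingCat.hom_comp, RingHom.comp_apply,
      ← CommRingCat.comp_apply (X.presheaf.map _), X.presheaf.germ_res]
    exact Scheme.Hom.germ_stalkMap_apply f V x hsV a
  have hprime : (hV.primeIdealOf ⟨f.base x, hsV⟩).asIdeal =
      (hW.primeIdealOf ⟨x, hxW⟩).asIdeal.comap (f.appLE V W hWV).hom := by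
    ext a
    rw [Ideal.mem_comap, mem_primeIdealOf_iff, mem_primeIdealOf_iff]
    have h1 : (X.presheaf.germ W x hxW) ((f.appLE V W hWV).hom a) =
        (f.stalkMap x).hom ((S.presheaf.germ V (f.base x) hsV).hom a) :=
      (congrArg (fun ξ : Γ(S, V) →+* X.presheaf.stalk x => ξ a) hcompat).symm
    rw [h1]
    exact not_congr (isUnit_map_iff (f.stalkMap x).hom _).symm
  haveI locV : IsLocalization.AtPrime (S.presheaf.stalk (f.base x))
      ((hW.primeIdealOf ⟨x, hxW⟩).asIdeal.comap (f.appLE V W hWV).hom) :=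
    by
      have key : ∀ (P : Ideal Γ(S, V)) [P.IsPrime] (P' : Ideal Γ(S, V)) [P'.IsPrime], P = P' →
          IsLocalization.AtPrime (S.presheaf.stalk (f.base x)) P →
          IsLocalization.AtPrime (S.presheaf.stalk (f.base x)) P' := by
        intro P _ P' _ h
        subst h
        exact id
      exact key _ _ hprime (hV.isLocalization_stalk ⟨f.base x, hsV⟩)
  obtain ⟨u, a, hu, ha, hloc⟩ := exists_isLocalization_away (f.appLE V W hWV).hom hft
    (hW.primeIdealOf ⟨x, hxW⟩).asIdeal (S.presheaf.stalk (f.base x)) (X.presheaf.stalk x)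
    (f.stalkMap x).hom hcompat hinj (ConcreteCategory.bijective_of_isIso (f.stalkMap x))
  have hxU : x ∈ X.basicOpen u := by
    rw [Scheme.mem_basicOpen _ _ _ hxW]
    exact not_not.mp ((mem_primeIdealOf_iff hW x hxW u).not.mp hu)
  have hU : IsAffineOpen (X.basicOpen u) := hW.basicOpen u
  have hUV : X.basicOpen u ≤ f ⁻¹ᵁ V := (X.basicOpen_le u).trans hWV
  haveI := hW.isLocalization_basicOpen u
  have hloc' := hloc Γ(X, X.basicOpen u)
  refine ⟨X.basicOpen u, hxU, ?_⟩
  have e1 : (X.basicOpen u).ι ≫ f =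
      hU.isoSpec.hom ≫ Spec.map (f.appLE V (X.basicOpen u) hUV) ≫ hV.fromSpec := by
    rw [IsAffineOpen.SpecMap_appLE_fromSpec f hV hU hUV, ← Category.assoc,
      hU.isoSpec_hom_fromSpec]
  have e2 : f.appLE V (X.basicOpen u) hUV = CommRingCat.ofHom
      ((algebraMap Γ(X, W) Γ(X, X.basicOpen u)).comp (f.appLE V W hWV).hom) := by
    rw [← Scheme.Hom.appLE_map f hWV (homOfLE (X.basicOpen_le u)).op]
    rfl
  haveI : IsOpenImmersion (Spec.map (f.appLE V (X.basicOpen u) hUV)) := by
    rw [e2]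
    letI : Algebra Γ(S, V) Γ(X, X.basicOpen u) :=
      ((algebraMap Γ(X, W) Γ(X, X.basicOpen u)).comp (f.appLE V W hWV).hom).toAlgebra
    exact IsOpenImmersion.of_isLocalization a
  rw [e1]
  infer_instance

end Groth.Agent.Lib.Helper13.LocalIso
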