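import Mathlib
import Groth.Agent.S5161
import Groth.Agent.Lib.Helper13.Dominant
import Groth.Agent.Lib.Helper13.LocalIso2

/-!
# Effective Cartier divisor supported on the complement of a dense affine open (factorial case)
-/

universe u

open CategoryTheory AlgebraicGeometry TopologicalSpace Opposite IsLocalRing

namespace Groth.Agent.Lib.Helper13.CartierCompl

/-- In a Noetherian UFD, a radical ideal all of whose minimal primes have height one is principal. -/
theorem exists_eq_span_singleton_of_isRadical {R : Type*} [CommRing R] [IsDomain R]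
    [UniqueFactorizationMonoid R] [IsNoetherianRing R] (J : Ideal R) (hJ : J.IsRadical)
    (hht : ∀ 𝔮 ∈ J.minimalPrimes, 𝔮.height = 1) :
    ∃ g : R, g ≠ 0 ∧ J = Ideal.span {g} := by
  classical
  have hfin : J.minimalPrimes.Finite := Ideal.finite_minimalPrimes_of_isNoetherianRing R J
  have hex : ∀ 𝔮 : J.minimalPrimes, ∃ π : R, Prime π ∧ (𝔮 : Ideal R) = Ideal.span {π} := by
    rintro ⟨𝔮, h𝔮⟩
    haveI : 𝔮.IsPrime := h𝔮.1.1
    have hpn : 𝔮 ≠ ⊥ := 𝔮.ne_bot_of_height_eq_one (hht 𝔮 h𝔮)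
    obtain ⟨x, hxmem, hxp⟩ := Ideal.IsPrime.exists_mem_prime_of_ne_bot ‹_› hpn
    exact ⟨x, hxp, 𝔮.eq_span_singleton_of_height_eq_one (hht 𝔮 h𝔮) hxmem hxp⟩
  choose π hπ hπeq using hex
  haveI : Fintype J.minimalPrimes := hfin.fintype
  refine ⟨∏ 𝔮 : J.minimalPrimes, π 𝔮, ?_, ?_⟩
  · exact Finset.prod_ne_zero_iff.mpr fun 𝔮 _ => (hπ 𝔮).ne_zero
  · have hJ' : J = sInf J.minimalPrimes := by rw [Ideal.sInf_minimalPrimes, hJ.radical]
    ext r
    rw [Ideal.mem_span_singleton]
    constructor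
    · intro hr
      apply Fintype.prod_dvd_of_isRelPrime
      · intro 𝔮 𝔮' hne
        change IsRelPrime (π 𝔮) (π 𝔮')
        rw [(hπ 𝔮).irreducible.isRelPrime_iff_not_dvd]
        intro hdvd
        apply hne
        have hle : (𝔮' : Ideal R) ≤ 𝔮 := by
          rw [hπeq 𝔮', hπeq 𝔮, Ideal.span_singleton_le_span_singleton]
          exact hdvd
        exact Subtype.ext (le_antisymm (𝔮.2.2 𝔮'.2.1 hle) hle)
      · intro 𝔮
        rw [← Ideal.mem_span_singleton, ← hπeq 𝔮]
        rw [hJ'] at hr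
        exact (Ideal.mem_sInf.mp hr) 𝔮.2
    · intro hdvd
      rw [hJ', Ideal.mem_sInf]
      intro 𝔮 h𝔮
      have : π ⟨𝔮, h𝔮⟩ ∣ r := (Finset.dvd_prod_of_mem _ (Finset.mem_univ _)).trans hdvd
      have h2 := hπeq ⟨𝔮, h𝔮⟩
      change 𝔮 = _ at h2
      rw [h2, Ideal.mem_span_singleton]
      exact this

/-- Heights of minimal primes of a localized ideal. -/
theorem height_eq_one_of_mem_minimalPrimes_map {A : Type*} [CommRing A] (M : Submonoid A)
    (R : Type*) [CommRing R] [Algebra A R] [IsLocalization M R] (J : Ideal A)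
    (hht : ∀ 𝔮 ∈ J.minimalPrimes, 𝔮.height = 1) :
    ∀ 𝔮' ∈ (J.map (algebraMap A R)).minimalPrimes, 𝔮'.height = 1 := by
  intro 𝔮' h𝔮'
  haveI h𝔮'p : 𝔮'.IsPrime := h𝔮'.1.1
  rw [← IsLocalization.height_under M 𝔮']
  apply hht
  obtain ⟨hcp, hdisj⟩ := (IsLocalization.isPrime_iff_isPrime_disjoint M R 𝔮').mp h𝔮'p
  refine ⟨⟨hcp, Ideal.map_le_iff_le_comap.mp h𝔮'.1.2⟩, ?_⟩
  rintro 𝔯 ⟨h𝔯p, hJ𝔯⟩ h𝔯le
  have hd𝔯 : Disjoint (M : Set A) (𝔯 : Set A) :=
    Set.disjoint_of_subset_right h𝔯le hdisj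
  have h1 : (𝔯.map (algebraMap A R)).IsPrime :=
    IsLocalization.isPrime_of_isPrime_disjoint M R 𝔯 h𝔯p hd𝔯
  have h2 : J.map (algebraMap A R) ≤ 𝔯.map (algebraMap A R) := Ideal.map_mono hJ𝔯
  have h3 : 𝔯.map (algebraMap A R) ≤ 𝔮' := by
    rw [← IsLocalization.map_under M R 𝔮']
    exact Ideal.map_mono h𝔯le
  have h4 : 𝔮' ≤ 𝔯.map (algebraMap A R) := h𝔮'.2 ⟨h1, h2⟩ h3
  have h5 : 𝔮'.under A ≤ (𝔯.map (algebraMap A R)).under A := Ideal.comap_mono h4
  rwa [IsLocalization.under_map_of_isPrime_disjoint M R h𝔯p hd𝔯] at h5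

/-- Spreading out a principal generator of `J A_𝔭` (in a factorial local ring) to a basic open
neighbourhood. -/
theorem exists_away_principal {A : Type u} [CommRing A] [IsNoetherianRing A] (𝔭 : Ideal A)
    [𝔭.IsPrime] (R : Type u) [CommRing R] [Algebra A R] [IsLocalization.AtPrime R 𝔭] [IsDomain R]
    [UniqueFactorizationMonoid R]
    (J : Ideal A) (hJ : J.IsRadical) (hht : ∀ 𝔮 ∈ J.minimalPrimes, 𝔮.height = 1) :
    ∃ (h : A) (a : A), h ∉ 𝔭 ∧ ∀ (S : Type u) [CommRing S] [Algebra A S]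
      [IsLocalization.Away h S],
      J.map (algebraMap A S) = Ideal.span {algebraMap A S a} ∧
        algebraMap A S a ∈ nonZeroDivisors S := by
  classical
  haveI : IsNoetherianRing R := IsLocalization.isNoetherianRing 𝔭.primeCompl R inferInstance
  set J' := J.map (algebraMap A R) with hJ'
  have hJ'rad : J'.IsRadical := by
    rw [Ideal.IsRadical, hJ', ← IsLocalization.map_radical 𝔭.primeCompl, hJ.radical]
  obtain ⟨g, hg0, hg⟩ := exists_eq_span_singleton_of_isRadical J' hJ'rad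
    (height_eq_one_of_mem_minimalPrimes_map 𝔭.primeCompl R J hht)
  -- write `g = a / s` with `a ∈ J`
  have hgJ : g ∈ J' := by rw [hg]; exact Ideal.subset_span rfl
  obtain ⟨⟨⟨a, haJ⟩, s⟩, has⟩ := (IsLocalization.mem_map_algebraMap_iff 𝔭.primeCompl R).mp hgJ
  simp only at has
  have hsu : IsUnit (algebraMap A R (s : A)) := IsLocalization.map_units R s
  have ha0 : algebraMap A R a ≠ 0 := by
    rw [← has]
    exact mul_ne_zero hg0 hsu.ne_zero
  have hspan : J' = Ideal.span {algebraMap A R a} := by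
    rw [hg, ← has]
    exact (Ideal.span_singleton_mul_right_unit hsu g).symm
  -- generators of `J`
  obtain ⟨F, hF⟩ := (isNoetherianRing_iff_ideal_fg A).mp inferInstance J
  have hgen : ∀ j ∈ F, ∃ hj : A, hj ∉ 𝔭 ∧ hj * j ∈ Ideal.span {a} := by
    intro j hj
    have hjJ : j ∈ J := by rw [← hF]; exact Ideal.subset_span hj
    have : algebraMap A R j ∈ Ideal.span {algebraMap A R a} := by
      rw [← hspan]; exact Ideal.mem_map_of_mem _ hjJ
    obtain ⟨r, hr⟩ := Ideal.mem_span_singleton'.mp this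
    obtain ⟨b, t, rfl⟩ := IsLocalization.exists_mk'_eq 𝔭.primeCompl r
    have h1 : algebraMap A R (j * t) = algebraMap A R (b * a) := by
      rw [map_mul, map_mul, ← hr, mul_assoc, mul_comm _ (algebraMap A R (t : A)),
        ← mul_assoc, mul_comm _ (algebraMap A R (t : A)), IsLocalization.mk'_spec']
    obtain ⟨c, hc⟩ := (IsLocalization.eq_iff_exists 𝔭.primeCompl R).mp h1
    refine ⟨c * t, fun h => (Ideal.IsPrime.mem_or_mem inferInstance h).elim c.2 t.2, ?_⟩
    rw [Ideal.mem_span_singleton']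
    refine ⟨c * b, ?_⟩
    rw [mul_assoc, ← hc]
    ring
  choose! hh hhp hhJ using hgen
  -- annihilator of `a`
  set N : Ideal A := LinearMap.ker (LinearMap.toSpanSingleton A A a) with hN
  obtain ⟨G, hG⟩ := (isNoetherianRing_iff_ideal_fg A).mp inferInstance N
  have hann : ∀ n ∈ G, ∃ v : A, v ∉ 𝔭 ∧ v * n = 0 := by
    intro n hn
    have hnN : n ∈ N := by rw [← hG]; exact Ideal.subset_span hn
    have hna : n * a = 0 := by
      have := LinearMap.mem_ker.mp hnN
      simpa [LinearMap.toSpanSingleton_apply] using this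
    have h0 : algebraMap A R n = 0 := by
      have : algebraMap A R n * algebraMap A R a = 0 := by rw [← map_mul, hna, map_zero]
      exact (mul_eq_zero.mp this).resolve_right ha0
    obtain ⟨v, hv⟩ := (IsLocalization.map_eq_zero_iff 𝔭.primeCompl R n).mp h0
    exact ⟨v, v.2, hv⟩
  choose! vv hvp hvn using hann
  set h1 := ∏ j ∈ F, hh j with hh1
  set h2 := ∏ n ∈ G, vv n with hh2
  have hh1p : h1 ∉ 𝔭 := by
    intro hmem
    obtain ⟨j, hj, hjp⟩ := (Ideal.IsPrime.prod_mem_iff (hp := inferInstance)).mp hmem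
    exact hhp j hj hjp
  have hh2p : h2 ∉ 𝔭 := by
    intro hmem
    obtain ⟨n, hn, hnp⟩ := (Ideal.IsPrime.prod_mem_iff (hp := inferInstance)).mp hmem
    exact hvp n hn hnp
  have hh2N : ∀ n ∈ N, h2 * n = 0 := by
    intro n hn
    rw [← hG] at hn
    induction hn using Submodule.span_induction with
    | mem n hn =>
      obtain ⟨c, hc⟩ := Finset.dvd_prod_of_mem vv hn
      rw [hh2, hc, mul_comm (vv n) c, mul_assoc, hvn n hn, mul_zero]
    | zero => simp
    | add x y _ _ hx hy => rw [mul_add, hx, hy, add_zero]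
    | smul c x _ hx => rw [smul_eq_mul, mul_left_comm, hx, mul_zero]
  refine ⟨h1 * h2, a, fun h => (Ideal.IsPrime.mem_or_mem inferInstance h).elim hh1p hh2p, ?_⟩
  intro S _ _ _
  have hunit : ∀ c : A, c ∣ h1 * h2 → IsUnit (algebraMap A S c) := by
    intro c hc
    have hu : IsUnit (algebraMap A S (h1 * h2)) := IsLocalization.Away.algebraMap_isUnit _
    obtain ⟨d, hd⟩ := hc
    rw [hd, map_mul] at hu
    exact isUnit_of_mul_isUnit_left hu
  constructor
  · apply le_antisymm
    · rw [← hF, Ideal.map_span, Ideal.span_le]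
      rintro _ ⟨j, hj, rfl⟩
      have hu := hunit (hh j) ((Finset.dvd_prod_of_mem hh hj).mul_right h2)
      obtain ⟨c, hc⟩ := Ideal.mem_span_singleton'.mp (hhJ j hj)
      have : algebraMap A S (hh j) * algebraMap A S j ∈ Ideal.span {algebraMap A S a} := by
        rw [← map_mul, ← hc, map_mul]
        exact Ideal.mul_mem_left _ _ (Ideal.subset_span rfl)
      exact (Ideal.unit_mul_mem_iff_mem _ hu).mp this
    · rw [Ideal.span_le, Set.singleton_subset_iff]
      exact Ideal.mem_map_of_mem _ haJ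
  · rw [mem_nonZeroDivisors_iff_right]
    intro x hx
    obtain ⟨c, m, rfl⟩ := IsLocalization.exists_mk'_eq (Submonoid.powers (h1 * h2)) x
    have hc0 : algebraMap A S (c * a) = 0 := by
      have := congrArg (fun z => z * algebraMap A S (m : A)) hx
      simp only [zero_mul] at this
      rw [mul_right_comm, IsLocalization.mk'_spec] at this
      rw [map_mul]; exact this
    obtain ⟨⟨_, l, rfl⟩, hl⟩ := (IsLocalization.map_eq_zero_iff (Submonoid.powers (h1 * h2)) S _).mp hc0
    simp only at hl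
    have hmemN : (h1 * h2) ^ l * c ∈ N := by
      rw [hN, LinearMap.mem_ker, LinearMap.toSpanSingleton_apply, smul_eq_mul, mul_assoc]
      exact hl
    have hkill := hh2N _ hmemN
    have hc1 : algebraMap A S (h2 * ((h1 * h2) ^ l * c)) = 0 := by rw [hkill, map_zero]
    rw [map_mul, map_mul, map_pow] at hc1
    have hu1 := hunit h2 (Dvd.intro_left h1 rfl)
    have hu2 : IsUnit (algebraMap A S (h1 * h2) ^ l) :=
      (IsLocalization.Away.algebraMap_isUnit (h1 * h2)).pow l
    have hc2 : algebraMap A S c = 0 := by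
      have := (hu1.mul_right_eq_zero).mp hc1
      exact (hu2.mul_right_eq_zero).mp this
    rw [IsLocalization.mk'_eq_zero_iff]
    exact (IsLocalization.map_eq_zero_iff (Submonoid.powers (h1 * h2)) S c).mp hc2

/-- The reduced ideal sheaf of the complement of a dense affine open (all of whose intersections
with affine opens are affine) is locally generated by one nonzerodivisor, provided the local rings
outside `U` are factorial. -/
theorem exists_principal_nhd (X : Scheme.{u}) [IsNoetherian X] (U : X.Opens)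
    (hΔ : ∀ V : X.Opens, IsAffineOpen V → IsAffineOpen (U ⊓ V))
    (hdense : Dense (U : Set X))
    (hufd : ∀ x : X, x ∉ U →
      IsDomain (X.presheaf.stalk x) ∧ UniqueFactorizationMonoid (X.presheaf.stalk x))
    (Z : Closeds X) (hZ : (Z : Set X) = (U : Set X)ᶜ) (x : X) :
    ∃ V : X.affineOpens, x ∈ V.1 ∧ ∃ f : Γ(X, V.1), f ∈ nonZeroDivisors Γ(X, V.1) ∧
      (Scheme.IdealSheafData.vanishingIdeal Z).ideal V = Ideal.span {f} := by
  have hmemZ : ∀ y : X, y ∈ (Z : Set X) ↔ y ∉ U := by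
    intro y
    rw [hZ]
    rfl
  by_cases hx : x ∈ U
  · obtain ⟨_, ⟨(V : X.Opens), hV, rfl⟩, hxV, hVU⟩ :=
      X.isBasis_affineOpens.exists_subset_of_mem_open hx U.2
    refine ⟨⟨V, hV⟩, hxV, 1, one_mem _, ?_⟩
    rw [Scheme.IdealSheafData.vanishingIdeal_ideal, Ideal.span_singleton_one]
    have : (hV.fromSpec ⁻¹' (Z : Set X)) = ∅ := by
      ext q
      simp only [Set.mem_preimage, Set.mem_empty_iff_false, iff_false]
      intro hq
      have h1 : hV.fromSpec q ∈ (V : Set X) := by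
        rw [← hV.range_fromSpec]
        exact ⟨q, rfl⟩
      exact (hmemZ _).mp hq (hVU h1)
    exact (congrArg PrimeSpectrum.vanishingIdeal this).trans PrimeSpectrum.vanishingIdeal_empty
  · obtain ⟨_, ⟨(V : X.Opens), hV, rfl⟩, hxV, -⟩ :=
      X.isBasis_affineOpens.exists_subset_of_mem_open (Set.mem_univ x) isOpen_univ
    obtain ⟨hdom, hu⟩ := hufd x hx
    haveI := hdom
    haveI := hu
    letI := X.presheaf.algebra_section_stalk (⟨x, hxV⟩ : V)
    haveI := hV.isLocalization_stalk ⟨x, hxV⟩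
    haveI : IsNoetherianRing Γ(X, V) := IsLocallyNoetherian.component_noetherian ⟨V, hV⟩
    set YA : Set (PrimeSpectrum Γ(X, V)) := hV.fromSpec ⁻¹' (Z : Set X) with hYA
    have hYAclosed : IsClosed YA := Z.isClosed.preimage hV.fromSpec.continuous
    set J : Ideal Γ(X, V) := PrimeSpectrum.vanishingIdeal YA with hJ
    have hJrad : J.IsRadical := PrimeSpectrum.isRadical_vanishingIdeal _
    have hUA : IsAffineOpen (hV.fromSpec ⁻¹ᵁ U) := by
      rw [← hV.fromSpec.isAffineOpen_iff_of_isOpenImmersion,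
        hV.fromSpec.image_preimage_eq_opensRange_inf, hV.opensRange_fromSpec, inf_comm]
      exact hΔ V hV
    have hYAmem : ∀ q : PrimeSpectrum Γ(X, V), q ∈ YA ↔ q ∉ hV.fromSpec ⁻¹ᵁ U := by
      intro q
      exact hmemZ _
    have hzl : ∀ q : PrimeSpectrum Γ(X, V), J ≤ q.asIdeal ↔ q ∈ YA := by
      intro q
      change (J : Set Γ(X, V)) ⊆ q.asIdeal ↔ _
      rw [← PrimeSpectrum.mem_zeroLocus, hJ, PrimeSpectrum.zeroLocus_vanishingIdeal_eq_closure,
        hYAclosed.closure_eq]
    have hht : ∀ 𝔮 ∈ J.minimalPrimes, 𝔮.height = 1 := by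
      intro 𝔮 h𝔮
      haveI h𝔮p : 𝔮.IsPrime := h𝔮.1.1
      let q : PrimeSpectrum Γ(X, V) := ⟨𝔮, h𝔮p⟩
      have hqYA : q ∈ YA := (hzl q).mp h𝔮.1.2
      have hle : 𝔮.height ≤ 1 := by
        refine Groth.Agent.S5161.result Γ(X, V) (hV.fromSpec ⁻¹ᵁ U) hUA q
          ((hYAmem q).mp hqYA) ?_
        intro q'' hq''le hq''U
        have h1 : J ≤ q''.asIdeal := (hzl q'').mpr ((hYAmem q'').mpr hq''U)
        exact PrimeSpectrum.ext (le_antisymm hq''le (h𝔮.2 ⟨q''.isPrime, h1⟩ hq''le))
      have hne : 𝔮.height ≠ 0 := by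
        intro h0
        have hmin : 𝔮 ∈ minimalPrimes Γ(X, V) := Ideal.height_eq_zero_iff.mp h0
        have hdr : DenseRange U.ι := by
          rw [DenseRange, Scheme.Opens.range_ι]
          exact hdense
        obtain ⟨z, hz⟩ := Dominant.exists_specializes_of_denseRange U.ι hdr (hV.fromSpec q)
        have hξV : hV.fromSpec q ∈ (V : Set X) := by
          rw [← hV.range_fromSpec]
          exact ⟨q, rfl⟩
        have hzV : U.ι z ∈ (V : Set X) := hz.mem_open V.2 hξV
        rw [← hV.range_fromSpec] at hzV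
        obtain ⟨qz, hqz⟩ := hzV
        rw [← hqz] at hz
        have hsp : qz ⤳ q := hV.fromSpec.isOpenEmbedding.isInducing.specializes_iff.mp hz
        have hle' : qz.asIdeal ≤ 𝔮 := (PrimeSpectrum.le_iff_specializes qz q).mpr hsp
        have heq : qz = q :=
          PrimeSpectrum.ext (le_antisymm hle' (hmin.2 ⟨qz.isPrime, bot_le⟩ hle'))
        have : hV.fromSpec q ∈ U := by
          rw [← heq, hqz]
          exact z.2
        exact (hYAmem q).mp hqYA this
      exact le_antisymm hle (ENat.one_le_iff_ne_zero.mpr hne)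
    obtain ⟨h, a, hhp, hS⟩ := exists_away_principal
      (hV.primeIdealOf ⟨x, hxV⟩).asIdeal (X.presheaf.stalk x) J hJrad hht
    haveI := hV.isLocalization_basicOpen h
    obtain ⟨h1, h2⟩ := hS Γ(X, X.basicOpen h)
    refine ⟨X.affineBasicOpen (U := ⟨V, hV⟩) h, ?_, algebraMap Γ(X, V) Γ(X, X.basicOpen h) a, h2, ?_⟩
    · change x ∈ X.basicOpen h
      rw [Scheme.mem_basicOpen _ h x hxV]
      by_contra hnu
      exact hhp ((LocalIso.mem_primeIdealOf_iff hV x hxV h).mpr hnu)
    · have h3 := (Scheme.IdealSheafData.vanishingIdeal Z).map_ideal_basicOpen ⟨V, hV⟩ h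
      rw [Scheme.IdealSheafData.vanishingIdeal_ideal] at h3
      exact h3.symm.trans h1

end Groth.Agent.Lib.Helper13.CartierCompl
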