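import Mathlib
import Groth.Agent.Lib.Helper13.LocalIso2

/-!
# A finitely presented ring map inducing an isomorphism on local rings is locally a localization
-/

universe u

open CategoryTheory CategoryTheory.Limits AlgebraicGeometry TopologicalSpace

namespace Groth.Agent.Lib.Helper13.LocalIsoFP

set_option maxHeartbeats 800000 in
/-- Key algebra lemma, finitely presented version (no injectivity of `A → A_p` needed). -/
theorem exists_isLocalization_away {A B : Type u} [CommRing A] [CommRing B] (φ : A →+* B)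
    (hφ : φ.FinitePresentation) (q : Ideal B) [q.IsPrime] (Ap Bq : Type u) [CommRing Ap] [CommRing Bq]
    [Algebra A Ap] [Algebra B Bq] [IsLocalization.AtPrime Ap (q.comap φ)]
    [IsLocalization.AtPrime Bq q] (ψ : Ap →+* Bq)
    (hψφ : ψ.comp (algebraMap A Ap) = (algebraMap B Bq).comp φ)
    (hψ : Function.Bijective ψ) :
    ∃ (u : B) (a : A), u ∉ q ∧ a ∉ q.comap φ ∧
      ∀ (Bu : Type u) [CommRing Bu] [Algebra B Bu] [IsLocalization.Away u Bu],
      (letI := ((algebraMap B Bu).comp φ).toAlgebra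
       IsLocalization.Away a Bu) := by
  classical
  letI := φ.toAlgebra
  have hfp : Algebra.FinitePresentation A B := hφ
  have hft : Algebra.FiniteType A B := inferInstance
  obtain ⟨s, hs⟩ := hft.out
  have hcomm : ∀ c : A, ψ (algebraMap A Ap c) = algebraMap B Bq (φ c) := fun c =>
    congrArg (fun ξ : A →+* Bq => ξ c) hψφ
  -- Step 1: each generator is a fraction
  have h1 : ∀ b : B, ∃ (t : A) (c : A) (v : B), t ∉ q.comap φ ∧ v ∉ q ∧
      v * (φ t * b) = v * φ c := by
    intro b
    obtain ⟨y, hy⟩ := hψ.2 (algebraMap B Bq b)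
    obtain ⟨⟨c, t⟩, hct⟩ := IsLocalization.surj (q.comap φ).primeCompl y
    -- y * t = c
    have h2 : algebraMap B Bq (φ t * b) = algebraMap B Bq (φ c) := by
      rw [map_mul, ← hcomm, ← hcomm, ← hy, ← map_mul, mul_comm]
      exact congrArg ψ hct
    obtain ⟨v, hv⟩ := (IsLocalization.eq_iff_exists q.primeCompl Bq).mp h2
    exact ⟨t, c, v, t.2, v.2, hv⟩
  choose tf cf vf htf hvf hcv using h1
  -- Step 2: common denominators
  obtain ⟨t, ht⟩ : ∃ t : A, t = ∏ b ∈ s, tf b := ⟨_, rfl⟩
  obtain ⟨v, hv⟩ : ∃ v : B, v = ∏ b ∈ s, vf b := ⟨_, rfl⟩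
  have htp : t ∉ q.comap φ := by
    rw [ht]
    intro hmem
    obtain ⟨b, -, hb⟩ := (Ideal.IsPrime.prod_mem_iff).mp hmem
    exact htf b hb
  have hvq : v ∉ q := by
    rw [hv]
    intro hmem
    obtain ⟨b, -, hb⟩ := (Ideal.IsPrime.prod_mem_iff).mp hmem
    exact hvf b hb
  have hgen : ∀ b ∈ s, ∃ c : A, v * (φ t * b) = v * φ c := by
    intro b hb
    refine ⟨cf b * ∏ b' ∈ s.erase b, tf b', ?_⟩
    have e1 : t = tf b * ∏ b' ∈ s.erase b, tf b' := by rw [ht, Finset.mul_prod_erase s tf hb]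
    have e2 : v = vf b * ∏ b' ∈ s.erase b, vf b' := by rw [hv, Finset.mul_prod_erase s vf hb]
    rw [e1, e2, map_mul, map_mul]
    have := hcv b
    linear_combination (φ (∏ b' ∈ s.erase b, tf b') * ∏ b' ∈ s.erase b, vf b') * this
  -- Step 3: every element is a fraction with denominator a power of `t`
  have hall : ∀ x : B, ∃ (n : ℕ) (c : A), v * (φ t ^ n * x) = v * φ c := by
    intro x
    have hx : x ∈ Algebra.adjoin A (s : Set B) := by rw [hs]; trivial
    induction hx using Algebra.adjoin_induction with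
    | mem b hb =>
      obtain ⟨c, hc⟩ := hgen b hb
      exact ⟨1, c, by rw [pow_one]; exact hc⟩
    | algebraMap r => exact ⟨0, r, by rw [pow_zero, one_mul]; rfl⟩
    | add x y _ _ hx hy =>
      obtain ⟨n, c, hc⟩ := hx
      obtain ⟨n', c', hc'⟩ := hy
      refine ⟨n + n', t ^ n' * c + t ^ n * c', ?_⟩
      rw [map_add, map_mul, map_mul, map_pow, map_pow]
      linear_combination φ t ^ n' * hc + φ t ^ n * hc'
    | mul x y _ _ hx hy =>
      obtain ⟨n, c, hc⟩ := hx
      obtain ⟨n', c', hc'⟩ := hy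
      refine ⟨n + n', c * c', ?_⟩
      rw [map_mul]
      linear_combination (φ t ^ n' * y) * hc + φ c * hc'
  -- Step 4
  obtain ⟨n, c, hc⟩ := hall v
  have hφt : φ t ∉ q := htp
  have hu : φ t * v ∉ q := fun hmem => (Ideal.IsPrime.mem_or_mem ‹_› hmem).elim hφt hvq
  have hcp : c ∉ q.comap φ := by
    intro hmem
    have h2 : v * (φ t ^ n * v) ∈ q := by rw [hc]; exact q.mul_mem_left _ hmem
    rcases Ideal.IsPrime.mem_or_mem ‹_› h2 with h3 | h3
    · exact hvq h3
    · rcases Ideal.IsPrime.mem_or_mem ‹_› h3 with h4 | h4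
      · exact hφt (Ideal.IsPrime.mem_of_pow_mem ‹_› n h4)
      · exact hvq h4
  have hap : t * c ∉ q.comap φ := fun hmem =>
    (Ideal.IsPrime.mem_or_mem (Ideal.comap_isPrime φ q) hmem).elim htp hcp
  -- Step 5: facts in any ring where `φ t * v` becomes a unit
  have hfacts : ∀ (C : Type u) [CommRing C] (ι : B →+* C), IsUnit (ι (φ t * v)) →
      IsUnit (ι (φ t)) ∧ IsUnit (ι v) ∧ ι (φ c) = ι (φ t) ^ n * ι v ∧ IsUnit (ι (φ (t * c))) ∧
      ∀ x : B, ∃ (m : ℕ) (cx : A), ι (φ t) ^ m * ι x = ι (φ cx) := by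
    intro C _ ι huu
    rw [map_mul] at huu
    have hut : IsUnit (ι (φ t)) := isUnit_of_mul_isUnit_left huu
    have huv : IsUnit (ι v) := isUnit_of_mul_isUnit_right huu
    have hkey : ι (φ c) = ι (φ t) ^ n * ι v := by
      have h2 := congrArg ι hc
      rw [map_mul, map_mul, map_mul, map_pow] at h2
      exact (huv.mul_left_cancel h2).symm
    refine ⟨hut, huv, hkey, ?_, ?_⟩
    · rw [map_mul, map_mul, hkey]
      exact hut.mul ((hut.pow n).mul huv)
    · intro x
      obtain ⟨m, cx, hcx⟩ := hall x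
      refine ⟨m, cx, ?_⟩
      have h2 := congrArg ι hcx
      rw [map_mul, map_mul, map_mul, map_pow] at h2
      exact huv.mul_left_cancel h2
  -- Step 6: the uniform element `s`
  have hK : ∃ s : A, s ∉ q.comap φ ∧ ∀ z : A, (∃ k : ℕ, (φ t * v) ^ k * φ z = 0) →
      ∃ m : ℕ, (t * c) ^ m * (s * z) = 0 := by
    let A' := Localization.Away (t * c)
    let B' := Localization.Away (φ t * v)
    have huu : IsUnit (algebraMap B B' (φ t * v)) :=
      IsLocalization.Away.algebraMap_isUnit (φ t * v)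
    obtain ⟨-, -, hkey, hua, hall'⟩ := hfacts B' (algebraMap B B') huu
    have hua' : IsUnit (((algebraMap B B').comp φ) (t * c)) := hua
    let θ : A' →+* B' := IsLocalization.Away.lift (t * c) hua'
    have hθ : ∀ x : A, θ (algebraMap A A' x) = algebraMap B B' (φ x) := fun x =>
      IsLocalization.Away.lift_eq (t * c) hua' x
    have hAB' : ∀ x : A, algebraMap A B' x = algebraMap B B' (φ x) := fun x =>
      IsScalarTower.algebraMap_apply A B B' x
    have hcomm' : ∀ r : A, θ (algebraMap A A' r) = algebraMap A B' r := fun r => by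
      rw [hθ, hAB']
    let θa : A' →ₐ[A] B' := { θ with commutes' := hcomm' }
    have hθsurj : Function.Surjective θa := by
      intro z
      obtain ⟨⟨x, ⟨_, k, rfl⟩⟩, hz⟩ := IsLocalization.surj (Submonoid.powers (φ t * v)) z
      obtain ⟨m, cx, hcx⟩ := hall' x
      have hut : IsUnit (algebraMap B B' (φ t)) := by
        have := huu; rw [map_mul] at this; exact isUnit_of_mul_isUnit_left this
      have huv : IsUnit (algebraMap B B' v) := by
        have := huu; rw [map_mul] at this; exact isUnit_of_mul_isUnit_right this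
      have hunitA : IsUnit (algebraMap A A' (t * c)) := IsLocalization.Away.algebraMap_isUnit (t * c)
      obtain ⟨w, hw⟩ := hunitA
      refine ⟨algebraMap A A' (t ^ (n * k) * c ^ m * cx) * (↑(w⁻¹ ^ (k + m)) : A'), ?_⟩
      change θ _ = z
      have hwθ : θ (↑(w⁻¹ ^ (k + m)) : A') * algebraMap B B' (φ (t * c)) ^ (k + m) = 1 := by
        rw [← hθ, ← map_pow, ← map_mul, ← hw, ← Units.val_pow_eq_pow_val, ← Units.val_mul,
          ← mul_pow, inv_mul_cancel, one_pow, Units.val_one, map_one]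
      have hz' : z * (algebraMap B B' (φ t) * algebraMap B B' v) ^ k = algebraMap B B' x := by
        rw [← map_mul, ← map_pow]; exact hz
      have hunit2 : IsUnit (algebraMap B B' (φ (t * c)) ^ (k + m)) := hua.pow _
      apply hunit2.mul_right_cancel
      rw [map_mul, mul_assoc, hwθ, mul_one, hθ]
      simp only [map_mul, map_pow]
      rw [hkey, ← hcx, ← hz']
      ring
    haveI : Algebra.FinitePresentation A A' := IsLocalization.Away.finitePresentation (t * c)
    have hker : (RingHom.ker θa.toRingHom).FG :=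
      Algebra.FinitePresentation.ker_fG_of_surjective θa hθsurj
    obtain ⟨T, hT⟩ := hker
    have hmemker : ∀ κ : A', κ ∈ RingHom.ker θa.toRingHom ↔ θ κ = 0 := fun κ => Iff.rfl
    have hone : ∀ κ : A', θ κ = 0 → ∃ s : A, s ∉ q.comap φ ∧ algebraMap A A' s * κ = 0 := by
      intro κ hκ
      obtain ⟨⟨x, ⟨_, e, rfl⟩⟩, hx⟩ := IsLocalization.surj (Submonoid.powers (t * c)) κ
      have h1 : algebraMap B B' (φ x) = 0 := by
        rw [← hθ, ← hx, map_mul, hκ, zero_mul]
      obtain ⟨⟨_, k, rfl⟩, hk⟩ := (IsLocalization.map_eq_zero_iff (Submonoid.powers (φ t * v)) B' _).mp h1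
      have h2 : algebraMap B Bq (φ x) = 0 := by
        have h3 := congrArg (algebraMap B Bq) hk
        rw [map_mul, map_zero] at h3
        have hunit : IsUnit (algebraMap B Bq ((φ t * v) ^ k)) :=
          IsLocalization.map_units Bq (⟨(φ t * v) ^ k, q.primeCompl.pow_mem hu k⟩ : q.primeCompl)
        exact (hunit.mul_right_eq_zero).mp h3
      have h4 : algebraMap A Ap x = 0 := by
        apply hψ.1
        rw [hcomm, h2, map_zero]
      obtain ⟨⟨s, hs⟩, hsx⟩ := (IsLocalization.map_eq_zero_iff (q.comap φ).primeCompl Ap _).mp h4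
      refine ⟨s, hs, ?_⟩
      have hunitA : IsUnit (algebraMap A A' ((t * c) ^ e)) := by
        rw [map_pow]; exact (IsLocalization.Away.algebraMap_isUnit (t * c)).pow e
      apply hunitA.mul_left_cancel
      rw [mul_zero, mul_comm, mul_assoc]
      change algebraMap A A' s * (κ * algebraMap A A' ((t * c) ^ e)) = 0
      rw [hx, ← map_mul]
      change algebraMap A A' (s * x) = 0
      rw [hsx, map_zero]
    choose! sf hsf1 hsf2 using hone
    refine ⟨∏ κ ∈ T, sf κ, ?_, ?_⟩
    · intro hmem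
      obtain ⟨κ, hκT, hκ⟩ := (Ideal.IsPrime.prod_mem_iff).mp hmem
      have : κ ∈ RingHom.ker θa.toRingHom := by rw [← hT]; exact Ideal.subset_span hκT
      exact hsf1 κ ((hmemker κ).mp this) hκ
    · rintro z ⟨k, hk⟩
      have h1 : algebraMap B B' (φ z) = 0 :=
        (IsLocalization.map_eq_zero_iff (Submonoid.powers (φ t * v)) B' _).mpr
          ⟨⟨_, k, rfl⟩, hk⟩
      have h2 : algebraMap A A' z ∈ RingHom.ker θa.toRingHom := by
        rw [hmemker, hθ, h1]
      have h3 : ∀ κ ∈ RingHom.ker θa.toRingHom, algebraMap A A' (∏ κ ∈ T, sf κ) * κ = 0 := by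
        intro κ hκ
        rw [← hT] at hκ
        induction hκ using Submodule.span_induction with
        | mem κ hκT =>
          have hκ0 : θ κ = 0 := by
            rw [← hmemker, ← hT]; exact Ideal.subset_span hκT
          rw [← Finset.mul_prod_erase T sf hκT, map_mul, mul_right_comm, hsf2 κ hκ0, zero_mul]
        | zero => rw [mul_zero]
        | add x y _ _ hx hy => rw [mul_add, hx, hy, add_zero]
        | smul r x _ hx => rw [smul_eq_mul, mul_left_comm, hx, mul_zero]
      have h4 := h3 _ h2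
      rw [← map_mul] at h4
      obtain ⟨⟨_, m, rfl⟩, hm⟩ := (IsLocalization.map_eq_zero_iff (Submonoid.powers (t * c)) A' _).mp h4
      exact ⟨m, hm⟩
  obtain ⟨s, hsp, hsK⟩ := hK
  have hφs : φ s ∉ q := hsp
  have hu' : φ t * v * φ s ∉ q := fun hmem => (Ideal.IsPrime.mem_or_mem ‹_› hmem).elim hu hφs
  have hap' : t * c * s ∉ q.comap φ := fun hmem =>
    (Ideal.IsPrime.mem_or_mem (Ideal.comap_isPrime φ q) hmem).elim hap hsp
  refine ⟨φ t * v * φ s, t * c * s, hu', hap', ?_⟩
  intro Bu _ _ _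
  letI : Algebra A Bu := ((algebraMap B Bu).comp φ).toAlgebra
  have halg : ∀ r : A, algebraMap A Bu r = algebraMap B Bu (φ r) := fun r => rfl
  obtain ⟨ι, hι⟩ : ∃ ι : B →+* Bu, ι = algebraMap B Bu := ⟨_, rfl⟩
  have huus : IsUnit (ι (φ t * v * φ s)) := by
    rw [hι]; exact IsLocalization.Away.algebraMap_isUnit (φ t * v * φ s)
  rw [map_mul] at huus
  have huu : IsUnit (ι (φ t * v)) := isUnit_of_mul_isUnit_left huus
  have hus : IsUnit (ι (φ s)) := isUnit_of_mul_isUnit_right huus
  obtain ⟨hut, huv, hkey, hua, hall'⟩ := hfacts Bu ι huu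
  rw [IsLocalization.Away, isLocalization_iff]
  refine ⟨?_, ?_, ?_⟩
  · rintro ⟨_, k, rfl⟩
    rw [halg, ← hι, map_pow, map_pow, map_mul, map_mul]
    exact (hua.mul hus).pow k
  · intro z
    obtain ⟨⟨x, ⟨_, k, rfl⟩⟩, hz⟩ := IsLocalization.surj (Submonoid.powers (φ t * v * φ s)) z
    obtain ⟨m, cx, hcx⟩ := hall' x
    refine ⟨⟨t ^ (n * k) * c ^ m * cx * s ^ m, ⟨(t * c * s) ^ (k + m), k + m, rfl⟩⟩, ?_⟩
    change z * algebraMap A _ ((t * c * s) ^ (k + m)) =
      algebraMap A _ (t ^ (n * k) * c ^ m * cx * s ^ m)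
    rw [halg, halg, ← hι]
    have hz' : z * (ι (φ t) * ι v * ι (φ s)) ^ k = ι x := by
      rw [← map_mul, ← map_mul, ← map_pow, hι]; exact hz
    simp only [map_mul, map_pow]
    rw [hkey, ← hcx, ← hz']
    ring
  · intro x y hxy
    rw [halg, halg] at hxy
    obtain ⟨⟨_, k, rfl⟩, hk⟩ :=
      (IsLocalization.eq_iff_exists (Submonoid.powers (φ t * v * φ s)) _).mp hxy
    have h1 : (φ t * v) ^ k * φ (s ^ k * (x - y)) = 0 := by
      rw [map_mul, map_sub, map_pow]
      have : (φ t * v * φ s) ^ k * φ x - (φ t * v * φ s) ^ k * φ y = 0 := by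
        rw [sub_eq_zero]; exact hk
      rw [← this]; ring
    obtain ⟨m, hm⟩ := hsK _ ⟨k, h1⟩
    refine ⟨⟨(t * c * s) ^ (m + k + 1), m + k + 1, rfl⟩, ?_⟩
    change (t * c * s) ^ (m + k + 1) * x = (t * c * s) ^ (m + k + 1) * y
    rw [← sub_eq_zero, ← mul_sub]
    have : (t * c * s) ^ (m + k + 1) * (x - y) =
        ((t * c) ^ m * (s * (s ^ k * (x - y)))) * ((t * c) ^ (k + 1) * s ^ m) := by ring
    rw [this, hm, zero_mul]

theorem exists_isOpenImmersion_of_isIso_stalkMap {X S : Scheme.{u}} (f : X ⟶ S)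
    [LocallyOfFinitePresentation f] (x : X)
    (hx : IsIso (f.stalkMap x)) :
    ∃ U : X.Opens, x ∈ U ∧ IsOpenImmersion (U.ι ≫ f) := by
  obtain ⟨_, ⟨V : S.Opens, hV, rfl⟩, hsV, -⟩ :=
    S.isBasis_affineOpens.exists_subset_of_mem_open (Set.mem_univ (f.base x)) isOpen_univ
  obtain ⟨W, hW, hxW, hWV⟩ := exists_isAffineOpen_mem_and_subset (x := x) (U := f ⁻¹ᵁ V) hsV
  have hft : (f.appLE V W hWV).hom.FinitePresentation := f.finitePresentation_appLE hV hW hWV
  letI algV := S.presheaf.algebra_section_stalk ⟨f.base x, hsV⟩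
  letI algW := X.presheaf.algebra_section_stalk ⟨x, hxW⟩
  haveI locW := hW.isLocalization_stalk ⟨x, hxW⟩
  have hcompat : (f.stalkMap x).hom.comp (algebraMap Γ(S, V) (S.presheaf.stalk (f.base x))) =
      (algebraMap Γ(X, W) (X.presheaf.stalk x)).comp (f.appLE V W hWV).hom := by
    ext a
    change (f.stalkMap x).hom ((S.presheaf.germ V (f.base x) hsV).hom a) =
      (X.presheaf.germ W x hxW).hom ((f.appLE V W hWV).hom a)
    rw [Scheme.Hom.appLE, CommRingCat.hom_comp, RingHom.comp_apply,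
      ← CommRingCat.comp_apply (X.presheaf.map _), X.presheaf.germ_res]
    exact Scheme.Hom.germ_stalkMap_apply f V x hsV a
  have hprime : (hV.primeIdealOf ⟨f.base x, hsV⟩).asIdeal =
      (hW.primeIdealOf ⟨x, hxW⟩).asIdeal.comap (f.appLE V W hWV).hom := by
    ext a
    rw [Ideal.mem_comap, LocalIso.mem_primeIdealOf_iff, LocalIso.mem_primeIdealOf_iff]
    have h1 : (X.presheaf.germ W x hxW) ((f.appLE V W hWV).hom a) =
        (f.stalkMap x).hom ((S.presheaf.germ V (f.base x) hsV).hom a) :=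
      (congrArg (fun ξ : Γ(S, V) →+* X.presheaf.stalk x => ξ a) hcompat).symm
    rw [h1]
    exact not_congr (isUnit_map_iff (f.stalkMap x).hom _).symm
  haveI locV : IsLocalization.AtPrime (S.presheaf.stalk (f.base x))
      ((hW.primeIdealOf ⟨x, hxW⟩).asIdeal.comap (f.appLE V W hWV).hom) :=
    by
      have key : ∀ (P : Ideal Γ(S, V)) [P.IsPrime] (P' : Ideal Γ(S, V)) [P'.IsPrime], P = P' →
          IsLocalization.AtPrime (S.presheaf.stalk (f.base x)) P →
          IsLocalization.AtPrime (S.presheaf.stalk (f.base x)) P' := by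
        intro P _ P' _ h
        subst h
        exact id
      exact key _ _ hprime (hV.isLocalization_stalk ⟨f.base x, hsV⟩)
  obtain ⟨u, a, hu, ha, hloc⟩ := exists_isLocalization_away (f.appLE V W hWV).hom hft
    (hW.primeIdealOf ⟨x, hxW⟩).asIdeal (S.presheaf.stalk (f.base x)) (X.presheaf.stalk x)
    (f.stalkMap x).hom hcompat (ConcreteCategory.bijective_of_isIso (f.stalkMap x))
  have hxU : x ∈ X.basicOpen u := by
    rw [Scheme.mem_basicOpen _ _ _ hxW]
    exact not_not.mp ((LocalIso.mem_primeIdealOf_iff hW x hxW u).not.mp hu)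
  have hU : IsAffineOpen (X.basicOpen u) := hW.basicOpen u
  have hUV : X.basicOpen u ≤ f ⁻¹ᵁ V := (X.basicOpen_le u).trans hWV
  haveI := hW.isLocalization_basicOpen u
  have hloc' := hloc Γ(X, X.basicOpen u)
  refine ⟨X.basicOpen u, hxU, ?_⟩
  have e1 : (X.basicOpen u).ι ≫ f =
      hU.isoSpec.hom ≫ Spec.map (f.appLE V (X.basicOpen u) hUV) ≫ hV.fromSpec := by
    rw [IsAffineOpen.SpecMap_appLE_fromSpec f hV hU hUV, ← Category.assoc,
      hU.isoSpec_hom_fromSpec]
  have e2 : f.appLE V (X.basicOpen u) hUV = CommRingCat.ofHom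
      ((algebraMap Γ(X, W) Γ(X, X.basicOpen u)).comp (f.appLE V W hWV).hom) := by
    rw [← Scheme.Hom.appLE_map f hWV (homOfLE (X.basicOpen_le u)).op]
    rfl
  haveI : IsOpenImmersion (Spec.map (f.appLE V (X.basicOpen u) hUV)) := by
    rw [e2]
    letI : Algebra Γ(S, V) Γ(X, X.basicOpen u) :=
      ((algebraMap Γ(X, W) Γ(X, X.basicOpen u)).comp (f.appLE V W hWV).hom).toAlgebra
    exact IsOpenImmersion.of_isLocalization a
  rw [e1]
  infer_instance


end Groth.Agent.Lib.Helper13.LocalIsoFP
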