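import Mathlib

/-!
# Gluing local extensions of a morphism defined on a dense open

`exists_glue`: let `X` be a reduced `S`-scheme, `Y` a separated `S`-scheme, `g : U ⟶ Y` an
`S`-morphism on a dense open `U` of `X`.  If every point of `X` has an open neighbourhood `V` with
an `S`-morphism `V ⟶ Y` agreeing with `g` on `U ∩ V`, then `g` extends to an `S`-morphism `X ⟶ Y`.
-/

universe u

open CategoryTheory CategoryTheory.Limits AlgebraicGeometry TopologicalSpace

namespace Groth.Agent.Lib.Helper13.GlueExt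

/-- the preimage of a dense open under an open immersion, as a pullback projection, is dominant -/
theorem isDominant_pullback_snd {X P : Scheme.{u}} (U : X.Opens) (hU : Dense (U : Set X))
    (j : P ⟶ X) [IsOpenImmersion j] : IsDominant (pullback.snd U.ι j) := by
  constructor
  rw [DenseRange, IsOpenImmersion.range_pullbackSnd]
  have h1 : ((j ⁻¹ᵁ U.ι.opensRange : P.Opens) : Set P) = j.base ⁻¹' (U : Set X) := by
    rw [Scheme.Opens.opensRange_ι]
    rfl
  rw [h1]
  exact hU.preimage j.isOpenEmbedding.isOpenMap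

theorem exists_glue {X Y S : Scheme.{u}} [IsReduced X] (p : X ⟶ S) (q : Y ⟶ S) [IsSeparated q]
    (U : X.Opens) (hU : Dense (U : Set X)) (g : (U : Scheme.{u}) ⟶ Y) (hg : g ≫ q = U.ι ≫ p)
    (H : ∀ x : X, ∃ (V : X.Opens) (gV : (V : Scheme.{u}) ⟶ Y), x ∈ V ∧ gV ≫ q = V.ι ≫ p ∧
      pullback.fst U.ι V.ι ≫ g = pullback.snd U.ι V.ι ≫ gV) :
    ∃ g' : X ⟶ Y, g' ≫ q = p ∧ U.ι ≫ g' = g := by
  classical
  choose V gV hxV hgV hagree using H
  -- the family indexed by `Option X`
  let W : Option X → X.Opens := fun i => match i with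
    | none => U
    | some x => V x
  let gW : ∀ i : Option X, ((W i : X.Opens) : Scheme.{u}) ⟶ Y := fun i => match i with
    | none => g
    | some x => gV x
  have ha : ∀ i, gW i ≫ q = (W i).ι ≫ p := by
    rintro (_ | x)
    · exact hg
    · exact hgV x
  have hb : ∀ i, pullback.fst U.ι (W i).ι ≫ g = pullback.snd U.ι (W i).ι ≫ gW i := by
    rintro (_ | x)
    · change pullback.fst U.ι U.ι ≫ g = pullback.snd U.ι U.ι ≫ g
      rw [fst_eq_snd_of_mono_eq]
    · exact hagree x
  have hb' : ∀ i (T : Scheme.{u}) (a : T ⟶ (U : Scheme.{u})) (b : T ⟶ ((W i : X.Opens) : Scheme.{u})),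
      a ≫ U.ι = b ≫ (W i).ι → a ≫ g = b ≫ gW i := by
    intro i T a b hab
    have h1 := congrArg (fun ξ => pullback.lift a b hab ≫ ξ) (hb i)
    simpa only [pullback.lift_fst_assoc, pullback.lift_snd_assoc] using h1
  have hW : IsOpenCover W := by
    rw [IsOpenCover, eq_top_iff]
    intro x _
    rw [Opens.mem_iSup]
    exact ⟨some x, hxV x⟩
  let 𝒰 : X.OpenCover := X.openCoverOfIsOpenCover W hW
  have hcompat : ∀ i j : Option X, pullback.fst (𝒰.f i) (𝒰.f j) ≫ gW i =
      pullback.snd (𝒰.f i) (𝒰.f j) ≫ gW j := by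
    intro i j
    change pullback.fst (W i).ι (W j).ι ≫ gW i = pullback.snd (W i).ι (W j).ι ≫ gW j
    obtain ⟨jP, hjP⟩ : ∃ jP : pullback (W i).ι (W j).ι ⟶ X,
        jP = pullback.fst (W i).ι (W j).ι ≫ (W i).ι := ⟨_, rfl⟩
    have hjP' : jP = pullback.snd (W i).ι (W j).ι ≫ (W j).ι := hjP.trans pullback.condition
    haveI : IsOpenImmersion jP := hjP ▸ inferInstance
    haveI : IsReduced (pullback (W i).ι (W j).ι) := isReduced_of_isOpenImmersion jP
    haveI := isDominant_pullback_snd U hU jP
    refine ext_of_isDominant_of_isSeparated q ?_ (pullback.snd U.ι jP) ?_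
    · rw [Category.assoc, Category.assoc, ha i, ha j, ← Category.assoc, ← Category.assoc,
        ← hjP, ← hjP']
    · have h1 := hb' i _ (pullback.fst U.ι jP)
        (pullback.snd U.ι jP ≫ pullback.fst (W i).ι (W j).ι) (by
          rw [pullback.condition, Category.assoc, ← hjP])
      have h2 := hb' j _ (pullback.fst U.ι jP)
        (pullback.snd U.ι jP ≫ pullback.snd (W i).ι (W j).ι) (by
          rw [pullback.condition, Category.assoc, ← hjP'])
      rw [← Category.assoc, ← Category.assoc, ← h1, ← h2]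
  refine ⟨𝒰.glueMorphisms gW hcompat, ?_, ?_⟩
  · apply 𝒰.hom_ext
    intro i
    rw [Scheme.Cover.ι_glueMorphisms_assoc]
    exact ha i
  · exact 𝒰.ι_glueMorphisms gW hcompat none

end Groth.Agent.Lib.Helper13.GlueExt
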