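import Mathlib
import Groth.Agent.Lib.Helper13.GlueExt

/-!
# Gluing sections over an open cover of an open subscheme

`exists_glue_cover`: `Y` reduced, `f : X ⟶ Y` separated, `s` a section of `f` over a dense open
`V`.  Given an open subscheme `j : T ⟶ Y` with an open cover `𝒰` and morphisms `g i : 𝒰.X i ⟶ X`
over `Y`, each agreeing with `s` on the intersection with `V`, the `g i` glue to `T ⟶ X`.
-/

universe u

open CategoryTheory CategoryTheory.Limits AlgebraicGeometry TopologicalSpace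

namespace Groth.Agent.Lib.Helper13.GlueExt

theorem exists_glue_cover {T X Y : Scheme.{u}} [IsReduced Y] (j : T ⟶ Y) [IsOpenImmersion j]
    (f : X ⟶ Y) [IsSeparated f] (V : Y.Opens) (hV : Dense (V : Set Y))
    (s : (V : Scheme.{u}) ⟶ X) (𝒰 : T.OpenCover) (g : ∀ i, 𝒰.X i ⟶ X)
    (hg : ∀ i, g i ≫ f = 𝒰.f i ≫ j)
    (hagree : ∀ i, pullback.fst V.ι (𝒰.f i ≫ j) ≫ s = pullback.snd V.ι (𝒰.f i ≫ j) ≫ g i) :
    ∃ g' : T ⟶ X, g' ≫ f = j ∧ ∀ i, 𝒰.f i ≫ g' = g i := by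
  have hb' : ∀ i (Z : Scheme.{u}) (a : Z ⟶ (V : Scheme.{u})) (b : Z ⟶ 𝒰.X i),
      a ≫ V.ι = b ≫ 𝒰.f i ≫ j → a ≫ s = b ≫ g i := by
    intro i Z a b hab
    have h1 := congrArg (fun ξ => pullback.lift a b hab ≫ ξ) (hagree i)
    simpa only [pullback.lift_fst_assoc, pullback.lift_snd_assoc] using h1
  have hcompat : ∀ i k, pullback.fst (𝒰.f i) (𝒰.f k) ≫ g i =
      pullback.snd (𝒰.f i) (𝒰.f k) ≫ g k := by
    intro i k
    obtain ⟨jP, hjP⟩ : ∃ jP : pullback (𝒰.f i) (𝒰.f k) ⟶ Y,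
        jP = pullback.fst (𝒰.f i) (𝒰.f k) ≫ 𝒰.f i ≫ j := ⟨_, rfl⟩
    have hjP' : jP = pullback.snd (𝒰.f i) (𝒰.f k) ≫ 𝒰.f k ≫ j := by
      rw [hjP, pullback.condition_assoc]
    haveI : IsOpenImmersion jP := hjP ▸ inferInstance
    haveI : IsReduced (pullback (𝒰.f i) (𝒰.f k)) := isReduced_of_isOpenImmersion jP
    haveI := isDominant_pullback_snd V hV jP
    refine ext_of_isDominant_of_isSeparated f ?_ (pullback.snd V.ι jP) ?_
    · rw [Category.assoc, Category.assoc, hg i, hg k, ← hjP, ← hjP']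
    · have h1 := hb' i _ (pullback.fst V.ι jP)
        (pullback.snd V.ι jP ≫ pullback.fst (𝒰.f i) (𝒰.f k)) (by
          rw [pullback.condition, Category.assoc, ← hjP])
      have h2 := hb' k _ (pullback.fst V.ι jP)
        (pullback.snd V.ι jP ≫ pullback.snd (𝒰.f i) (𝒰.f k)) (by
          rw [pullback.condition, Category.assoc, ← hjP'])
      rw [← Category.assoc, ← Category.assoc, ← h1, ← h2]
  refine ⟨𝒰.glueMorphisms g hcompat, ?_, fun i => 𝒰.ι_glueMorphisms g hcompat i⟩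
  apply 𝒰.hom_ext
  intro i
  rw [Scheme.Cover.ι_glueMorphisms_assoc]
  exact hg i

end Groth.Agent.Lib.Helper13.GlueExt
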