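import Mathlib

/-!
# Regular local rings of dimension at most one are valuation rings (and domains)
-/

open IsLocalRing

namespace Groth.Agent.Lib.Helper13.RegDimOne

theorem isDomain_and_valuationRing (O : Type*) [CommRing O] [IsRegularLocalRing O]
    (h : ringKrullDim O ≤ 1) : ∃ _ : IsDomain O, ValuationRing O := by
  have hspan : ((maximalIdeal O).spanFinrank : WithBot ℕ∞) = ringKrullDim O :=
    IsRegularLocalRing.spanFinrank_maximalIdeal
  have hfg : (maximalIdeal O).FG := IsNoetherian.noetherian _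
  have hle : (maximalIdeal O).spanFinrank ≤ 1 := by
    have : ((maximalIdeal O).spanFinrank : WithBot ℕ∞) ≤ 1 := hspan ▸ h
    exact_mod_cast this
  rcases Nat.le_one_iff_eq_zero_or_eq_one.mp hle with h0 | h1
  · -- field
    have hbot : maximalIdeal O = ⊥ := (Submodule.spanFinrank_eq_zero_iff_eq_bot hfg).mp h0
    have hF : IsField O := IsLocalRing.isField_iff_maximalIdeal_eq.mpr hbot
    letI := hF.toField
    exact ⟨inferInstance, inferInstance⟩
  · obtain ⟨hprin, hne⟩ := (Submodule.spanFinrank_eq_one_iff _).mp h1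
    obtain ⟨x, hx⟩ := hprin
    have hx' : maximalIdeal O = Ideal.span {x} := hx
    have hdim : ringKrullDim O = 1 := by rw [← hspan, h1]; rfl
    -- minimal prime
    obtain ⟨𝔭, h𝔭min, -⟩ := Ideal.exists_minimalPrimes_le (bot_le : (⊥ : Ideal O) ≤ maximalIdeal O)
    haveI h𝔭prime : 𝔭.IsPrime := h𝔭min.1.1
    have h𝔭ne : 𝔭 ≠ maximalIdeal O := by
      rintro rfl
      have h1 : (maximalIdeal O).height = 0 := Ideal.height_eq_zero_iff.mpr h𝔭min
      have h2 := IsLocalRing.maximalIdeal_height_eq_ringKrullDim (R := O)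
      rw [h1, hdim] at h2
      exact absurd h2 (by decide)
    have hxn : x ∉ 𝔭 := by
      intro hx𝔭
      apply h𝔭ne
      refine le_antisymm (IsLocalRing.le_maximalIdeal h𝔭prime.ne_top) ?_
      rw [hx', Ideal.span_singleton_le_iff_mem]
      exact hx𝔭
    have hle𝔭 : 𝔭 ≤ maximalIdeal O • 𝔭 := by
      intro a ha
      have ham : a ∈ maximalIdeal O := IsLocalRing.le_maximalIdeal h𝔭prime.ne_top ha
      rw [hx', Ideal.mem_span_singleton'] at ham
      obtain ⟨b, rfl⟩ := ham
      have hb : b ∈ 𝔭 := (h𝔭prime.mem_or_mem ha).resolve_right hxn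
      rw [mul_comm]
      exact Submodule.smul_mem_smul (by rw [hx']; exact Ideal.mem_span_singleton_self x) hb
    have h𝔭bot : 𝔭 = ⊥ :=
      Submodule.eq_bot_of_le_smul_of_le_jacobson_bot _ _ (IsNoetherian.noetherian 𝔭) hle𝔭
        (IsLocalRing.maximalIdeal_le_jacobson ⊥)
    haveI : (⊥ : Ideal O).IsPrime := h𝔭bot ▸ h𝔭prime
    haveI : IsDomain O := IsDomain.of_bot_isPrime O
    refine ⟨inferInstance, ?_⟩
    have hnf : ¬ IsField O := by
      intro hF
      exact hne (IsLocalRing.isField_iff_maximalIdeal_eq.mp hF)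
    have hP : (maximalIdeal O).IsPrincipal := ⟨⟨x, hx⟩⟩
    have htfae := (IsDiscreteValuationRing.TFAE O hnf).out 4 1
    exact htfae.mp hP

end Groth.Agent.Lib.Helper13.RegDimOne
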