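import Mathlib
import Groth.Agent.S4439
import Groth.Agent.Lib.Helper13.GlueExt2
import Groth.Agent.Lib.Helper13.RegDimOne

/-!
# Extending sections over points whose local ring is a valuation ring
-/

universe u

open CategoryTheory CategoryTheory.Limits AlgebraicGeometry TopologicalSpace

namespace Groth.Agent.Lib.Helper13.CodimOne

/-- base change of a closed map along a preimmersion is a closed map -/
theorem isClosedMap_pullback_snd {X Y T : Scheme.{u}} (f : X ⟶ Y) (j : T ⟶ Y)
    [IsPreimmersion j] (hcl : IsClosedMap f.base) : IsClosedMap (pullback.snd f j).base := by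
  intro Z hZ
  have hind : Topology.IsInducing (pullback.fst f j).base :=
    (pullback.fst f j).isEmbedding.isInducing
  have key : (pullback.snd f j).base '' Z =
      j.base ⁻¹' (f.base '' closure ((pullback.fst f j).base '' Z)) := by
    ext a
    constructor
    · rintro ⟨z, hz, rfl⟩
      refine ⟨(pullback.fst f j).base z, subset_closure ⟨z, hz, rfl⟩, ?_⟩
      rw [← Scheme.Hom.comp_apply, ← Scheme.Hom.comp_apply, pullback.condition]
    · rintro ⟨x, hx, hxa⟩
      obtain ⟨w, hw1, hw2⟩ := Scheme.Pullback.exists_preimage_pullback (f := f) (g := j) x a hxa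
      refine ⟨w, ?_, hw2⟩
      rw [← hZ.closure_eq, hind.closure_eq_preimage_closure_image]
      change (pullback.fst f j).base w ∈ closure ((pullback.fst f j).base '' Z)
      rw [hw1]
      exact hx
  rw [key]
  exact (hcl _ isClosed_closure).preimage j.base.hom.continuous

/-- the generic point of the local ring at `y` specializes to every point of an affine
neighbourhood with injective germ map -/
theorem specializes_of_germ_injective {Y : Scheme.{u}} (y : Y) [IsDomain (Y.presheaf.stalk y)]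
    (W : Y.Opens) (hW : IsAffineOpen W) (hyW : y ∈ W)
    (hinj : Function.Injective (Y.presheaf.germ W y hyW))
    (p : Spec (CommRingCat.of (FractionRing (Y.presheaf.stalk y)))) (v : Y) (hv : v ∈ W) :
    (Spec.map (CommRingCat.ofHom (algebraMap (Y.presheaf.stalk y)
      (FractionRing (Y.presheaf.stalk y)))) ≫ Y.fromSpecStalk y).base p ⤳ v := by
  rw [← hW.fromSpecStalk_eq_fromSpecStalk hyW, IsAffineOpen.fromSpecStalk, ← Category.assoc,
    ← Spec.map_comp, Scheme.Hom.comp_apply]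
  have hv' : v ∈ Set.range hW.fromSpec.base := by rw [hW.range_fromSpec]; exact hv
  obtain ⟨q', rfl⟩ := hv'
  refine Specializes.map ?_ hW.fromSpec.base.hom.continuous
  refine (PrimeSpectrum.le_iff_specializes _ _).mp ?_
  change Ideal.comap _ p.asIdeal ≤ q'.asIdeal
  have hp : p.asIdeal = ⊥ := Ideal.eq_bot_of_prime p.asIdeal
  rw [hp]
  intro a ha
  rw [Ideal.mem_comap, Ideal.mem_bot] at ha
  have ha' : algebraMap (Y.presheaf.stalk y) (FractionRing (Y.presheaf.stalk y))
      ((Y.presheaf.germ W y hyW).hom a) = 0 := ha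
  have h0 : (Y.presheaf.germ W y hyW).hom a = 0 :=
    (IsFractionRing.injective (Y.presheaf.stalk y) (FractionRing (Y.presheaf.stalk y)))
      (by rw [ha', map_zero])
  have : a = 0 := hinj (by rw [h0, map_zero])
  rw [this]
  exact q'.asIdeal.zero_mem

/-- a morphism into `P` hitting a point that specializes to every point of `P` is dominant -/
theorem isDominant_of_specializes {T P Y : Scheme.{u}} (ι : T ⟶ P) (j : P ⟶ Y) [IsOpenImmersion j]
    (t : T) (h : ∀ p : P, (ι ≫ j).base t ⤳ j.base p) : IsDominant ι := by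
  constructor
  rw [DenseRange, dense_iff_closure_eq, Set.eq_univ_iff_forall]
  intro p
  have h1 : ι.base t ⤳ p := by
    rw [← j.isOpenEmbedding.isInducing.specializes_iff]
    exact h p
  exact closure_mono (Set.singleton_subset_iff.mpr (Set.mem_range_self t))
    (specializes_iff_mem_closure.mp h1)

/-- `S4439` restated for an object of `CommRingCat` -/
theorem exists_section_cat (A : CommRingCat.{u}) [IsDomain A] [ValuationRing A] (X : Scheme.{u})
    (f : X ⟶ Spec A) [IsSeparated f] (hf : IsClosedMap f.base)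
    (x : Spec (CommRingCat.of (FractionRing A)) ⟶ X)
    (hx : x ≫ f = Spec.map (CommRingCat.ofHom (algebraMap A (FractionRing A)))) :
    ∃ s : Spec A ⟶ X, s ≫ f = 𝟙 _ ∧
      Spec.map (CommRingCat.ofHom (algebraMap A (FractionRing A))) ≫ s = x := by
  obtain ⟨s, ⟨h1, h2⟩, -⟩ := Groth.Agent.S4439.result A (FractionRing A) X f hf x hx
  exact ⟨s, h1, h2⟩

/-- local extension of a section at a point whose local ring is a valuation ring -/
theorem exists_local_extension {X Y : Scheme.{u}} [IsReduced Y]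
    (f : X ⟶ Y) [IsSeparated f] [LocallyOfFiniteType f] (hcl : IsClosedMap f.base)
    (V : Y.Opens) (hV : Dense (V : Set Y)) (s : (V : Scheme.{u}) ⟶ X) (hs : s ≫ f = V.ι)
    (y : Y) [Y.IsGermInjectiveAt y] [IsDomain (Y.presheaf.stalk y)]
    [ValuationRing (Y.presheaf.stalk y)] :
    ∃ (W : Y.Opens) (_ : y ∈ W) (g : (W : Scheme.{u}) ⟶ X), g ≫ f = W.ι ∧
      pullback.fst V.ι W.ι ≫ s = pullback.snd V.ι W.ι ≫ g := by
  obtain ⟨W₀, hyW₀, hW₀, hinj₀⟩ := Y.exists_germ_injective y
  -- the generic point of the local ring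
  obtain ⟨κ, hκ⟩ : ∃ κ : Spec (CommRingCat.of (FractionRing (Y.presheaf.stalk y))) ⟶
      Spec (Y.presheaf.stalk y), κ = Spec.map (CommRingCat.ofHom (algebraMap (Y.presheaf.stalk y)
      (FractionRing (Y.presheaf.stalk y)))) := ⟨_, rfl⟩
  have hψV : Set.range (κ ≫ Y.fromSpecStalk y).base ⊆ Set.range V.ι.base := by
    rintro _ ⟨p, rfl⟩
    rw [Scheme.Opens.range_ι]
    obtain ⟨v, hvW, hvV⟩ := hV.inter_open_nonempty W₀ W₀.isOpen ⟨y, hyW₀⟩
    have := specializes_of_germ_injective y W₀ hW₀ hyW₀ hinj₀ p v hvW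
    rw [← hκ] at this
    exact this.mem_open V.isOpen hvV
  obtain ⟨ℓ, hℓ⟩ : ∃ ℓ : Spec (CommRingCat.of (FractionRing (Y.presheaf.stalk y))) ⟶ (V : Scheme.{u}),
      ℓ ≫ V.ι = κ ≫ Y.fromSpecStalk y :=
    ⟨IsOpenImmersion.lift V.ι _ hψV, IsOpenImmersion.lift_fac _ _ _⟩
  -- the base change to the local ring
  have hcly : IsClosedMap (pullback.snd f (Y.fromSpecStalk y)).base :=
    isClosedMap_pullback_snd f (Y.fromSpecStalk y) hcl
  obtain ⟨σ, hσ1, hσ2⟩ := exists_section_cat (Y.presheaf.stalk y)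
    (pullback f (Y.fromSpecStalk y))
    (pullback.snd f (Y.fromSpecStalk y)) hcly
    (pullback.lift (ℓ ≫ s) κ (by rw [Category.assoc, hs, hℓ]))
    (by rw [pullback.lift_snd, hκ])
  rw [← hκ] at hσ2
  -- spread out
  have hφ : (σ ≫ pullback.fst f (Y.fromSpecStalk y)) ≫ f = Y.fromSpecStalk y ≫ 𝟙 Y := by
    rw [Category.assoc, pullback.condition, ← Category.assoc, hσ1, Category.id_comp,
      Category.comp_id]
  obtain ⟨U₀, hyU₀, s₀, hφs₀, hs₀⟩ := spread_out_of_isGermInjective' (sX := 𝟙 Y) (sY := f)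
    (σ ≫ pullback.fst f (Y.fromSpecStalk y)) hφ
  rw [Category.comp_id] at hs₀
  obtain ⟨W, hyW, hW, hWU₀, hinj⟩ := Y.exists_le_and_germ_injective y U₀ hyU₀
  have hgf : (Y.homOfLE hWU₀ ≫ s₀) ≫ f = W.ι := by
    rw [Category.assoc, hs₀, Scheme.homOfLE_ι]
  refine ⟨W, hyW, Y.homOfLE hWU₀ ≫ s₀, hgf, ?_⟩
  -- agreement on the intersection
  have hWU : W.fromSpecStalkOfMem y hyW ≫ Y.homOfLE hWU₀ = U₀.fromSpecStalkOfMem y hyU₀ := by
    rw [← cancel_mono U₀.ι, Category.assoc, Scheme.homOfLE_ι,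
      Scheme.Opens.fromSpecStalkOfMem_ι, Scheme.Opens.fromSpecStalkOfMem_ι]
  have hcond : ℓ ≫ V.ι = (κ ≫ W.fromSpecStalkOfMem y hyW) ≫ W.ι := by
    rw [hℓ, Category.assoc, Scheme.Opens.fromSpecStalkOfMem_ι]
  haveI : IsReduced (pullback V.ι W.ι) :=
    isReduced_of_isOpenImmersion (pullback.fst V.ι W.ι ≫ V.ι)
  haveI : IsDominant (pullback.lift ℓ (κ ≫ W.fromSpecStalkOfMem y hyW) hcond) := by
    refine isDominant_of_specializes _ (pullback.snd V.ι W.ι ≫ W.ι)
      (Classical.arbitrary _) ?_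
    intro p
    rw [← Category.assoc, pullback.lift_snd, Category.assoc, Scheme.Opens.fromSpecStalkOfMem_ι,
      hκ]
    refine specializes_of_germ_injective y W hW hyW hinj _ _ ?_
    rw [Scheme.Hom.comp_apply]
    exact (pullback.snd V.ι W.ι p).2
  refine ext_of_isDominant_of_isSeparated f ?_
    (pullback.lift ℓ (κ ≫ W.fromSpecStalkOfMem y hyW) hcond) ?_
  · rw [Category.assoc, hs, Category.assoc, hgf, pullback.condition]
  · rw [← Category.assoc, pullback.lift_fst, ← Category.assoc, pullback.lift_snd,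
      Category.assoc, ← Category.assoc (W.fromSpecStalkOfMem y hyW), hWU, ← hφs₀,
      ← Category.assoc, hσ2, pullback.lift_fst]

/-- extension of a section over all points of a set `S` at which the local ring is a valuation
ring -/
theorem exists_extension {X Y : Scheme.{u}} [IsLocallyNoetherian Y] [IsReduced Y]
    (f : X ⟶ Y) [IsSeparated f] [LocallyOfFiniteType f] (hcl : IsClosedMap f.base)
    (V : Y.Opens) (hV : Dense (V : Set Y)) (s : (V : Scheme.{u}) ⟶ X) (hs : s ≫ f = V.ι)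
    (S : Set Y) (hS : ∀ y ∈ S, ∃ _ : IsDomain (Y.presheaf.stalk y),
      ValuationRing (Y.presheaf.stalk y)) :
    ∃ (U : Y.Opens) (hVU : V ≤ U) (s' : (U : Scheme.{u}) ⟶ X), s' ≫ f = U.ι ∧
      Y.homOfLE hVU ≫ s' = s ∧ ∀ y ∈ S, y ∈ U := by
  let J : Type u := {P : Σ W : Y.Opens, ((W : Scheme.{u}) ⟶ X) // P.2 ≫ f = P.1.ι ∧
    pullback.fst V.ι P.1.ι ≫ s = pullback.snd V.ι P.1.ι ≫ P.2}
  let W : J → Y.Opens := fun P => P.1.1
  let i₀ : J := ⟨⟨V, s⟩, hs, by
    have : pullback.fst V.ι V.ι = pullback.snd V.ι V.ι := by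
      rw [← cancel_mono V.ι, pullback.condition]
    change pullback.fst V.ι V.ι ≫ s = pullback.snd V.ι V.ι ≫ s
    rw [this]⟩
  obtain ⟨g', hg'1, hg'2⟩ := GlueExt.exists_glue_cover (⨆ i, W i).ι f V hV s
    (Scheme.Opens.iSupOpenCover W) (fun P => P.1.2)
    (fun P => by
      change P.1.2 ≫ f = Y.homOfLE (le_iSup W P) ≫ (⨆ i, W i).ι
      rw [Scheme.homOfLE_ι]
      exact P.2.1)
    (fun P => by
      have h1 : (Scheme.Opens.iSupOpenCover W).f P ≫ (⨆ i, W i).ι = P.1.1.ι :=
        Scheme.homOfLE_ι Y (le_iSup W P)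
      have key : ∀ (j' : (P.1.1 : Scheme.{u}) ⟶ Y) (_ : j' = P.1.1.ι),
          pullback.fst V.ι j' ≫ s = pullback.snd V.ι j' ≫ P.1.2 := by
        intro j' h
        subst h
        exact P.2.2
      exact key _ h1)
  refine ⟨⨆ i, W i, le_iSup W i₀, g', hg'1, hg'2 i₀, ?_⟩
  intro y hy
  obtain ⟨_, _⟩ := hS y hy
  obtain ⟨Wy, hyW, g, hg1, hg2⟩ := exists_local_extension f hcl V hV s hs y
  exact TopologicalSpace.Opens.mem_iSup.mpr ⟨⟨⟨Wy, g⟩, hg1, hg2⟩, hyW⟩

end Groth.Agent.Lib.Helper13.CodimOne
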