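import Groth.Agent.Lib.Helper13.KrullAkizuki
set_option autoImplicit false
universe u

namespace Groth.Agent.Lib.Helper13.KA

section abs
variable (A F : Type u) [CommRing A] [IsDomain A] [IsNoetherianRing A] [Ring.KrullDimLE 1 A]
  [Field F] [Algebra A F] [IsFractionRing A F]

/-- the image of `A` in `F` -/
def rangeB : Subring F := (algebraMap A F).range

noncomputable def equivB : A ≃+* rangeB A F :=
  RingEquiv.ofBijective (algebraMap A F).rangeRestrict
    ⟨fun a b h => IsFractionRing.injective A F (congrArg Subtype.val h),
      (algebraMap A F).rangeRestrict_surjective⟩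

omit [IsDomain A] [IsNoetherianRing A] [Ring.KrullDimLE 1 A] in
theorem coe_equivB (a : A) : ((equivB A F a : rangeB A F) : F) = algebraMap A F a := rfl

omit [IsDomain A] [IsNoetherianRing A] [Ring.KrullDimLE 1 A] in
theorem algebraMap_equivB_symm (b : rangeB A F) : algebraMap A F ((equivB A F).symm b) = (b : F) := by
  rw [← coe_equivB, RingEquiv.apply_symm_apply]

instance : IsFractionRing (rangeB A F) F := by
  refine IsFractionRing.of_field (R := rangeB A F) (K := F) ?_
  intro z
  obtain ⟨p, q, hq, rfl⟩ := IsFractionRing.div_surjective (A := A) z
  exact ⟨⟨algebraMap A F p, p, rfl⟩, ⟨algebraMap A F q, q, rfl⟩, rfl⟩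

instance : IsNoetherianRing (rangeB A F) := isNoetherianRing_of_ringEquiv A (equivB A F)

instance : Ring.KrullDimLE 1 (rangeB A F) := by
  have h := ringKrullDim_eq_of_ringEquiv (equivB A F)
  have h1 : ringKrullDim A ≤ 1 := Ring.krullDimLE_iff.mp inferInstance
  exact Ring.krullDimLE_iff.mpr (by rw [← h]; exact_mod_cast h1)

/-- the integral closure as a subring -/
def subC : Subring F := (integralClosure A F).toSubring

noncomputable instance algBC : Algebra (rangeB A F) (subC A F) :=
  ((algebraMap A (integralClosure A F)).comp (equivB A F).symm.toRingHom).toAlgebra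

theorem halgBC (b : rangeB A F) : ((algebraMap (rangeB A F) (subC A F) b : subC A F) : F) = (b : F) := by
  show algebraMap A F ((equivB A F).symm b) = (b : F)
  exact algebraMap_equivB_symm A F b

theorem isNoetherianRing_integralClosure : IsNoetherianRing (integralClosure A F) :=
  isNoetherianRing_of_algebra (rangeB A F) (subC A F) (halgBC A F)

theorem krullDimLE_integralClosure : Ring.KrullDimLE 1 (integralClosure A F) :=
  krullDimLE_one_of_algebra (rangeB A F) (subC A F) (halgBC A F)

theorem isFractionRing_integralClosure : IsFractionRing (integralClosure A F) F := by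
  haveI : Algebra.IsAlgebraic A F := IsLocalization.isAlgebraic F (nonZeroDivisors A)
  exact IsIntegralClosure.isFractionRing_of_algebraic A (integralClosure A F)
    (fun x hx => (IsFractionRing.to_map_eq_zero_iff (K := F)).mp hx)

theorem isDedekindDomain_integralClosure : IsDedekindDomain (integralClosure A F) := by
  haveI := isNoetherianRing_integralClosure A F
  haveI := krullDimLE_integralClosure A F
  haveI := isFractionRing_integralClosure A F
  rw [isDedekindDomain_iff (integralClosure A F) F]
  refine ⟨inferInstance, inferInstance, ⟨fun {p} hp0 hp => hp.isMaximal_of_ne_bot hp0⟩, ?_⟩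
  intro x hx
  have hx' : IsIntegral A x := isIntegral_trans (R := A) (A := integralClosure A F) x hx
  exact ⟨⟨x, hx'⟩, rfl⟩

/-- Krull--Akizuki: the quotient of the integral closure by a nonzero element of `A` is a finite
`A`-module. -/
theorem finite_quotient_integralClosure (a : A) (ha : a ≠ 0) :
    Module.Finite A (integralClosure A F ⧸
      Ideal.span {algebraMap A (integralClosure A F) a}) := by
  have hb : equivB A F a ≠ 0 := fun h => ha ((equivB A F).map_eq_zero_iff.mp h)
  have hN := isNoetherian_quotient (rangeB A F) (subC A F) (halgBC A F) (equivB A F a) hb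
  have hab : algebraMap (rangeB A F) (subC A F) (equivB A F a) =
      algebraMap A (integralClosure A F) a := by
    show algebraMap A (integralClosure A F) ((equivB A F).symm (equivB A F a)) = _
    rw [RingEquiv.symm_apply_apply]
  rw [hab] at hN
  letI : Algebra (rangeB A F) A := (equivB A F).symm.toRingHom.toAlgebra
  letI : Algebra (rangeB A F) (integralClosure A F) := algBC A F
  haveI : IsNoetherian A (integralClosure A F ⧸
      Ideal.span {algebraMap A (integralClosure A F) a}) := by
    refine @isNoetherian_of_tower (rangeB A F) A _ _ _ _ _ _ _ ?_ hN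
    refine ⟨fun b a' m => ?_⟩
    induction m using Submodule.Quotient.induction_on with
    | H c =>
      show Submodule.Quotient.mk ((b • a') • c) = Submodule.Quotient.mk (b • (a' • c))
      congr 1
      rw [Algebra.smul_def, Algebra.smul_def, Algebra.smul_def, Algebra.smul_def]
      show algebraMap A (integralClosure A F) ((equivB A F).symm b * a') * c =
        algebraMap A (integralClosure A F) ((equivB A F).symm b) *
          (algebraMap A (integralClosure A F) a' * c)
      rw [map_mul, mul_assoc]
  exact Module.IsNoetherian.finite _ _

end abs
end Groth.Agent.Lib.Helper13.KA
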