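import Groth.Agent.Lib.Helper13.Normalization
import Groth.Agent.Lib.Helper13.KAabs
import Groth.Agent.Lib.Helper13.LocalIso2

/-!
# Normalization of an integral locally noetherian scheme of dimension one
-/

set_option autoImplicit false
universe u
open CategoryTheory AlgebraicGeometry
open Groth.Agent.Lib.Helper13.Normalization

namespace Groth.Agent.Lib.Helper13.NormDimOne

theorem residue_comp_algebraMap_surjective {C L : Type*} [CommRing C] [CommRing L] [Algebra C L]
    (q : Ideal C) [hq : q.IsMaximal] [IsLocalRing L] [IsLocalization.AtPrime L q] :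
    Function.Surjective ((IsLocalRing.residue L).comp (algebraMap C L)) := by
  intro y
  obtain ⟨z, rfl⟩ := IsLocalRing.residue_surjective y
  obtain ⟨c, d, rfl⟩ := IsLocalization.exists_mk'_eq q.primeCompl z
  obtain ⟨e', i, hi, hde⟩ := hq.exists_inv d.2
  refine ⟨c * e', ?_⟩
  rw [RingHom.comp_apply, ← sub_eq_zero, ← map_sub, IsLocalRing.residue_eq_zero_iff]
  have h1 : IsLocalization.mk' L c d * algebraMap C L d = algebraMap C L c :=
    IsLocalization.mk'_spec L c d
  have h2 : algebraMap C L (c * e') - IsLocalization.mk' L c d =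
      - (IsLocalization.mk' L c d * algebraMap C L i) := by
    have : algebraMap C L i = 1 - algebraMap C L e' * algebraMap C L d := by
      rw [← map_mul, ← map_one (algebraMap C L), ← map_sub]
      congr 1
      rw [← hde]; ring
    rw [this, map_mul, ← h1]
    ring
  rw [h2]
  apply Ideal.neg_mem_iff _ |>.mpr
  apply Ideal.mul_mem_left
  exact (IsLocalization.AtPrime.to_map_mem_maximal_iff L q i).mpr hi

theorem finite_of_quotient_finite {A C κ κ' : Type*} [CommRing A] [CommRing C] [Algebra A C]
    [Field κ] [Field κ'] (evA : A →+* κ) (evC : C →+* κ') (ρ : κ →+* κ')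
    (hcomm : ∀ a, ρ (evA a) = evC (algebraMap A C a))
    (hsurj : Function.Surjective evC) (a : A) (ha : evC (algebraMap A C a) = 0)
    (hfin : Module.Finite A (C ⧸ Ideal.span {algebraMap A C a})) :
    letI := ρ.toAlgebra
    Module.Finite κ κ' := by
  letI := ρ.toAlgebra
  letI := evA.toAlgebra
  letI : Algebra A κ' := (ρ.comp evA).toAlgebra
  haveI : IsScalarTower A κ κ' := IsScalarTower.of_algebraMap_eq' rfl
  let evC' : C →ₐ[A] κ' := { evC with commutes' := fun a' => (hcomm a').symm }
  have hker : ∀ c ∈ Ideal.span {algebraMap A C a}, evC' c = 0 := by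
    intro c hc
    obtain ⟨r, rfl⟩ := Ideal.mem_span_singleton'.mp hc
    show evC (r * algebraMap A C a) = 0
    rw [map_mul, ha, mul_zero]
  let f : (C ⧸ Ideal.span {algebraMap A C a}) →ₐ[A] κ' := Ideal.Quotient.liftₐ _ evC' hker
  have hf : Function.Surjective f := fun y => by
    obtain ⟨c, rfl⟩ := hsurj y
    exact ⟨Ideal.Quotient.mk _ c, rfl⟩
  haveI : Module.Finite A κ' := Module.Finite.of_surjective f.toLinearMap hf
  exact Module.Finite.of_restrictScalars_finite A κ κ'

theorem isDedekindDomain_of_ringEquiv {R S : Type*} [CommRing R] [CommRing S] [IsDedekindDomain R]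
    (e : R ≃+* S) : IsDedekindDomain S := by
  haveI : IsDomain S := e.symm.toMulEquiv.isDomain R
  haveI : IsNoetherianRing S := isNoetherianRing_of_ringEquiv R e
  haveI : IsIntegrallyClosed S := IsIntegrallyClosed.of_equiv e
  haveI : Ring.KrullDimLE 1 S := by
    have h := ringKrullDim_eq_of_ringEquiv e
    have h1 : ringKrullDim R ≤ 1 := Ring.krullDimLE_iff.mp inferInstance
    exact Ring.krullDimLE_iff.mpr (by rw [← h]; exact h1)
  haveI : Ring.DimensionLEOne S := ⟨fun {p} hp0 hp => hp.isMaximal_of_ne_bot hp0⟩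
  exact { }

theorem krullDimLE_one_sections (X : Scheme.{u}) (h : topologicalKrullDim X ≤ 1) {U : X.Opens}
    (hU : IsAffineOpen U) : Ring.KrullDimLE 1 Γ(X, U) := by
  rw [Ring.krullDimLE_iff, ← PrimeSpectrum.topologicalKrullDim_eq_ringKrullDim]
  exact (hU.fromSpec.isOpenEmbedding.isInducing.topologicalKrullDim_le).trans h

/-- a point of an affine open of an integral scheme whose prime ideal is zero is the generic point -/
theorem eq_genericPoint_of_primeIdealOf_eq_bot {X : Scheme.{u}} [IsIntegral X] {V : X.Opens}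
    (hV : IsAffineOpen V) (x : X) (hx : x ∈ V)
    (h : (hV.primeIdealOf ⟨x, hx⟩).asIdeal = ⊥) : x = genericPoint X := by
  have hsp : x ⤳ genericPoint X := by
    rw [specializes_iff_forall_open]
    intro W hW hηW
    have hηV : genericPoint X ∈ V :=
      ((genericPoint_spec X).mem_open_set_iff V.isOpen).mpr ⟨x, Set.mem_univ _, hx⟩
    obtain ⟨s, hsW, hηs⟩ := hV.exists_basicOpen_le (V := ⟨W, hW⟩) ⟨genericPoint X, hηW⟩ hηV
    have hs : s ∉ (hV.primeIdealOf ⟨x, hx⟩).asIdeal := by
      rw [h, Ideal.mem_bot]
      rintro rfl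
      simp at hηs
    rw [LocalIso.mem_primeIdealOf_iff, not_not, ← Scheme.mem_basicOpen] at hs
    exact hsW hs
  exact (hsp.antisymm ((genericPoint_spec X).specializes (Set.mem_univ _))).eq


section
variable (X : Scheme.{u}) [IsIntegral X]

theorem hgη_fromSpecStalk : ∀ pt, (X.fromSpecStalk (genericPoint X)) pt = genericPoint X := by
  intro pt
  haveI := subsingleton_Spec (Field.toIsField X.functionField)
  rw [Subsingleton.elim pt (IsLocalRing.closedPoint _)]
  exact Scheme.fromSpecStalk_closedPoint

theorem sectionsEquiv_app {U : X.Opens} (hηU : genericPoint X ∈ U) (a : Γ(X, U)) :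
    sectionsEquiv (X.fromSpecStalk (genericPoint X)) (hgη_fromSpecStalk X) hηU
      ((X.fromSpecStalk (genericPoint X)).app U a) = X.presheaf.germ U (genericPoint X) hηU a := by
  have key : (X.fromSpecStalk (genericPoint X)).app U ≫
      ((Spec (X.presheaf.stalk (genericPoint X))).presheaf.mapIso
        (eqToIso (preimage_eq_top _ (hgη_fromSpecStalk X) hηU).symm).op ≪≫
        Scheme.ΓSpecIso (X.presheaf.stalk (genericPoint X))).hom =
      X.presheaf.germ U (genericPoint X) hηU := by
    rw [Scheme.fromSpecStalk_app hηU]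
    simp only [Category.assoc, Iso.trans_hom, Functor.mapIso_hom, Iso.op_hom, eqToIso.hom]
    rw [← Functor.map_comp_assoc]
    have : (homOfLE (le_top : (X.fromSpecStalk (genericPoint X)) ⁻¹ᵁ U ≤ ⊤)).op ≫
        (eqToHom (preimage_eq_top _ (hgη_fromSpecStalk X) hηU).symm).op = 𝟙 _ := Subsingleton.elim _ _
    rw [this, CategoryTheory.Functor.map_id, Category.id_comp, Iso.inv_hom_id, Category.comp_id]
  have := congr($key a)
  exact this
end

section
variable (X : Scheme.{u}) [IsIntegral X]
  [QuasiCompact (X.fromSpecStalk (genericPoint X))] [QuasiSeparated (X.fromSpecStalk (genericPoint X))]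

theorem exists_sectionsEquiv {U : X.Opens} (hU : IsAffineOpen U) [Nonempty U] :
    ∃ e : Γ((X.fromSpecStalk (genericPoint X)).normalization,
        (X.fromSpecStalk (genericPoint X)).fromNormalization ⁻¹ᵁ U) ≃+*
          integralClosure Γ(X, U) X.functionField,
      ∀ a : Γ(X, U), e ((X.fromSpecStalk (genericPoint X)).fromNormalization.app U a) =
        algebraMap Γ(X, U) (integralClosure Γ(X, U) X.functionField) a := by
  have hηU : genericPoint X ∈ U :=
    ((genericPoint_spec X).mem_open_set_iff U.isOpen).mpr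
      (by obtain ⟨x⟩ := ‹Nonempty U›; exact ⟨x.1, Set.mem_univ _, x.2⟩)
  letI := ((X.fromSpecStalk (genericPoint X)).app U).hom.toAlgebra
  let θ := sectionsEquiv (X.fromSpecStalk (genericPoint X)) (hgη_fromSpecStalk X) hηU
  let θalg : Γ(Spec (X.presheaf.stalk (genericPoint X)), (X.fromSpecStalk (genericPoint X)) ⁻¹ᵁ U)
      ≃ₐ[Γ(X, U)] X.functionField :=
    AlgEquiv.ofRingEquiv (f := θ) (fun a => sectionsEquiv_app X hηU a)
  let e₁ := ((X.fromSpecStalk (genericPoint X)).normalizationObjIso hU).commRingCatIsoToRingEquiv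
  refine ⟨e₁.trans θalg.mapIntegralClosure.toRingEquiv, fun a => ?_⟩
  have h1 : e₁ ((X.fromSpecStalk (genericPoint X)).fromNormalization.app U a) =
      algebraMap Γ(X, U) _ a := by
    rw [(X.fromSpecStalk (genericPoint X)).fromNormalization_app hU]
    exact congr($(((X.fromSpecStalk (genericPoint X)).normalizationObjIso hU).inv_hom_id)
      (algebraMap Γ(X, U) _ a))
  simp only [RingEquiv.trans_apply, h1]
  exact θalg.mapIntegralClosure.commutes a
end

section main
variable (X : Scheme.{u}) [IsIntegral X] [IsLocallyNoetherian X]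
  [QuasiCompact (X.fromSpecStalk (genericPoint X))] [QuasiSeparated (X.fromSpecStalk (genericPoint X))]
  (hdim : topologicalKrullDim X ≤ 1)

set_option quotPrecheck false in
local notation "X'" => (Scheme.Hom.normalization (X.fromSpecStalk (genericPoint X)))
set_option quotPrecheck false in
local notation "ν" => (Scheme.Hom.fromNormalization (X.fromSpecStalk (genericPoint X)))

omit [IsLocallyNoetherian X] in
theorem isIntegral_normalization : IsIntegral X' := by
  haveI := isIntegral_Spec (Field.toIsField X.functionField)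
  infer_instance

include hdim in
/-- Krull–Akizuki: sections of the normalization over the preimage of an affine open are Dedekind. -/
theorem isDedekindDomain_preimage {U : X.Opens} (hU : IsAffineOpen U) [Nonempty U] :
    IsDedekindDomain Γ(X', ν ⁻¹ᵁ U) := by
  haveI : IsNoetherianRing Γ(X, U) := IsLocallyNoetherian.component_noetherian ⟨U, hU⟩
  haveI : IsDomain Γ(X, U) := IsIntegral.component_integral U
  haveI : Ring.KrullDimLE 1 Γ(X, U) := krullDimLE_one_sections X hdim hU
  haveI := functionField_isFractionRing_of_isAffineOpen X U hU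
  obtain ⟨e, -⟩ := exists_sectionsEquiv X hU
  haveI := KA.isDedekindDomain_integralClosure Γ(X, U) X.functionField
  exact isDedekindDomain_of_ringEquiv e.symm

include hdim in
theorem isLocallyNoetherian_normalization : IsLocallyNoetherian X' := by
  let S : {U : X.affineOpens // Nonempty U.1} → (X').affineOpens :=
    fun U => ⟨ν ⁻¹ᵁ U.1.1, U.1.2.preimage ν⟩
  refine isLocallyNoetherian_of_affine_cover (S := S) ?_ ?_
  · rw [eq_top_iff]
    intro x' _
    obtain ⟨_, ⟨U, hU, rfl⟩, hxU, -⟩ := X.isBasis_affineOpens.exists_subset_of_mem_open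
      (Set.mem_univ (ν x')) isOpen_univ
    refine TopologicalSpace.Opens.mem_iSup.mpr ⟨⟨⟨U, hU⟩, ⟨⟨_, hxU⟩⟩⟩, hxU⟩
  · rintro ⟨⟨U, hU⟩, hne⟩
    haveI : Nonempty U := hne
    haveI := isDedekindDomain_preimage X hdim hU
    show IsNoetherianRing Γ(X', ν ⁻¹ᵁ U)
    infer_instance

omit [IsLocallyNoetherian X] in
/-- the prime ideal of the generic point is zero -/
theorem primeIdealOf_genericPoint_eq_bot {Y : Scheme.{u}} [IsIntegral Y] {V : Y.Opens}
    (hV : IsAffineOpen V) (hη : genericPoint Y ∈ V) :
    (hV.primeIdealOf ⟨genericPoint Y, hη⟩).asIdeal = ⊥ := by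
  rw [eq_bot_iff]
  intro s hs
  rw [LocalIso.mem_primeIdealOf_iff, ← Scheme.mem_basicOpen] at hs
  rw [Ideal.mem_bot]
  by_contra hs0
  apply hs
  have : Y.basicOpen s ≠ ⊥ := fun h => hs0 ((basicOpen_eq_bot_iff s).mp h)
  obtain ⟨x, hx⟩ := (TopologicalSpace.Opens.ne_bot_iff_nonempty _).mp this
  exact ((genericPoint_spec Y).mem_open_set_iff (Y.basicOpen s).isOpen).mpr ⟨x, Set.mem_univ _, hx⟩

include hdim in
theorem isDiscreteValuationRing_stalk (x' : X')
    (hx' : haveI := isIntegral_normalization X; x' ≠ genericPoint X') :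
    ∃ _ : IsDomain ((X').presheaf.stalk x'), IsDiscreteValuationRing ((X').presheaf.stalk x') := by
  haveI := isIntegral_normalization X
  obtain ⟨_, ⟨U, hU, rfl⟩, hxU, -⟩ := X.isBasis_affineOpens.exists_subset_of_mem_open
    (Set.mem_univ (ν x')) isOpen_univ
  haveI : Nonempty U := ⟨⟨_, hxU⟩⟩
  haveI := isDedekindDomain_preimage X hdim hU
  have hV : IsAffineOpen (ν ⁻¹ᵁ U) := hU.preimage ν
  have hxV : x' ∈ ν ⁻¹ᵁ U := hxU
  letI := (X').presheaf.algebra_section_stalk ⟨x', hxV⟩
  haveI := hV.isLocalization_stalk ⟨x', hxV⟩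
  have hq : (hV.primeIdealOf ⟨x', hxV⟩).asIdeal ≠ ⊥ := fun h =>
    hx' (eq_genericPoint_of_primeIdealOf_eq_bot hV x' hxV h)
  haveI : IsDomain ((X').presheaf.stalk x') := inferInstance
  exact ⟨inferInstance, IsLocalization.AtPrime.isDiscreteValuationRing_of_dedekind_domain
    Γ(X', ν ⁻¹ᵁ U) hq ((X').presheaf.stalk x')⟩

include hdim in
theorem isDedekindDomain_of_isAffineOpen {W : (X').Opens} (hW : IsAffineOpen W)
    (hne : (W : Set X').Nonempty) : IsDedekindDomain Γ(X', W) := by
  haveI := isIntegral_normalization X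
  haveI := isLocallyNoetherian_normalization X hdim
  haveI : Nonempty W := by obtain ⟨x, hx⟩ := hne; exact ⟨⟨x, hx⟩⟩
  haveI : IsDomain Γ(X', W) := IsIntegral.component_integral W
  haveI : IsNoetherianRing Γ(X', W) := IsLocallyNoetherian.component_noetherian ⟨W, hW⟩
  suffices IsDedekindDomainDvr Γ(X', W) from inferInstance
  refine { is_dvr_at_nonzero_prime := fun P hP0 hP => ?_ }
  have hgen : ∀ p : Spec Γ(X', W), hW.isoSpec.hom (hW.isoSpec.inv p) = p := fun p => by
    rw [← Scheme.Hom.comp_apply, Iso.inv_hom_id]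
    rfl
  let p₀ : Spec Γ(X', W) := (⟨P, hP⟩ : PrimeSpectrum Γ(X', W))
  let x : W := hW.isoSpec.inv p₀
  have hxP : hW.primeIdealOf x = ⟨P, hP⟩ := hgen p₀
  have hxη : x.1 ≠ genericPoint X' := by
    intro h
    apply hP0
    have := primeIdealOf_genericPoint_eq_bot hW (h ▸ x.2)
    have h2 : hW.primeIdealOf x = hW.primeIdealOf ⟨genericPoint X', h ▸ x.2⟩ := by
      congr 1
      exact Subtype.ext h
    rw [← h2, hxP] at this
    exact this
  obtain ⟨hdom, hdvr⟩ := isDiscreteValuationRing_stalk X hdim x.1 hxη
  letI := (X').presheaf.algebra_section_stalk x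
  haveI := hW.isLocalization_stalk x
  rw [hxP] at this
  let e := IsLocalization.algEquiv P.primeCompl (Localization.AtPrime P) ((X').presheaf.stalk x.1)
  exact IsDiscreteValuationRing.RingEquivClass.isDiscreteValuationRing e.symm

omit [IsLocallyNoetherian X] in
theorem app_mem_primeIdealOf_iff {U : X.Opens} (hU : IsAffineOpen U) (a : Γ(X, U)) (x' : X')
    (hx'V : x' ∈ ν ⁻¹ᵁ U) (hxU : ν x' ∈ U) :
    (ν).app U a ∈ ((hU.preimage ν).primeIdealOf ⟨x', hx'V⟩).asIdeal ↔
      a ∈ (hU.primeIdealOf ⟨ν x', hxU⟩).asIdeal := by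
  have h1 := LocalIso.mem_primeIdealOf_iff (hU.preimage ν) x' hx'V ((ν).app U a)
  have h2 := LocalIso.mem_primeIdealOf_iff hU (ν x') hxU a
  rw [h1, h2, ← Scheme.mem_basicOpen, ← Scheme.mem_basicOpen, ← Scheme.preimage_basicOpen]
  rfl

theorem finite_setOf_mem {C : Type*} [CommRing C] [IsDedekindDomain C] (c : C) (hc0 : c ≠ 0) :
    {q : PrimeSpectrum C | c ∈ q.asIdeal}.Finite := by
  have hmin := Ideal.finite_minimalPrimes_of_isNoetherianRing C (Ideal.span {c})
  refine Set.Finite.of_finite_image (f := PrimeSpectrum.asIdeal) (hmin.subset ?_)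
    (fun q _ q' _ h => PrimeSpectrum.ext h)
  rintro _ ⟨q, hq, rfl⟩
  refine ⟨⟨q.isPrime, (Ideal.span_singleton_le_iff_mem _).mpr hq⟩, ?_⟩
  rintro q' ⟨hq'prime, hq'le⟩ hq'q
  have hq'0 : q' ≠ ⊥ := fun h => hc0 (by
    have := hq'le (Ideal.mem_span_singleton_self c)
    rwa [h, Ideal.mem_bot] at this)
  exact ((hq'prime.isMaximal hq'0).eq_of_le q.isPrime.ne_top hq'q).ge

include hdim in
theorem finite_fibre (x : X) : Finite {x' : X' // ν x' = x} := by
  haveI := isIntegral_normalization X
  by_cases hx : x = genericPoint X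
  · haveI : Subsingleton {x' : X' // ν x' = x} := ⟨fun a b => Subtype.ext
      ((eq_genericPoint_of_isIntegralHom ν a.1 (a.2.trans hx)).trans
        (eq_genericPoint_of_isIntegralHom ν b.1 (b.2.trans hx)).symm)⟩
    exact Finite.of_subsingleton
  · obtain ⟨_, ⟨U, hU, rfl⟩, hxU, -⟩ := X.isBasis_affineOpens.exists_subset_of_mem_open
      (Set.mem_univ x) isOpen_univ
    haveI : Nonempty U := ⟨⟨_, hxU⟩⟩
    haveI := isDedekindDomain_preimage X hdim hU
    have hV : IsAffineOpen (ν ⁻¹ᵁ U) := hU.preimage ν
    have hp : (hU.primeIdealOf ⟨x, hxU⟩).asIdeal ≠ ⊥ := fun h =>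
      hx (eq_genericPoint_of_primeIdealOf_eq_bot hU x hxU h)
    obtain ⟨a, hap, ha0⟩ := Submodule.exists_mem_ne_zero_of_ne_bot hp
    have hc0 : (ν).app U a ≠ 0 := by
      haveI : IsDomain Γ(X, U) := IsIntegral.component_integral U
      haveI := functionField_isFractionRing_of_isAffineOpen X U hU
      obtain ⟨e, he⟩ := exists_sectionsEquiv X hU
      intro h
      have h1 := he a
      rw [h, map_zero] at h1
      apply ha0
      apply IsFractionRing.injective Γ(X, U) X.functionField
      rw [map_zero]
      exact (congrArg Subtype.val h1).symm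
    have hZ := finite_setOf_mem ((ν).app U a) hc0
    haveI : Finite {q : PrimeSpectrum Γ(X', ν ⁻¹ᵁ U) // (ν).app U a ∈ q.asIdeal} := hZ.to_subtype
    have hmem : ∀ x' : {x' : X' // ν x' = x}, x'.1 ∈ ν ⁻¹ᵁ U := fun x' => by
      show ν x'.1 ∈ U
      rw [x'.2]; exact hxU
    let f : {x' : X' // ν x' = x} → {q : PrimeSpectrum Γ(X', ν ⁻¹ᵁ U) // (ν).app U a ∈ q.asIdeal} :=
      fun x' => ⟨hV.primeIdealOf ⟨x'.1, hmem x'⟩, by
        rw [app_mem_primeIdealOf_iff X hU a x'.1 (hmem x') (hmem x')]
        have : hU.primeIdealOf ⟨ν x'.1, hmem x'⟩ = hU.primeIdealOf ⟨x, hxU⟩ := by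
          congr 1
          exact Subtype.ext x'.2
        rw [this]
        exact hap⟩
    refine Finite.of_injective f ?_
    intro x₁ x₂ h
    have h' : hV.primeIdealOf ⟨x₁.1, hmem x₁⟩ = hV.primeIdealOf ⟨x₂.1, hmem x₂⟩ :=
      congrArg Subtype.val h
    have := congrArg hV.fromSpec h'
    rw [hV.fromSpec_primeIdealOf, hV.fromSpec_primeIdealOf] at this
    exact Subtype.ext this

omit [IsLocallyNoetherian X] in
theorem residueFieldMap_bijective_of_eq_genericPoint (x' : X')
    (hx' : haveI := isIntegral_normalization X; x' = genericPoint X') :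
    Function.Bijective ((ν).residueFieldMap x').hom := by
  have hK : IsField (X.presheaf.stalk (genericPoint X)) := Field.toIsField X.functionField
  haveI := isIntegral_Spec hK
  have hst : ∀ pt : Spec (X.presheaf.stalk (genericPoint X)),
      Function.Surjective ((X.fromSpecStalk (genericPoint X)).stalkMap pt).hom := by
    intro pt
    haveI := subsingleton_Spec hK
    obtain rfl : pt = IsLocalRing.closedPoint _ := Subsingleton.elim _ _
    exact (stalkMap_fromSpecStalk_bijective X (genericPoint X)).2
  have key : ∀ (pt : Spec (X.presheaf.stalk (genericPoint X))) (x' : X'),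
      x' = (X.fromSpecStalk (genericPoint X)).toNormalization pt →
      Function.Bijective ((ν).residueFieldMap x').hom := by
    rintro pt _ rfl
    refine ⟨RingHom.injective _, ?_⟩
    apply residueFieldMap_surjective_of_comp
    have h1 := residueFieldMap_surjective_of_stalkMap
      (X.fromSpecStalk (genericPoint X)) pt (hst pt)
    rw [Scheme.Hom.residueFieldMap_congr
      (X.fromSpecStalk (genericPoint X)).toNormalization_fromNormalization]
    rw [CommRingCat.hom_comp, RingHom.coe_comp]
    exact h1.comp (ConcreteCategory.bijective_of_isIso _).2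
  obtain ⟨pt⟩ := nonempty_Spec hK
  exact key pt _ (hx'.trans (toNormalization_eq_genericPoint hK _ pt).symm)

include hdim in
theorem finite_residueField (x' : X') :
    letI := ((ν).residueFieldMap x').hom.toAlgebra
    Module.Finite (X.residueField (ν x')) ((X').residueField x') := by
  haveI := isIntegral_normalization X
  by_cases hx' : x' = genericPoint X'
  · letI := ((ν).residueFieldMap x').hom.toAlgebra
    exact Module.Finite.of_surjective (Algebra.linearMap _ _)
      (residueFieldMap_bijective_of_eq_genericPoint X x' hx').2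
  · obtain ⟨_, ⟨U, hU, rfl⟩, hxU, -⟩ := X.isBasis_affineOpens.exists_subset_of_mem_open
      (Set.mem_univ (ν x')) isOpen_univ
    haveI : Nonempty U := ⟨⟨_, hxU⟩⟩
    haveI := isDedekindDomain_preimage X hdim hU
    have hV : IsAffineOpen (ν ⁻¹ᵁ U) := hU.preimage ν
    have hxV : x' ∈ ν ⁻¹ᵁ U := hxU
    have hq0 : (hV.primeIdealOf ⟨x', hxV⟩).asIdeal ≠ ⊥ := fun h =>
      hx' (eq_genericPoint_of_primeIdealOf_eq_bot hV x' hxV h)
    have hνx : ν x' ≠ genericPoint X := fun h =>
      hx' (eq_genericPoint_of_isIntegralHom ν x' h)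
    have hp0 : (hU.primeIdealOf ⟨ν x', hxU⟩).asIdeal ≠ ⊥ := fun h =>
      hνx (eq_genericPoint_of_primeIdealOf_eq_bot hU _ hxU h)
    obtain ⟨a, hap, ha0⟩ := Submodule.exists_mem_ne_zero_of_ne_bot hp0
    haveI : IsNoetherianRing Γ(X, U) := IsLocallyNoetherian.component_noetherian ⟨U, hU⟩
    haveI : IsDomain Γ(X, U) := IsIntegral.component_integral U
    haveI : Ring.KrullDimLE 1 Γ(X, U) := krullDimLE_one_sections X hdim hU
    haveI := functionField_isFractionRing_of_isAffineOpen X U hU
    obtain ⟨e, he⟩ := exists_sectionsEquiv X hU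
    have hfin := KA.finite_quotient_integralClosure Γ(X, U) X.functionField a ha0
    have hesymm : ∀ a' : Γ(X, U), e.symm (algebraMap Γ(X, U) _ a') = (ν).app U a' := fun a' => by
      rw [← he a', RingEquiv.symm_apply_apply]
    have hnat := Scheme.evaluation_naturality ν x' hxU
    haveI hqmax : (hV.primeIdealOf ⟨x', hxV⟩).asIdeal.IsMaximal :=
      (hV.primeIdealOf ⟨x', hxV⟩).isPrime.isMaximal hq0
    letI := (X').presheaf.algebra_section_stalk ⟨x', hxV⟩
    haveI := hV.isLocalization_stalk ⟨x', hxV⟩
    have hsurj0 := residue_comp_algebraMap_surjective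
      (L := (X').presheaf.stalk x') (hV.primeIdealOf ⟨x', hxV⟩).asIdeal
    refine finite_of_quotient_finite (A := Γ(X, U)) (C := integralClosure Γ(X, U) X.functionField)
      (X.evaluation U (ν x') hxU).hom
      (((X').evaluation (ν ⁻¹ᵁ U) x' hxV).hom.comp e.symm.toRingHom)
      ((ν).residueFieldMap x').hom ?_ ?_ a ?_ hfin
    · intro a'
      have := congr($hnat a')
      rw [RingHom.comp_apply]
      erw [hesymm a']
      exact this
    · have hsurj0' : Function.Surjective ((X').evaluation (ν ⁻¹ᵁ U) x' hxV).hom := hsurj0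
      rw [RingHom.coe_comp]
      exact Function.Surjective.comp hsurj0' e.symm.surjective
    · rw [RingHom.comp_apply]
      erw [hesymm a]
      show ((X').evaluation (ν ⁻¹ᵁ U) x' hxV) ((ν).app U a) = 0
      rw [Scheme.evaluation_eq_zero_iff_notMem_basicOpen, Scheme.mem_basicOpen _ _ _ hxV,
        ← LocalIso.mem_primeIdealOf_iff hV x' hxV, app_mem_primeIdealOf_iff X hU a x' hxV hxU]
      exact hap

end main

section stalk
variable (X : Scheme.{u}) [IsIntegral X]
  [QuasiCompact (X.fromSpecStalk (genericPoint X))] [QuasiSeparated (X.fromSpecStalk (genericPoint X))]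

set_option quotPrecheck false in
local notation "X'" => (Scheme.Hom.normalization (X.fromSpecStalk (genericPoint X)))
set_option quotPrecheck false in
local notation "ν" => (Scheme.Hom.fromNormalization (X.fromSpecStalk (genericPoint X)))

theorem stalkClosedPointTo_bijective_of_eq (h : Spec (X.presheaf.stalk (genericPoint X)) ⟶ X)
    (hh : h = X.fromSpecStalk (genericPoint X)) :
    Function.Bijective (Scheme.stalkClosedPointTo h).hom := by
  subst hh
  rw [Scheme.stalkClosedPointTo_fromSpecStalk]
  exact ConcreteCategory.bijective_of_isIso _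

theorem stalkMap_fromNormalization_bijective (x' : X')
    (hx' : haveI := isIntegral_normalization X; x' = genericPoint X') :
    Function.Bijective ((ν).stalkMap x').hom := by
  have hK : IsField (X.presheaf.stalk (genericPoint X)) := Field.toIsField X.functionField
  haveI := isIntegral_Spec hK
  haveI := isIntegral_normalization X
  have hx₀η := toNormalization_eq_genericPoint hK (X.fromSpecStalk (genericPoint X))
    (IsLocalRing.closedPoint (X.presheaf.stalk (genericPoint X)))
  have hcomp := Scheme.stalkClosedPointTo_comp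
    (X.fromSpecStalk (genericPoint X)).toNormalization ν
  have hbij := stalkClosedPointTo_bijective_of_eq X _
    (X.fromSpecStalk (genericPoint X)).toNormalization_fromNormalization
  rw [hcomp] at hbij
  -- injectivity of `stalkClosedPointTo toNormalization`
  have hρinj : ∀ (x'' : X') (_ : x'' = genericPoint X')
      (ρ : (X').presheaf.stalk x'' ⟶ X.presheaf.stalk (genericPoint X)),
      Function.Injective ρ.hom := by
    rintro _ rfl ρ
    letI : Field ((X').presheaf.stalk (genericPoint X')) :=
      inferInstanceAs (Field (X').functionField)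
    exact RingHom.injective ρ.hom
  have hρ := hρinj _ hx₀η (Scheme.stalkClosedPointTo (X.fromSpecStalk (genericPoint X)).toNormalization)
  have key : Function.Bijective ((ν).stalkMap ((X.fromSpecStalk (genericPoint X)).toNormalization
      (IsLocalRing.closedPoint (X.presheaf.stalk (genericPoint X))))).hom := by
    have hbij' : Function.Bijective ((Scheme.stalkClosedPointTo
        (X.fromSpecStalk (genericPoint X)).toNormalization).hom ∘
        ((ν).stalkMap ((X.fromSpecStalk (genericPoint X)).toNormalization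
          (IsLocalRing.closedPoint (X.presheaf.stalk (genericPoint X))))).hom) := hbij
    refine ⟨?_, ?_⟩
    · exact Function.Injective.of_comp hbij'.1
    · intro z
      obtain ⟨w, hw⟩ := hbij'.2 ((Scheme.stalkClosedPointTo
        (X.fromSpecStalk (genericPoint X)).toNormalization).hom z)
      exact ⟨w, hρ hw⟩
  have : ∀ x'' : X', x'' = (X.fromSpecStalk (genericPoint X)).toNormalization
      (IsLocalRing.closedPoint (X.presheaf.stalk (genericPoint X))) →
      Function.Bijective ((ν).stalkMap x'').hom := by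
    rintro _ rfl
    exact key
  exact this x' (hx'.trans hx₀η.symm)

end stalk

end Groth.Agent.Lib.Helper13.NormDimOne
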