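import Mathlib

/-!
# Local rings of normal curves are valuation rings
-/

universe u

open CategoryTheory CategoryTheory.Limits AlgebraicGeometry TopologicalSpace IsLocalRing

namespace Groth.Agent.Lib.Helper13.NormalCurve

/-- the local ring at a generization has smaller dimension -/
theorem ringKrullDim_stalk_le_of_specializes (X : Scheme.{u}) {x x' : X} (h : x ⤳ x') :
    ringKrullDim (X.presheaf.stalk x) ≤ ringKrullDim (X.presheaf.stalk x') := by
  have hinj : Function.Injective (Spec.map (X.presheaf.stalkSpecializes h)).base := by
    intro p q hpq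
    apply (X.fromSpecStalk x).isEmbedding.injective
    rw [← Scheme.SpecMap_stalkSpecializes_fromSpecStalk h, Scheme.Hom.comp_apply,
      Scheme.Hom.comp_apply]
    exact congrArg _ hpq
  refine Order.krullDim_le_of_strictMono
    (fun p : PrimeSpectrum (X.presheaf.stalk x) => (Spec.map (X.presheaf.stalkSpecializes h)).base p)
    (Monotone.strictMono_of_injective ?_ hinj)
  intro p q hpq
  exact Ideal.comap_mono hpq

/-- a Noetherian integrally closed local domain of dimension at most one is a valuation ring -/
theorem valuationRing_of_dim_le_one (O : Type u) [CommRing O] [IsDomain O] [IsNoetherianRing O]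
    [IsLocalRing O] [IsIntegrallyClosed O] (h : ringKrullDim O ≤ 1) : ValuationRing O := by
  by_cases hF : IsField O
  · letI := hF.toField
    infer_instance
  · haveI : Ring.KrullDimLE 1 O := Ring.krullDimLE_iff.mpr h
    have h3 : IsIntegrallyClosed O ∧ ∃! P : Ideal O, P ≠ ⊥ ∧ P.IsPrime := by
      refine ⟨inferInstance, maximalIdeal O, ⟨?_, inferInstance⟩, ?_⟩
      · intro hbot
        exact hF (isField_iff_maximalIdeal_eq.mpr hbot)
      · rintro P ⟨hP0, hP⟩
        exact eq_maximalIdeal (hP.isMaximal_of_ne_bot hP0)
    exact ((IsDiscreteValuationRing.TFAE O hF).out 1 3).mpr h3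

/-- on a quasi-compact locally Noetherian normal scheme whose closed points have one-dimensional
local rings every local ring is a valuation ring -/
theorem valuationRing_stalk (X : Scheme.{u}) [IsLocallyNoetherian X] [CompactSpace X]
    (hcurve : ∀ x : X, IsClosed ({x} : Set X) → ringKrullDim (X.presheaf.stalk x) = 1)
    (hnorm : ∀ x : X, IsDomain (X.presheaf.stalk x) ∧ IsIntegrallyClosed (X.presheaf.stalk x))
    (x : X) : ∃ _ : IsDomain (X.presheaf.stalk x), ValuationRing (X.presheaf.stalk x) := by
  obtain ⟨x', hx'mem, hx'cl⟩ := (isClosed_closure (s := ({x} : Set X))).exists_closed_singleton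
    ⟨x, subset_closure rfl⟩
  have hsp : x ⤳ x' := specializes_iff_mem_closure.mpr hx'mem
  have hdim : ringKrullDim (X.presheaf.stalk x) ≤ 1 :=
    (ringKrullDim_stalk_le_of_specializes X hsp).trans (hcurve x' hx'cl).le
  haveI := (hnorm x).1
  haveI := (hnorm x).2
  exact ⟨inferInstance, valuationRing_of_dim_le_one _ hdim⟩

end Groth.Agent.Lib.Helper13.NormalCurve
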