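import Mathlib
import Groth.Agent.Lib.Helper13.NormalCurve
import Groth.Agent.Lib.Helper13.NormDimOne

/-!
# Dominant morphisms of integral schemes to normal one-dimensional schemes are flat
-/

universe u

open CategoryTheory CategoryTheory.Limits AlgebraicGeometry TopologicalSpace IsLocalRing

namespace Groth.Agent.Lib.Helper13.FlatDimOne

/-- an injective ring hom from a valuation ring to a domain is flat -/
theorem flat_of_injective_of_valuationRing {R S : Type*} [CommRing R] [IsDomain R]
    [ValuationRing R] [CommRing S] [IsDomain S] (φ : R →+* S) (hφ : Function.Injective φ) :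
    φ.Flat := by
  letI := φ.toAlgebra
  show Module.Flat R S
  rw [Module.Flat.flat_iff_torsion_eq_bot_of_isBezout, eq_bot_iff]
  intro s hs
  rw [Submodule.mem_torsion_iff] at hs
  obtain ⟨⟨r, hr⟩, h⟩ := hs
  rw [Submodule.mem_bot]
  have h' : φ r * s = 0 := h
  rcases mul_eq_zero.mp h' with h0 | h0
  · exfalso
    have : r = 0 := hφ (by rw [h0, map_zero])
    exact nonZeroDivisors.ne_zero hr this
  · exact h0

/-- a dominant morphism of integral schemes is injective on local rings -/
theorem stalkMap_injective_of_denseRange {X Y : Scheme.{u}} [IsIntegral X] [IsIntegral Y]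
    (f : X ⟶ Y) (hf : DenseRange f) (x : X) : Function.Injective (f.stalkMap x) := by
  obtain ⟨_, ⟨U, hU, rfl⟩, hxU, -⟩ := Y.isBasis_affineOpens.exists_subset_of_mem_open
      (Set.mem_univ (f x)) isOpen_univ
  refine hU.stalkMap_injective f x hxU ?_
  intro g hg
  rw [Scheme.Hom.germ_stalkMap_apply] at hg
  haveI : Nonempty (f ⁻¹ᵁ U) := ⟨⟨x, hxU⟩⟩
  have h0 : f.app U g = 0 := by
    apply germ_injective_of_isIntegral X (U := f ⁻¹ᵁ U) x hxU
    rw [hg, map_zero]
  have hg0 : g = 0 := by
    by_contra hne
    have hb : Y.basicOpen g ≠ ⊥ := fun h => hne ((AlgebraicGeometry.basicOpen_eq_bot_iff g).mp h)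
    have hne' : (Y.basicOpen g : Set Y).Nonempty := by
      rw [Set.nonempty_iff_ne_empty]
      intro h
      exact hb (Opens.ext h)
    obtain ⟨x', hx'⟩ := hf.exists_mem_open (Y.basicOpen g).isOpen hne'
    have : x' ∈ f ⁻¹ᵁ (Y.basicOpen g) := hx'
    rw [Scheme.preimage_basicOpen, h0, Scheme.basicOpen_zero] at this
    exact this
  rw [hg0, map_zero]

/-- a dominant morphism of integral schemes whose target has valuation rings as local rings
is flat -/
theorem flat_of_denseRange_of_valuationRing {X Y : Scheme.{u}} [IsIntegral X] [IsIntegral Y]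
    (f : X ⟶ Y) (hf : DenseRange f)
    (hval : ∀ y : Y, ValuationRing (Y.presheaf.stalk y)) : Flat f := by
  rw [Flat.iff_flat_stalkMap]
  intro x
  haveI := hval (f x)
  exact flat_of_injective_of_valuationRing _ (stalkMap_injective_of_denseRange f hf x)

/-- local rings of a scheme of dimension at most one have dimension at most one -/
theorem ringKrullDim_stalk_le_one (Y : Scheme.{u}) (h : topologicalKrullDim Y ≤ 1) (y : Y) :
    ringKrullDim (Y.presheaf.stalk y) ≤ 1 := by
  obtain ⟨_, ⟨U, hU, rfl⟩, hyU, -⟩ := Y.isBasis_affineOpens.exists_subset_of_mem_open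
      (Set.mem_univ y) isOpen_univ
  haveI := NormDimOne.krullDimLE_one_sections Y h hU
  letI := Y.presheaf.algebra_section_stalk ⟨y, hyU⟩
  haveI := hU.isLocalization_stalk ⟨y, hyU⟩
  rw [IsLocalization.AtPrime.ringKrullDim_eq_height (hU.primeIdealOf ⟨y, hyU⟩).asIdeal]
  exact Ideal.height_le_ringKrullDim_of_isPrime.trans (Ring.krullDimLE_iff.mp inferInstance)

/-- a non-constant map from an irreducible space to an irreducible sober space of dimension
at most one is dominant -/
theorem denseRange_of_nontrivial {X Y : Type*} [TopologicalSpace X] [TopologicalSpace Y]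
    [IrreducibleSpace X] [IrreducibleSpace Y] [T0Space Y]
    (hY : topologicalKrullDim Y ≤ 1) (f : X → Y) (hf : Continuous f)
    (hnc : (Set.range f).Nontrivial) : DenseRange f := by
  have hirr : IsIrreducible (closure (Set.range f)) := by
    refine IsIrreducible.closure ?_
    rw [← Set.image_univ]
    exact (IrreducibleSpace.isIrreducible_univ X).image f hf.continuousOn
  let Z : IrreducibleCloseds Y := ⟨closure (Set.range f), hirr, isClosed_closure⟩
  let T : IrreducibleCloseds Y := ⟨Set.univ, IrreducibleSpace.isIrreducible_univ Y, isClosed_univ⟩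
  rcases (Order.krullDim_le_one_iff.mp hY) Z with hmin | hmax
  · exfalso
    obtain ⟨y₁, hy₁, y₂, hy₂, hne⟩ := hnc
    have key : ∀ y ∈ Set.range f, closure ({y} : Set Y) = closure (Set.range f) := by
      intro y hy
      let W : IrreducibleCloseds Y := ⟨closure {y}, isIrreducible_singleton.closure, isClosed_closure⟩
      have hWZ : W ≤ Z := by
        show closure {y} ⊆ closure (Set.range f)
        exact closure_mono (Set.singleton_subset_iff.mpr hy)
      have hZW : Z ≤ W := hmin hWZ
      exact Set.Subset.antisymm hWZ hZW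
    have h1 : IsGenericPoint y₁ (closure (Set.range f)) := key y₁ hy₁
    have h2 : IsGenericPoint y₂ (closure (Set.range f)) := key y₂ hy₂
    exact hne (h1.eq h2)
  · have hZT : Z ≤ T := fun _ _ => Set.mem_univ _
    have hTZ : T ≤ Z := hmax hZT
    rw [DenseRange, dense_iff_closure_eq]
    exact Set.eq_univ_of_univ_subset hTZ

end Groth.Agent.Lib.Helper13.FlatDimOne
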