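import Mathlib
set_option autoImplicit false
universe u
open CategoryTheory AlgebraicGeometry

namespace Groth.Agent.Lib.Helper13.IntBirational

theorem isIntegrallyClosed_of_isAffineOpen (X : Scheme.{u}) [IsIntegral X]
    (V : X.Opens) (hX : ∀ x ∈ V, IsIntegrallyClosed (X.presheaf.stalk x))
    (hV : IsAffineOpen V) [Nonempty V] : IsIntegrallyClosed Γ(X, V) := by
  let _ (y : PrimeSpectrum Γ(X, V)) : Algebra Γ(X, V) (X.presheaf.stalk (hV.fromSpec y)) :=
    TopCat.Presheaf.algebra_section_stalk X.presheaf ⟨hV.fromSpec y, (hV.isoSpec.inv _).2⟩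
  have (P : Ideal Γ(X, V)) [hP : P.IsPrime] : IsLocalization.AtPrime
      (X.presheaf.stalk (hV.fromSpec ⟨P, hP⟩)) P :=
    hV.isLocalization_stalk' ⟨P, hP⟩ (hV.isoSpec.inv _).2
  exact IsIntegrallyClosed.of_isLocalization_maximal
    (fun P hP => X.presheaf.stalk (hV.fromSpec ⟨P, hP.isPrime⟩))
    (fun P hP => hX _ (hV.isoSpec.inv _).2)

/-- core algebraic statement -/
theorem app_bijective_aux {X' Y : Scheme.{u}} [IsIntegral X'] [IsIntegral Y]
    (d : X' ⟶ Y) [IsIntegralHom d]
    (W : Y.Opens) (hnorm : ∀ y ∈ W, IsIntegrallyClosed (Y.presheaf.stalk y))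
    (hW : IsAffineOpen W) (hηW : genericPoint Y ∈ W)
    (hη'V : genericPoint X' ∈ d ⁻¹ᵁ W)
    (σ : Y.functionField ⟶ X'.functionField)
    (hσ : Y.presheaf.germ W (genericPoint Y) hηW ≫ σ =
      d.app W ≫ X'.presheaf.germ (d ⁻¹ᵁ W) (genericPoint X') hη'V)
    (hσsurj : Function.Surjective σ.hom) :
    Function.Bijective (d.app W).hom := by
  haveI : Nonempty W := ⟨⟨_, hηW⟩⟩
  haveI : Nonempty ↥(d ⁻¹ᵁ W) := ⟨⟨_, hη'V⟩⟩
  haveI : IsDomain Γ(Y, W) := IsIntegral.component_integral W
  haveI : IsDomain Γ(X', d ⁻¹ᵁ W) := @IsIntegral.component_integral _ _ (d ⁻¹ᵁ W) ⟨⟨_, hη'V⟩⟩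
  haveI := isIntegrallyClosed_of_isAffineOpen Y W hnorm hW
  haveI hfr := functionField_isFractionRing_of_isAffineOpen Y W hW
  have hginj : Function.Injective (X'.presheaf.germ (d ⁻¹ᵁ W) (genericPoint X') hη'V).hom :=
    germ_injective_of_isIntegral X' _ hη'V
  have hgYinj : Function.Injective (Y.presheaf.germ W (genericPoint Y) hηW).hom :=
    germ_injective_of_isIntegral Y _ hηW
  have hσbij : Function.Bijective σ.hom := ⟨RingHom.injective σ.hom, hσsurj⟩
  have hcomp : ∀ b, (X'.presheaf.germ (d ⁻¹ᵁ W) (genericPoint X') hη'V).hom ((d.app W).hom b) =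
      σ.hom ((Y.presheaf.germ W (genericPoint Y) hηW).hom b) := fun b => (congr($hσ b)).symm
  letI algL : Algebra Γ(Y, W) X'.functionField :=
    (d.app W ≫ X'.presheaf.germ (d ⁻¹ᵁ W) (genericPoint X') hη'V).hom.toAlgebra
  let σe : Y.functionField ≃ₐ[Γ(Y, W)] X'.functionField :=
    AlgEquiv.ofRingEquiv (f := RingEquiv.ofBijective σ.hom hσbij) (fun b => (hcomp b).symm)
  haveI : IsFractionRing Γ(Y, W) X'.functionField :=
    IsLocalization.isLocalization_of_algEquiv (nonZeroDivisors Γ(Y, W)) σe
  refine ⟨?_, ?_⟩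
  · intro b₁ b₂ h
    apply hgYinj
    apply hσbij.1
    rw [← hcomp, ← hcomp, h]
  · intro c
    have hc : IsIntegral Γ(Y, W)
        ((X'.presheaf.germ (d ⁻¹ᵁ W) (genericPoint X') hη'V).hom c) := by
      obtain ⟨p, hp, hp0⟩ := d.isIntegral_app W hW c
      refine ⟨p, hp, ?_⟩
      have := congrArg (X'.presheaf.germ (d ⁻¹ᵁ W) (genericPoint X') hη'V).hom hp0
      rw [Polynomial.hom_eval₂, map_zero] at this
      exact this
    obtain ⟨b, hb⟩ := (isIntegrallyClosed_iff X'.functionField).mp inferInstance hc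
    exact ⟨b, hginj hb⟩

/-- restriction over an affine open with integrally closed stalks is an isomorphism -/
theorem isIso_morphismRestrict_affine {X' Y : Scheme.{u}} [IsIntegral X'] [IsIntegral Y]
    (d : X' ⟶ Y) [IsIntegralHom d]
    (hgen : d (genericPoint X') = genericPoint Y)
    (hst : Function.Surjective (d.stalkMap (genericPoint X')).hom)
    (W : Y.Opens) (hW : IsAffineOpen W)
    (hnorm : ∀ y ∈ W, IsIntegrallyClosed (Y.presheaf.stalk y)) : IsIso (d ∣_ W) := by
  by_cases hne : Nonempty W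
  · refine (isIso_morphismRestrict_iff_isIso_app d hW).mpr ?_
    obtain ⟨⟨w, hw⟩⟩ := hne
    have hηW : genericPoint Y ∈ W :=
      ((genericPoint_spec Y).mem_open_set_iff W.isOpen).mpr ⟨w, Set.mem_univ _, hw⟩
    have hη'V : genericPoint X' ∈ d ⁻¹ᵁ W := by
      show d (genericPoint X') ∈ W
      rw [hgen]; exact hηW
    have hdηW : d (genericPoint X') ∈ W := hη'V
    let σ : Y.functionField ⟶ X'.functionField :=
      Y.presheaf.stalkSpecializes (specializes_of_eq hgen) ≫ d.stalkMap (genericPoint X')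
    have hσ : Y.presheaf.germ W (genericPoint Y) hηW ≫ σ =
        d.app W ≫ X'.presheaf.germ (d ⁻¹ᵁ W) (genericPoint X') hη'V := by
      rw [← Scheme.Hom.germ_stalkMap d W (genericPoint X') hdηW]
      simp only [σ]
      rw [← Category.assoc, TopCat.Presheaf.germ_stalkSpecializes]
    have hσsurj : Function.Surjective σ.hom := by
      simp only [σ, CommRingCat.hom_comp, RingHom.coe_comp]
      refine hst.comp ?_
      exact (ConcreteCategory.bijective_of_isIso
        (Y.presheaf.stalkCongr (.of_eq hgen.symm)).hom).2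
    exact (ConcreteCategory.isIso_iff_bijective _).mpr
      (app_bijective_aux d W hnorm hW hηW hη'V σ hσ hσsurj)
  · haveI : IsEmpty (W : Scheme) := by
      rw [not_nonempty_iff] at hne
      exact hne
    infer_instance

theorem isIso_morphismRestrict_of_forall_affine {X' Y : Scheme.{u}} (d : X' ⟶ Y) (V : Y.Opens)
    (h : ∀ W : Y.Opens, IsAffineOpen W → W ≤ V → IsIso (d ∣_ W)) : IsIso (d ∣_ V) := by
  refine (IsZariskiLocalAtTarget.iff_of_iSup_eq_top (P := .isomorphisms Scheme) _
    (iSup_affineOpens_eq_top V.toScheme)).mpr fun W' => ?_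
  obtain ⟨W', hW'⟩ := W'
  rw [MorphismProperty.isomorphisms.iff]
  have := h (V.ι ''ᵁ W') (hW'.image_of_isOpenImmersion V.ι) (by
    rintro _ ⟨x, -, rfl⟩
    exact x.2)
  exact ((MorphismProperty.isomorphisms Scheme).arrow_mk_iso_iff
    (morphismRestrictRestrict d V W')).mpr this

/-- An integral birational morphism of integral schemes is an isomorphism over every open subset
of the target all of whose local rings are integrally closed. -/
theorem isIso_morphismRestrict_of_birational {X' Y : Scheme.{u}} [IsIntegral X'] [IsIntegral Y]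
    (d : X' ⟶ Y) [IsIntegralHom d]
    (hgen : d (genericPoint X') = genericPoint Y)
    (hst : Function.Surjective (d.stalkMap (genericPoint X')).hom)
    (V : Y.Opens) (hnorm : ∀ y ∈ V, IsIntegrallyClosed (Y.presheaf.stalk y)) : IsIso (d ∣_ V) :=
  isIso_morphismRestrict_of_forall_affine d V fun W hW hWV =>
    isIso_morphismRestrict_affine d hgen hst W hW fun y hy => hnorm y (hWV hy)

/-- An integral morphism between integral schemes, with normal target, which is birational
(generic point to generic point, surjective on function fields) is an isomorphism. -/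
theorem isIso_of_isIntegralHom_of_birational {X' Y : Scheme.{u}} [IsIntegral X'] [IsIntegral Y]
    (d : X' ⟶ Y) [IsIntegralHom d]
    (hnorm : ∀ y : Y, IsIntegrallyClosed (Y.presheaf.stalk y))
    (hgen : d (genericPoint X') = genericPoint Y)
    (hst : Function.Surjective (d.stalkMap (genericPoint X')).hom) : IsIso d := by
  refine (IsZariskiLocalAtTarget.iff_of_iSup_eq_top (P := .isomorphisms Scheme) _
    (iSup_affineOpens_eq_top Y)).mpr fun W => ?_
  obtain ⟨W, hW⟩ := W
  rw [MorphismProperty.isomorphisms.iff]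
  exact isIso_morphismRestrict_affine d hgen hst W hW fun y _ => hnorm y

end Groth.Agent.Lib.Helper13.IntBirational
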