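import Mathlib
import Groth.Agent.Lib.Helper13.IntBirational
import Groth.Agent.Lib.Helper13.LocalIso2
import Groth.Agent.Lib.Helper13.CodimOne
import Groth.Agent.Lib.Helper13.FlatDimOne

/-!
# Birational morphisms near a normal point
-/

universe u

open CategoryTheory CategoryTheory.Limits AlgebraicGeometry TopologicalSpace

namespace Groth.Agent.Lib.Helper13.ProperBirational

/-- if a separated morphism from an integral scheme restricts to an open immersion on a nonempty
open `U`, then `U` is the full preimage of its image -/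
theorem preimage_opensRange_eq {Y X : Scheme.{u}} [IsIntegral Y] (f : Y ⟶ X) [IsSeparated f]
    (U : Y.Opens) (hUne : (U : Set Y).Nonempty) [IsOpenImmersion (U.ι ≫ f)] :
    f ⁻¹ᵁ (U.ι ≫ f).opensRange = U := by
  have hUP : U ≤ f ⁻¹ᵁ (U.ι ≫ f).opensRange := by
    intro u hu
    exact ⟨⟨u, hu⟩, rfl⟩
  refine le_antisymm ?_ hUP
  obtain ⟨u₀, hu₀⟩ := hUne
  haveI : Nonempty (f ⁻¹ᵁ (U.ι ≫ f).opensRange).toScheme := ⟨⟨u₀, hUP hu₀⟩⟩
  haveI : IsIntegral (f ⁻¹ᵁ (U.ι ≫ f).opensRange).toScheme :=
    isIntegral_of_isOpenImmersion (f ⁻¹ᵁ (U.ι ≫ f).opensRange).ι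
  haveI : IsDominant (Y.homOfLE hUP) := by
    constructor
    have hopen : IsOpen (Set.range (Y.homOfLE hUP)) := (Y.homOfLE hUP).isOpenEmbedding.isOpen_range
    exact hopen.dense ⟨_, ⟨⟨u₀, hu₀⟩, rfl⟩⟩
  have hθ : Y.homOfLE hUP ≫ (f ∣_ (U.ι ≫ f).opensRange) = (U.ι ≫ f).isoOpensRange.hom := by
    rw [← cancel_mono (U.ι ≫ f).opensRange.ι, Category.assoc, morphismRestrict_ι,
      Scheme.homOfLE_ι_assoc, Scheme.Hom.isoOpensRange_hom_ι]
  have hab : (f ⁻¹ᵁ (U.ι ≫ f).opensRange).ι =
      (f ∣_ (U.ι ≫ f).opensRange) ≫ (U.ι ≫ f).isoOpensRange.inv ≫ U.ι := by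
    refine ext_of_isDominant_of_isSeparated f ?_ (Y.homOfLE hUP) ?_
    · rw [Category.assoc, Category.assoc, Scheme.Hom.isoOpensRange_inv_comp, morphismRestrict_ι]
    · rw [Scheme.homOfLE_ι, ← Category.assoc, hθ, Iso.hom_inv_id_assoc]
  intro z hz
  have h1 := congrArg (fun g : (f ⁻¹ᵁ (U.ι ≫ f).opensRange).toScheme ⟶ Y => g ⟨z, hz⟩) hab
  simp only [Scheme.Hom.comp_apply] at h1
  have h2 : (f ⁻¹ᵁ (U.ι ≫ f).opensRange).ι ⟨z, hz⟩ = z := rfl
  rw [h2] at h1
  rw [h1]
  exact (((U.ι ≫ f).isoOpensRange.inv ((f ∣_ (U.ι ≫ f).opensRange) ⟨z, hz⟩))).2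

theorem isIso_morphismRestrict_opensRange {Y X : Scheme.{u}} [IsIntegral Y] (f : Y ⟶ X)
    [IsSeparated f] (U : Y.Opens) (hUne : (U : Set Y).Nonempty) [IsOpenImmersion (U.ι ≫ f)] :
    IsIso (f ∣_ (U.ι ≫ f).opensRange) := by
  have hP := preimage_opensRange_eq f U hUne
  have hW : ∀ W : Y.Opens, W = U → IsOpenImmersion (W.ι ≫ f) := by
    rintro _ rfl; infer_instance
  haveI : IsOpenImmersion ((f ∣_ (U.ι ≫ f).opensRange) ≫ (U.ι ≫ f).opensRange.ι) := by
    rw [morphismRestrict_ι]
    exact hW _ hP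
  haveI : IsOpenImmersion (f ∣_ (U.ι ≫ f).opensRange) :=
    IsOpenImmersion.of_comp _ (U.ι ≫ f).opensRange.ι
  refine (isIso_iff_isOpenImmersion_and_surjective _).mpr ⟨inferInstance, ⟨?_⟩⟩
  rintro ⟨v, u, hu⟩
  have hmem : u.1 ∈ f ⁻¹ᵁ (U.ι ≫ f).opensRange := ⟨u, rfl⟩
  refine ⟨⟨u.1, hmem⟩, ?_⟩
  apply Subtype.ext
  rw [morphismRestrict_base_coe]
  exact hu

/-- a separated morphism locally of finite type between integral schemes which is an isomorphism
on local rings at `y` is an isomorphism over a neighbourhood of `f y` -/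
theorem exists_isIso_morphismRestrict_of_isIso_stalkMap {X Y : Scheme.{u}} [IsIntegral X]
    [IsIntegral Y] (f : Y ⟶ X) [IsSeparated f] [LocallyOfFiniteType f] (y : Y)
    (h : IsIso (f.stalkMap y)) : ∃ V : X.Opens, f y ∈ V ∧ IsIso (f ∣_ V) := by
  obtain ⟨U, hyU, hU⟩ := LocalIso.exists_isOpenImmersion_of_isIso_stalkMap f y h
  haveI := hU
  exact ⟨(U.ι ≫ f).opensRange, ⟨⟨y, hyU⟩, rfl⟩,
    isIso_morphismRestrict_opensRange f U ⟨y, hyU⟩⟩

/-- being an isomorphism over opens is stable under arbitrary unions -/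
theorem isIso_morphismRestrict_sSup {X Y : Scheme.{u}} (f : Y ⟶ X) (𝒱 : Set X.Opens)
    (h : ∀ V ∈ 𝒱, IsIso (f ∣_ V)) : IsIso (f ∣_ sSup 𝒱) := by
  refine (IsZariskiLocalAtTarget.iff_of_iSup_eq_top (P := .isomorphisms Scheme)
    (fun V : 𝒱 => (sSup 𝒱).ι ⁻¹ᵁ V.1) ?_).mpr fun V => ?_
  · rw [eq_top_iff]
    rintro ⟨x, hx⟩ -
    rw [TopologicalSpace.Opens.mem_sSup] at hx
    obtain ⟨V, hV, hxV⟩ := hx
    rw [TopologicalSpace.Opens.mem_iSup]
    exact ⟨⟨V, hV⟩, hxV⟩
  · rw [MorphismProperty.isomorphisms.iff]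
    have hle : V.1 ≤ sSup 𝒱 := le_sSup V.2
    have himg : (sSup 𝒱).ι ''ᵁ ((sSup 𝒱).ι ⁻¹ᵁ V.1) = V.1 := by
      ext x
      constructor
      · rintro ⟨z, hz, rfl⟩
        exact hz
      · intro hx
        exact ⟨⟨x, hle hx⟩, hx, rfl⟩
    have hW : ∀ W : X.Opens, W = V.1 → IsIso (f ∣_ W) := by
      rintro _ rfl; exact h _ V.2
    have := hW _ himg
    exact ((MorphismProperty.isomorphisms Scheme).arrow_mk_iso_iff
      (morphismRestrictRestrict f (sSup 𝒱) ((sSup 𝒱).ι ⁻¹ᵁ V.1))).mpr this

/-- an integral birational morphism of integral schemes is an isomorphism on local rings at every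
point lying over a normal point -/
theorem stalkMap_bijective_of_isIntegrallyClosed {X' X : Scheme.{u}} [IsIntegral X']
    [IsIntegral X] (π : X' ⟶ X) [IsIntegralHom π]
    (hgen : π (genericPoint X') = genericPoint X)
    (hst : Function.Surjective (π.stalkMap (genericPoint X')).hom)
    (x' : X') (hn : IsIntegrallyClosed (X.presheaf.stalk (π x'))) :
    Function.Bijective (π.stalkMap x').hom := by
  let σ : X.functionField ⟶ X'.functionField :=
    X.presheaf.stalkSpecializes (specializes_of_eq hgen) ≫ π.stalkMap (genericPoint X')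
  have hσsurj : Function.Surjective σ.hom := by
    simp only [σ, CommRingCat.hom_comp, RingHom.coe_comp]
    refine hst.comp ?_
    exact (ConcreteCategory.bijective_of_isIso
      (X.presheaf.stalkCongr (.of_eq hgen.symm)).hom).2
  have hσinj : Function.Injective σ.hom := RingHom.injective σ.hom
  have hsp' : genericPoint X' ⤳ x' := (genericPoint_spec X').specializes trivial
  have hsp : genericPoint X ⤳ π x' := (genericPoint_spec X).specializes trivial
  have hnat : X.presheaf.stalkSpecializes hsp ≫ σ =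
      π.stalkMap x' ≫ X'.presheaf.stalkSpecializes hsp' := by
    simp only [σ]
    rw [← Category.assoc, TopCat.Presheaf.stalkSpecializes_comp,
      ← Scheme.Hom.stalkSpecializes_stalkMap]
  have hnat' : ∀ a, σ.hom (algebraMap (X.presheaf.stalk (π x')) X.functionField a) =
      algebraMap (X'.presheaf.stalk x') X'.functionField ((π.stalkMap x').hom a) :=
    fun a => congr($hnat a)
  have hinj' : Function.Injective (algebraMap (X'.presheaf.stalk x') X'.functionField) :=
    IsFractionRing.injective _ _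
  have hinj : Function.Injective (algebraMap (X.presheaf.stalk (π x')) X.functionField) :=
    IsFractionRing.injective _ _
  refine ⟨?_, ?_⟩
  · intro a b hab
    apply hinj
    apply hσinj
    rw [hnat', hnat', hab]
  · intro z
    obtain ⟨V, hV, hxV⟩ : ∃ V : X.Opens, IsAffineOpen V ∧ π x' ∈ V := by
      obtain ⟨_, ⟨V, hV, rfl⟩, hxV, -⟩ := X.isBasis_affineOpens.exists_subset_of_mem_open
        (Set.mem_univ (π x')) isOpen_univ
      exact ⟨V, hV, hxV⟩
    have hV' : IsAffineOpen (π ⁻¹ᵁ V) := hV.preimage π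
    have hx'V' : x' ∈ π ⁻¹ᵁ V := hxV
    have key : ∀ c : Γ(X', π ⁻¹ᵁ V), ∃ a : X.presheaf.stalk (π x'),
        (π.stalkMap x').hom a = X'.presheaf.germ (π ⁻¹ᵁ V) x' hx'V' c := by
      intro c
      obtain ⟨p, hp, hp0⟩ := π.isIntegral_app V hV c
      obtain ⟨k, hk⟩ := hσsurj (algebraMap _ X'.functionField
        (X'.presheaf.germ (π ⁻¹ᵁ V) x' hx'V' c))
      let θ : Γ(X', π ⁻¹ᵁ V) →+* X'.functionField :=
        (algebraMap (X'.presheaf.stalk x') X'.functionField).comp
          (X'.presheaf.germ (π ⁻¹ᵁ V) x' hx'V').hom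
      have hθ : σ.hom.comp ((algebraMap (X.presheaf.stalk (π x')) X.functionField).comp
          (X.presheaf.germ V (π x') hxV).hom) = θ.comp (π.app V).hom := by
        ext t
        simp only [RingHom.comp_apply, θ]
        rw [hnat']
        congr 1
        exact congr($(Scheme.Hom.germ_stalkMap π V x' hxV) t)
      have hkint : IsIntegral (X.presheaf.stalk (π x')) k := by
        refine ⟨p.map (X.presheaf.germ V (π x') hxV).hom, hp.map _, ?_⟩
        apply hσinj
        rw [map_zero, Polynomial.eval₂_map, Polynomial.hom_eval₂, hk, hθ]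
        have h2 := Polynomial.hom_eval₂ p (π.app V).hom θ c
        rw [hp0, map_zero] at h2
        exact h2.symm
      obtain ⟨a, ha⟩ := IsIntegrallyClosed.isIntegral_iff.mp hkint
      refine ⟨a, ?_⟩
      apply hinj'
      rw [← hnat', ha, hk]
    letI := X'.presheaf.algebra_section_stalk ⟨x', hx'V'⟩
    haveI := hV'.isLocalization_stalk ⟨x', hx'V'⟩
    obtain ⟨⟨b, s⟩, hbs⟩ :=
      IsLocalization.surj (hV'.primeIdealOf ⟨x', hx'V'⟩).asIdeal.primeCompl z
    have hbs' : z * X'.presheaf.germ (π ⁻¹ᵁ V) x' hx'V' s.1 =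
        X'.presheaf.germ (π ⁻¹ᵁ V) x' hx'V' b := hbs
    obtain ⟨ab, hab⟩ := key b
    obtain ⟨as, has⟩ := key s.1
    have hunit : IsUnit as := by
      by_contra hnu
      have h2 : ¬ IsUnit ((π.stalkMap x').hom as) := fun hu =>
        hnu ((isUnit_map_iff (π.stalkMap x').hom as).mp hu)
      rw [has] at h2
      exact s.2 ((LocalIso.mem_primeIdealOf_iff hV' x' hx'V' s.1).mpr h2)
    obtain ⟨u, hu⟩ := hunit
    refine ⟨ab * ↑u⁻¹, ?_⟩
    rw [map_mul, hab, ← hbs', ← has, ← hu, mul_assoc, ← map_mul, Units.mul_inv, map_one, mul_one]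

/-- at a point where `f` is quasi-finite, the map to the relative normalization is an
isomorphism on local rings (Zariski's main theorem) -/
theorem stalkMap_toNormalization_bijective {Y X : Scheme.{u}} (f : Y ⟶ X)
    [LocallyOfFiniteType f] [IsSeparated f] [QuasiCompact f] (y : Y) (hq : f.QuasiFiniteAt y) :
    Function.Bijective (f.toNormalization.stalkMap y).hom := by
  have hyQ : y ∈ f.quasiFiniteLocus := hq
  haveI : IsOpenImmersion (f.quasiFiniteLocus.ι ≫ f.toNormalization) := inferInstance
  let y' : f.quasiFiniteLocus.toScheme := ⟨y, hyQ⟩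
  have h := Scheme.Hom.stalkMap_comp f.quasiFiniteLocus.ι f.toNormalization y'
  have h1 : Function.Bijective ((f.quasiFiniteLocus.ι ≫ f.toNormalization).stalkMap y').hom :=
    ConcreteCategory.bijective_of_isIso _
  rw [h] at h1
  have h2 : Function.Bijective (f.quasiFiniteLocus.ι.stalkMap y').hom :=
    ConcreteCategory.bijective_of_isIso _
  have h3 : Function.Bijective ((f.quasiFiniteLocus.ι.stalkMap y').hom ∘
      (f.toNormalization.stalkMap (f.quasiFiniteLocus.ι y')).hom) := h1
  exact (Function.Bijective.of_comp_iff' h2 _).mp h3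

/-- a separated birational morphism of finite type between integral schemes is an isomorphism on
local rings at any point at which it is quasi-finite and whose image is a normal point -/
theorem stalkMap_bijective_of_quasiFiniteAt {X Y : Scheme.{u}} [IsIntegral X] [IsIntegral Y]
    (f : Y ⟶ X) [IsSeparated f] [LocallyOfFiniteType f] [QuasiCompact f]
    (hgen : f (genericPoint Y) = genericPoint X)
    (hbir : Function.Surjective (f.stalkMap (genericPoint Y)).hom)
    (y : Y) (hx : IsIntegrallyClosed (X.presheaf.stalk (f y))) (hq : f.QuasiFiniteAt y) :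
    Function.Bijective (f.stalkMap y).hom := by
  haveI : IsIntegral f.normalization := inferInstance
  -- the generic point is in the quasi-finite locus
  have hηQ : f.QuasiFiniteAt (genericPoint Y) := by
    have : genericPoint Y ∈ f.quasiFiniteLocus :=
      ((genericPoint_spec Y).mem_open_set_iff f.quasiFiniteLocus.isOpen).mpr
        ⟨y, Set.mem_univ _, hq⟩
    exact this
  have hb_η := stalkMap_toNormalization_bijective f (genericPoint Y) hηQ
  have hb_y := stalkMap_toNormalization_bijective f y hq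
  -- generic points
  have hjη : f.toNormalization (genericPoint Y) = genericPoint f.normalization := by
    symm
    apply (genericPoint_spec f.normalization).eq
    rw [IsGenericPoint, ← Set.image_singleton, ← Set.univ_subset_iff]
    have hd : DenseRange f.toNormalization := f.toNormalization.denseRange
    calc Set.univ = closure (Set.range f.toNormalization) := hd.closure_range.symm
      _ = closure (f.toNormalization '' Set.univ) := by rw [Set.image_univ]
      _ = closure (f.toNormalization '' closure {genericPoint Y}) := by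
          rw [(genericPoint_spec Y).def]
      _ ⊆ closure (closure (f.toNormalization '' {genericPoint Y})) :=
          closure_mono (image_closure_subset_closure_image f.toNormalization.continuous)
      _ = closure (f.toNormalization '' {genericPoint Y}) := closure_closure
  have hπη : f.fromNormalization (genericPoint f.normalization) = genericPoint X := by
    rw [← hjη, ← Scheme.Hom.comp_apply, f.toNormalization_fromNormalization]
    exact hgen
  -- the stalk maps of `f` in terms of the factorization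
  have hcomp : ∀ (g : Y ⟶ X), g = f → ∀ z : Y,
      (Function.Surjective (f.stalkMap z).hom → Function.Surjective (g.stalkMap z).hom) ∧
      (Function.Bijective (g.stalkMap z).hom → Function.Bijective (f.stalkMap z).hom) := by
    rintro g rfl z
    exact ⟨id, id⟩
  have hfac := hcomp _ f.toNormalization_fromNormalization
  -- surjectivity at the generic point
  have hπst : Function.Surjective
      (f.fromNormalization.stalkMap (f.toNormalization (genericPoint Y))).hom := by
    have h1 := (hfac (genericPoint Y)).1 hbir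
    rw [Scheme.Hom.stalkMap_comp] at h1
    intro z
    obtain ⟨a, ha⟩ := h1 ((f.toNormalization.stalkMap (genericPoint Y)).hom z)
    exact ⟨a, hb_η.1 ha⟩
  have key : ∀ x' : f.normalization, f.toNormalization (genericPoint Y) = x' →
      Function.Surjective (f.fromNormalization.stalkMap x').hom := by
    rintro _ rfl
    exact hπst
  -- the stalk map at `y`
  have hxy : f.fromNormalization (f.toNormalization y) = f y := by
    rw [← Scheme.Hom.comp_apply, f.toNormalization_fromNormalization]
  have hn : IsIntegrallyClosed (X.presheaf.stalk (f.fromNormalization (f.toNormalization y))) := by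
    have : ∀ x : X, x = f y → IsIntegrallyClosed (X.presheaf.stalk x) := by
      rintro _ rfl; exact hx
    exact this _ hxy
  have hbπ := stalkMap_bijective_of_isIntegrallyClosed f.fromNormalization hπη (key _ hjη)
    (f.toNormalization y) hn
  have hbf : Function.Bijective (f.stalkMap y).hom := by
    refine (hfac y).2 ?_
    rw [Scheme.Hom.stalkMap_comp]
    exact hb_y.comp hbπ
  exact hbf

/-- a separated morphism of finite type between integral schemes which is birational is an
isomorphism over a neighbourhood of the image of any point at which it is quasi-finite and whose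
image is a normal point -/
theorem exists_isIso_morphismRestrict {X Y : Scheme.{u}} [IsIntegral X] [IsIntegral Y]
    (f : Y ⟶ X) [IsSeparated f] [LocallyOfFiniteType f] [QuasiCompact f]
    (hgen : f (genericPoint Y) = genericPoint X)
    (hbir : Function.Surjective (f.stalkMap (genericPoint Y)).hom)
    (y : Y) (hx : IsIntegrallyClosed (X.presheaf.stalk (f y))) (hq : f.QuasiFiniteAt y) :
    ∃ V : X.Opens, f y ∈ V ∧ IsIso (f ∣_ V) :=
  exists_isIso_morphismRestrict_of_isIso_stalkMap f y
    ((ConcreteCategory.isIso_iff_bijective _).mpr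
      (stalkMap_bijective_of_quasiFiniteAt f hgen hbir y hx hq))

/-- version of `stalkMap_bijective_of_quasiFiniteAt` without quasi-compactness -/
theorem isIso_stalkMap_of_quasiFiniteAt {X Y : Scheme.{u}} [IsIntegral X] [IsIntegral Y]
    (f : X ⟶ Y) [IsSeparated f] [LocallyOfFiniteType f]
    (hgen : f (genericPoint X) = genericPoint Y)
    (hbir : IsIso (f.stalkMap (genericPoint X)))
    (x₀ : X) (hn : IsIntegrallyClosed (Y.presheaf.stalk (f x₀))) (hq : f.QuasiFiniteAt x₀) :
    IsIso (f.stalkMap x₀) := by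
  obtain ⟨V, hV, hxV⟩ : ∃ V : Y.Opens, IsAffineOpen V ∧ f x₀ ∈ V := by
    obtain ⟨_, ⟨V, hV, rfl⟩, hxV, -⟩ := Y.isBasis_affineOpens.exists_subset_of_mem_open
      (Set.mem_univ (f x₀)) isOpen_univ
    exact ⟨V, hV, hxV⟩
  obtain ⟨U, hU, hxU, e⟩ : ∃ U : X.Opens, IsAffineOpen U ∧ x₀ ∈ U ∧ U ≤ f ⁻¹ᵁ V := by
    obtain ⟨_, ⟨U, hU, rfl⟩, hxU, hUW⟩ := X.isBasis_affineOpens.exists_subset_of_mem_open
      (show x₀ ∈ ((f ⁻¹ᵁ V : X.Opens) : Set X) from hxV) (f ⁻¹ᵁ V).isOpen
    exact ⟨U, hU, hxU, hUW⟩
  have hηU : genericPoint X ∈ U :=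
    ((genericPoint_spec X).mem_open_set_iff U.isOpen).mpr ⟨x₀, Set.mem_univ _, hxU⟩
  have hηV : genericPoint Y ∈ V := by
    have := e hηU
    rwa [Scheme.Hom.mem_preimage, hgen] at this
  haveI : Nonempty U.toScheme := ⟨⟨_, hηU⟩⟩
  haveI : Nonempty V.toScheme := ⟨⟨_, hηV⟩⟩
  haveI : IsIntegral U.toScheme := isIntegral_of_isOpenImmersion U.ι
  haveI : IsIntegral V.toScheme := isIntegral_of_isOpenImmersion V.ι
  haveI : IsAffine V.toScheme := hV
  haveI : IsAffine U.toScheme := hU
  haveI : LocallyOfFiniteType (f.resLE V U e ≫ V.ι) := by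
    rw [Scheme.Hom.resLE_comp_ι]; infer_instance
  haveI : LocallyOfFiniteType (f.resLE V U e) := locallyOfFiniteType_of_comp _ V.ι
  let ηU : U.toScheme := ⟨genericPoint X, hηU⟩
  have hηU' : ηU = genericPoint U.toScheme := by
    apply U.ι.isOpenEmbedding.injective
    rw [genericPoint_eq_of_isOpenImmersion U.ι]
    rfl
  have hfη : f.resLE V U e ηU = genericPoint V.toScheme := by
    apply V.ι.isOpenEmbedding.injective
    rw [genericPoint_eq_of_isOpenImmersion V.ι]
    show ((f.resLE V U e) ηU).1 = _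
    rw [Scheme.Hom.coe_resLE_apply]
    exact hgen
  have hst : IsIso ((f.resLE V U e).stalkMap ηU) :=
    ((MorphismProperty.isomorphisms CommRingCat).arrow_mk_iso_iff
      (Scheme.Hom.resLEStalkMap f e ηU)).mpr hbir
  have hgen' : f.resLE V U e (genericPoint U.toScheme) = genericPoint V.toScheme := by
    rw [← hηU']; exact hfη
  have hst' : Function.Surjective ((f.resLE V U e).stalkMap (genericPoint U.toScheme)).hom := by
    have : ∀ z : U.toScheme, ηU = z → Function.Surjective ((f.resLE V U e).stalkMap z).hom := by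
      rintro _ rfl
      exact (ConcreteCategory.bijective_of_isIso _).2
    exact this _ hηU'
  let x₀' : U.toScheme := ⟨x₀, hxU⟩
  have hq' : (f.resLE V U e).QuasiFiniteAt x₀' := by
    rw [← Scheme.Hom.quasiFiniteAt_comp_iff (g := V.ι), Scheme.Hom.resLE_comp_ι,
      Scheme.Hom.quasiFiniteAt_comp_iff_of_isOpenImmersion]
    exact hq
  have hn' : IsIntegrallyClosed (V.toScheme.presheaf.stalk (f.resLE V U e x₀')) := by
    have h1 : ((f.resLE V U e) x₀').1 = f x₀ := Scheme.Hom.coe_resLE_apply f e x₀'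
    have h2 : ∀ z : Y, z = f x₀ → IsIntegrallyClosed (Y.presheaf.stalk z) := by
      rintro _ rfl; exact hn
    haveI := h2 _ h1
    exact IsIntegrallyClosed.of_equiv
      (V.stalkIso ((f.resLE V U e) x₀')).commRingCatIsoToRingEquiv.symm
  have hb := stalkMap_bijective_of_quasiFiniteAt (f.resLE V U e) hgen' hst' x₀' hn' hq'
  have h3 : IsIso ((f.resLE V U e).stalkMap x₀') := (ConcreteCategory.isIso_iff_bijective _).mpr hb
  exact ((MorphismProperty.isomorphisms CommRingCat).arrow_mk_iso_iff
      (Scheme.Hom.resLEStalkMap f e x₀')).mp h3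

/-- a separated birational morphism locally of finite type between integral schemes is an
isomorphism over a neighbourhood of the image of any point at which it is quasi-finite and whose
image is a normal point -/
theorem exists_isIso_morphismRestrict' {X Y : Scheme.{u}} [IsIntegral X] [IsIntegral Y]
    (f : X ⟶ Y) [IsSeparated f] [LocallyOfFiniteType f]
    (hgen : f (genericPoint X) = genericPoint Y)
    (hbir : IsIso (f.stalkMap (genericPoint X)))
    (x₀ : X) (hn : IsIntegrallyClosed (Y.presheaf.stalk (f x₀))) (hq : f.QuasiFiniteAt x₀) :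
    ∃ V : Y.Opens, f x₀ ∈ V ∧ IsIso (f ∣_ V) :=
  exists_isIso_morphismRestrict_of_isIso_stalkMap f x₀
    (isIso_stalkMap_of_quasiFiniteAt f hgen hbir x₀ hn hq)

/-- a morphism of integral schemes which is an isomorphism over a nonempty open is birational -/
theorem birational_of_isIso_morphismRestrict {X Y : Scheme.{u}} [IsIntegral X] [IsIntegral Y]
    (f : X ⟶ Y) (W : Y.Opens) (hW : (W : Set Y).Nonempty) (hfW : IsIso (f ∣_ W)) :
    f (genericPoint X) = genericPoint Y ∧ IsIso (f.stalkMap (genericPoint X)) := by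
  obtain ⟨w, hw⟩ := hW
  haveI : Nonempty W.toScheme := ⟨⟨w, hw⟩⟩
  haveI : IsIntegral W.toScheme := isIntegral_of_isOpenImmersion W.ι
  haveI : Nonempty (f ⁻¹ᵁ W).toScheme := ⟨(inv (f ∣_ W)) ⟨w, hw⟩⟩
  haveI : IsIntegral (f ⁻¹ᵁ W).toScheme := isIntegral_of_isOpenImmersion (f ⁻¹ᵁ W).ι
  have h1 : (f ∣_ W) (genericPoint (f ⁻¹ᵁ W).toScheme) = genericPoint W.toScheme :=
    genericPoint_eq_of_isOpenImmersion (f ∣_ W)
  have h2 : (f ⁻¹ᵁ W).ι (genericPoint (f ⁻¹ᵁ W).toScheme) = genericPoint X :=
    genericPoint_eq_of_isOpenImmersion _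
  have h3 : W.ι (genericPoint W.toScheme) = genericPoint Y :=
    genericPoint_eq_of_isOpenImmersion _
  refine ⟨?_, ?_⟩
  · rw [← h2, ← Scheme.Hom.comp_apply, ← morphismRestrict_ι, Scheme.Hom.comp_apply, h1, h3]
  · have e := morphismRestrictStalkMap f W (genericPoint (f ⁻¹ᵁ W).toScheme)
    have h4 : IsIso (f.stalkMap (genericPoint (f ⁻¹ᵁ W).toScheme).1) :=
      ((MorphismProperty.isomorphisms CommRingCat).arrow_mk_iso_iff e).mp
        (inferInstanceAs (IsIso ((f ∣_ W).stalkMap _)))
    have key : ∀ z : X, z = genericPoint X → IsIso (f.stalkMap z) →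
        IsIso (f.stalkMap (genericPoint X)) := by
      rintro _ rfl h; exact h
    exact key _ h2 h4

/-- an isolated point of a fibre is a point at which the morphism is quasi-finite -/
theorem quasiFiniteAt_of_isOpen_singleton {X Y : Scheme.{u}} (f : X ⟶ Y) [LocallyOfFiniteType f]
    (y : Y) (x : f.fiber y) (h : IsOpen ({x} : Set (f.fiber y))) :
    f.QuasiFiniteAt (f.fiberι y x) ∧ f (f.fiberι y x) = y := by
  have hfx : f (f.fiberι y x) = y := (f.fiberHomeo y x).2
  refine ⟨?_, hfx⟩
  have aux : ∀ (y' : Y) (_ : y = y') (x' : f.fiber y'), f.fiberι y' x' = f.fiberι y x →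
      IsOpen ({x'} : Set (f.fiber y')) := by
    rintro _ rfl x' hx'
    have : x' = x := (f.fiberι y).isEmbedding.injective hx'
    rw [this]; exact h
  rw [Scheme.Hom.quasiFiniteAt_iff_isOpen_singleton_asFiber]
  exact aux _ hfx.symm _ (f.fiberι_asFiber _)

/-- a separated closed birational morphism locally of finite type between integral schemes is an
isomorphism over a neighbourhood of every point whose local ring is a valuation ring -/
theorem exists_isIso_morphismRestrict_of_valuationRing {X Y : Scheme.{u}} [IsIntegral X]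
    [IsIntegral Y] [IsLocallyNoetherian Y]
    (f : X ⟶ Y) [IsSeparated f] [LocallyOfFiniteType f] (hcl : IsClosedMap f.base)
    (hgen : f (genericPoint X) = genericPoint Y) (hbir : IsIso (f.stalkMap (genericPoint X)))
    (y : Y) [ValuationRing (Y.presheaf.stalk y)] : ∃ V : Y.Opens, y ∈ V ∧ IsIso (f ∣_ V) := by
  obtain ⟨V₁, hηV₁, hiso₁⟩ := exists_isIso_morphismRestrict_of_isIso_stalkMap f (genericPoint X) hbir
  haveI := hiso₁
  have hηV₁' : genericPoint Y ∈ V₁ := hgen ▸ hηV₁
  have hdense : Dense (V₁ : Set Y) := V₁.isOpen.dense ⟨_, hηV₁'⟩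
  have hs : (inv (f ∣_ V₁) ≫ (f ⁻¹ᵁ V₁).ι) ≫ f = V₁.ι := by
    rw [Category.assoc, ← morphismRestrict_ι, IsIso.inv_hom_id_assoc]
  obtain ⟨W, hyW, g, hg, hag⟩ := CodimOne.exists_local_extension f hcl V₁ hdense
    (inv (f ∣_ V₁) ≫ (f ⁻¹ᵁ V₁).ι) hs y
  have hηW : genericPoint Y ∈ W :=
    ((genericPoint_spec Y).mem_open_set_iff W.isOpen).mpr ⟨y, Set.mem_univ _, hyW⟩
  haveI : Nonempty W.toScheme := ⟨⟨y, hyW⟩⟩
  haveI : IsIntegral W.toScheme := isIntegral_of_isOpenImmersion W.ι
  -- the section maps the generic point to the generic point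
  let b₁ : V₁.toScheme := ⟨genericPoint Y, hηV₁'⟩
  let b₂ : W.toScheme := ⟨genericPoint Y, hηW⟩
  obtain ⟨p, hp1, hp2⟩ := Scheme.Pullback.exists_preimage_pullback (f := V₁.ι) (g := W.ι) b₁ b₂ rfl
  have hgη : g b₂ = genericPoint X := by
    have h1 := congrArg (fun φ : pullback V₁.ι W.ι ⟶ X => φ p) hag
    simp only [Scheme.Hom.comp_apply] at h1
    rw [hp1, hp2] at h1
    rw [← h1]
    let a : (f ⁻¹ᵁ V₁).toScheme := ⟨genericPoint X, hηV₁⟩
    have ha : (f ∣_ V₁) a = b₁ := by
      apply Subtype.ext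
      rw [morphismRestrict_base_coe]
      exact hgen
    have hinv : (inv (f ∣_ V₁)) b₁ = a := by
      rw [← ha, ← Scheme.Hom.comp_apply, IsIso.hom_inv_id]
      rfl
    rw [hinv]
    rfl
  have hgd : DenseRange g := by
    have hsub : closure ({genericPoint X} : Set X) ⊆ closure (Set.range g) :=
      closure_mono (Set.singleton_subset_iff.mpr ⟨b₂, hgη⟩)
    rw [(genericPoint_spec X).def] at hsub
    rw [DenseRange, dense_iff_closure_eq]
    exact Set.eq_univ_of_univ_subset hsub
  let y' : W.toScheme := ⟨y, hyW⟩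
  have hρ : Function.Injective (g.stalkMap y').hom :=
    FlatDimOne.stalkMap_injective_of_denseRange g hgd y'
  have hcomp : ∀ h : W.toScheme ⟶ Y, h = W.ι → Function.Bijective (h.stalkMap y').hom := by
    rintro _ rfl
    exact ConcreteCategory.bijective_of_isIso _
  have hb := hcomp _ hg
  rw [Scheme.Hom.stalkMap_comp] at hb
  have hb' : Function.Bijective ((g.stalkMap y').hom ∘ (f.stalkMap (g y')).hom) := hb
  have hφ : Function.Bijective (f.stalkMap (g y')).hom := by
    refine ⟨Function.Injective.of_comp hb'.1, fun z => ?_⟩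
    obtain ⟨a, ha⟩ := hb'.2 ((g.stalkMap y').hom z)
    exact ⟨a, hρ ha⟩
  obtain ⟨V, hV, hiso⟩ := exists_isIso_morphismRestrict_of_isIso_stalkMap f (g y')
    ((ConcreteCategory.isIso_iff_bijective _).mpr hφ)
  have hfx : f (g y') = y := by
    rw [← Scheme.Hom.comp_apply, hg]
    rfl
  exact ⟨V, hfx ▸ hV, hiso⟩

end Groth.Agent.Lib.Helper13.ProperBirational
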