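import Mathlib
import Groth.Agent.Lib.Helper13.LocalIsoFP
import Groth.Agent.Lib.Helper13.ProperBirational

/-!
# van der Waerden purity (factorial target)

`surjective_of_ufd`: if `R ⊆ S` are local domains with the same fraction field, `R` a UFD, `S`
Noetherian of dimension `≥ 2`, and `S_𝔮 = R_{𝔮 ∩ R}` for all non-maximal primes `𝔮`, then `R = S`.
-/

universe u

open CategoryTheory AlgebraicGeometry TopologicalSpace Opposite IsLocalRing

namespace Groth.Agent.Lib.Helper13.VdWPurity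

theorem surjective_of_ufd {R S K : Type*} [CommRing R] [IsDomain R] [UniqueFactorizationMonoid R]
    [CommRing S] [IsDomain S] [IsNoetherianRing S] [IsLocalRing R] [IsLocalRing S]
    [Field K] [Algebra R S] [Algebra R K] [Algebra S K] [IsScalarTower R S K]
    [IsFractionRing R K] [IsFractionRing S K] [IsLocalHom (algebraMap R S)]
    (hdim : ¬ ringKrullDim S ≤ 1)
    (H : ∀ 𝔮 : Ideal S, 𝔮.IsPrime → 𝔮 ≠ maximalIdeal S → ∀ t : S,
      ∃ a b : R, algebraMap R S b ∉ 𝔮 ∧ t * algebraMap R S b = algebraMap R S a) :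
    Function.Surjective (algebraMap R S) := by
  intro t
  obtain ⟨a, b, hrel, hab⟩ := IsFractionRing.exists_reduced_fraction (A := R) (K := K)
    (algebraMap S K t)
  have hb0 : (b : R) ≠ 0 := nonZeroDivisors.ne_zero b.2
  have hK : algebraMap S K t * algebraMap R K b = algebraMap R K a := by
    rw [← hab, IsLocalization.mk'_spec]
  have hbu : IsUnit (b : R) := by
    by_contra hnu
    obtain ⟨π, hπirr, hπb⟩ := WfDvdMonoid.exists_irreducible_factor hnu hb0
    have hπ : Prime π := UniqueFactorizationMonoid.irreducible_iff_prime.mp hπirr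
    have hπS : algebraMap R S π ∈ maximalIdeal S := by
      rw [mem_maximalIdeal, mem_nonunits_iff]
      intro hu
      exact hπ.not_unit (isUnit_of_map_unit (algebraMap R S) π hu)
    obtain ⟨𝔮, h𝔮min, h𝔮le⟩ := Ideal.exists_minimalPrimes_le
      (show Ideal.span {algebraMap R S π} ≤ maximalIdeal S from
        (Ideal.span_singleton_le_iff_mem _).mpr hπS)
    haveI h𝔮 : 𝔮.IsPrime := h𝔮min.1.1
    have hπ𝔮 : algebraMap R S π ∈ 𝔮 := h𝔮min.1.2 (Ideal.subset_span rfl)
    have hht : 𝔮.height ≤ 1 :=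
      Ideal.height_le_one_of_isPrincipal_of_mem_minimalPrimes _ 𝔮 h𝔮min
    have hne : 𝔮 ≠ maximalIdeal S := by
      intro h
      apply hdim
      rw [← IsLocalRing.maximalIdeal_height_eq_ringKrullDim, ← h]
      exact_mod_cast hht
    obtain ⟨a', b', hb', hab'⟩ := H 𝔮 h𝔮 hne t
    have hK' : algebraMap S K t * algebraMap R K b' = algebraMap R K a' := by
      rw [IsScalarTower.algebraMap_apply R S K b', ← map_mul, hab',
        ← IsScalarTower.algebraMap_apply]
    have hcross : a * b' = a' * b := by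
      apply IsFractionRing.injective R K
      rw [map_mul, map_mul, ← hK, ← hK']
      ring
    have hdvd : π ∣ a * b' := by
      rw [hcross]
      exact Dvd.dvd.mul_left hπb a'
    rcases hπ.dvd_or_dvd hdvd with h1 | h2
    · exact hπ.not_unit (hrel h1 hπb)
    · obtain ⟨c, rfl⟩ := h2
      apply hb'
      rw [map_mul]
      exact 𝔮.mul_mem_right _ hπ𝔮
  obtain ⟨u, hu⟩ := hbu
  refine ⟨a * ↑u⁻¹, ?_⟩
  apply IsFractionRing.injective S K
  rw [← IsScalarTower.algebraMap_apply, map_mul]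
  have hbK : algebraMap R K b ≠ 0 := by
    rw [Ne, map_eq_zero_iff _ (IsFractionRing.injective R K)]
    exact hb0
  have : algebraMap R K ↑u⁻¹ * algebraMap R K b = 1 := by
    rw [← map_mul, ← hu, Units.inv_mul, map_one]
  rw [← hK, mul_assoc, mul_comm (algebraMap R K b), this, mul_one]

/-- A morphism which is an open immersion on an open `W` has isomorphic stalk maps on `W`. -/
theorem isIso_stalkMap_of_isOpenImmersion_comp {X Y : Scheme.{u}} (g : X ⟶ Y) (W : X.Opens)
    [IsOpenImmersion (W.ι ≫ g)] (x : X) (hx : x ∈ W) : IsIso (g.stalkMap x) := by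
  have h := Scheme.Hom.stalkMap_comp W.ι g ⟨x, hx⟩
  have h1 : IsIso ((W.ι ≫ g).stalkMap ⟨x, hx⟩) := inferInstance
  rw [h] at h1
  have h2 : IsIso (W.ι.stalkMap ⟨x, hx⟩) := inferInstance
  exact @IsIso.of_isIso_comp_right _ _ _ _ _ (g.stalkMap _) (W.ι.stalkMap ⟨x, hx⟩) h2 h1

/-- Every element of the stalk at a generization is a fraction of elements coming from the stalk
at the specialization. -/
theorem exists_stalkSpecializes_eq {Y : Scheme.{u}} {y' y : Y} (h : y' ⤳ y)
    (r : Y.presheaf.stalk y') :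
    ∃ a b : Y.presheaf.stalk y, IsUnit (Y.presheaf.stalkSpecializes h b) ∧
      r * Y.presheaf.stalkSpecializes h b = Y.presheaf.stalkSpecializes h a := by
  obtain ⟨_, ⟨V : Y.Opens, hV, rfl⟩, hyV, -⟩ :=
    Y.isBasis_affineOpens.exists_subset_of_mem_open (Set.mem_univ y) isOpen_univ
  have hy'V : y' ∈ V := h.mem_open V.2 hyV
  letI := Y.presheaf.algebra_section_stalk (⟨y', hy'V⟩ : V)
  haveI := hV.isLocalization_stalk ⟨y', hy'V⟩
  obtain ⟨⟨c, d⟩, hcd⟩ := IsLocalization.surj (hV.primeIdealOf ⟨y', hy'V⟩).asIdeal.primeCompl r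
  refine ⟨Y.presheaf.germ V y hyV c, Y.presheaf.germ V y hyV d, ?_, ?_⟩
  · rw [TopCat.Presheaf.germ_stalkSpecializes_apply]
    exact IsLocalization.map_units (M := (hV.primeIdealOf ⟨y', hy'V⟩).asIdeal.primeCompl)
      (Y.presheaf.stalk y') d
  · rw [TopCat.Presheaf.germ_stalkSpecializes_apply, TopCat.Presheaf.germ_stalkSpecializes_apply]
    exact hcd

theorem isFractionRing_stalkSpecializes {Y : Scheme.{u}} [IsIntegral Y] {y₀ y : Y}
    (h₀ : y₀ = genericPoint Y) (h : y₀ ⤳ y) :
    @IsFractionRing (Y.presheaf.stalk y) _ (Y.presheaf.stalk y₀) _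
      (Y.presheaf.stalkSpecializes h).hom.toAlgebra := by
  subst h₀
  exact (inferInstance : IsFractionRing (Y.presheaf.stalk y) Y.functionField)

/-- van der Waerden purity, local form: birational morphism to a factorial point, local iso at
all proper generizations of `ξ`, `dim O_{X,ξ} ≥ 2` ⇒ stalk map at `ξ` is an isomorphism. -/
theorem isIso_stalkMap_of_ufd {X Y : Scheme.{u}} [IsIntegral X] [IsLocallyNoetherian X]
    [IsIntegral Y] (g : X ⟶ Y) (hgen : g (genericPoint X) = genericPoint Y)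
    (hbir : IsIso (g.stalkMap (genericPoint X)))
    (ξ : X) [UniqueFactorizationMonoid (Y.presheaf.stalk (g ξ))]
    (hdim : ¬ ringKrullDim (X.presheaf.stalk ξ) ≤ 1)
    (H : ∀ η : X, η ⤳ ξ → η ≠ ξ → IsIso (g.stalkMap η)) :
    IsIso (g.stalkMap ξ) := by
  have hηξ : genericPoint X ⤳ ξ := (genericPoint_spec X).specializes trivial
  have hgηξ : g (genericPoint X) ⤳ g ξ := g.base.hom.map_specializes hηξ
  let φ : Y.presheaf.stalk (g ξ) →+* X.presheaf.stalk ξ := (g.stalkMap ξ).hom
  letI : Algebra (Y.presheaf.stalk (g ξ)) (X.presheaf.stalk ξ) := φ.toAlgebra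
  letI : Algebra (Y.presheaf.stalk (g ξ)) X.functionField :=
    ((algebraMap (X.presheaf.stalk ξ) X.functionField).comp φ).toAlgebra
  haveI : IsScalarTower (Y.presheaf.stalk (g ξ)) (X.presheaf.stalk ξ) X.functionField :=
    IsScalarTower.of_algebraMap_eq' rfl
  have halgS : ∀ s : X.presheaf.stalk ξ,
      algebraMap (X.presheaf.stalk ξ) X.functionField s = X.presheaf.stalkSpecializes hηξ s :=
    fun s => rfl
  haveI : IsFractionRing (Y.presheaf.stalk (g ξ)) X.functionField := by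
    letI alg0 : Algebra (Y.presheaf.stalk (g ξ)) (Y.presheaf.stalk (g (genericPoint X))) :=
      (Y.presheaf.stalkSpecializes hgηξ).hom.toAlgebra
    haveI : IsFractionRing (Y.presheaf.stalk (g ξ)) (Y.presheaf.stalk (g (genericPoint X))) :=
      isFractionRing_stalkSpecializes hgen hgηξ
    haveI := hbir
    let e : Y.presheaf.stalk (g (genericPoint X)) ≃+* X.functionField :=
      (asIso (g.stalkMap (genericPoint X))).commRingCatIsoToRingEquiv
    let e' : Y.presheaf.stalk (g (genericPoint X)) ≃ₐ[Y.presheaf.stalk (g ξ)] X.functionField :=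
      AlgEquiv.ofRingEquiv (f := e) (by
        intro x
        change g.stalkMap (genericPoint X) (Y.presheaf.stalkSpecializes hgηξ x) =
          X.presheaf.stalkSpecializes hηξ (g.stalkMap ξ x)
        exact Scheme.Hom.stalkSpecializes_stalkMap_apply g _ _ hηξ x)
    exact IsLocalization.isLocalization_of_algEquiv _ e'
  haveI : IsLocalHom (algebraMap (Y.presheaf.stalk (g ξ)) (X.presheaf.stalk ξ)) :=
    (inferInstance : IsLocalHom (g.stalkMap ξ).hom)
  have hinj : Function.Injective (X.fromSpecStalk ξ) := (X.fromSpecStalk ξ).isEmbedding.injective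
  have hsurj : Function.Surjective φ := by
    refine surjective_of_ufd (R := Y.presheaf.stalk (g ξ)) (S := X.presheaf.stalk ξ)
      (K := X.functionField) hdim ?_
    intro 𝔮 h𝔮 hne t
    set η := (X.fromSpecStalk ξ) (⟨𝔮, h𝔮⟩ : PrimeSpectrum (X.presheaf.stalk ξ)) with hηdef
    have hη : η ⤳ ξ := by
      have : η ∈ Set.range (X.fromSpecStalk ξ) := ⟨_, rfl⟩
      rwa [Scheme.range_fromSpecStalk] at this
    have hηne : η ≠ ξ := by
      intro h
      have : (⟨𝔮, h𝔮⟩ : PrimeSpectrum (X.presheaf.stalk ξ)) = closedPoint _ :=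
        hinj (h.trans Scheme.fromSpecStalk_closedPoint.symm)
      exact hne (congrArg PrimeSpectrum.asIdeal this)
    haveI := H η hη hηne
    have h𝔮eq : (⟨𝔮, h𝔮⟩ : PrimeSpectrum (X.presheaf.stalk ξ)) =
        PrimeSpectrum.comap (X.presheaf.stalkSpecializes hη).hom
          (closedPoint (X.presheaf.stalk η)) := by
      apply hinj
      have h2 : (X.fromSpecStalk ξ) ((Spec.map (X.presheaf.stalkSpecializes hη))
          (closedPoint (X.presheaf.stalk η))) = η := by
        rw [← Scheme.Hom.comp_apply, Scheme.SpecMap_stalkSpecializes_fromSpecStalk,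
          Scheme.fromSpecStalk_closedPoint]
      exact h2.symm
    have hmem𝔮 : ∀ s : X.presheaf.stalk ξ,
        s ∈ 𝔮 ↔ X.presheaf.stalkSpecializes hη s ∈ maximalIdeal (X.presheaf.stalk η) := by
      intro s
      have := congrArg PrimeSpectrum.asIdeal h𝔮eq
      change 𝔮 = _ at this
      rw [this]
      rfl
    have hspinj : Function.Injective (X.presheaf.stalkSpecializes hη) := by
      have hη' : genericPoint X ⤳ η := (genericPoint_spec X).specializes trivial
      have hcomp : ∀ s, X.presheaf.stalkSpecializes hη' (X.presheaf.stalkSpecializes hη s) =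
          algebraMap (X.presheaf.stalk ξ) X.functionField s := by
        intro s
        rw [halgS, ← CommRingCat.comp_apply, TopCat.Presheaf.stalkSpecializes_comp]
      intro s s' hss'
      apply IsFractionRing.injective (X.presheaf.stalk ξ) X.functionField
      rw [← hcomp, ← hcomp, hss']
    let eη : Y.presheaf.stalk (g η) ≃+* X.presheaf.stalk η :=
      (asIso (g.stalkMap η)).commRingCatIsoToRingEquiv
    set r := eη.symm (X.presheaf.stalkSpecializes hη t) with hr
    have hr' : g.stalkMap η r = X.presheaf.stalkSpecializes hη t := eη.apply_symm_apply _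
    obtain ⟨a, b, hbu, hab⟩ := exists_stalkSpecializes_eq (g.base.hom.map_specializes hη) r
    refine ⟨a, b, ?_, ?_⟩
    · intro hmem
      have h1 : X.presheaf.stalkSpecializes hη (g.stalkMap ξ b) ∈
          maximalIdeal (X.presheaf.stalk η) := (hmem𝔮 _).mp hmem
      rw [← Scheme.Hom.stalkSpecializes_stalkMap_apply] at h1
      exact h1 (hbu.map (g.stalkMap η).hom)
    · apply hspinj
      change X.presheaf.stalkSpecializes hη (t * g.stalkMap ξ b) =
        X.presheaf.stalkSpecializes hη (g.stalkMap ξ a)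
      rw [map_mul, ← Scheme.Hom.stalkSpecializes_stalkMap_apply,
        ← Scheme.Hom.stalkSpecializes_stalkMap_apply, ← hab, map_mul, hr']
  have hφinj : Function.Injective φ := by
    have := IsFractionRing.injective (Y.presheaf.stalk (g ξ)) X.functionField
    exact Function.Injective.of_comp (f := algebraMap (X.presheaf.stalk ξ) X.functionField) this
  exact (ConcreteCategory.isIso_iff_bijective (g.stalkMap ξ)).mpr ⟨hφinj, hsurj⟩

theorem birational_of_isOpenImmersion {X Y : Scheme.{u}} [IsIntegral X] [IsIntegral Y]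
    (g : X ⟶ Y) (W : X.Opens) (hW : (W : Set X).Nonempty) [IsOpenImmersion (W.ι ≫ g)] :
    genericPoint X ∈ W ∧ g (genericPoint X) = genericPoint Y ∧
      IsIso (g.stalkMap (genericPoint X)) := by
  haveI : Nonempty W := hW.to_subtype
  haveI : IsIntegral (W : Scheme.{u}) := isIntegral_of_isOpenImmersion W.ι
  have h1 : W.ι (genericPoint W) = genericPoint X := genericPoint_eq_of_isOpenImmersion W.ι
  have h2 : (W.ι ≫ g) (genericPoint W) = genericPoint Y :=
    genericPoint_eq_of_isOpenImmersion (W.ι ≫ g)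
  have hmem : genericPoint X ∈ W := by
    rw [← h1]
    exact (genericPoint W).2
  refine ⟨hmem, ?_, isIso_stalkMap_of_isOpenImmersion_comp g W _ hmem⟩
  rw [← h1, ← Scheme.Hom.comp_apply, h2]

/-- If the local ring at `ξ` has dimension `≤ 0` on an integral scheme, `ξ` is the generic point. -/
theorem eq_genericPoint_of_krullDimLE_zero {X : Scheme.{u}} [IsIntegral X] (ξ : X)
    (h0 : ringKrullDim (X.presheaf.stalk ξ) ≤ 0) : ξ = genericPoint X := by
  have hK : Ring.KrullDimLE 0 (X.presheaf.stalk ξ) := Ring.krullDimLE_iff.mpr h0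
  have hηξ : genericPoint X ⤳ ξ := (genericPoint_spec X).specializes trivial
  have hr : genericPoint X ∈ Set.range (X.fromSpecStalk ξ) := by
    rw [Scheme.range_fromSpecStalk]
    exact hηξ
  obtain ⟨q, hq⟩ := hr
  have hqmax : q.asIdeal.IsMaximal := Ring.krullDimLE_zero_iff.mp hK q.asIdeal q.isPrime
  have hqc : q = closedPoint (X.presheaf.stalk ξ) :=
    PrimeSpectrum.ext (IsLocalRing.eq_maximalIdeal hqmax)
  rw [hqc, Scheme.fromSpecStalk_closedPoint] at hq
  exact hq

theorem le_zero_of_le_one_of_ne_one {x : WithBot ℕ∞} (h1 : x ≤ 1) (hne : x ≠ 1) : x ≤ 0 := by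
  rcases x with _ | n
  · exact bot_le
  · have h1' : n ≤ 1 := WithBot.coe_le_coe.mp h1
    have hne' : n ≠ 1 := fun h => hne (by rw [h]; rfl)
    have hn : n = 0 := ENat.lt_one_iff_eq_zero.mp (lt_of_le_of_ne h1' hne')
    rw [hn]
    rfl

/-- van der Waerden purity for a factorial target (EGA IV 21.12.12 special case). -/
theorem ringKrullDim_stalk_eq_one {X Y : Scheme.{u}} [IsIntegral X] [IsLocallyNoetherian X]
    [IsIntegral Y] [IsLocallyNoetherian Y] (g : X ⟶ Y) [LocallyOfFiniteType g]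
    (hY : ∀ y : Y, UniqueFactorizationMonoid (Y.presheaf.stalk y))
    (hV : ∃ W : X.Opens, (W : Set X).Nonempty ∧ IsOpenImmersion (W.ι ≫ g))
    (ξ : X) (hξ : ¬ ∃ W : X.Opens, ξ ∈ W ∧ IsOpenImmersion (W.ι ≫ g))
    (hmax : ∀ η : X, (¬ ∃ W : X.Opens, η ∈ W ∧ IsOpenImmersion (W.ι ≫ g)) → η ⤳ ξ → η = ξ) :
    ringKrullDim (X.presheaf.stalk ξ) = 1 := by
  obtain ⟨W, hWne, hW⟩ := hV
  haveI := hW
  obtain ⟨hηW, hgen, hbir⟩ := birational_of_isOpenImmersion g W hWne
  by_contra hne
  by_cases hle : ringKrullDim (X.presheaf.stalk ξ) ≤ 1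
  · have h0 := le_zero_of_le_one_of_ne_one hle hne
    have := eq_genericPoint_of_krullDimLE_zero ξ h0
    exact hξ ⟨W, this ▸ hηW, hW⟩
  · haveI := hY (g ξ)
    have hiso : IsIso (g.stalkMap ξ) := isIso_stalkMap_of_ufd g hgen hbir ξ hle (by
      intro η hη hηne
      by_cases hT : ∃ W' : X.Opens, η ∈ W' ∧ IsOpenImmersion (W'.ι ≫ g)
      · obtain ⟨W', hηW', hW'⟩ := hT
        haveI := hW'
        exact isIso_stalkMap_of_isOpenImmersion_comp g W' η hηW'
      · exact absurd (hmax η hT hη) hηne)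
    obtain ⟨U, hξU, hU⟩ := LocalIsoFP.exists_isOpenImmersion_of_isIso_stalkMap g ξ hiso
    exact hξ ⟨U, hξU, hU⟩

theorem coheight_lt_top_of_isLocallyNoetherian {X : Scheme.{u}} [IsLocallyNoetherian X] (η : X) :
    Order.coheight η < ⊤ := by
  have h1 : ringKrullDim (X.presheaf.stalk η) < ⊤ := ringKrullDim_lt_top
  rw [ringKrullDim_stalk_eq_coheight] at h1
  have h2 : ((Order.coheight η : ℕ∞) : WithBot ℕ∞) < ((⊤ : ℕ∞) : WithBot ℕ∞) := h1
  exact WithBot.coe_lt_coe.mp h2

theorem isIso_ι_of_eq_top {X : Scheme.{u}} (O : X.Opens) (h : O = ⊤) : IsIso O.ι := by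
  subst h
  exact (inferInstance : IsIso (Scheme.topIso X).hom)

/-- EGA IV 21.12.13-type statement: if moreover `g` is quasi-finite at all codimension one points,
`g` is a local isomorphism. -/
theorem isLocalIso_of_quasiFiniteAt_codim_one {X Y : Scheme.{u}} [IsIntegral X]
    [IsLocallyNoetherian X] [IsIntegral Y] [IsLocallyNoetherian Y] (g : X ⟶ Y)
    [LocallyOfFiniteType g]
    (hY : ∀ y : Y, UniqueFactorizationMonoid (Y.presheaf.stalk y))
    (hV : ∃ W : X.Opens, (W : Set X).Nonempty ∧ IsOpenImmersion (W.ι ≫ g))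
    (hq : ∀ x : X, ringKrullDim (X.presheaf.stalk x) = 1 → g.QuasiFiniteAt x) :
    IsLocalIso g := by
  constructor
  intro x
  by_contra hx
  let T : Set X := {z | ¬ ∃ W : X.Opens, z ∈ W ∧ IsOpenImmersion (W.ι ≫ g)}
  let D : Set ℕ∞ := {d | ∃ ξ ∈ T, ξ ⤳ x ∧ Order.coheight ξ = d}
  have hDne : D.Nonempty := ⟨_, x, hx, specializes_rfl, rfl⟩
  obtain ⟨d, ⟨ξ, hξT, hξx, rfl⟩, hmin⟩ := WellFounded.has_min wellFounded_lt D hDne
  have hmax : ∀ η : X, (¬ ∃ W : X.Opens, η ∈ W ∧ IsOpenImmersion (W.ι ≫ g)) → η ⤳ ξ → η = ξ := by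
    intro η hηT hηξ
    by_contra hne
    have hlt : ξ < η := lt_of_le_not_ge hηξ (fun h => hne (hηξ.antisymm h).eq)
    have := Order.coheight_strictAnti hlt (coheight_lt_top_of_isLocallyNoetherian η)
    exact hmin _ ⟨η, hηT, hηξ.trans hξx, rfl⟩ this
  have hdim : ringKrullDim (X.presheaf.stalk ξ) = 1 :=
    ringKrullDim_stalk_eq_one g hY hV ξ hξT hmax
  have hqf := hq ξ hdim
  obtain ⟨W, hWne, hW⟩ := hV
  haveI := hW
  obtain ⟨-, hgen, hbir⟩ := birational_of_isOpenImmersion g W hWne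
  obtain ⟨_, ⟨(U : X.Opens), hU, rfl⟩, hξU, -⟩ :=
    X.isBasis_affineOpens.exists_subset_of_mem_open (Set.mem_univ ξ) isOpen_univ
  haveI : IsAffine (U : Scheme.{u}) := hU
  haveI : Nonempty U := ⟨⟨ξ, hξU⟩⟩
  haveI : IsIntegral (U : Scheme.{u}) := isIntegral_of_isOpenImmersion U.ι
  have hUgen : U.ι (genericPoint U) = genericPoint X := genericPoint_eq_of_isOpenImmersion U.ι
  have hfgen : (U.ι ≫ g) (genericPoint U) = genericPoint Y := by
    rw [Scheme.Hom.comp_apply, hUgen, hgen]
  have hgz : ∀ z : X, z = genericPoint X → IsIso (g.stalkMap z) := by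
    rintro _ rfl
    exact hbir
  have hfbir : IsIso ((U.ι ≫ g).stalkMap (genericPoint U)) := by
    rw [Scheme.Hom.stalkMap_comp]
    have h1 : IsIso (g.stalkMap (U.ι (genericPoint U))) := hgz _ hUgen
    have h2 : IsIso (U.ι.stalkMap (genericPoint U)) := inferInstance
    exact @IsIso.comp_isIso _ _ _ _ _ (g.stalkMap (U.ι (genericPoint U)))
      (U.ι.stalkMap (genericPoint U)) h1 h2
  haveI : IsDomain (Y.presheaf.stalk ((U.ι ≫ g) ⟨ξ, hξU⟩)) := inferInstance
  haveI : UniqueFactorizationMonoid (Y.presheaf.stalk ((U.ι ≫ g) ⟨ξ, hξU⟩)) := hY _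
  have hqf' : (U.ι ≫ g).QuasiFiniteAt ⟨ξ, hξU⟩ :=
    Scheme.Hom.quasiFiniteAt_comp_iff_of_isOpenImmersion.mpr hqf
  have hiso' : IsIso ((U.ι ≫ g).stalkMap ⟨ξ, hξU⟩) :=
    ProperBirational.isIso_stalkMap_of_quasiFiniteAt (U.ι ≫ g) hfgen hfbir ⟨ξ, hξU⟩
      inferInstance hqf'
  have hiso : IsIso (g.stalkMap ξ) := by
    rw [Scheme.Hom.stalkMap_comp] at hiso'
    have h2 : IsIso (U.ι.stalkMap ⟨ξ, hξU⟩) := inferInstance
    exact @IsIso.of_isIso_comp_right _ _ _ _ _ (g.stalkMap _) (U.ι.stalkMap ⟨ξ, hξU⟩) h2 hiso'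
  obtain ⟨U', hξU', hU'⟩ := LocalIsoFP.exists_isOpenImmersion_of_isIso_stalkMap g ξ hiso
  exact hξT ⟨U', hξU', hU'⟩

/-- A separated local isomorphism between integral schemes is an open immersion. -/
theorem isOpenImmersion_of_isLocalIso_of_isSeparated {X Y : Scheme.{u}} [IsIntegral X]
    (g : X ⟶ Y) [IsLocalIso g] [IsSeparated g] : IsOpenImmersion g := by
  choose W hxW hW using (IsLocalIso.exists_isOpenImmersion (f := g))
  let 𝒱 : Set Y.Opens := Set.range fun x : X =>
    @Scheme.Hom.opensRange _ _ ((W x).ι ≫ g) (hW x)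
  have hiso : IsIso (g ∣_ sSup 𝒱) := by
    apply ProperBirational.isIso_morphismRestrict_sSup
    rintro _ ⟨x, rfl⟩
    haveI := hW x
    exact ProperBirational.isIso_morphismRestrict_opensRange g (W x) ⟨x, hxW x⟩
  have htop : g ⁻¹ᵁ sSup 𝒱 = ⊤ := by
    rw [eq_top_iff]
    intro x _
    change g x ∈ sSup 𝒱
    rw [TopologicalSpace.Opens.mem_sSup]
    haveI := hW x
    exact ⟨_, ⟨x, rfl⟩, ⟨⟨x, hxW x⟩, rfl⟩⟩
  haveI := isIso_ι_of_eq_top _ htop
  haveI := hiso
  have hcomp : (g ⁻¹ᵁ sSup 𝒱).ι ≫ g = (g ∣_ sSup 𝒱) ≫ (sSup 𝒱).ι := (morphismRestrict_ι g _).symm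
  have : IsOpenImmersion ((g ⁻¹ᵁ sSup 𝒱).ι ≫ g) := by
    rw [hcomp]
    infer_instance
  exact (MorphismProperty.cancel_left_of_respectsIso @IsOpenImmersion (g ⁻¹ᵁ sSup 𝒱).ι g).mp this

end Groth.Agent.Lib.Helper13.VdWPurity
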