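import Mathlib
import Groth.Agent.Lib.Helper13.VdWPurity

/-!
# `stalkSpecializes` is a localization at a prime

For `ζ ⤳ x` in a scheme, `O_{X,x} → O_{X,ζ}` is the localization at the prime
`𝔭_ζ = sp⁻¹(m_ζ)`.  Also the dictionary between primes of `O_{X,x}` and generizations of `x`.
-/

universe u

open CategoryTheory AlgebraicGeometry TopologicalSpace Opposite IsLocalRing

namespace Groth.Agent.Lib.Helper13.StalkSpecLoc

/-- The prime of `O_{X,x}` corresponding to a generization `ζ` of `x`. -/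
noncomputable def primeOf {X : Scheme.{u}} {ζ x : X} (h : ζ ⤳ x) : Ideal (X.presheaf.stalk x) :=
  (maximalIdeal (X.presheaf.stalk ζ)).comap (X.presheaf.stalkSpecializes h).hom

instance {X : Scheme.{u}} {ζ x : X} (h : ζ ⤳ x) : (primeOf h).IsPrime :=
  Ideal.comap_isPrime _ _

theorem isLocalization_stalkSpecializes {X : Scheme.{u}} {ζ x : X} (h : ζ ⤳ x) :
    @IsLocalization.AtPrime (X.presheaf.stalk x) _ (X.presheaf.stalk ζ) _
      (X.presheaf.stalkSpecializes h).hom.toAlgebra (primeOf h) _ := by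
  letI := (X.presheaf.stalkSpecializes h).hom.toAlgebra
  have halg : ∀ a : X.presheaf.stalk x,
      algebraMap (X.presheaf.stalk x) (X.presheaf.stalk ζ) a = X.presheaf.stalkSpecializes h a :=
    fun a => rfl
  have hunit : ∀ a : X.presheaf.stalk x, a ∉ primeOf h →
      IsUnit (X.presheaf.stalkSpecializes h a) := by
    intro a ha
    by_contra hnu
    exact ha ((mem_maximalIdeal _).mpr hnu)
  rw [IsLocalization.AtPrime, isLocalization_iff]
  refine ⟨fun y => ?_, fun z => ?_, fun {a b} hab => ?_⟩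
  · rw [halg]
    exact hunit _ y.2
  · obtain ⟨a, b, hbu, hab⟩ := VdWPurity.exists_stalkSpecializes_eq h z
    have hb : b ∈ (primeOf h).primeCompl := by
      intro hmem
      exact ((mem_maximalIdeal _).mp hmem) hbu
    exact ⟨⟨a, ⟨b, hb⟩⟩, by rw [halg, halg]; exact hab⟩
  · rw [halg, halg] at hab
    obtain ⟨_, ⟨(V : X.Opens), hV, rfl⟩, hxV, -⟩ :=
      X.isBasis_affineOpens.exists_subset_of_mem_open (Set.mem_univ x) isOpen_univ
    have hζV : ζ ∈ V := h.mem_open V.2 hxV
    letI ax := X.presheaf.algebra_section_stalk (⟨x, hxV⟩ : V)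
    haveI := hV.isLocalization_stalk ⟨x, hxV⟩
    obtain ⟨⟨e, s⟩, hes⟩ := IsLocalization.surj (hV.primeIdealOf ⟨x, hxV⟩).asIdeal.primeCompl
      (a - b)
    change (a - b) * X.presheaf.germ V x hxV s = X.presheaf.germ V x hxV e at hes
    have hsu : IsUnit (X.presheaf.germ V x hxV (s : Γ(X, V))) :=
      IsLocalization.map_units (M := (hV.primeIdealOf ⟨x, hxV⟩).asIdeal.primeCompl)
        (X.presheaf.stalk x) s
    have h0 : X.presheaf.germ V ζ hζV e = 0 := by
      rw [← TopCat.Presheaf.germ_stalkSpecializes_apply X.presheaf (hy := hxV) h, ← hes, map_mul,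
        map_sub, hab, sub_self, zero_mul]
    letI aζ := X.presheaf.algebra_section_stalk (⟨ζ, hζV⟩ : V)
    haveI := hV.isLocalization_stalk ⟨ζ, hζV⟩
    obtain ⟨w, hw⟩ := (IsLocalization.map_eq_zero_iff
      (hV.primeIdealOf ⟨ζ, hζV⟩).asIdeal.primeCompl (X.presheaf.stalk ζ) e).mp h0
    have hwu : IsUnit (X.presheaf.germ V ζ hζV (w : Γ(X, V))) :=
      IsLocalization.map_units (M := (hV.primeIdealOf ⟨ζ, hζV⟩).asIdeal.primeCompl)
        (X.presheaf.stalk ζ) w
    have hc : X.presheaf.germ V x hxV (w : Γ(X, V)) ∈ (primeOf h).primeCompl := by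
      intro hmem
      have : X.presheaf.stalkSpecializes h (X.presheaf.germ V x hxV (w : Γ(X, V))) ∈
          maximalIdeal (X.presheaf.stalk ζ) := hmem
      rw [TopCat.Presheaf.germ_stalkSpecializes_apply] at this
      exact ((mem_maximalIdeal _).mp this) hwu
    refine ⟨⟨_, hc⟩, ?_⟩
    have h1 : X.presheaf.germ V x hxV (w : Γ(X, V)) * (a - b) *
        X.presheaf.germ V x hxV (s : Γ(X, V)) = 0 := by
      rw [mul_assoc, hes, ← map_mul, hw, map_zero]
    have h2 := (hsu.mul_left_eq_zero).mp h1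
    rw [mul_sub, sub_eq_zero] at h2
    exact h2

/-- The point of `X` corresponding to `primeOf h` under `fromSpecStalk` is `ζ`. -/
theorem fromSpecStalk_primeOf {X : Scheme.{u}} {ζ x : X} (h : ζ ⤳ x) :
    (X.fromSpecStalk x) (⟨primeOf h, inferInstance⟩ : PrimeSpectrum (X.presheaf.stalk x)) = ζ := by
  have h2 : (X.fromSpecStalk x) ((Spec.map (X.presheaf.stalkSpecializes h))
      (closedPoint (X.presheaf.stalk ζ))) = ζ := by
    rw [← Scheme.Hom.comp_apply, Scheme.SpecMap_stalkSpecializes_fromSpecStalk,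
      Scheme.fromSpecStalk_closedPoint]
  exact h2

/-- Every prime of `O_{X,x}` is `primeOf h` for a unique generization. -/
theorem exists_primeOf_eq {X : Scheme.{u}} (x : X) (𝔮 : Ideal (X.presheaf.stalk x))
    [h𝔮 : 𝔮.IsPrime] : ∃ (ζ : X) (h : ζ ⤳ x), primeOf h = 𝔮 := by
  set ζ := (X.fromSpecStalk x) (⟨𝔮, h𝔮⟩ : PrimeSpectrum (X.presheaf.stalk x)) with hζ
  have h : ζ ⤳ x := by
    have : ζ ∈ Set.range (X.fromSpecStalk x) := ⟨_, rfl⟩
    rwa [Scheme.range_fromSpecStalk] at this
  refine ⟨ζ, h, ?_⟩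
  have hinj : Function.Injective (X.fromSpecStalk x) := (X.fromSpecStalk x).isEmbedding.injective
  have := hinj ((fromSpecStalk_primeOf h).trans hζ)
  exact congrArg PrimeSpectrum.asIdeal this

theorem ringKrullDim_stalk_eq_height_primeOf {X : Scheme.{u}} {ζ x : X} (h : ζ ⤳ x) :
    ringKrullDim (X.presheaf.stalk ζ) = (primeOf h).height := by
  letI := (X.presheaf.stalkSpecializes h).hom.toAlgebra
  haveI := isLocalization_stalkSpecializes h
  exact IsLocalization.AtPrime.ringKrullDim_eq_height (primeOf h) (X.presheaf.stalk ζ)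

theorem primeOf_ne_maximalIdeal {X : Scheme.{u}} {ζ x : X} (h : ζ ⤳ x) (hne : ζ ≠ x) :
    primeOf h ≠ maximalIdeal (X.presheaf.stalk x) := by
  intro heq
  apply hne
  have h1 := fromSpecStalk_primeOf h
  have h2 : (⟨primeOf h, inferInstance⟩ : PrimeSpectrum (X.presheaf.stalk x)) =
      closedPoint (X.presheaf.stalk x) := PrimeSpectrum.ext heq
  rw [h2, Scheme.fromSpecStalk_closedPoint] at h1
  exact h1.symm

/-- If `O_{X,x}` is a domain then so is `O_{X,ζ}` for every generization `ζ`. -/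
theorem isDomain_stalk_of_specializes {X : Scheme.{u}} {ζ x : X} (h : ζ ⤳ x)
    [IsDomain (X.presheaf.stalk x)] : IsDomain (X.presheaf.stalk ζ) := by
  letI := (X.presheaf.stalkSpecializes h).hom.toAlgebra
  haveI := isLocalization_stalkSpecializes h
  exact IsLocalization.isDomain_of_le_nonZeroDivisors (M := (primeOf h).primeCompl)
    (X.presheaf.stalk ζ) (primeOf h).primeCompl_le_nonZeroDivisors

end Groth.Agent.Lib.Helper13.StalkSpecLoc
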