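import Groth.Prelude.Def_Coh
import Mathlib

/-!
# Helpers for the triviality criterion of the Albanese variety

* `e0` : `H⁰(X, O_X) ≃+ Γ(X, ⊤)` and its compatibility with the module structures;
* `surjective_toGlobal_of_finrank_eq_one` : if `H⁰(X, O_X)` is one-dimensional over `k`, then
  every global function is a constant;
* `eq_of_section` : morphisms into an affine open are determined by their value on a section.
-/

set_option autoImplicit false
universe u
open CategoryTheory AlgebraicGeometry Opposite TopologicalSpace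

namespace Groth.Agent.Lib.Helper13.AlbTriv

section H0

variable (k : Type u) [Field k] (X : Scheme.{u}) [X.Over (Spec (CommRingCat.of k))]

/-- `H⁰(X, O_X) ≃ Γ(X, ⊤)`, additive. -/
noncomputable def e0 : Coh.HH X (Coh.structureModule X) 0 ≃+ Coh.Γtop X :=
  Sheaf.H.equiv₀ (Coh.toAb (Coh.structureModule X)) Limits.isTerminalTop

lemma e0_map (r : Coh.Γtop X) (x : Coh.HH X (Coh.structureModule X) 0) :
    e0 X (Sheaf.H.map (Coh.smulAb (Coh.structureModule X) r) 0 x) = r * e0 X x := by
  have h := Sheaf.H.equiv₀_naturality (Limits.isTerminalTop (α := Opens X))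
    (Coh.smulAb (Coh.structureModule X) r) x
  refine h.symm.trans ?_
  rw [Coh.smulAb_app]
  have : Coh.resTop X (op ⊤) r = r := by
    change (X.ringCatSheaf.obj.map (𝟙 _)).hom r = r
    rw [CategoryTheory.Functor.map_id]
    rfl
  rw [this]
  rfl

lemma e0_smul (c : k) (x : Coh.HH X (Coh.structureModule X) 0) :
    e0 X (c • x) = Coh.toGlobal (X ↘ Spec (CommRingCat.of k)) c * e0 X x :=
  e0_map X _ x

/-- If `H⁰(X, O_X)` is one-dimensional over `k`, every global function on `X` is a constant. -/
theorem surjective_toGlobal_of_finrank_eq_one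
    (h0 : Module.finrank k (Coh.HH X (Coh.structureModule X) 0) = 1) :
    Function.Surjective (Coh.toGlobal (X ↘ Spec (CommRingCat.of k))) := by
  obtain ⟨v, hv, hspan⟩ := finrank_eq_one_iff'.mp h0
  set t := Coh.toGlobal (X ↘ Spec (CommRingCat.of k)) with ht
  set u := e0 X v with hu
  have hall : ∀ y : Coh.Γtop X, ∃ c : k, y = t c * u := by
    intro y
    obtain ⟨c, hc⟩ := hspan ((e0 X).symm y)
    refine ⟨c, ?_⟩
    have := congrArg (e0 X) hc
    rw [e0_smul, AddEquiv.apply_symm_apply] at this
    exact this.symm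
  obtain ⟨c₁, hc₁⟩ := hall 1
  have hc₁0 : c₁ ≠ 0 := by
    rintro rfl
    rw [map_zero, zero_mul] at hc₁
    apply hv
    apply (e0 X).injective
    rw [map_zero]
    change u = 0
    calc u = 1 * u := (one_mul u).symm
      _ = 0 * u := by rw [hc₁]
      _ = 0 := zero_mul u
  have hu' : u = t c₁⁻¹ := by
    calc u = 1 * u := (one_mul u).symm
      _ = t (c₁⁻¹ * c₁) * u := by rw [inv_mul_cancel₀ hc₁0, map_one]
      _ = t c₁⁻¹ * (t c₁ * u) := by rw [map_mul, mul_assoc]
      _ = t c₁⁻¹ := by rw [← hc₁, mul_one]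
  intro y
  obtain ⟨c, hc⟩ := hall y
  exact ⟨c * c₁⁻¹, by rw [hc, hu', map_mul]⟩

end H0

/-- Two morphisms from `X` into a common affine open of `Y` agree as soon as they agree on a
section `s` of `p : X ⟶ S`, provided every global function on `X` comes from `S`. -/
theorem eq_of_section {X S Y : Scheme.{u}} (p : X ⟶ S) (s : S ⟶ X) (hs : s ≫ p = 𝟙 S)
    (hp : Function.Surjective p.appTop.hom) (a b : X ⟶ Y) (hab : s ≫ a = s ≫ b)
    (U : Y.Opens) (hU : IsAffineOpen U) (ha : Set.range a ⊆ U) (hb : Set.range b ⊆ U) : a = b := by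
  have : IsAffine (U : Scheme.{u}) := hU
  have ha' : Set.range a ⊆ Set.range U.ι := by rw [Scheme.Opens.range_ι]; exact ha
  have hb' : Set.range b ⊆ Set.range U.ι := by rw [Scheme.Opens.range_ι]; exact hb
  have e1 : IsOpenImmersion.lift U.ι a ha' ≫ U.ι = a := IsOpenImmersion.lift_fac _ _ _
  have e2 : IsOpenImmersion.lift U.ι b hb' ≫ U.ι = b := IsOpenImmersion.lift_fac _ _ _
  rw [← e1, ← e2]
  congr 1
  apply ext_of_isAffine
  have hinj : Function.Injective s.appTop.hom := by
    intro y y' hyy
    obtain ⟨c, rfl⟩ := hp y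
    obtain ⟨c', rfl⟩ := hp y'
    have h1 : ∀ c, s.appTop.hom (p.appTop.hom c) = c := by
      intro c
      have h2 : p.appTop ≫ s.appTop = 𝟙 _ := by
        rw [← Scheme.Hom.comp_appTop, hs]; rfl
      exact congrArg (fun f => f.hom c) h2
    rw [h1, h1] at hyy
    rw [hyy]
  have hl : s ≫ IsOpenImmersion.lift U.ι a ha' = s ≫ IsOpenImmersion.lift U.ι b hb' := by
    rw [← cancel_mono U.ι, Category.assoc, Category.assoc, e1, e2, hab]
  ext r
  apply hinj
  have h3 := congrArg (fun f => f.appTop.hom r) hl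
  simp only [Scheme.Hom.comp_appTop] at h3
  exact h3

end Groth.Agent.Lib.Helper13.AlbTriv
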