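import Mathlib
import Groth.Agent.Lib.Helper13.DvrDominate

/-!
# Approximating a local domain dominating a Noetherian local ring by discrete valuation rings

`exists_dvr_approx`: let `O` be a Noetherian local ring, `θ : O → R` a local homomorphism to a
local domain `R` contained in a field `K`, and `r` a nonzero element of the maximal ideal of `R`.
Then there is a field `L` mapping to `K`, a discrete valuation subring `A` of `L` and a lift
`O → L` of `O → K` with image in `A`, sending the maximal ideal of `O` into the maximal ideal of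
`A`, such that `r` comes from an element of the maximal ideal of `A`.
-/

universe u

namespace Groth.Agent.Lib.Helper13.DvrApprox

open Groth.Agent.Lib.Helper13.Dvr IsLocalRing Polynomial

theorem exists_dvr_approx (O : Type u) [CommRing O] [IsNoetherianRing O] [IsLocalRing O]
    (R : Type u) [CommRing R] [IsDomain R] [IsLocalRing R] (K : Type u) [Field K] [Algebra R K]
    (hRK : Function.Injective (algebraMap R K))
    (θ : O →+* R) [IsLocalHom θ] (r : R) (hr0 : r ≠ 0) (hr : r ∈ maximalIdeal R) :
    ∃ (L : Type u) (_ : Field L) (ι : L →+* K) (A : ValuationSubring L) (θL : O →+* L) (z : L),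
      IsDiscreteValuationRing A ∧
      (∀ a, ι (θL a) = algebraMap R K (θ a)) ∧ (∀ a, θL a ∈ A) ∧
      (∀ a ∈ maximalIdeal O, A.valuation (θL a) < 1) ∧
      ι z = algebraMap R K r ∧ z ∈ A ∧ A.valuation z < 1 := by
  let θ' : O[X] →+* R := eval₂RingHom θ r
  have hP : (RingHom.ker θ').IsPrime := RingHom.ker_isPrime θ'
  let B := O[X] ⧸ RingHom.ker θ'
  let j : B →+* R := RingHom.kerLift θ'
  have hj : Function.Injective j := RingHom.kerLift_injective θ'
  have hjmk : ∀ p : O[X], j (Ideal.Quotient.mk _ p) = θ' p := fun p => rfl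
  let M : Ideal B := Ideal.comap j (maximalIdeal R)
  have hMprime : M.IsPrime := Ideal.comap_isPrime j _
  have hXM : (Ideal.Quotient.mk (RingHom.ker θ') X : B) ∈ M := by
    change j _ ∈ maximalIdeal R
    rw [hjmk]
    change eval₂ θ r X ∈ _
    rw [eval₂_X]
    exact hr
  have hX0 : (Ideal.Quotient.mk (RingHom.ker θ') X : B) ≠ 0 := by
    intro h0
    have h1 : j (Ideal.Quotient.mk (RingHom.ker θ') X) = 0 := by rw [h0, map_zero]
    rw [hjmk] at h1
    change eval₂ θ r X = 0 at h1
    rw [eval₂_X] at h1
    exact hr0 h1
  have hM : M ≠ ⊥ := by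
    intro h
    rw [h, Ideal.mem_bot] at hXM
    exact hX0 hXM
  have hinj : Function.Injective (algebraMap B (FractionRing B)) :=
    IsFractionRing.injective B (FractionRing B)
  have hT : Subfield.closure (Set.range (algebraMap B (FractionRing B)) ∪
      ((∅ : Finset (FractionRing B)) : Set (FractionRing B))) = ⊤ := by
    rw [Finset.coe_empty, Set.union_empty, IsFractionRing.closure_range_algebraMap]
  obtain ⟨A, hA, hBA, hMA⟩ := exists_dvr_of_prime (L := FractionRing B) B hinj M hM ∅ hT
  have hg : Function.Injective ((algebraMap R K).comp j) := hRK.comp hj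
  let ι : FractionRing B →+* K := IsFractionRing.lift hg
  have hι : ∀ b : B, ι (algebraMap B (FractionRing B) b) = algebraMap R K (j b) := fun b =>
    IsFractionRing.lift_algebraMap hg b
  refine ⟨FractionRing B, inferInstance, ι, A,
    (algebraMap B (FractionRing B)).comp ((Ideal.Quotient.mk (RingHom.ker θ')).comp C),
    algebraMap B (FractionRing B) (Ideal.Quotient.mk (RingHom.ker θ') X), hA, ?_, ?_, ?_, ?_, ?_, ?_⟩
  · intro a
    change ι (algebraMap B (FractionRing B) (Ideal.Quotient.mk _ (C a))) = _
    rw [hι, hjmk]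
    change algebraMap R K (eval₂ θ r (C a)) = _
    rw [eval₂_C]
  · intro a
    exact hBA _
  · intro a ha
    refine hMA _ ?_
    change j _ ∈ maximalIdeal R
    rw [hjmk]
    change eval₂ θ r (C a) ∈ _
    rw [eval₂_C]
    rw [mem_maximalIdeal, mem_nonunits_iff] at ha ⊢
    exact fun hu => ha (isUnit_of_map_unit θ a hu)
  · rw [hι, hjmk]
    change algebraMap R K (eval₂ θ r X) = _
    rw [eval₂_X]
  · exact hBA _
  · exact hMA _ hXM

end Groth.Agent.Lib.Helper13.DvrApprox
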