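import Mathlib

/-!
# Monomorphisms of schemes and lifts of field-valued points

* `isIso_of_mono_of_field`: a monomorphism from a nonempty scheme to the spectrum of a field is an
  isomorphism.
* `exists_lift_of_mono_of_field`: a field-valued point of the target of a monomorphism whose image
  lies in the image of the monomorphism lifts.
* `specializes_of_lift`, `hasLift_of_specializes`: the two halves of "a monomorphism reflects
  specializations universally iff valuative squares with liftable closed point lift".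
-/

universe u

open CategoryTheory CategoryTheory.Limits AlgebraicGeometry IsLocalRing

namespace Groth.Agent.Lib.Helper13.MonoLift

/-- a monomorphism from a nonempty scheme to the spectrum of a field is an isomorphism -/
theorem isIso_of_mono_of_field {P : Scheme.{u}} (F : Type u) [Field F]
    (π : P ⟶ Spec (CommRingCat.of F)) [Mono π] [Nonempty P] : IsIso π := by
  have hinj : Function.Injective π.base := π.injective
  haveI : Subsingleton P := hinj.subsingleton
  haveI : CompactSpace P := by
    constructor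
    exact (Set.finite_univ (α := P)).isCompact
  haveI : QuasiCompact π := by
    rw [HasAffineProperty.iff_of_isAffine (P := @QuasiCompact)]
    infer_instance
  haveI : Surjective π := by
    constructor
    intro q
    obtain ⟨p⟩ := ‹Nonempty P›
    exact ⟨p, Subsingleton.elim _ _⟩
  exact Flat.isIso_of_surjective_of_mono π

/-- a field-valued point of `X'` whose image is in the image of a monomorphism `m : Y' ⟶ X'`
lifts to `Y'` -/
theorem exists_lift_of_mono_of_field {Y' X' : Scheme.{u}} (m : Y' ⟶ X') [Mono m] (y₀ : Y')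
    (F : Type u) [Field F] (t : Spec (CommRingCat.of F) ⟶ X')
    (ht : ∃ p, t.base p = m.base y₀) :
    ∃ l : Spec (CommRingCat.of F) ⟶ Y', l ≫ m = t := by
  obtain ⟨p, hp⟩ := ht
  obtain ⟨z, -, -⟩ := Scheme.Pullback.exists_preimage_pullback (f := m) (g := t) y₀ p hp.symm
  haveI : Nonempty ↑(pullback m t) := ⟨z⟩
  haveI : IsIso (pullback.snd m t) := isIso_of_mono_of_field F (pullback.snd m t)
  refine ⟨inv (pullback.snd m t) ≫ pullback.fst m t, ?_⟩
  rw [Category.assoc, pullback.condition, IsIso.inv_hom_id_assoc]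

/-- a lift over a local scheme forces the specialization upstairs, for a monomorphism -/
theorem specializes_of_lift {X Y X' : Scheme.{u}} (f : Y ⟶ X) [Mono f] (g : X' ⟶ X)
    (y₀ y₁ : ↑(pullback f g)) (R : Type u) [CommRing R] [IsLocalRing R]
    (k : Spec (CommRingCat.of R) ⟶ X') (p₁ : ↑(Spec (CommRingCat.of R)))
    (hk1 : k.base p₁ = (pullback.snd f g).base y₁)
    (hk0 : k.base (closedPoint R) = (pullback.snd f g).base y₀)
    (l : Spec (CommRingCat.of R) ⟶ Y) (hl : l ≫ f = k ≫ g) : y₁ ⤳ y₀ := by
  have hinj : Function.Injective (pullback.snd f g).base := (pullback.snd f g).injective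
  have h1 : (pullback.lift l k hl).base p₁ = y₁ := by
    apply hinj
    rw [← Scheme.Hom.comp_apply, pullback.lift_snd, hk1]
  have h0 : (pullback.lift l k hl).base (closedPoint R) = y₀ := by
    apply hinj
    rw [← Scheme.Hom.comp_apply, pullback.lift_snd, hk0]
  rw [← h1, ← h0]
  exact (IsLocalRing.specializes_closedPoint p₁).map (pullback.lift l k hl).continuous

/-- the image of a ring map from a local ring `C` to the fraction field `K` of a valuation ring
`R`, compatible with a local homomorphism `R → C`, lies in `R` -/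
theorem exists_algebraMap_eq_of_isLocalHom (R K C : Type u) [CommRing R] [IsDomain R]
    [ValuationRing R] [Field K] [Algebra R K] [IsFractionRing R K] [CommRing C] [IsLocalRing C]
    (φ : R →+* C) [IsLocalHom φ] (ψ : C →+* K) (hφψ : ∀ r, ψ (φ r) = algebraMap R K r) (c : C) :
    ∃ r : R, algebraMap R K r = ψ c := by
  rcases ValuationRing.isInteger_or_isInteger R (ψ c) with ⟨r, hr⟩ | ⟨r, hr⟩
  · exact ⟨r, hr⟩
  · by_cases hc : ψ c = 0
    · exact ⟨0, by rw [hc, map_zero]⟩
    by_cases hu : IsUnit r
    · obtain ⟨u, rfl⟩ := hu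
      refine ⟨((u⁻¹ : Rˣ) : R), ?_⟩
      have h1 : algebraMap R K ((u⁻¹ : Rˣ) : R) * algebraMap R K (u : R) = 1 := by
        rw [← map_mul, Units.inv_mul, map_one]
      rw [hr] at h1
      have h2 : ψ c * (ψ c)⁻¹ = 1 := mul_inv_cancel₀ hc
      exact mul_right_cancel₀ (inv_ne_zero hc) (h1.trans h2.symm)
    · exfalso
      -- `φ r` is a nonunit of `C`
      have hφr : ¬ IsUnit (φ r) := fun h => hu (isUnit_of_map_unit φ r h)
      have hmem : c * φ r ∈ IsLocalRing.maximalIdeal C :=
        Ideal.mul_mem_left _ _ ((IsLocalRing.mem_maximalIdeal _).2 hφr)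
      have hunit : IsUnit (1 - c * φ r) := by
        have := IsLocalRing.isUnit_one_sub_self_of_mem_nonunits (c * φ r)
          ((IsLocalRing.mem_maximalIdeal _).1 hmem)
        exact this
      have hz : ψ (1 - c * φ r) = 0 := by
        rw [map_sub, map_one, map_mul, hφψ, hr, mul_inv_cancel₀ hc, sub_self]
      exact (hunit.map ψ).ne_zero hz

/-- if the base change of `f` along the bottom map of a valuative square reflects specializations
and the closed point of the square lifts, then the square has a lift -/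
theorem hasLift_of_reflects {X Y : Scheme.{u}} (f : Y ⟶ X) (S : ValuativeCommSq f)
    (l₀ : Spec (CommRingCat.of (ResidueField S.R)) ⟶ Y)
    (hl₀ : l₀ ≫ f = Spec.map (CommRingCat.ofHom (residue S.R)) ≫ S.i₂)
    (H : ∀ y₀ y₁ : ↑(pullback f S.i₂),
      (pullback.snd f S.i₂).base y₁ ⤳ (pullback.snd f S.i₂).base y₀ → y₁ ⤳ y₀) :
    S.commSq.HasLift := by
  let a₁ : Spec (CommRingCat.of S.K) ⟶ pullback f S.i₂ :=
    pullback.lift S.i₁ (Spec.map (CommRingCat.ofHom (algebraMap S.R S.K))) S.commSq.w
  let a₀ : Spec (CommRingCat.of (ResidueField S.R)) ⟶ pullback f S.i₂ :=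
    pullback.lift l₀ (Spec.map (CommRingCat.ofHom (residue S.R))) hl₀
  have hy₀ : (pullback.snd f S.i₂).base (a₀.base (closedPoint (ResidueField S.R))) =
      closedPoint S.R := by
    rw [← Scheme.Hom.comp_apply, pullback.lift_snd]
    exact IsLocalRing.comap_closedPoint (residue S.R)
  have hsp : a₁.base (closedPoint S.K) ⤳ a₀.base (closedPoint (ResidueField S.R)) := by
    apply H
    rw [hy₀]
    exact IsLocalRing.specializes_closedPoint _
  -- the local ring at `y₀`
  let ψ : (pullback f S.i₂).presheaf.stalk (a₀.base (closedPoint (ResidueField S.R))) ⟶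
      CommRingCat.of S.K :=
    (pullback f S.i₂).presheaf.stalkSpecializes hsp ≫ Scheme.stalkClosedPointTo a₁
  have hψ : Spec.map ψ ≫ (pullback f S.i₂).fromSpecStalk _ = a₁ := by
    rw [Spec.map_comp, Category.assoc, Scheme.SpecMap_stalkSpecializes_fromSpecStalk,
      Scheme.Spec_stalkClosedPointTo_fromSpecStalk]
  let φ : CommRingCat.of S.R ⟶
      (pullback f S.i₂).presheaf.stalk (a₀.base (closedPoint (ResidueField S.R))) :=
    Spec.preimage ((pullback f S.i₂).fromSpecStalk _ ≫ pullback.snd f S.i₂)
  have hφ : Spec.map φ = (pullback f S.i₂).fromSpecStalk _ ≫ pullback.snd f S.i₂ :=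
    Spec.map_preimage _
  haveI hloc : IsLocalHom φ.hom := by
    rw [IsLocalRing.isLocalHom_iff_comap_closedPoint]
    change (Spec.map φ).base (closedPoint _) = _
    rw [hφ, Scheme.Hom.comp_apply, Scheme.fromSpecStalk_closedPoint, hy₀]
  have hφψ : φ ≫ ψ = CommRingCat.ofHom (algebraMap S.R S.K) := by
    apply Spec.map_injective
    rw [Spec.map_comp, hφ, ← Category.assoc, hψ, pullback.lift_snd]
  have hφψ' : ∀ r, ψ.hom (φ.hom r) = algebraMap S.R S.K r := fun r =>
    congrArg (fun ξ : CommRingCat.of S.R ⟶ CommRingCat.of S.K => ξ.hom r) hφψ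
  have hex := exists_algebraMap_eq_of_isLocalHom S.R S.K _ φ.hom ψ.hom hφψ'
  choose ρ₀ hρ₀ using hex
  have hinj : Function.Injective (algebraMap S.R S.K) := IsFractionRing.injective S.R S.K
  let ρ : (pullback f S.i₂).presheaf.stalk (a₀.base (closedPoint (ResidueField S.R))) →+* S.R :=
    { toFun := ρ₀
      map_one' := hinj (by rw [hρ₀, map_one, map_one])
      map_mul' := fun a b => hinj (by rw [hρ₀, map_mul, map_mul, hρ₀, hρ₀])
      map_zero' := hinj (by rw [hρ₀, map_zero, map_zero])
      map_add' := fun a b => hinj (by rw [hρ₀, map_add, map_add, hρ₀, hρ₀]) }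
  have hρφ : φ ≫ CommRingCat.ofHom ρ = 𝟙 _ := by
    ext r
    apply hinj
    change algebraMap S.R S.K (ρ₀ (φ.hom r)) = algebraMap S.R S.K r
    rw [hρ₀, hφψ']
  have hρψ : CommRingCat.ofHom ρ ≫ CommRingCat.ofHom (algebraMap S.R S.K) = ψ := by
    ext c
    exact hρ₀ c
  refine ⟨⟨⟨Spec.map (CommRingCat.ofHom ρ) ≫ (pullback f S.i₂).fromSpecStalk _ ≫
    pullback.fst f S.i₂, ?_, ?_⟩⟩⟩
  · rw [← Category.assoc, ← Category.assoc, ← Spec.map_comp, hρψ, hψ, pullback.lift_fst]
  · have h4 : Spec.map (CommRingCat.ofHom ρ) ≫ Spec.map φ = 𝟙 _ :=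
      (Spec.map_comp _ _).symm.trans ((congrArg Spec.map hρφ).trans (Spec.map_id _))
    rw [Category.assoc, Category.assoc, pullback.condition, ← Category.assoc _ _ S.i₂, ← hφ,
      ← Category.assoc, h4, Category.id_comp]

end Groth.Agent.Lib.Helper13.MonoLift
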