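import Mathlib
import Groth.Agent.Lib.Helper13.DvrApprox
import Groth.Agent.Lib.Helper13.MonoLift

/-!
# From lifting for discrete valuation rings to lifting for all valuation rings

For a monomorphism `f : Y ⟶ X` with `X` locally Noetherian: if all valuative squares over
discrete valuation rings whose closed point lifts have a lift, then the same is true for all
valuation rings.
-/

universe u

open CategoryTheory CategoryTheory.Limits AlgebraicGeometry IsLocalRing

namespace Groth.Agent.Lib.Helper13.DvrLift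

open Groth.Agent.Lib.Helper13.DvrApprox Groth.Agent.Lib.Helper13.MonoLift

/-- a morphism from the spectrum of a local ring factors through the local ring of the image of
the closed point -/
theorem exists_stalk_hom {X : Scheme.{u}} (R : Type u) [CommRing R] [IsLocalRing R]
    (i : Spec (CommRingCat.of R) ⟶ X) (x : X) (hx : i.base (closedPoint R) = x) :
    ∃ θ : X.presheaf.stalk x ⟶ CommRingCat.of R, IsLocalHom θ.hom ∧
      Spec.map θ ≫ X.fromSpecStalk x = i := by
  subst hx
  exact ⟨Scheme.stalkClosedPointTo i, inferInstance, Scheme.Spec_stalkClosedPointTo_fromSpecStalk i⟩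

/-- the closed point goes to the closed point under a local homomorphism, scheme version -/
theorem specMap_closedPoint {X : Scheme.{u}} (x : X) (R : Type u) [CommRing R] [IsLocalRing R]
    (θ : X.presheaf.stalk x ⟶ CommRingCat.of R) [IsLocalHom θ.hom] :
    (Spec.map θ ≫ X.fromSpecStalk x).base (closedPoint R) = x := by
  rw [Scheme.Hom.comp_apply]
  have : (Spec.map θ).base (closedPoint R) = closedPoint (X.presheaf.stalk x) :=
    IsLocalRing.comap_closedPoint θ.hom
  rw [this, Scheme.fromSpecStalk_closedPoint]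

/-- the hypothesis: valuative squares over discrete valuation rings whose closed point lifts
have a lift -/
def DvrLifting {X Y : Scheme.{u}} (f : Y ⟶ X) : Prop :=
  ∀ S : ValuativeCommSq f, IsDiscreteValuationRing S.R →
    (∃ l₀ : Spec (CommRingCat.of (IsLocalRing.ResidueField S.R)) ⟶ Y,
        l₀ ≫ f = Spec.map (CommRingCat.ofHom (IsLocalRing.residue S.R)) ≫ S.i₂) →
      S.commSq.HasLift

/-- two maps from the local ring of `Y` at `y₀` to a ring which agree on the local ring of `X`
are equal, for a monomorphism `f : Y ⟶ X` -/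
theorem stalk_hom_ext {X Y : Scheme.{u}} (f : Y ⟶ X) [Mono f] (y₀ : Y) (K : CommRingCat.{u})
    (ψ₁ ψ₂ : Y.presheaf.stalk y₀ ⟶ K) (h : f.stalkMap y₀ ≫ ψ₁ = f.stalkMap y₀ ≫ ψ₂) :
    ψ₁ = ψ₂ := by
  apply Spec.map_injective
  rw [← cancel_mono (Y.fromSpecStalk y₀), ← cancel_mono f]
  have h1 := congrArg Spec.map h
  rw [Spec.map_comp, Spec.map_comp] at h1
  have h2 := congrArg (fun ξ => ξ ≫ X.fromSpecStalk (f.base y₀)) h1
  simp only [Category.assoc, Scheme.SpecMap_stalkMap_fromSpecStalk] at h2
  simpa only [Category.assoc] using h2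

/-- the DVR step: a local homomorphism from the local ring of `X` at `f y₀` to a discrete
valuation ring `A` whose generic point lands in the image of `f` extends to the local ring of `Y`
at `y₀` -/
theorem exists_extension_of_dvr {X Y : Scheme.{u}} (f : Y ⟶ X) [Mono f] (h : DvrLifting f)
    (y₀ : Y) (A : Type u) [CommRing A] [IsDomain A] [IsDiscreteValuationRing A]
    (F : Type u) [Field F] [Algebra A F] [IsFractionRing A F]
    (θA : X.presheaf.stalk (f.base y₀) ⟶ CommRingCat.of A) [IsLocalHom θA.hom]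
    (hgen : ∃ (y₁ : Y) (p : Spec (CommRingCat.of F)),
      (Spec.map (CommRingCat.ofHom (algebraMap A F)) ≫ Spec.map θA ≫
        X.fromSpecStalk (f.base y₀)).base p = f.base y₁) :
    ∃ ρ : Y.presheaf.stalk y₀ ⟶ CommRingCat.of A, f.stalkMap y₀ ≫ ρ = θA := by
  obtain ⟨y₁, p, hp⟩ := hgen
  obtain ⟨i₁, hi₁⟩ := exists_lift_of_mono_of_field f y₁ F
    (Spec.map (CommRingCat.ofHom (algebraMap A F)) ≫ Spec.map θA ≫ X.fromSpecStalk (f.base y₀))
    ⟨p, hp⟩
  have hcl : (Spec.map θA ≫ X.fromSpecStalk (f.base y₀)).base (closedPoint A) = f.base y₀ :=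
    specMap_closedPoint (f.base y₀) A θA
  obtain ⟨l₀, hl₀⟩ := exists_lift_of_mono_of_field f y₀ (IsLocalRing.ResidueField A)
    (Spec.map (CommRingCat.ofHom (IsLocalRing.residue A)) ≫ Spec.map θA ≫
      X.fromSpecStalk (f.base y₀))
    ⟨closedPoint (IsLocalRing.ResidueField A), by
      rw [Scheme.Hom.comp_apply]
      have : (Spec.map (CommRingCat.ofHom (IsLocalRing.residue A))).base
          (closedPoint (IsLocalRing.ResidueField A)) = closedPoint A :=
        IsLocalRing.comap_closedPoint (IsLocalRing.residue A)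
      rw [this, hcl]⟩
  let S : ValuativeCommSq f :=
    { R := A
      K := F
      i₁ := i₁
      i₂ := Spec.map θA ≫ X.fromSpecStalk (f.base y₀)
      commSq := ⟨hi₁⟩ }
  obtain ⟨⟨l, -, hl⟩⟩ := h S (inferInstanceAs (IsDiscreteValuationRing A)) ⟨l₀, hl₀⟩
  change l ≫ f = Spec.map θA ≫ X.fromSpecStalk (f.base y₀) at hl
  have hly : l.base (closedPoint A) = y₀ := by
    apply f.injective
    rw [← Scheme.Hom.comp_apply, hl, hcl]
  obtain ⟨ρ, -, hρ⟩ := exists_stalk_hom A l y₀ hly
  refine ⟨ρ, ?_⟩
  apply Spec.map_injective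
  rw [← cancel_mono (X.fromSpecStalk (f.base y₀)), Spec.map_comp, Category.assoc,
    Scheme.SpecMap_stalkMap_fromSpecStalk, ← Category.assoc, hρ, hl]

/-- main step: under DVR lifting for a monomorphism to a locally Noetherian scheme, a morphism
from the spectrum of a valuation ring to `X` whose closed and generic points lift to `Y` lifts
to `Y` -/
theorem exists_lift_of_dvrLifting {X Y : Scheme.{u}} [IsLocallyNoetherian X] (f : Y ⟶ X) [Mono f]
    (h : DvrLifting f) (y₀ : Y) (R : Type u) [CommRing R] [IsDomain R] [ValuationRing R]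
    (K : Type u) [Field K] [Algebra R K] [IsFractionRing R K]
    (θ : X.presheaf.stalk (f.base y₀) ⟶ CommRingCat.of R) [IsLocalHom θ.hom]
    (hgen : ∃ (y₁ : Y) (p : Spec (CommRingCat.of K)),
      (Spec.map (CommRingCat.ofHom (algebraMap R K)) ≫ Spec.map θ ≫
        X.fromSpecStalk (f.base y₀)).base p = f.base y₁) :
    ∃ l : Spec (CommRingCat.of R) ⟶ Y, l ≫ f = Spec.map θ ≫ X.fromSpecStalk (f.base y₀) := by
  classical
  have hRK : Function.Injective (algebraMap R K) := IsFractionRing.injective R K
  by_cases hker : ∀ a ∈ maximalIdeal (X.presheaf.stalk (f.base y₀)), θ.hom a = 0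
  · -- factor through the residue field
    let θbar : ResidueField (X.presheaf.stalk (f.base y₀)) →+* R :=
      Ideal.Quotient.lift (maximalIdeal (X.presheaf.stalk (f.base y₀))) θ.hom hker
    have hθbar : θ = CommRingCat.ofHom (residue (X.presheaf.stalk (f.base y₀))) ≫
        CommRingCat.ofHom θbar := by
      ext a
      rfl
    obtain ⟨l', hl'⟩ := exists_lift_of_mono_of_field f y₀
      (ResidueField (X.presheaf.stalk (f.base y₀)))
      (Spec.map (CommRingCat.ofHom (residue (X.presheaf.stalk (f.base y₀)))) ≫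
        X.fromSpecStalk (f.base y₀))
      ⟨closedPoint _, by
        rw [Scheme.Hom.comp_apply]
        have : (Spec.map (CommRingCat.ofHom (residue (X.presheaf.stalk (f.base y₀))))).base
            (closedPoint (ResidueField (X.presheaf.stalk (f.base y₀)))) =
              closedPoint (X.presheaf.stalk (f.base y₀)) :=
          IsLocalRing.comap_closedPoint (residue (X.presheaf.stalk (f.base y₀)))
        rw [this, Scheme.fromSpecStalk_closedPoint]⟩
    refine ⟨Spec.map (CommRingCat.ofHom θbar) ≫ l', ?_⟩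
    rw [Category.assoc, hl', hθbar, Spec.map_comp, Category.assoc]
  · push Not at hker
    obtain ⟨a₀, ha₀, ha₀0⟩ := hker
    obtain ⟨y₁, p, hp⟩ := hgen
    -- the DVR construction for each nonzero `r` in the maximal ideal
    have key : ∀ r : R, r ≠ 0 → r ∈ maximalIdeal R →
        ∃ ψ' : Y.presheaf.stalk y₀ ⟶ CommRingCat.of K,
          f.stalkMap y₀ ≫ ψ' = θ ≫ CommRingCat.ofHom (algebraMap R K) ∧
          ∀ c, ψ'.hom c * algebraMap R K r ≠ 1 := by
      intro r hr0 hr
      obtain ⟨L, _, ι, A, θL, z, hA, hιθ, hθA, hlt, hιz, hzA, hzlt⟩ :=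
        exists_dvr_approx (X.presheaf.stalk (f.base y₀)) R K hRK θ.hom r hr0 hr
      let θA : X.presheaf.stalk (f.base y₀) ⟶ CommRingCat.of A :=
        CommRingCat.ofHom (θL.codRestrict A hθA)
      have hθAloc : IsLocalHom θA.hom := ⟨fun a ha => by
        by_contra hnu
        have h1 := hlt a ((mem_maximalIdeal a).2 hnu)
        have h2 : A.valuation ((θL.codRestrict A hθA a : A) : L) = 1 :=
          (A.valuation_eq_one_iff _).1 ha
        exact absurd h2 (ne_of_lt h1)⟩
      have hcomp : θA ≫ CommRingCat.ofHom (algebraMap A L) ≫ CommRingCat.ofHom ι =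
          θ ≫ CommRingCat.ofHom (algebraMap R K) := by
        ext a
        exact hιθ a
      have hcomp' : Spec.map (CommRingCat.ofHom ι) ≫
          Spec.map (CommRingCat.ofHom (algebraMap A L)) ≫ Spec.map θA ≫
            X.fromSpecStalk (f.base y₀) =
          Spec.map (CommRingCat.ofHom (algebraMap R K)) ≫ Spec.map θ ≫
            X.fromSpecStalk (f.base y₀) := by
        have := congrArg Spec.map hcomp
        rw [Spec.map_comp, Spec.map_comp, Spec.map_comp] at this
        rw [← Category.assoc, ← Category.assoc, ← Category.assoc, this, Category.assoc]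
      obtain ⟨ρ, hρ⟩ := exists_extension_of_dvr f h y₀ A L θA
        ⟨y₁, (Spec.map (CommRingCat.ofHom ι)).base p, by
          rw [← hp, ← Scheme.Hom.comp_apply, hcomp']⟩
      refine ⟨ρ ≫ CommRingCat.ofHom (algebraMap A L) ≫ CommRingCat.ofHom ι, ?_, ?_⟩
      · rw [← Category.assoc, hρ, hcomp]
      · intro c hc
        change ι ((ρ.hom c : A) : L) * algebraMap R K r = 1 at hc
        rw [← hιz, ← map_mul] at hc
        have h1 : ((ρ.hom c : A) : L) * z = 1 := ι.injective (by rw [hc, map_one])
        have h2 : A.valuation (((ρ.hom c : A) : L) * z) < 1 := by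
          rw [map_mul]
          calc A.valuation ((ρ.hom c : A) : L) * A.valuation z ≤ 1 * A.valuation z :=
                mul_le_mul_left (A.valuation_le_one _) _
            _ = A.valuation z := one_mul _
            _ < 1 := hzlt
        rw [h1, map_one] at h2
        exact lt_irrefl _ h2
    have hθa₀ : θ.hom a₀ ∈ maximalIdeal R := by
      rw [mem_maximalIdeal, mem_nonunits_iff] at ha₀ ⊢
      exact fun hu => ha₀ (isUnit_of_map_unit θ.hom a₀ hu)
    obtain ⟨ψC, hψC, -⟩ := key (θ.hom a₀) ha₀0 hθa₀
    have hmem : ∀ c, ∃ r : R, algebraMap R K r = ψC.hom c := by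
      intro c
      rcases ValuationRing.isInteger_or_isInteger R (ψC.hom c) with ⟨r, hr⟩ | ⟨r, hr⟩
      · exact ⟨r, hr⟩
      · by_cases hc : ψC.hom c = 0
        · exact ⟨0, by rw [hc, map_zero]⟩
        by_cases hu : IsUnit r
        · obtain ⟨u, rfl⟩ := hu
          refine ⟨((u⁻¹ : Rˣ) : R), ?_⟩
          have h1 : algebraMap R K ((u⁻¹ : Rˣ) : R) * algebraMap R K (u : R) = 1 := by
            rw [← map_mul, Units.inv_mul, map_one]
          rw [hr] at h1
          have h2 : ψC.hom c * (ψC.hom c)⁻¹ = 1 := mul_inv_cancel₀ hc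
          exact mul_right_cancel₀ (inv_ne_zero hc) (h1.trans h2.symm)
        · exfalso
          have hr0 : r ≠ 0 := by
            rintro rfl
            rw [map_zero] at hr
            exact inv_ne_zero hc hr.symm
          obtain ⟨ψ', hψ', hne⟩ := key r hr0 ((mem_maximalIdeal r).2 hu)
          have : ψ' = ψC := stalk_hom_ext f y₀ _ ψ' ψC (hψ'.trans hψC.symm)
          subst this
          exact hne c (by rw [hr, mul_inv_cancel₀ hc])
    choose ρ₀ hρ₀ using hmem
    let ρ : Y.presheaf.stalk y₀ →+* R :=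
      { toFun := ρ₀
        map_one' := hRK (by rw [hρ₀, map_one, map_one])
        map_mul' := fun a b => hRK (by rw [hρ₀, map_mul, map_mul, hρ₀, hρ₀])
        map_zero' := hRK (by rw [hρ₀, map_zero, map_zero])
        map_add' := fun a b => hRK (by rw [hρ₀, map_add, map_add, hρ₀, hρ₀]) }
    have hρθ : f.stalkMap y₀ ≫ CommRingCat.ofHom ρ = θ := by
      ext a
      apply hRK
      change algebraMap R K (ρ₀ ((f.stalkMap y₀).hom a)) = algebraMap R K (θ.hom a)
      rw [hρ₀]
      exact congrArg (fun ξ : X.presheaf.stalk (f.base y₀) ⟶ CommRingCat.of K => ξ.hom a) hψC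
    refine ⟨Spec.map (CommRingCat.ofHom ρ) ≫ Y.fromSpecStalk y₀, ?_⟩
    have e : Spec.map (CommRingCat.ofHom ρ) ≫ Spec.map (f.stalkMap y₀) = Spec.map θ :=
      (Spec.map_comp _ _).symm.trans (congrArg Spec.map hρθ)
    rw [Category.assoc, ← Scheme.SpecMap_stalkMap_fromSpecStalk, ← Category.assoc, e]

/-- under DVR lifting for a monomorphism to a locally Noetherian scheme, every valuative square
whose closed point lifts has a lift -/
theorem hasLift_of_dvrLifting {X Y : Scheme.{u}} [IsLocallyNoetherian X] (f : Y ⟶ X) [Mono f]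
    (h : DvrLifting f) (S : ValuativeCommSq f)
    (hl₀ : ∃ l₀ : Spec (CommRingCat.of (IsLocalRing.ResidueField S.R)) ⟶ Y,
        l₀ ≫ f = Spec.map (CommRingCat.ofHom (IsLocalRing.residue S.R)) ≫ S.i₂) :
    S.commSq.HasLift := by
  obtain ⟨l₀, hl₀⟩ := hl₀
  have hx : S.i₂.base (closedPoint S.R) =
      f.base (l₀.base (closedPoint (IsLocalRing.ResidueField S.R))) := by
    rw [← Scheme.Hom.comp_apply, hl₀, Scheme.Hom.comp_apply]
    congr 1
    exact (IsLocalRing.comap_closedPoint (IsLocalRing.residue S.R)).symm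
  obtain ⟨θ, hθloc, hθ⟩ := exists_stalk_hom S.R S.i₂ _ hx
  obtain ⟨l, hl⟩ := exists_lift_of_dvrLifting f h
    (l₀.base (closedPoint (IsLocalRing.ResidueField S.R))) S.R S.K θ
    ⟨S.i₁.base (closedPoint S.K), closedPoint S.K, by
      rw [hθ, ← S.commSq.w, Scheme.Hom.comp_apply]⟩
  rw [hθ] at hl
  refine ⟨⟨⟨l, ?_, hl⟩⟩⟩
  rw [← cancel_mono f, Category.assoc, hl, S.commSq.w]

end Groth.Agent.Lib.Helper13.DvrLift
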