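import Mathlib
import Groth.Agent.Lib.Helper13.DvrDominate
import Groth.Agent.Lib.Helper13.DvrLift
import Groth.Agent.Lib.Helper13.CodimOne

/-!
# A discrete valuation ring centred at a non-generic point of a locally Noetherian scheme
-/

universe u

open CategoryTheory CategoryTheory.Limits AlgebraicGeometry TopologicalSpace IsLocalRing

namespace Groth.Agent.Lib.Helper13.SectionDvr

/-- the generic point of the local ring at `x` lies in every dense open -/
theorem generic_mem_of_dense {X : Scheme.{u}} (U : X.Opens) (hU : Dense (U : Set X)) (x : X)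
    [X.IsGermInjectiveAt x] [IsDomain (X.presheaf.stalk x)]
    (p : Spec (CommRingCat.of (FractionRing (X.presheaf.stalk x)))) :
    (Spec.map (CommRingCat.ofHom (algebraMap (X.presheaf.stalk x)
      (FractionRing (X.presheaf.stalk x)))) ≫ X.fromSpecStalk x).base p ∈ U := by
  obtain ⟨W₀, hxW₀, hW₀, hinj₀⟩ := X.exists_germ_injective x
  obtain ⟨v, hvW, hvU⟩ := hU.inter_open_nonempty W₀ W₀.isOpen ⟨x, hxW₀⟩
  have := CodimOne.specializes_of_germ_injective x W₀ hW₀ hxW₀ hinj₀ p v hvW
  exact this.mem_open U.isOpen hvU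

theorem not_isField_stalk {X : Scheme.{u}} (U : X.Opens) (hU : Dense (U : Set X)) (x : X)
    (hxU : x ∉ U) [X.IsGermInjectiveAt x] [IsDomain (X.presheaf.stalk x)] :
    ¬ IsField (X.presheaf.stalk x) := by
  intro hF
  apply hxU
  let p : Spec (CommRingCat.of (FractionRing (X.presheaf.stalk x))) :=
    closedPoint (FractionRing (X.presheaf.stalk x))
  have h1 := generic_mem_of_dense U hU x p
  have hmax : maximalIdeal (X.presheaf.stalk x) = ⊥ := isField_iff_maximalIdeal_eq.mp hF
  have h2 : (Spec.map (CommRingCat.ofHom (algebraMap (X.presheaf.stalk x)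
      (FractionRing (X.presheaf.stalk x))))).base p = closedPoint (X.presheaf.stalk x) := by
    apply PrimeSpectrum.ext
    change _ = maximalIdeal (X.presheaf.stalk x)
    rw [hmax, eq_bot_iff]
    exact (le_maximalIdeal (Ideal.IsPrime.ne_top inferInstance)).trans hmax.le
  rw [Scheme.Hom.comp_apply, h2, Scheme.fromSpecStalk_closedPoint] at h1
  exact h1

theorem exists_dvr_centered {X : Scheme.{u}} [IsLocallyNoetherian X] (U : X.Opens)
    (hU : Dense (U : Set X)) (x : X) (hxU : x ∉ U) [IsDomain (X.presheaf.stalk x)] :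
    ∃ (R : Type u) (_ : CommRing R) (_ : IsDomain R) (_ : IsDiscreteValuationRing R)
      (u : Spec (CommRingCat.of R) ⟶ X)
      (ub : Spec (CommRingCat.of (FractionRing R)) ⟶ (U : Scheme.{u})),
      u (IsLocalRing.closedPoint R) = x ∧
      ub ≫ U.ι = Spec.map (CommRingCat.ofHom (algebraMap R (FractionRing R))) ≫ u := by
  classical
  obtain ⟨A, hA⟩ : ∃ A : CommRingCat.{u}, A = X.presheaf.stalk x := ⟨_, rfl⟩
  let K := FractionRing (X.presheaf.stalk x)
  have hnF := not_isField_stalk U hU x hxU
  have hinj : Function.Injective (algebraMap (X.presheaf.stalk x) K) :=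
    IsFractionRing.injective _ _
  have hT : Subfield.closure (Set.range (algebraMap (X.presheaf.stalk x) K) ∪
      ((∅ : Finset K) : Set K)) = ⊤ := by
    rw [eq_top_iff]
    intro z _
    obtain ⟨a, b, hb, rfl⟩ := IsFractionRing.div_surjective (A := X.presheaf.stalk x) z
    exact div_mem (Subfield.subset_closure (Or.inl ⟨a, rfl⟩))
      (Subfield.subset_closure (Or.inl ⟨b, rfl⟩))
  obtain ⟨R, hdvr, hmem, hlt⟩ :=
    Dvr.exists_dvr_dominating (L := K) (X.presheaf.stalk x) hnF hinj ∅ hT
  let θ : X.presheaf.stalk x ⟶ CommRingCat.of R :=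
    CommRingCat.ofHom ((algebraMap (X.presheaf.stalk x) K).codRestrict R.toSubring hmem)
  haveI hθloc : IsLocalHom θ.hom := ⟨fun a ha => by
    by_contra hnu
    have h1 := hlt a ((mem_maximalIdeal a).2 hnu)
    have h2 : R.valuation
        (((algebraMap (X.presheaf.stalk x) K).codRestrict R.toSubring hmem a : R) : K) = 1 :=
      (R.valuation_eq_one_iff _).1 ha
    exact absurd h2 (ne_of_lt h1)⟩
  let u : Spec (CommRingCat.of R) ⟶ X := Spec.map θ ≫ X.fromSpecStalk x
  have hu : u (closedPoint R) = x := DvrLift.specMap_closedPoint x R θ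
  -- the generic point
  let ψ : K ≃ₐ[R] FractionRing R := (FractionRing.algEquiv R K).symm
  have hψ : ∀ a : X.presheaf.stalk x, ψ (algebraMap (X.presheaf.stalk x) K a) =
      algebraMap R (FractionRing R) (θ.hom a) := by
    intro a
    have : algebraMap (X.presheaf.stalk x) K a = algebraMap R K (θ.hom a) := rfl
    rw [this]
    exact ψ.commutes _
  have hcomp : θ ≫ CommRingCat.ofHom (algebraMap R (FractionRing R)) =
      CommRingCat.ofHom (algebraMap (X.presheaf.stalk x) K) ≫
        CommRingCat.ofHom (ψ : K →+* FractionRing R) := by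
    ext a
    exact (hψ a).symm
  have hg : Spec.map (CommRingCat.ofHom (algebraMap R (FractionRing R))) ≫ u =
      Spec.map (CommRingCat.ofHom (ψ : K →+* FractionRing R)) ≫
        (Spec.map (CommRingCat.ofHom (algebraMap (X.presheaf.stalk x) K)) ≫
          X.fromSpecStalk x) := by
    have := congrArg Spec.map hcomp
    rw [Spec.map_comp, Spec.map_comp] at this
    dsimp only [u]
    rw [← Category.assoc, this, Category.assoc]
  have hrange : Set.range (Spec.map (CommRingCat.ofHom (algebraMap R (FractionRing R))) ≫ u).base ⊆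
      Set.range U.ι.base := by
    rintro _ ⟨p, rfl⟩
    rw [Scheme.Opens.range_ι, hg, Scheme.Hom.comp_apply]
    exact generic_mem_of_dense U hU x _
  exact ⟨R, inferInstance, inferInstance, hdvr, u, IsOpenImmersion.lift U.ι _ hrange, hu,
    IsOpenImmersion.lift_fac _ _ _⟩

end Groth.Agent.Lib.Helper13.SectionDvr
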