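import Mathlib

/-!
# Gluing two morphisms defined on two opens

`exists_glue_two`: morphisms `f : U ⟶ Y`, `g : W ⟶ Y` on opens `U`, `W` of `X` that agree on
`U ∩ W` glue to a morphism `U ⊔ W ⟶ Y`.
-/

universe u

open CategoryTheory CategoryTheory.Limits AlgebraicGeometry TopologicalSpace

namespace Groth.Agent.Lib.Helper13.GlueTwo

theorem exists_glue_two {X Y : Scheme.{u}} (U W : X.Opens)
    (f : (U : Scheme.{u}) ⟶ Y) (g : (W : Scheme.{u}) ⟶ Y)
    (h : pullback.fst U.ι W.ι ≫ f = pullback.snd U.ι W.ι ≫ g) :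
    ∃ f' : ((U ⊔ W : X.Opens) : Scheme.{u}) ⟶ Y,
      X.homOfLE le_sup_left ≫ f' = f ∧ X.homOfLE le_sup_right ≫ f' = g ∧
      ∀ {Z : Scheme.{u}} (a b : ((U ⊔ W : X.Opens) : Scheme.{u}) ⟶ Z),
        X.homOfLE le_sup_left ≫ a = X.homOfLE le_sup_left ≫ b →
        X.homOfLE le_sup_right ≫ a = X.homOfLE le_sup_right ≫ b → a = b := by
  classical
  let Wf : Bool → X.Opens := fun b => match b with
    | true => U
    | false => W
  have hle : ∀ b, Wf b ≤ U ⊔ W := by
    rintro (_ | _)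
    · exact le_sup_right
    · exact le_sup_left
  let gW : ∀ b : Bool, ((Wf b : X.Opens) : Scheme.{u}) ⟶ Y := fun b => match b with
    | true => f
    | false => g
  have hb' : ∀ (T : Scheme.{u}) (a : T ⟶ (U : Scheme.{u})) (b : T ⟶ (W : Scheme.{u})),
      a ≫ U.ι = b ≫ W.ι → a ≫ f = b ≫ g := by
    intro T a b hab
    have h1 := congrArg (fun ξ => pullback.lift a b hab ≫ ξ) h
    simpa only [pullback.lift_fst_assoc, pullback.lift_snd_assoc] using h1
  let 𝒰 : ((U ⊔ W : X.Opens) : Scheme.{u}).OpenCover :=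
    Scheme.Cover.mkOfCovers Bool (fun b => ((Wf b : X.Opens) : Scheme.{u}))
      (fun b => X.homOfLE (hle b)) (by
        rintro ⟨x, hx⟩
        rcases hx with hx | hx
        · exact ⟨true, ⟨x, hx⟩, Scheme.homOfLE_apply' _ x hx⟩
        · exact ⟨false, ⟨x, hx⟩, Scheme.homOfLE_apply' _ x hx⟩)
      (fun b => inferInstance)
  have hι : ∀ b, 𝒰.f b ≫ (U ⊔ W : X.Opens).ι = (Wf b).ι := fun b => X.homOfLE_ι (hle b)
  have hcompat : ∀ i j : Bool, pullback.fst (𝒰.f i) (𝒰.f j) ≫ gW i =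
      pullback.snd (𝒰.f i) (𝒰.f j) ≫ gW j := by
    intro i j
    have hc : pullback.fst (𝒰.f i) (𝒰.f j) ≫ (Wf i).ι =
        pullback.snd (𝒰.f i) (𝒰.f j) ≫ (Wf j).ι := by
      rw [← hι i, ← hι j, ← Category.assoc, ← Category.assoc, pullback.condition]
    rcases i with _ | _ <;> rcases j with _ | _
    · have : pullback.fst (𝒰.f false) (𝒰.f false) = pullback.snd (𝒰.f false) (𝒰.f false) :=
        (cancel_mono (W.ι)).mp hc
      rw [this]
    · exact (hb' _ _ _ hc.symm).symm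
    · exact hb' _ _ _ hc
    · have : pullback.fst (𝒰.f true) (𝒰.f true) = pullback.snd (𝒰.f true) (𝒰.f true) :=
        (cancel_mono (U.ι)).mp hc
      rw [this]
  refine ⟨𝒰.glueMorphisms gW hcompat, 𝒰.ι_glueMorphisms gW hcompat true,
    𝒰.ι_glueMorphisms gW hcompat false, ?_⟩
  intro Z a b h1 h2
  apply 𝒰.hom_ext
  rintro (_ | _)
  · exact h2
  · exact h1

end Groth.Agent.Lib.Helper13.GlueTwo
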