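import Mathlib

/-!
# Integral open neighbourhoods of points whose local ring is a domain
-/

universe u

open CategoryTheory AlgebraicGeometry TopologicalSpace

namespace Groth.Agent.Lib.Helper13.IntegralNhd

/-- a point whose local ring is a domain lies on a unique irreducible component -/
theorem irreducibleComponent_unique {X : Scheme.{u}} (x : X) [IsDomain (X.presheaf.stalk x)]
    {Z Z' : Set X} (hZ : Z ∈ irreducibleComponents X) (hZ' : Z' ∈ irreducibleComponents X)
    (hxZ : x ∈ Z) (hxZ' : x ∈ Z') : Z = Z' := by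
  let b : PrimeSpectrum (X.presheaf.stalk x) := ⟨⊥, Ideal.isPrime_bot⟩
  let ξ : X := X.fromSpecStalk x b
  have key : ∀ W ∈ irreducibleComponents X, x ∈ W → W = closure {ξ} := by
    intro W hW hxW
    have hWc : IsClosed W := isClosed_of_mem_irreducibleComponents W hW
    obtain ⟨η, hη⟩ : ∃ η, IsGenericPoint η W := by
      have h := hW.1.isGenericPoint_genericPoint_closure
      rw [hWc.closure_eq] at h
      exact ⟨_, h⟩
    have hηx : η ⤳ x := by
      rw [specializes_iff_mem_closure, hη.def]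
      exact hxW
    have hηr : η ∈ Set.range (X.fromSpecStalk x) := by
      rw [Scheme.range_fromSpecStalk]; exact hηx
    obtain ⟨p, hp⟩ := hηr
    have hbp : b ⤳ p := (PrimeSpectrum.le_iff_specializes b p).mp (by
      show b.asIdeal ≤ p.asIdeal
      exact bot_le)
    have hξη : ξ ⤳ η := by
      rw [← hp]
      exact hbp.map (X.fromSpecStalk x).continuous
    have hsub : W ⊆ closure {ξ} := by
      rw [← hη.def]
      exact specializes_iff_closure_subset.mp hξη
    exact Set.Subset.antisymm hsub (hW.2 isIrreducible_singleton.closure hsub)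
  rw [key Z hZ hxZ, key Z' hZ' hxZ']

/-- in a reduced scheme with finitely many irreducible components, a point whose local ring is a
domain has an integral open neighbourhood -/
theorem exists_isIntegral_of_isReduced {X : Scheme.{u}} [IsReduced X]
    (hfin : (irreducibleComponents X).Finite) (x : X) [IsDomain (X.presheaf.stalk x)] :
    ∃ X₀ : X.Opens, x ∈ X₀ ∧ IsIntegral X₀.toScheme := by
  classical
  let C₂ : Set (Set X) := {Z ∈ irreducibleComponents X | x ∉ Z}
  have hC₂fin : C₂.Finite := hfin.subset (fun Z hZ => hZ.1)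
  have hclosed : IsClosed (⋃₀ C₂) := by
    rw [Set.sUnion_eq_biUnion]
    exact hC₂fin.isClosed_biUnion (fun Z hZ => isClosed_of_mem_irreducibleComponents Z hZ.1)
  let X₀ : X.Opens := ⟨(⋃₀ C₂)ᶜ, hclosed.isOpen_compl⟩
  have hxX₀ : x ∈ X₀ := by
    show x ∈ (⋃₀ C₂)ᶜ
    rintro ⟨Z, hZ, hxZ⟩
    exact hZ.2 hxZ
  -- the component through x
  let Z₁ := irreducibleComponent x
  have hZ₁ : Z₁ ∈ irreducibleComponents X := irreducibleComponent_mem_irreducibleComponents x
  have hxZ₁ : x ∈ Z₁ := mem_irreducibleComponent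
  have hsub : (X₀ : Set X) ⊆ Z₁ := by
    intro y hy
    have hyZ : irreducibleComponent y ∈ irreducibleComponents X :=
      irreducibleComponent_mem_irreducibleComponents y
    by_cases hx : x ∈ irreducibleComponent y
    · rw [irreducibleComponent_unique x hZ₁ hyZ hxZ₁ hx]
      exact mem_irreducibleComponent
    · exact absurd ⟨irreducibleComponent y, ⟨hyZ, hx⟩, mem_irreducibleComponent⟩ hy
  have hirr : IsIrreducible (X₀ : Set X) := by
    refine ⟨⟨x, hxX₀⟩, ?_⟩
    intro A B hA hB ⟨a, haX₀, haA⟩ ⟨b, hbX₀, hbB⟩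
    have h := hZ₁.1.2 (A ∩ X₀) (B ∩ X₀) (hA.inter X₀.isOpen) (hB.inter X₀.isOpen)
      ⟨a, hsub haX₀, haA, haX₀⟩ ⟨b, hsub hbX₀, hbB, hbX₀⟩
    obtain ⟨c, -, ⟨hcA, hcX₀⟩, ⟨hcB, -⟩⟩ := h
    exact ⟨c, hcX₀, hcA, hcB⟩
  haveI : IrreducibleSpace X₀.toScheme := Subtype.irreducibleSpace hirr
  exact ⟨X₀, hxX₀, isIntegral_of_irreducibleSpace_of_isReduced _⟩

/-- a localization away from an element killing the nilradical is reduced -/
theorem isReduced_of_isLocalization_away {A B : Type*} [CommRing A] [CommRing B] [Algebra A B]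
    (s : A) [IsLocalization.Away s B] (hs : ∀ n ∈ nilradical A, s * n = 0) : IsReduced B := by
  refine ⟨fun b hb => ?_⟩
  obtain ⟨m, hm⟩ := hb
  obtain ⟨⟨a, t⟩, hat⟩ := IsLocalization.surj (Submonoid.powers s) b
  have hunit : IsUnit (algebraMap A B t.1) := IsLocalization.map_units B t
  -- `algebraMap a` is nilpotent
  have h1 : algebraMap A B (a ^ m) = 0 := by
    rw [map_pow, ← hat, mul_pow, hm, zero_mul]
  obtain ⟨c, hc⟩ := (IsLocalization.map_eq_zero_iff (Submonoid.powers s) B _).mp h1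
  obtain ⟨l, hl⟩ := c.2
  have hnil : s ^ l * a ∈ nilradical A := by
    rw [mem_nilradical]
    refine ⟨m + 1, ?_⟩
    have : (s ^ l * a) ^ (m + 1) = (s ^ l) ^ m * a * (c.1 * a ^ m) := by
      rw [← hl]; ring
    rw [this, hc, mul_zero]
  have h2 := hs _ hnil
  have h3 : algebraMap A B (s * (s ^ l * a)) = 0 := by rw [h2, map_zero]
  rw [map_mul, map_mul] at h3
  have hsu : IsUnit (algebraMap A B s) :=
    IsLocalization.map_units B (⟨s, Submonoid.mem_powers s⟩ : Submonoid.powers s)
  have h4 : algebraMap A B a = 0 := by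
    have h5 := (hsu.mul_right_eq_zero).mp h3
    rw [map_pow] at h5
    exact ((hsu.pow l).mul_right_eq_zero).mp h5
  rw [h4] at hat
  exact (hunit.mul_left_eq_zero).mp hat

/-- in a locally Noetherian scheme, a point whose local ring is a domain has a reduced affine open
neighbourhood -/
theorem exists_isReduced_of_isLocallyNoetherian {X : Scheme.{u}} [IsLocallyNoetherian X] (x : X)
    [IsDomain (X.presheaf.stalk x)] :
    ∃ X₁ : X.Opens, x ∈ X₁ ∧ IsAffineOpen X₁ ∧ IsReduced X₁.toScheme := by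
  classical
  obtain ⟨V, hV, hxV⟩ : ∃ V : X.Opens, IsAffineOpen V ∧ x ∈ V := by
    obtain ⟨_, ⟨V, hV, rfl⟩, hxV, -⟩ := X.isBasis_affineOpens.exists_subset_of_mem_open
      (Set.mem_univ x) isOpen_univ
    exact ⟨V, hV, hxV⟩
  haveI : IsNoetherianRing Γ(X, V) := IsLocallyNoetherian.component_noetherian ⟨V, hV⟩
  letI := X.presheaf.algebra_section_stalk ⟨x, hxV⟩
  haveI := hV.isLocalization_stalk ⟨x, hxV⟩
  obtain ⟨T, hT⟩ := (isNoetherian_def.mp (inferInstance : IsNoetherian Γ(X, V) Γ(X, V)))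
    (nilradical Γ(X, V))
  have hex : ∀ t ∈ T, ∃ c : (hV.primeIdealOf ⟨x, hxV⟩).asIdeal.primeCompl, c.1 * t = 0 := by
    intro t ht
    have htn : t ∈ nilradical Γ(X, V) := hT ▸ Submodule.subset_span ht
    have h0 : algebraMap Γ(X, V) (X.presheaf.stalk x) t = 0 :=
      (mem_nilradical.mp htn).map (algebraMap Γ(X, V) (X.presheaf.stalk x)) |>.eq_zero
    exact (IsLocalization.map_eq_zero_iff _ (X.presheaf.stalk x) t).mp h0
  choose! c hc using hex
  let s : (hV.primeIdealOf ⟨x, hxV⟩).asIdeal.primeCompl := ∏ t ∈ T, c t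
  have hs : ∀ n ∈ nilradical Γ(X, V), s.1 * n = 0 := by
    intro n hn
    rw [← hT] at hn
    refine Submodule.span_induction ?_ ?_ ?_ ?_ hn
    · intro t ht
      have hdvd : (c t).1 ∣ s.1 := by
        have : c t ∣ s := Finset.dvd_prod_of_mem c ht
        obtain ⟨d, hd⟩ := this
        exact ⟨d.1, by rw [hd]; rfl⟩
      obtain ⟨d, hd⟩ := hdvd
      rw [hd, mul_comm (c t).1 d, mul_assoc, hc t ht, mul_zero]
    · exact mul_zero _
    · intro a b _ _ ha hb
      rw [mul_add, ha, hb, add_zero]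
    · intro r a _ ha
      rw [smul_eq_mul, mul_left_comm, ha, mul_zero]
  refine ⟨X.basicOpen s.1, ?_, hV.basicOpen s.1, ?_⟩
  · rw [Scheme.mem_basicOpen _ _ _ hxV]
    have := s.2
    by_contra hnu
    exact this ((IsLocalization.AtPrime.to_map_mem_maximal_iff (X.presheaf.stalk x)
      (hV.primeIdealOf ⟨x, hxV⟩).asIdeal s.1).mp
      ((IsLocalRing.mem_maximalIdeal _).mpr hnu))
  · haveI := hV.isLocalization_basicOpen s.1
    haveI : _root_.IsReduced Γ(X, X.basicOpen s.1) :=
      isReduced_of_isLocalization_away (A := Γ(X, V)) s.1 hs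
    haveI : IsAffine (X.basicOpen s.1).toScheme := hV.basicOpen s.1
    haveI : _root_.IsReduced Γ((X.basicOpen s.1).toScheme, ⊤) :=
      isReduced_of_injective (X.basicOpen s.1).topIso.commRingCatIsoToRingEquiv.toRingHom
        (X.basicOpen s.1).topIso.commRingCatIsoToRingEquiv.injective
    exact isReduced_of_isAffine_isReduced _

/-- in a locally Noetherian scheme, a point whose local ring is a domain has an integral open
neighbourhood -/
theorem exists_isIntegral_of_isLocallyNoetherian {X : Scheme.{u}} [IsLocallyNoetherian X] (x : X)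
    [IsDomain (X.presheaf.stalk x)] :
    ∃ X₀ : X.Opens, x ∈ X₀ ∧ IsIntegral X₀.toScheme := by
  obtain ⟨X₁, hxX₁, hX₁, hred⟩ := exists_isReduced_of_isLocallyNoetherian x
  haveI := hred
  haveI : IsAffine X₁.toScheme := hX₁
  haveI : IsLocallyNoetherian X₁.toScheme := isLocallyNoetherian_of_isOpenImmersion X₁.ι
  haveI : IsNoetherian X₁.toScheme := { }
  let x₁ : X₁.toScheme := ⟨x, hxX₁⟩
  haveI : IsDomain (X₁.toScheme.presheaf.stalk x₁) :=
    (X₁.stalkIso x₁).commRingCatIsoToRingEquiv.toMulEquiv.isDomain _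
  obtain ⟨T₀, hxT₀, hT₀⟩ := exists_isIntegral_of_isReduced
    (NoetherianSpace.finite_irreducibleComponents (α := X₁.toScheme)) x₁
  haveI := hT₀
  refine ⟨X₁.ι ''ᵁ T₀, ⟨x₁, hxT₀, rfl⟩, ?_⟩
  haveI : Nonempty (X₁.ι ''ᵁ T₀).toScheme := ⟨⟨x, ⟨x₁, hxT₀, rfl⟩⟩⟩
  exact isIntegral_of_isOpenImmersion (X₁.ι.isoImage T₀).inv

end Groth.Agent.Lib.Helper13.IntegralNhd
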