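import Mathlib
import Groth.Agent.Lib.Helper13.ProperBirational

/-!
# Extending a section of a quasi-finite separated morphism over a normal point
-/

universe u

open CategoryTheory CategoryTheory.Limits AlgebraicGeometry TopologicalSpace

namespace Groth.Agent.Lib.Helper13.SectionExt

/-- the scheme-theoretic image of a quasi-compact morphism from an integral scheme is integral -/
theorem isIntegral_image {X Y : Scheme.{u}} [IsIntegral X] (f : X ⟶ Y) [QuasiCompact f] :
    IsIntegral f.image := by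
  haveI : IrreducibleSpace f.image := by
    rw [irreducibleSpace_def]
    convert!
      ((IrreducibleSpace.isIrreducible_univ X).image _ f.toImage.continuous.continuousOn).closure
    simpa using f.toImage.denseRange.closure_range.symm
  haveI : IsReduced f.image := by
    have hred (U : Y.affineOpens) : _root_.IsReduced (Γ(Y, U.1) ⧸ f.ker.ideal U) := by
      rw [Scheme.Hom.ker_apply]
      exact isReduced_of_injective (RingHom.kerLift (f.app U.1).hom)
        (RingHom.kerLift_injective _)
    have hred' (U : f.ker.subschemeCover.openCover.I₀) :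
        IsReduced (f.ker.subschemeCover.openCover.X U) := by
      change IsReduced (Spec (.of (Γ(Y, U.1) ⧸ f.ker.ideal U)))
      haveI := hred U
      infer_instance
    exact .of_openCover _ f.ker.subschemeCover.openCover
  exact isIntegral_of_irreducibleSpace_of_isReduced _

/-- **Lemma A**: extending a section of a separated, locally quasi-finite morphism of finite type
over an integral Noetherian scheme across a normal point, given a point `y₀` in the closure of the
image of the section. -/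
theorem exists_section_nhd {X Y : Scheme.{u}} [IsIntegral X] [IsNoetherian X] (q : Y ⟶ X)
    [IsSeparated q] [LocallyOfFiniteType q] [LocallyQuasiFinite q]
    (U : X.Opens) (hU : (U : Set X).Nonempty) (h : (U : Scheme.{u}) ⟶ Y) (hh : h ≫ q = U.ι)
    (y₀ : Y) (hn : IsIntegrallyClosed (X.presheaf.stalk (q y₀)))
    (hy₀ : y₀ ∈ closure (Set.range h)) :
    ∃ (V : X.Opens) (g : (V : Scheme.{u}) ⟶ Y), q y₀ ∈ V ∧ g ≫ q = V.ι ∧
      pullback.fst U.ι V.ι ≫ h = pullback.snd U.ι V.ι ≫ g := by
  obtain ⟨u₀, hu₀⟩ := hU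
  haveI : Nonempty U.toScheme := ⟨⟨u₀, hu₀⟩⟩
  haveI : IsIntegral U.toScheme := isIntegral_of_isOpenImmersion U.ι
  haveI : NoetherianSpace U.toScheme := inferInstanceAs (NoetherianSpace (U : Set X))
  haveI : QuasiCompact h := inferInstance
  haveI := isIntegral_image h
  -- the closed subscheme `Z`
  obtain ⟨i, hi⟩ : ∃ i : h.image ⟶ Y, i = h.imageι := ⟨_, rfl⟩
  obtain ⟨s, hs⟩ : ∃ s : (U : Scheme.{u}) ⟶ h.image, s = h.toImage := ⟨_, rfl⟩
  haveI : IsClosedImmersion i := hi ▸ inferInstance
  haveI : IsDominant s := hs ▸ inferInstance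
  have hsi : s ≫ i = h := by rw [hi, hs]; exact h.toImage_imageι
  obtain ⟨f, hf⟩ : ∃ f : h.image ⟶ X, f = i ≫ q := ⟨_, rfl⟩
  haveI : IsSeparated f := hf ▸ inferInstance
  haveI : LocallyOfFiniteType f := hf ▸ inferInstance
  haveI : LocallyQuasiFinite f := hf ▸ inferInstance
  have hsf : s ≫ f = U.ι := by rw [hf, ← Category.assoc, hsi, hh]
  -- the point `z₀`
  obtain ⟨z₀, hz₀⟩ : ∃ z₀ : h.image, i z₀ = y₀ := by
    have h1 : Set.range i = closure (Set.range h) := by
      rw [hi]
      have := h.ker.range_subschemeι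
      rw [this, Scheme.Hom.support_ker]
    rw [← h1] at hy₀
    exact hy₀
  have hfz₀ : f z₀ = q y₀ := by rw [hf, Scheme.Hom.comp_apply, hz₀]
  -- `f` is an isomorphism over `U`
  have hisoU : IsIso (f ∣_ U) := by
    let s' : (U : Scheme.{u}) ⟶ (f ⁻¹ᵁ U : h.image.Opens) :=
      (isPullback_morphismRestrict f U).lift (𝟙 _) s (by rw [hsf, Category.id_comp])
    have hs'1 : s' ≫ (f ∣_ U) = 𝟙 _ := (isPullback_morphismRestrict f U).lift_fst _ _ _
    have hs'2 : s' ≫ (f ⁻¹ᵁ U).ι = s := (isPullback_morphismRestrict f U).lift_snd _ _ _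
    haveI : IsSeparated (f ∣_ U) := IsZariskiLocalAtTarget.restrict ‹_› U
    haveI : IsClosedImmersion (s' ≫ (f ∣_ U)) := by rw [hs'1]; infer_instance
    haveI : IsClosedImmersion s' := IsClosedImmersion.of_comp s' (f ∣_ U)
    haveI : Surjective s' := by
      constructor
      have hclosed : IsClosed (Set.range s') := s'.isClosedEmbedding.isClosed_range
      have hdense : Dense (Set.range s') := by
        rw [dense_iff_inter_open]
        intro O hO hOne
        have hO' : IsOpen ((f ⁻¹ᵁ U).ι '' O) := (f ⁻¹ᵁ U).ι.isOpenEmbedding.isOpenMap O hO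
        obtain ⟨_, ⟨o, ho, rfl⟩, ⟨t, ht⟩⟩ :=
          (IsDominant.denseRange (f := s)).inter_open_nonempty _ hO' (hOne.image _)
        refine ⟨s' t, ?_, ⟨t, rfl⟩⟩
        have : (f ⁻¹ᵁ U).ι (s' t) = (f ⁻¹ᵁ U).ι o := by
          rw [← ht, ← hs'2]; rfl
        rw [(f ⁻¹ᵁ U).ι.isOpenEmbedding.injective this]
        exact ho
      intro z
      have : z ∈ closure (Set.range s') := hdense z
      rwa [hclosed.closure_eq] at this
    haveI : IsIntegral (f ⁻¹ᵁ U : h.image.Opens).toScheme := by
      haveI : Nonempty (f ⁻¹ᵁ U : h.image.Opens).toScheme := ⟨s' ⟨u₀, hu₀⟩⟩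
      exact isIntegral_of_isOpenImmersion (f ⁻¹ᵁ U).ι
    haveI : IsIso s' := isIso_of_isClosedImmersion_of_surjective s'
    haveI : IsIso (s' ≫ (f ∣_ U)) := by rw [hs'1]; infer_instance
    exact IsIso.of_isIso_comp_left s' (f ∣_ U)
  obtain ⟨hgen, hbir⟩ := ProperBirational.birational_of_isIso_morphismRestrict f U ⟨u₀, hu₀⟩ hisoU
  have hq : f.QuasiFiniteAt z₀ := f.quasiFiniteAt z₀
  have hn' : IsIntegrallyClosed (X.presheaf.stalk (f z₀)) := by
    have : ∀ x' : X, x' = q y₀ → IsIntegrallyClosed (X.presheaf.stalk x') := by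
      rintro _ rfl; exact hn
    exact this _ hfz₀
  obtain ⟨V, hV, hiso⟩ := ProperBirational.exists_isIso_morphismRestrict' f hgen hbir z₀ hn' hq
  haveI := hiso
  refine ⟨V, inv (f ∣_ V) ≫ (f ⁻¹ᵁ V).ι ≫ i, hfz₀ ▸ hV, ?_, ?_⟩
  · rw [Category.assoc, Category.assoc, ← hf, ← morphismRestrict_ι, IsIso.inv_hom_id_assoc]
  · -- agreement on `U ∩ V`
    set a := pullback.fst U.ι V.ι with ha
    set b := pullback.snd U.ι V.ι with hb
    have hab : b ≫ V.ι = (a ≫ s) ≫ f := by
      rw [Category.assoc, hsf, ha, hb, pullback.condition]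
    let c : pullback U.ι V.ι ⟶ (f ⁻¹ᵁ V : h.image.Opens) :=
      (isPullback_morphismRestrict f V).lift b (a ≫ s) hab
    have hc1 : c ≫ (f ∣_ V) = b := (isPullback_morphismRestrict f V).lift_fst _ _ _
    have hc2 : c ≫ (f ⁻¹ᵁ V).ι = a ≫ s := (isPullback_morphismRestrict f V).lift_snd _ _ _
    have hc3 : c = b ≫ inv (f ∣_ V) := by
      rw [← hc1, Category.assoc, IsIso.hom_inv_id, Category.comp_id]
    have h1 : a ≫ h = (a ≫ s) ≫ i := by rw [Category.assoc, hsi]
    rw [h1, ← hc2, hc3, Category.assoc, Category.assoc]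

end Groth.Agent.Lib.Helper13.SectionExt
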