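import Mathlib
import Groth.Agent.Lib.Helper13.SectionExt
import Groth.Agent.Lib.Helper13.IntegralNhd
import Groth.Agent.Lib.Helper13.GlueTwo

/-!
# Extending a section over a normal point: reduction to the integral Noetherian case
-/

universe u

open CategoryTheory CategoryTheory.Limits AlgebraicGeometry TopologicalSpace

namespace Groth.Agent.Lib.Helper13.SectionExt

/-- an affine integral Noetherian open neighbourhood of a point whose local ring is a domain -/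
theorem exists_affine_integral_nhd {X : Scheme.{u}} [IsLocallyNoetherian X] (x : X)
    [IsDomain (X.presheaf.stalk x)] :
    ∃ X₁ : X.Opens, x ∈ X₁ ∧ IsAffineOpen X₁ ∧ IsIntegral X₁.toScheme ∧
      IsNoetherian X₁.toScheme := by
  obtain ⟨X₀, hxX₀, hX₀⟩ := IntegralNhd.exists_isIntegral_of_isLocallyNoetherian x
  haveI := hX₀
  obtain ⟨X₁, hX₁, hxX₁, hle⟩ : ∃ X₁ : X.Opens, IsAffineOpen X₁ ∧ x ∈ X₁ ∧ X₁ ≤ X₀ := by
    obtain ⟨_, ⟨V, hV, rfl⟩, hxV, hVX₀⟩ := X.isBasis_affineOpens.exists_subset_of_mem_open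
      (show x ∈ (X₀ : Set X) from hxX₀) X₀.isOpen
    exact ⟨V, hV, hxV, hVX₀⟩
  haveI : Nonempty X₁.toScheme := ⟨⟨x, hxX₁⟩⟩
  haveI : IsIntegral X₁.toScheme := isIntegral_of_isOpenImmersion (X.homOfLE hle)
  haveI : IsAffine X₁.toScheme := hX₁
  haveI : IsLocallyNoetherian X₁.toScheme := isLocallyNoetherian_of_isOpenImmersion X₁.ι
  exact ⟨X₁, hxX₁, hX₁, inferInstance, { }⟩

theorem exists_extension_of_closure {X Y : Scheme.{u}} [IsLocallyNoetherian X] (q : Y ⟶ X)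
    [LocallyOfFiniteType q] [IsSeparated q] [LocallyQuasiFinite q] (U : X.Opens)
    (h : (U : Scheme.{u}) ⟶ Y) (hh : h ≫ q = U.ι) (x : X) [IsDomain (X.presheaf.stalk x)]
    (hx : IsIntegrallyClosed (X.presheaf.stalk x)) (y₀ : Y) (hy₀x : q y₀ = x)
    (hy₀ : y₀ ∈ closure (Set.range h)) :
    ∃ (U' : X.Opens) (hUU' : U ≤ U') (h' : (U' : Scheme.{u}) ⟶ Y),
        x ∈ U' ∧ h' ≫ q = U'.ι ∧ X.homOfLE hUU' ≫ h' = h := by
  classical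
  obtain ⟨X₁, hxX₁, hX₁aff, hX₁int, hX₁noeth⟩ := exists_affine_integral_nhd x
  haveI := hX₁int
  haveI := hX₁noeth
  -- restricted data
  let q₁ : ((q ⁻¹ᵁ X₁ : Y.Opens) : Scheme.{u}) ⟶ (X₁ : Scheme.{u}) := q ∣_ X₁
  haveI : IsSeparated q₁ := IsZariskiLocalAtTarget.restrict ‹_› X₁
  haveI : LocallyOfFiniteType q₁ := IsZariskiLocalAtTarget.restrict ‹_› X₁
  haveI : LocallyQuasiFinite q₁ := IsZariskiLocalAtTarget.restrict ‹_› X₁
  have hq₁ : q₁ ≫ X₁.ι = (q ⁻¹ᵁ X₁).ι ≫ q := morphismRestrict_ι q X₁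
  let U₁ : X₁.toScheme.Opens := X₁.ι ⁻¹ᵁ U
  let r : (U₁ : Scheme.{u}) ⟶ (U : Scheme.{u}) := X₁.ι ∣_ U
  have hr : r ≫ U.ι = U₁.ι ≫ X₁.ι := morphismRestrict_ι X₁.ι U
  have hcond : U₁.ι ≫ X₁.ι = (r ≫ h) ≫ q := by
    rw [Category.assoc, hh, hr]
  let h₁ : (U₁ : Scheme.{u}) ⟶ ((q ⁻¹ᵁ X₁ : Y.Opens) : Scheme.{u}) :=
    (isPullback_morphismRestrict q X₁).lift U₁.ι (r ≫ h) hcond
  have hh₁ : h₁ ≫ q₁ = U₁.ι := (isPullback_morphismRestrict q X₁).lift_fst _ _ _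
  have hh₁' : h₁ ≫ (q ⁻¹ᵁ X₁).ι = r ≫ h := (isPullback_morphismRestrict q X₁).lift_snd _ _ _
  -- the point `y₁`
  have hy₀X₁ : y₀ ∈ q ⁻¹ᵁ X₁ := by
    change q y₀ ∈ X₁
    rw [hy₀x]; exact hxX₁
  let y₁ : ((q ⁻¹ᵁ X₁ : Y.Opens) : Scheme.{u}) := ⟨y₀, hy₀X₁⟩
  have hq₁y₁ : (q₁ y₁ : X₁.toScheme).1 = x := by
    have := congrArg (fun g => g.base y₁) hq₁
    exact this.trans hy₀x
  -- points of `U` lying over `X₁`
  have hpt : ∀ w : U.toScheme, (h w) ∈ q ⁻¹ᵁ X₁ → ∃ w₁ : U₁.toScheme, r w₁ = w := by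
    intro w hw
    have hwX₁ : U.ι w ∈ X₁ := by
      have h1 : q (h w) = U.ι w := congrArg (fun g => g.base w) hh
      rw [← h1]; exact hw
    refine ⟨⟨⟨U.ι w, hwX₁⟩, w.2⟩, ?_⟩
    apply U.ι.isOpenEmbedding.injective
    exact congrArg (fun g => g.base (⟨⟨U.ι w, hwX₁⟩, w.2⟩ : U₁.toScheme)) hr
  have hy₁ : y₁ ∈ closure (Set.range h₁) := by
    rw [mem_closure_iff]
    intro O hO hy₁O
    have hO' : IsOpen ((q ⁻¹ᵁ X₁).ι '' O) := (q ⁻¹ᵁ X₁).ι.isOpenEmbedding.isOpenMap O hO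
    obtain ⟨_, ⟨o, ho, rfl⟩, ⟨w, hw⟩⟩ :=
      (mem_closure_iff.mp hy₀) _ hO' ⟨y₁, hy₁O, rfl⟩
    have hwX₁ : h w ∈ q ⁻¹ᵁ X₁ := by
      rw [hw]; exact o.2
    obtain ⟨w₁, rfl⟩ := hpt w hwX₁
    refine ⟨h₁ w₁, ?_, ⟨w₁, rfl⟩⟩
    have : (q ⁻¹ᵁ X₁).ι (h₁ w₁) = (q ⁻¹ᵁ X₁).ι o := by
      rw [← hw]
      exact congrArg (fun g => g.base w₁) hh₁'
    rw [(q ⁻¹ᵁ X₁).ι.isOpenEmbedding.injective this]
    exact ho
  have hU₁ : (U₁ : Set X₁.toScheme).Nonempty := by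
    obtain ⟨_, -, ⟨w₁, rfl⟩⟩ := (mem_closure_iff.mp hy₁) Set.univ isOpen_univ (Set.mem_univ _)
    exact ⟨w₁.1, w₁.2⟩
  have hn₁ : IsIntegrallyClosed (X₁.toScheme.presheaf.stalk (q₁ y₁)) := by
    have : ∀ x' : X, x' = x → IsIntegrallyClosed (X.presheaf.stalk x') := by
      rintro _ rfl; exact hx
    haveI := this _ hq₁y₁
    exact IsIntegrallyClosed.of_equiv (X₁.stalkIso (q₁ y₁)).commRingCatIsoToRingEquiv.symm
  obtain ⟨V, g, hxV, hg, hag⟩ := exists_section_nhd q₁ U₁ hU₁ h₁ hh₁ y₁ hn₁ hy₁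
  have hag' : ∀ (T : Scheme.{u}) (a : T ⟶ (U₁ : Scheme.{u})) (b : T ⟶ (V : Scheme.{u})),
      a ≫ U₁.ι = b ≫ V.ι → a ≫ h₁ = b ≫ g := by
    intro T a b hab
    have h1 := congrArg (fun ξ => pullback.lift a b hab ≫ ξ) hag
    simpa only [pullback.lift_fst_assoc, pullback.lift_snd_assoc] using h1
  -- transport to an open of `X`
  let W' : X.Opens := X₁.ι ''ᵁ V
  have hxW' : x ∈ W' := ⟨q₁ y₁, hxV, hq₁y₁⟩
  let g' : (W' : Scheme.{u}) ⟶ Y := (X₁.ι.isoImage V).inv ≫ g ≫ (q ⁻¹ᵁ X₁).ι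
  have hg' : g' ≫ q = W'.ι := by
    dsimp only [g']
    rw [Category.assoc, Category.assoc, ← hq₁, ← Category.assoc g, hg,
      ← Scheme.Hom.isoImage_inv_ι X₁.ι V]
  have hfg : pullback.fst U.ι W'.ι ≫ h = pullback.snd U.ι W'.ι ≫ g' := by
    set a := pullback.fst U.ι W'.ι with ha
    set b := pullback.snd U.ι W'.ι with hb
    let b' := b ≫ (X₁.ι.isoImage V).inv
    have hab : (b' ≫ V.ι) ≫ X₁.ι = a ≫ U.ι := by
      dsimp only [b']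
      rw [Category.assoc, Category.assoc, Scheme.Hom.isoImage_inv_ι, ha, hb, pullback.condition]
    obtain ⟨c, hc1, hc2⟩ : ∃ c : pullback U.ι W'.ι ⟶ (U₁ : Scheme.{u}),
        c ≫ U₁.ι = b' ≫ (V.ι : (V : Scheme.{u}) ⟶ (X₁ : Scheme.{u})) ∧ c ≫ r = a :=
      ⟨(isPullback_morphismRestrict X₁.ι U).lift a (b' ≫ V.ι) hab.symm,
        (isPullback_morphismRestrict X₁.ι U).lift_snd _ _ _,
        (isPullback_morphismRestrict X₁.ι U).lift_fst _ _ _⟩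
    have h1 := hag' _ c b' hc1
    dsimp only [g']
    rw [← hc2, Category.assoc, ← hh₁', ← Category.assoc c, h1, Category.assoc, Category.assoc]
  obtain ⟨f', hf'1, hf'2, hext⟩ := GlueTwo.exists_glue_two U W' h g' hfg
  refine ⟨U ⊔ W', le_sup_left, f', Or.inr hxW', ?_, hf'1⟩
  apply hext
  · rw [← Category.assoc, hf'1, hh, Scheme.homOfLE_ι]
  · rw [← Category.assoc, hf'2, hg', Scheme.homOfLE_ι]

end Groth.Agent.Lib.Helper13.SectionExt
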