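import Mathlib
import Groth.Agent.Lib.Helper13.SectionExt2
import Groth.Agent.Lib.Helper13.GlueExt

/-!
# Extending a section over a normal point: isolated point of the fibre of the graph closure
-/

universe u

open CategoryTheory CategoryTheory.Limits AlgebraicGeometry TopologicalSpace

namespace Groth.Agent.Lib.Helper13.SectionExt

/-- a point isolated in its fibre is a point of quasi-finiteness -/
theorem quasiFiniteAt_of_isolated {Z X : Scheme.{u}} (f : Z ⟶ X) [LocallyOfFiniteType f] (z₀ : Z)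
    (O : Set Z) (hO : IsOpen O) (hz₀ : z₀ ∈ O) (hiso : ∀ z ∈ O, f z = f z₀ → z = z₀) :
    f.QuasiFiniteAt z₀ := by
  let x' : f.fiber (f z₀) := (f.fiberHomeo (f z₀)).symm ⟨z₀, rfl⟩
  have hx' : f.fiberι (f z₀) x' = z₀ := f.fiberι_fiberHomeo_symm _ _
  have hsing : ({x'} : Set (f.fiber (f z₀))) = (f.fiberι (f z₀)) ⁻¹' O := by
    ext w
    constructor
    · rintro rfl
      change f.fiberι (f z₀) x' ∈ O
      rw [hx']; exact hz₀
    · intro hw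
      have h1 : f (f.fiberι (f z₀) w) = f z₀ := (f.fiberHomeo (f z₀) w).2
      have h2 := hiso _ hw h1
      exact (f.fiberι (f z₀)).isEmbedding.injective (h2.trans hx'.symm)
  have hopen : IsOpen ({x'} : Set (f.fiber (f z₀))) := by
    rw [hsing]
    exact hO.preimage (f.fiberι (f z₀)).continuous
  have := (ProperBirational.quasiFiniteAt_of_isOpen_singleton f (f z₀) x' hopen).1
  rwa [hx'] at this

/-- **Lemma A'**: version of `exists_section_nhd` over an integral (not necessarily Noetherian)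
scheme, where quasi-finiteness is replaced by isolatedness of `y₀` in the fibre of the closure of
the image of the section, and quasi-compactness is only required on a smaller nonempty open. -/
theorem exists_section_nhd_pt {X Y : Scheme.{u}} [IsIntegral X] (q : Y ⟶ X)
    [IsSeparated q] [LocallyOfFiniteType q]
    (U : X.Opens) (h : (U : Scheme.{u}) ⟶ Y) (hh : h ≫ q = U.ι)
    (U' : X.Opens) (hU'U : U' ≤ U) (hU' : (U' : Set X).Nonempty)
    (hqc : QuasiCompact (X.homOfLE hU'U ≫ h))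
    (y₀ : Y) (hn : IsIntegrallyClosed (X.presheaf.stalk (q y₀)))
    (hy₀ : y₀ ∈ closure (Set.range h))
    (O : Set Y) (hO : IsOpen O) (hy₀O : y₀ ∈ O)
    (hiso : ∀ y ∈ O, y ∈ closure (Set.range h) → q y = q y₀ → y = y₀) :
    ∃ (V : X.Opens) (g : (V : Scheme.{u}) ⟶ Y), q y₀ ∈ V ∧ g ≫ q = V.ι ∧
      pullback.fst U.ι V.ι ≫ h = pullback.snd U.ι V.ι ≫ g ∧
      ∀ hV : q y₀ ∈ V, g ⟨q y₀, hV⟩ = y₀ := by
  obtain ⟨u₀, hu₀⟩ := hU'
  haveI : Nonempty U'.toScheme := ⟨⟨u₀, hu₀⟩⟩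
  haveI : IsIntegral U'.toScheme := isIntegral_of_isOpenImmersion U'.ι
  haveI : Nonempty U.toScheme := ⟨⟨u₀, hU'U hu₀⟩⟩
  haveI : IsIntegral U.toScheme := isIntegral_of_isOpenImmersion U.ι
  obtain ⟨h', hh'def⟩ : ∃ h' : (U' : Scheme.{u}) ⟶ Y, h' = X.homOfLE hU'U ≫ h := ⟨_, rfl⟩
  haveI : QuasiCompact h' := hh'def ▸ hqc
  have hh' : h' ≫ q = U'.ι := by rw [hh'def, Category.assoc, hh, Scheme.homOfLE_ι]
  -- the closures of the ranges agree
  have hrange : Set.range h' ⊆ Set.range h := by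
    rintro _ ⟨w, rfl⟩
    exact ⟨X.homOfLE hU'U w, by rw [hh'def]; rfl⟩
  have hcl : closure (Set.range h) ⊆ closure (Set.range h') := by
    apply closure_minimal _ isClosed_closure
    rintro _ ⟨w, rfl⟩
    have hdense : Dense (Set.range (X.homOfLE hU'U)) :=
      (X.homOfLE hU'U).isOpenEmbedding.isOpen_range.dense ⟨_, ⟨⟨u₀, hu₀⟩, rfl⟩⟩
    have h1 : w ∈ closure (Set.range (X.homOfLE hU'U)) := hdense w
    have h2 := image_closure_subset_closure_image h.continuous ⟨w, h1, rfl⟩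
    refine closure_mono ?_ h2
    rintro _ ⟨_, ⟨w', rfl⟩, rfl⟩
    exact ⟨w', by rw [hh'def]; rfl⟩
  have hy₀' : y₀ ∈ closure (Set.range h') := hcl hy₀
  haveI := isIntegral_image h'
  -- the closed subscheme `Z`
  obtain ⟨i, hi⟩ : ∃ i : h'.image ⟶ Y, i = h'.imageι := ⟨_, rfl⟩
  obtain ⟨s, hs⟩ : ∃ s : (U' : Scheme.{u}) ⟶ h'.image, s = h'.toImage := ⟨_, rfl⟩
  haveI : IsClosedImmersion i := hi ▸ inferInstance
  haveI : IsDominant s := hs ▸ inferInstance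
  have hsi : s ≫ i = h' := by rw [hi, hs]; exact h'.toImage_imageι
  obtain ⟨f, hf⟩ : ∃ f : h'.image ⟶ X, f = i ≫ q := ⟨_, rfl⟩
  haveI : IsSeparated f := hf ▸ inferInstance
  haveI : LocallyOfFiniteType f := hf ▸ inferInstance
  have hsf : s ≫ f = U'.ι := by rw [hf, ← Category.assoc, hsi, hh']
  have hri : Set.range i = closure (Set.range h') := by
    rw [hi]
    have := h'.ker.range_subschemeι
    rw [this, Scheme.Hom.support_ker]
  obtain ⟨z₀, hz₀⟩ : ∃ z₀ : h'.image, i z₀ = y₀ := by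
    rw [← hri] at hy₀'
    exact hy₀'
  have hfz : ∀ z : h'.image, f z = q (i z) := by
    intro z; rw [hf, Scheme.Hom.comp_apply]
  have hfz₀ : f z₀ = q y₀ := by rw [hfz, hz₀]
  -- `f` is an isomorphism over `U'`
  have hisoU : IsIso (f ∣_ U') := by
    let s' : (U' : Scheme.{u}) ⟶ (f ⁻¹ᵁ U' : h'.image.Opens) :=
      (isPullback_morphismRestrict f U').lift (𝟙 _) s (by rw [hsf, Category.id_comp])
    have hs'1 : s' ≫ (f ∣_ U') = 𝟙 _ := (isPullback_morphismRestrict f U').lift_fst _ _ _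
    have hs'2 : s' ≫ (f ⁻¹ᵁ U').ι = s := (isPullback_morphismRestrict f U').lift_snd _ _ _
    haveI : IsSeparated (f ∣_ U') := IsZariskiLocalAtTarget.restrict ‹_› U'
    haveI : IsClosedImmersion (s' ≫ (f ∣_ U')) := by rw [hs'1]; infer_instance
    haveI : IsClosedImmersion s' := IsClosedImmersion.of_comp s' (f ∣_ U')
    haveI : Surjective s' := by
      constructor
      have hclosed : IsClosed (Set.range s') := s'.isClosedEmbedding.isClosed_range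
      have hdense : Dense (Set.range s') := by
        rw [dense_iff_inter_open]
        intro O' hO' hOne
        have hO'' : IsOpen ((f ⁻¹ᵁ U').ι '' O') := (f ⁻¹ᵁ U').ι.isOpenEmbedding.isOpenMap O' hO'
        obtain ⟨_, ⟨o, ho, rfl⟩, ⟨t, ht⟩⟩ :=
          (IsDominant.denseRange (f := s)).inter_open_nonempty _ hO'' (hOne.image _)
        refine ⟨s' t, ?_, ⟨t, rfl⟩⟩
        have : (f ⁻¹ᵁ U').ι (s' t) = (f ⁻¹ᵁ U').ι o := by
          rw [← ht, ← hs'2]; rfl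
        rw [(f ⁻¹ᵁ U').ι.isOpenEmbedding.injective this]
        exact ho
      intro z
      have : z ∈ closure (Set.range s') := hdense z
      rwa [hclosed.closure_eq] at this
    haveI : IsIntegral (f ⁻¹ᵁ U' : h'.image.Opens).toScheme := by
      haveI : Nonempty (f ⁻¹ᵁ U' : h'.image.Opens).toScheme := ⟨s' ⟨u₀, hu₀⟩⟩
      exact isIntegral_of_isOpenImmersion (f ⁻¹ᵁ U').ι
    haveI : IsIso s' := isIso_of_isClosedImmersion_of_surjective s'
    haveI : IsIso (s' ≫ (f ∣_ U')) := by rw [hs'1]; infer_instance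
    exact IsIso.of_isIso_comp_left s' (f ∣_ U')
  obtain ⟨hgen, hbir⟩ :=
    ProperBirational.birational_of_isIso_morphismRestrict f U' ⟨u₀, hu₀⟩ hisoU
  have hq : f.QuasiFiniteAt z₀ := by
    refine quasiFiniteAt_of_isolated f z₀ (i ⁻¹' O) (hO.preimage i.continuous)
      (by change i z₀ ∈ O; rw [hz₀]; exact hy₀O) ?_
    intro z hz hfzz
    apply i.isClosedEmbedding.injective
    rw [hz₀]
    refine hiso (i z) hz ?_ ?_
    · exact closure_mono hrange (hri ▸ Set.mem_range_self z)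
    · rw [← hfz, hfzz, hfz₀]
  have hn' : IsIntegrallyClosed (X.presheaf.stalk (f z₀)) := by
    have : ∀ x' : X, x' = q y₀ → IsIntegrallyClosed (X.presheaf.stalk x') := by
      rintro _ rfl; exact hn
    exact this _ hfz₀
  obtain ⟨V, hV, hisoV⟩ := ProperBirational.exists_isIso_morphismRestrict' f hgen hbir z₀ hn' hq
  haveI := hisoV
  obtain ⟨g, hgdef⟩ : ∃ g : (V : Scheme.{u}) ⟶ Y, g = inv (f ∣_ V) ≫ (f ⁻¹ᵁ V).ι ≫ i := ⟨_, rfl⟩
  have hgq : g ≫ q = V.ι := by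
    rw [hgdef, Category.assoc, Category.assoc, ← hf, ← morphismRestrict_ι,
      IsIso.inv_hom_id_assoc]
  -- agreement on `U' ∩ V`
  have hag' : ∀ (T : Scheme.{u}) (a : T ⟶ (U' : Scheme.{u})) (b : T ⟶ (V : Scheme.{u})),
      a ≫ U'.ι = b ≫ V.ι → a ≫ h' = b ≫ g := by
    intro T a b hab0
    have hab : b ≫ V.ι = (a ≫ s) ≫ f := by
      rw [Category.assoc, hsf, hab0]
    let c : T ⟶ (f ⁻¹ᵁ V : h'.image.Opens) :=
      (isPullback_morphismRestrict f V).lift b (a ≫ s) hab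
    have hc1 : c ≫ (f ∣_ V) = b := (isPullback_morphismRestrict f V).lift_fst _ _ _
    have hc2 : c ≫ (f ⁻¹ᵁ V).ι = a ≫ s := (isPullback_morphismRestrict f V).lift_snd _ _ _
    have hc3 : c = b ≫ inv (f ∣_ V) := by
      rw [← hc1, Category.assoc, IsIso.hom_inv_id, Category.comp_id]
    have h1 : a ≫ h' = (a ≫ s) ≫ i := by rw [Category.assoc, hsi]
    rw [h1, ← hc2, hc3, hgdef, Category.assoc, Category.assoc]
  refine ⟨V, g, hfz₀ ▸ hV, hgq, ?_, ?_⟩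
  swap
  · intro hV'
    let z₀' : (f ⁻¹ᵁ V : h'.image.Opens) := ⟨z₀, hV⟩
    have e1 : (f ∣_ V) z₀' = ⟨q y₀, hV'⟩ := by
      apply Subtype.ext
      have := congrArg (fun k => k.base z₀') (morphismRestrict_ι f V)
      exact this.trans hfz₀
    have e2 : inv (f ∣_ V) ⟨q y₀, hV'⟩ = z₀' := by
      rw [← e1]
      exact congrArg (fun k => k.base z₀') (IsIso.hom_inv_id (f ∣_ V))
    rw [hgdef]
    change i ((f ⁻¹ᵁ V).ι (inv (f ∣_ V) ⟨q y₀, hV'⟩)) = y₀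
    rw [e2]
    exact hz₀
  -- upgrade the agreement from `U' ∩ V` to `U ∩ V`
  obtain ⟨jP, hjP⟩ : ∃ jP : pullback U.ι V.ι ⟶ X, jP = pullback.fst U.ι V.ι ≫ U.ι := ⟨_, rfl⟩
  have hjP' : jP = pullback.snd U.ι V.ι ≫ V.ι := hjP.trans pullback.condition
  haveI : IsOpenImmersion jP := hjP ▸ inferInstance
  haveI : IsReduced (pullback U.ι V.ι) := isReduced_of_isOpenImmersion jP
  have hU'dense : Dense (U' : Set X) := U'.isOpen.dense ⟨u₀, hu₀⟩
  haveI := GlueExt.isDominant_pullback_snd U' hU'dense jP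
  refine ext_of_isDominant_of_isSeparated q ?_ (pullback.snd U'.ι jP) ?_
  · rw [Category.assoc, Category.assoc, hh, hgq, pullback.condition]
  · have h1 := hag' _ (pullback.fst U'.ι jP) (pullback.snd U'.ι jP ≫ pullback.snd U.ι V.ι) (by
      rw [pullback.condition, Category.assoc, ← hjP'])
    have h2 : pullback.fst U'.ι jP ≫ X.homOfLE hU'U =
        pullback.snd U'.ι jP ≫ pullback.fst U.ι V.ι := by
      rw [← cancel_mono U.ι, Category.assoc, Scheme.homOfLE_ι, pullback.condition,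
        Category.assoc, ← hjP]
    rw [← Category.assoc, ← h2, Category.assoc, ← hh'def, h1, Category.assoc]

theorem exists_section_nhd' {X Y : Scheme.{u}} [IsIntegral X] (q : Y ⟶ X)
    [IsSeparated q] [LocallyOfFiniteType q]
    (U : X.Opens) (h : (U : Scheme.{u}) ⟶ Y) (hh : h ≫ q = U.ι)
    (U' : X.Opens) (hU'U : U' ≤ U) (hU' : (U' : Set X).Nonempty)
    (hqc : QuasiCompact (X.homOfLE hU'U ≫ h))
    (y₀ : Y) (hn : IsIntegrallyClosed (X.presheaf.stalk (q y₀)))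
    (hy₀ : y₀ ∈ closure (Set.range h))
    (O : Set Y) (hO : IsOpen O) (hy₀O : y₀ ∈ O)
    (hiso : ∀ y ∈ O, y ∈ closure (Set.range h) → q y = q y₀ → y = y₀) :
    ∃ (V : X.Opens) (g : (V : Scheme.{u}) ⟶ Y), q y₀ ∈ V ∧ g ≫ q = V.ι ∧
      pullback.fst U.ι V.ι ≫ h = pullback.snd U.ι V.ι ≫ g := by
  obtain ⟨V, g, h1, h2, h3, -⟩ :=
    exists_section_nhd_pt q U h hh U' hU'U hU' hqc y₀ hn hy₀ O hO hy₀O hiso
  exact ⟨V, g, h1, h2, h3⟩

/-- **Lemma B'**: extending a section of a separated morphism locally of finite type across a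
normal point `x` with an integral open neighbourhood, given a point `y₀` over `x` in the closure
of the image of the section which is isolated in the fibre of that closure. -/
theorem exists_extension_of_isolated_pt {X Y : Scheme.{u}} (q : Y ⟶ X)
    [LocallyOfFiniteType q] [IsSeparated q] (U : X.Opens)
    (h : (U : Scheme.{u}) ⟶ Y) (hh : h ≫ q = U.ι) (x : X)
    (hint : ∃ W : X.Opens, x ∈ W ∧ IsIntegral (W : Scheme.{u}))
    (hx : IsIntegrallyClosed (X.presheaf.stalk x)) (y₀ : Y) (hy₀x : q y₀ = x)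
    (hy₀ : y₀ ∈ closure (Set.range h))
    (O : Set Y) (hO : IsOpen O) (hy₀O : y₀ ∈ O)
    (hiso : ∀ y ∈ O, y ∈ closure (Set.range h) → q y = x → y = y₀) :
    ∃ (V : X.Opens) (g : (V : Scheme.{u}) ⟶ Y), x ∈ V ∧ g ≫ q = V.ι ∧
      pullback.fst U.ι V.ι ≫ h = pullback.snd U.ι V.ι ≫ g ∧
      ∀ hV : x ∈ V, g ⟨x, hV⟩ = y₀ := by
  classical
  obtain ⟨W₀, hxW₀, hW₀⟩ := hint
  haveI := hW₀
  obtain ⟨X₁, hX₁aff, hxX₁, hle⟩ : ∃ X₁ : X.Opens, IsAffineOpen X₁ ∧ x ∈ X₁ ∧ X₁ ≤ W₀ := by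
    obtain ⟨_, ⟨V, hV, rfl⟩, hxV, hVW₀⟩ := X.isBasis_affineOpens.exists_subset_of_mem_open
      (show x ∈ (W₀ : Set X) from hxW₀) W₀.isOpen
    exact ⟨V, hV, hxV, hVW₀⟩
  haveI : Nonempty X₁.toScheme := ⟨⟨x, hxX₁⟩⟩
  haveI : IsIntegral X₁.toScheme := isIntegral_of_isOpenImmersion (X.homOfLE hle)
  haveI : IsAffine X₁.toScheme := hX₁aff
  -- restricted data
  let q₁ : ((q ⁻¹ᵁ X₁ : Y.Opens) : Scheme.{u}) ⟶ (X₁ : Scheme.{u}) := q ∣_ X₁
  haveI : IsSeparated q₁ := IsZariskiLocalAtTarget.restrict ‹_› X₁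
  haveI : LocallyOfFiniteType q₁ := IsZariskiLocalAtTarget.restrict ‹_› X₁
  have hq₁ : q₁ ≫ X₁.ι = (q ⁻¹ᵁ X₁).ι ≫ q := morphismRestrict_ι q X₁
  let U₁ : X₁.toScheme.Opens := X₁.ι ⁻¹ᵁ U
  let r : (U₁ : Scheme.{u}) ⟶ (U : Scheme.{u}) := X₁.ι ∣_ U
  have hr : r ≫ U.ι = U₁.ι ≫ X₁.ι := morphismRestrict_ι X₁.ι U
  have hcond : U₁.ι ≫ X₁.ι = (r ≫ h) ≫ q := by
    rw [Category.assoc, hh, hr]
  let h₁ : (U₁ : Scheme.{u}) ⟶ ((q ⁻¹ᵁ X₁ : Y.Opens) : Scheme.{u}) :=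
    (isPullback_morphismRestrict q X₁).lift U₁.ι (r ≫ h) hcond
  have hh₁ : h₁ ≫ q₁ = U₁.ι := (isPullback_morphismRestrict q X₁).lift_fst _ _ _
  have hh₁' : h₁ ≫ (q ⁻¹ᵁ X₁).ι = r ≫ h := (isPullback_morphismRestrict q X₁).lift_snd _ _ _
  -- the point `y₁`
  have hy₀X₁ : y₀ ∈ q ⁻¹ᵁ X₁ := by
    change q y₀ ∈ X₁
    rw [hy₀x]; exact hxX₁
  let y₁ : ((q ⁻¹ᵁ X₁ : Y.Opens) : Scheme.{u}) := ⟨y₀, hy₀X₁⟩
  have hq₁pt : ∀ y : ((q ⁻¹ᵁ X₁ : Y.Opens) : Scheme.{u}), (q₁ y : X₁.toScheme).1 = q y.1 :=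
    fun y => congrArg (fun g => g.base y) hq₁
  have hq₁y₁ : (q₁ y₁ : X₁.toScheme).1 = x := (hq₁pt y₁).trans hy₀x
  have hpt : ∀ w : U.toScheme, (h w) ∈ q ⁻¹ᵁ X₁ → ∃ w₁ : U₁.toScheme, r w₁ = w := by
    intro w hw
    have hwX₁ : U.ι w ∈ X₁ := by
      have h1 : q (h w) = U.ι w := congrArg (fun g => g.base w) hh
      rw [← h1]; exact hw
    refine ⟨⟨⟨U.ι w, hwX₁⟩, w.2⟩, ?_⟩
    apply U.ι.isOpenEmbedding.injective
    exact congrArg (fun g => g.base (⟨⟨U.ι w, hwX₁⟩, w.2⟩ : U₁.toScheme)) hr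
  have hy₁ : y₁ ∈ closure (Set.range h₁) := by
    rw [mem_closure_iff]
    intro O' hO' hy₁O
    have hO'' : IsOpen ((q ⁻¹ᵁ X₁).ι '' O') := (q ⁻¹ᵁ X₁).ι.isOpenEmbedding.isOpenMap O' hO'
    obtain ⟨_, ⟨o, ho, rfl⟩, ⟨w, hw⟩⟩ :=
      (mem_closure_iff.mp hy₀) _ hO'' ⟨y₁, hy₁O, rfl⟩
    have hwX₁ : h w ∈ q ⁻¹ᵁ X₁ := by
      rw [hw]; exact o.2
    obtain ⟨w₁, rfl⟩ := hpt w hwX₁
    refine ⟨h₁ w₁, ?_, ⟨w₁, rfl⟩⟩
    have : (q ⁻¹ᵁ X₁).ι (h₁ w₁) = (q ⁻¹ᵁ X₁).ι o := by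
      rw [← hw]
      exact congrArg (fun g => g.base w₁) hh₁'
    rw [(q ⁻¹ᵁ X₁).ι.isOpenEmbedding.injective this]
    exact ho
  -- the range of `h₁` maps into the range of `h`
  have hrange₁ : (q ⁻¹ᵁ X₁).ι '' closure (Set.range h₁) ⊆ closure (Set.range h) := by
    refine (image_closure_subset_closure_image (q ⁻¹ᵁ X₁).ι.continuous).trans (closure_mono ?_)
    rintro _ ⟨_, ⟨w₁, rfl⟩, rfl⟩
    exact ⟨r w₁, (congrArg (fun g => g.base w₁) hh₁').symm⟩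
  -- a nonempty affine open inside `U₁`
  obtain ⟨U', hU'aff, hU'ne, hU'U₁⟩ : ∃ U' : X₁.toScheme.Opens, IsAffineOpen U' ∧
      (U' : Set X₁.toScheme).Nonempty ∧ U' ≤ U₁ := by
    obtain ⟨_, -, ⟨w₁, rfl⟩⟩ := (mem_closure_iff.mp hy₁) Set.univ isOpen_univ (Set.mem_univ _)
    obtain ⟨_, ⟨V, hV, rfl⟩, hwV, hVU₁⟩ :=
      X₁.toScheme.isBasis_affineOpens.exists_subset_of_mem_open
        (show w₁.1 ∈ (U₁ : Set X₁.toScheme) from w₁.2) U₁.isOpen
    exact ⟨V, hV, ⟨_, hwV⟩, hVU₁⟩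
  have hqc : QuasiCompact (X₁.toScheme.homOfLE hU'U₁ ≫ h₁) := by
    haveI : IsAffine U'.toScheme := hU'aff
    have h1 : (X₁.toScheme.homOfLE hU'U₁ ≫ h₁) ≫ q₁ = U'.ι := by
      rw [Category.assoc, hh₁, Scheme.homOfLE_ι]
    haveI : QuasiCompact ((X₁.toScheme.homOfLE hU'U₁ ≫ h₁) ≫ q₁) := by
      rw [h1]; infer_instance
    exact QuasiCompact.of_comp _ q₁
  have hn₁ : IsIntegrallyClosed (X₁.toScheme.presheaf.stalk (q₁ y₁)) := by
    have : ∀ x' : X, x' = x → IsIntegrallyClosed (X.presheaf.stalk x') := by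
      rintro _ rfl; exact hx
    haveI := this _ hq₁y₁
    exact IsIntegrallyClosed.of_equiv (X₁.stalkIso (q₁ y₁)).commRingCatIsoToRingEquiv.symm
  obtain ⟨V, g, hxV, hg, hag, hgpt⟩ :=
    exists_section_nhd_pt q₁ U₁ h₁ hh₁ U' hU'U₁ hU'ne hqc y₁ hn₁ hy₁
    ((q ⁻¹ᵁ X₁).ι ⁻¹' O) (hO.preimage (q ⁻¹ᵁ X₁).ι.continuous) hy₀O (by
      intro y hyO hycl hqy
      apply (q ⁻¹ᵁ X₁).ι.isOpenEmbedding.injective
      refine hiso _ hyO (hrange₁ ⟨y, hycl, rfl⟩) ?_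
      rw [← hq₁y₁, ← hqy]
      exact (hq₁pt y).symm)
  have hag' : ∀ (T : Scheme.{u}) (a : T ⟶ (U₁ : Scheme.{u})) (b : T ⟶ (V : Scheme.{u})),
      a ≫ U₁.ι = b ≫ V.ι → a ≫ h₁ = b ≫ g := by
    intro T a b hab
    have h1 := congrArg (fun ξ => pullback.lift a b hab ≫ ξ) hag
    simpa only [pullback.lift_fst_assoc, pullback.lift_snd_assoc] using h1
  -- transport to an open of `X`
  let W' : X.Opens := X₁.ι ''ᵁ V
  have hxW' : x ∈ W' := ⟨q₁ y₁, hxV, hq₁y₁⟩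
  let g' : (W' : Scheme.{u}) ⟶ Y := (X₁.ι.isoImage V).inv ≫ g ≫ (q ⁻¹ᵁ X₁).ι
  have hg' : g' ≫ q = W'.ι := by
    dsimp only [g']
    rw [Category.assoc, Category.assoc, ← hq₁, ← Category.assoc g, hg,
      ← Scheme.Hom.isoImage_inv_ι X₁.ι V]
  refine ⟨W', g', hxW', hg', ?_, ?_⟩
  swap
  · intro hW
    have e1 : (X₁.ι.isoImage V).inv ⟨x, hW⟩ = ⟨q₁ y₁, hxV⟩ := by
      apply (V.ι ≫ X₁.ι).isOpenEmbedding.injective
      have h1 := congrArg (fun k => k.base (⟨x, hW⟩ : W'.toScheme))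
        (Scheme.Hom.isoImage_inv_ι X₁.ι V)
      exact h1.trans hq₁y₁.symm
    dsimp only [g']
    change (q ⁻¹ᵁ X₁).ι (g ((X₁.ι.isoImage V).inv ⟨x, hW⟩)) = y₀
    rw [e1, hgpt hxV]
    rfl
  set a := pullback.fst U.ι W'.ι with ha
  set b := pullback.snd U.ι W'.ι with hb
  let b' := b ≫ (X₁.ι.isoImage V).inv
  have hab : (b' ≫ V.ι) ≫ X₁.ι = a ≫ U.ι := by
    dsimp only [b']
    rw [Category.assoc, Category.assoc, Scheme.Hom.isoImage_inv_ι, ha, hb, pullback.condition]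
  obtain ⟨c, hc1, hc2⟩ : ∃ c : pullback U.ι W'.ι ⟶ (U₁ : Scheme.{u}),
      c ≫ U₁.ι = b' ≫ (V.ι : (V : Scheme.{u}) ⟶ (X₁ : Scheme.{u})) ∧ c ≫ r = a :=
    ⟨(isPullback_morphismRestrict X₁.ι U).lift a (b' ≫ V.ι) hab.symm,
      (isPullback_morphismRestrict X₁.ι U).lift_snd _ _ _,
      (isPullback_morphismRestrict X₁.ι U).lift_fst _ _ _⟩
  have h1 := hag' _ c b' hc1
  dsimp only [g']
  rw [← hc2, Category.assoc, ← hh₁', ← Category.assoc c, h1, Category.assoc, Category.assoc]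

theorem exists_extension_of_isolated {X Y : Scheme.{u}} (q : Y ⟶ X)
    [LocallyOfFiniteType q] [IsSeparated q] (U : X.Opens)
    (h : (U : Scheme.{u}) ⟶ Y) (hh : h ≫ q = U.ι) (x : X)
    (hint : ∃ W : X.Opens, x ∈ W ∧ IsIntegral (W : Scheme.{u}))
    (hx : IsIntegrallyClosed (X.presheaf.stalk x)) (y₀ : Y) (hy₀x : q y₀ = x)
    (hy₀ : y₀ ∈ closure (Set.range h))
    (O : Set Y) (hO : IsOpen O) (hy₀O : y₀ ∈ O)
    (hiso : ∀ y ∈ O, y ∈ closure (Set.range h) → q y = x → y = y₀) :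
    ∃ (V : X.Opens) (g : (V : Scheme.{u}) ⟶ Y), x ∈ V ∧ g ≫ q = V.ι ∧
      pullback.fst U.ι V.ι ≫ h = pullback.snd U.ι V.ι ≫ g := by
  obtain ⟨V, g, h1, h2, h3, -⟩ :=
    exists_extension_of_isolated_pt q U h hh x hint hx y₀ hy₀x hy₀ O hO hy₀O hiso
  exact ⟨V, g, h1, h2, h3⟩

end Groth.Agent.Lib.Helper13.SectionExt
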