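import Mathlib
import Groth.Agent.Lib.Helper13.SectionDvr
import Groth.Agent.Lib.Helper13.SectionExt3

/-!
# Valuative criterion for extending a section at a normal point: auxiliary lemmas
-/

universe u

open CategoryTheory CategoryTheory.Limits AlgebraicGeometry TopologicalSpace

namespace Groth.Agent.Lib.Helper13.SectionDvr

/-- In a Noetherian quasi-sober space, a point of the closure of a locally closed set `A \ B`
is a specialization of a point of `A \ B`. -/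
theorem exists_specializes_of_mem_closure_diff {α : Type*} [TopologicalSpace α]
    [NoetherianSpace α] [QuasiSober α] (A B : Set α) (hA : IsOpen A) (hB : IsOpen B) (x : α)
    (hx : x ∈ closure (A \ B)) : ∃ δ ∈ A \ B, δ ⤳ x := by
  obtain ⟨S, hSfin, hScl, hSirr, hC⟩ :=
    NoetherianSpace.exists_finite_set_isClosed_irreducible (isClosed_closure (s := A \ B))
  have hcov : A \ B ⊆ ⋃ t ∈ S, ((A \ B) ∩ t) := by
    intro p hp
    have h1 : p ∈ ⋃₀ S := hC ▸ subset_closure hp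
    obtain ⟨t, htS, hpt⟩ := h1
    exact Set.mem_biUnion htS ⟨hp, hpt⟩
  have h2 := closure_mono hcov hx
  rw [hSfin.closure_biUnion] at h2
  obtain ⟨t, htS, hxt⟩ := Set.mem_iUnion₂.mp h2
  obtain ⟨δ, hδ⟩ := QuasiSober.sober (hSirr t htS) (hScl t htS)
  have hne : ((A \ B) ∩ t).Nonempty := by
    by_contra hcon
    rw [Set.not_nonempty_iff_eq_empty] at hcon
    rw [hcon, closure_empty] at hxt
    exact hxt
  obtain ⟨p, ⟨hpA, hpB⟩, hpt⟩ := hne
  have hxt' : x ∈ t := (closure_minimal Set.inter_subset_right (hScl t htS)) hxt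
  refine ⟨δ, ⟨?_, ?_⟩, hδ.specializes hxt'⟩
  · exact (hδ.specializes hpt).mem_open hA hpA
  · intro hδB
    have hδC : δ ∈ closure (A \ B) := by
      rw [hC]; exact ⟨t, htS, hδ.mem⟩
    obtain ⟨p', hp'B, hp'⟩ := mem_closure_iff.mp hδC B hB hδB
    exact hp'.2 hp'B

/-- shrinking a neighbourhood so that it meets `U` inside `U'` -/
theorem exists_nhd_inter_le {X : Scheme.{u}} [IsLocallyNoetherian X] (U U' : X.Opens) (x : X)
    (hgen : ∀ δ : X, δ ∈ U → δ ⤳ x → δ ∈ U') : ∃ V : X.Opens, x ∈ V ∧ U ⊓ V ≤ U' := by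
  obtain ⟨X₁, hX₁, hxX₁⟩ : ∃ X₁ : X.Opens, IsAffineOpen X₁ ∧ x ∈ X₁ := by
    obtain ⟨_, ⟨V, hV, rfl⟩, hxV, -⟩ := X.isBasis_affineOpens.exists_subset_of_mem_open
      (Set.mem_univ x) isOpen_univ
    exact ⟨V, hV, hxV⟩
  haveI : NoetherianSpace X₁.toScheme := by
    haveI : IsAffine X₁.toScheme := hX₁
    haveI : IsNoetherian X₁.toScheme := ⟨⟩
    infer_instance
  let A : Set X₁.toScheme := X₁.ι ⁻¹' (U : Set X)
  let B : Set X₁.toScheme := X₁.ι ⁻¹' (U' : Set X)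
  have hA : IsOpen A := U.isOpen.preimage X₁.ι.continuous
  have hB : IsOpen B := U'.isOpen.preimage X₁.ι.continuous
  let x₁ : X₁.toScheme := ⟨x, hxX₁⟩
  have hx₁ : x₁ ∉ closure (A \ B) := by
    intro hcon
    obtain ⟨δ, ⟨hδA, hδB⟩, hδx⟩ := exists_specializes_of_mem_closure_diff A B hA hB x₁ hcon
    exact hδB (hgen (X₁.ι δ) hδA (hδx.map X₁.ι.continuous))
  let V : X.Opens := ⟨X₁.ι '' (closure (A \ B))ᶜ,
    X₁.ι.isOpenEmbedding.isOpenMap _ isClosed_closure.isOpen_compl⟩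
  refine ⟨V, ⟨x₁, hx₁, rfl⟩, ?_⟩
  rintro _ ⟨hpU, ⟨p₁, hp₁, rfl⟩⟩
  by_contra hpU'
  exact hp₁ (subset_closure ⟨hpU, hpU'⟩)

/-- a discrete valuation ring centred at a specialization `x` of a point `δ` of `U`, whose generic
point lands in `U` inside the closure of `δ` -/
theorem exists_dvr_of_specializes {X : Scheme.{u}} [IsLocallyNoetherian X] (U : X.Opens)
    (δ x : X) (hδU : δ ∈ U) (hδx : δ ⤳ x) (hxU : x ∉ U) :
    ∃ (R : Type u) (_ : CommRing R) (_ : IsDomain R) (_ : IsDiscreteValuationRing R)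
      (u : Spec (CommRingCat.of R) ⟶ X)
      (ub : Spec (CommRingCat.of (FractionRing R)) ⟶ (U : Scheme.{u})),
      u (IsLocalRing.closedPoint R) = x ∧
      ub ≫ U.ι = Spec.map (CommRingCat.ofHom (algebraMap R (FractionRing R))) ≫ u ∧
      ∀ p, δ ⤳ U.ι (ub p) := by
  obtain ⟨k, hk⟩ : ∃ k : Spec (X.residueField δ) ⟶ X, k = X.fromSpecResidueField δ := ⟨_, rfl⟩
  haveI : QuasiCompact k := inferInstance
  haveI : IsIntegral k.image := SectionExt.isIntegral_image k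
  obtain ⟨ιW, hιW⟩ : ∃ ιW : k.image ⟶ X, ιW = k.imageι := ⟨_, rfl⟩
  haveI : IsClosedImmersion ιW := hιW ▸ inferInstance
  haveI : IsLocallyNoetherian k.image := LocallyOfFiniteType.isLocallyNoetherian ιW
  have hrange : Set.range ιW = closure {δ} := by
    rw [hιW]
    have := k.ker.range_subschemeι
    rw [this, Scheme.Hom.support_ker, hk, Scheme.range_fromSpecResidueField]
  obtain ⟨w, hw⟩ : ∃ w : k.image, ιW w = x := by
    have : x ∈ Set.range ιW := by rw [hrange]; exact specializes_iff_mem_closure.mp hδx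
    exact this
  obtain ⟨w₀, hw₀⟩ : ∃ w₀ : k.image, ιW w₀ = δ := by
    have : δ ∈ Set.range ιW := by rw [hrange]; exact subset_closure rfl
    exact this
  let D : k.image.Opens := ιW ⁻¹ᵁ U
  have hD : Dense (D : Set k.image) := D.isOpen.dense ⟨w₀, by change ιW w₀ ∈ U; rw [hw₀]; exact hδU⟩
  have hwD : w ∉ D := by
    intro hcon
    apply hxU
    rw [← hw]; exact hcon
  obtain ⟨R, iR, iD, iDVR, v, vb, hv, hvb⟩ := exists_dvr_centered D hD w hwD
  refine ⟨R, iR, iD, iDVR, v ≫ ιW, vb ≫ (ιW ∣_ U), ?_, ?_, ?_⟩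
  · rw [Scheme.Hom.comp_apply, hv, hw]
  · rw [Category.assoc, morphismRestrict_ι, ← Category.assoc, hvb, Category.assoc]
  · intro p
    have h1 : U.ι ((vb ≫ (ιW ∣_ U)) p) = ιW (D.ι (vb p)) :=
      congrArg (fun g => g.base (vb p)) (morphismRestrict_ι ιW U)
    rw [h1, specializes_iff_mem_closure, ← hrange]
    exact Set.mem_range_self _

theorem isDominant_specMap_fractionRing (R : Type u) [CommRing R] [IsDomain R] :
    IsDominant (Spec.map (CommRingCat.ofHom (algebraMap R (FractionRing R)))) := by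
  constructor
  change DenseRange (PrimeSpectrum.comap (algebraMap R (FractionRing R)))
  rw [PrimeSpectrum.denseRange_comap_iff_ker_le_nilRadical,
    (RingHom.injective_iff_ker_eq_bot _).mp (IsFractionRing.injective R (FractionRing R))]
  exact bot_le

/-- uniqueness of the point of the closure of the graph over `x`, from the valuative criterion -/
theorem eq_of_dvr_criterion {X Y : Scheme.{u}} [IsLocallyNoetherian X] (q : Y ⟶ X)
    [IsSeparated q] [LocallyOfFiniteType q]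
    (U : X.Opens) (h : (U : Scheme.{u}) ⟶ Y) (hh : h ≫ q = U.ι)
    (x : X) (hxU : x ∉ U) (X₁ : X.Opens) (hxX₁ : x ∈ X₁) [IsIntegral X₁.toScheme]
    [NoetherianSpace X₁.toScheme]
    (y₀ y' : Y) (hy' : y' ∈ closure (Set.range h)) (hqy' : q y' = x)
    (H : ∀ (R : Type u) [CommRing R] [IsDomain R] [IsDiscreteValuationRing R]
        (u : Spec (CommRingCat.of R) ⟶ X), u (IsLocalRing.closedPoint R) = x →
        ∀ ub : Spec (CommRingCat.of (FractionRing R)) ⟶ (U : Scheme.{u}),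
          ub ≫ U.ι = Spec.map (CommRingCat.ofHom (algebraMap R (FractionRing R))) ≫ u →
          ∃ h₁ : Spec (CommRingCat.of R) ⟶ Y, h₁ ≫ q = u ∧ h₁ (IsLocalRing.closedPoint R) = y₀ ∧
            Spec.map (CommRingCat.ofHom (algebraMap R (FractionRing R))) ≫ h₁ = ub ≫ h) :
    y' = y₀ := by
  classical
  -- the smaller open
  obtain ⟨U₁, hU₁def⟩ : ∃ U₁ : X.Opens, U₁ = U ⊓ X₁ := ⟨_, rfl⟩
  have hU₁U : U₁ ≤ U := hU₁def ▸ inf_le_left
  have hU₁X₁ : U₁ ≤ X₁ := hU₁def ▸ inf_le_right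
  obtain ⟨h₁, hh₁def⟩ : ∃ h₁ : (U₁ : Scheme.{u}) ⟶ Y, h₁ = X.homOfLE hU₁U ≫ h := ⟨_, rfl⟩
  have hh₁ : h₁ ≫ q = U₁.ι := by rw [hh₁def, Category.assoc, hh, Scheme.homOfLE_ι]
  -- `y'` is in the closure of the range of `h₁`
  have hy'₁ : y' ∈ closure (Set.range h₁) := by
    rw [mem_closure_iff]
    intro O hO hy'O
    have hO' : IsOpen (O ∩ q ⁻¹' (X₁ : Set X)) := hO.inter (X₁.isOpen.preimage q.continuous)
    obtain ⟨_, ⟨hzO, hzX₁⟩, ⟨w, rfl⟩⟩ := (mem_closure_iff.mp hy') _ hO'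
      ⟨hy'O, by change q y' ∈ X₁; rw [hqy']; exact hxX₁⟩
    have hqw : q (h w) = U.ι w := congrArg (fun g => g.base w) hh
    have hw₁ : U.ι w ∈ U₁ := by
      rw [hU₁def]
      refine ⟨w.2, ?_⟩
      have : q (h w) ∈ X₁ := hzX₁
      rwa [hqw] at this
    refine ⟨h w, hzO, ⟨⟨U.ι w, hw₁⟩, ?_⟩⟩
    rw [hh₁def, Scheme.Hom.comp_apply]
    congr 1
    apply U.ι.isOpenEmbedding.injective
    exact congrArg (fun g => g.base (⟨U.ι w, hw₁⟩ : U₁.toScheme)) (X.homOfLE_ι hU₁U)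
  obtain ⟨u₀, hu₀⟩ : ∃ u₀ : X, u₀ ∈ U₁ := by
    obtain ⟨_, -, ⟨w, rfl⟩⟩ := (mem_closure_iff.mp hy'₁) Set.univ isOpen_univ (Set.mem_univ _)
    exact ⟨w.1, w.2⟩
  haveI : Nonempty U₁.toScheme := ⟨⟨u₀, hu₀⟩⟩
  haveI : IsIntegral U₁.toScheme := isIntegral_of_isOpenImmersion (X.homOfLE hU₁X₁)
  haveI : NoetherianSpace U₁.toScheme :=
    (X.homOfLE hU₁X₁).isOpenEmbedding.isInducing.noetherianSpace
  haveI : QuasiCompact h₁ := quasiCompact_of_noetherianSpace_source h₁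
  haveI := SectionExt.isIntegral_image h₁
  obtain ⟨i, hi⟩ : ∃ i : h₁.image ⟶ Y, i = h₁.imageι := ⟨_, rfl⟩
  obtain ⟨s, hs⟩ : ∃ s : (U₁ : Scheme.{u}) ⟶ h₁.image, s = h₁.toImage := ⟨_, rfl⟩
  haveI : IsClosedImmersion i := hi ▸ inferInstance
  haveI : IsDominant s := hs ▸ inferInstance
  have hsi : s ≫ i = h₁ := by rw [hi, hs]; exact h₁.toImage_imageι
  obtain ⟨f, hf⟩ : ∃ f : h₁.image ⟶ X, f = i ≫ q := ⟨_, rfl⟩
  have hsf : s ≫ f = U₁.ι := by rw [hf, ← Category.assoc, hsi, hh₁]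
  have hri : Set.range i = closure (Set.range h₁) := by
    rw [hi]
    have := h₁.ker.range_subschemeι
    rw [this, Scheme.Hom.support_ker]
  obtain ⟨z', hz'⟩ : ∃ z' : h₁.image, i z' = y' := by
    rw [← hri] at hy'₁
    exact hy'₁
  have hfz : ∀ z : h₁.image, f z = q (i z) := by
    intro z; rw [hf, Scheme.Hom.comp_apply]
  haveI : IsLocallyNoetherian Y := LocallyOfFiniteType.isLocallyNoetherian q
  haveI : IsLocallyNoetherian h₁.image := LocallyOfFiniteType.isLocallyNoetherian i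
  obtain ⟨D, hDdef⟩ : ∃ D : h₁.image.Opens, D = f ⁻¹ᵁ U₁ := ⟨_, rfl⟩
  -- the section `s' : U₁ → D`
  obtain ⟨s', hs'1, hs'2⟩ : ∃ s' : (U₁ : Scheme.{u}) ⟶ (D : Scheme.{u}),
      s' ≫ (hDdef ▸ (f ∣_ U₁) : (D : Scheme.{u}) ⟶ (U₁ : Scheme.{u})) = 𝟙 _ ∧ s' ≫ D.ι = s := by
    subst hDdef
    exact ⟨(isPullback_morphismRestrict f U₁).lift (𝟙 _) s (by rw [hsf, Category.id_comp]),
      (isPullback_morphismRestrict f U₁).lift_fst _ _ _,
      (isPullback_morphismRestrict f U₁).lift_snd _ _ _⟩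
  subst hDdef
  haveI : IsDominant s' := by
    constructor
    rw [DenseRange, dense_iff_inter_open]
    intro O' hO' hOne
    have hO'' : IsOpen ((f ⁻¹ᵁ U₁).ι '' O') := (f ⁻¹ᵁ U₁).ι.isOpenEmbedding.isOpenMap O' hO'
    obtain ⟨_, ⟨o, ho, rfl⟩, ⟨t, ht⟩⟩ :=
      (IsDominant.denseRange (f := s)).inter_open_nonempty _ hO'' (hOne.image _)
    refine ⟨s' t, ?_, ⟨t, rfl⟩⟩
    have : (f ⁻¹ᵁ U₁).ι (s' t) = (f ⁻¹ᵁ U₁).ι o := by
      rw [← ht, ← hs'2]; rfl
    rw [(f ⁻¹ᵁ U₁).ι.isOpenEmbedding.injective this]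
    exact ho
  have hD : Dense ((f ⁻¹ᵁ U₁ : h₁.image.Opens) : Set h₁.image) := by
    refine (f ⁻¹ᵁ U₁).isOpen.dense ⟨s ⟨u₀, hu₀⟩, ?_⟩
    change f (s ⟨u₀, hu₀⟩) ∈ U₁
    have : f (s ⟨u₀, hu₀⟩) = U₁.ι ⟨u₀, hu₀⟩ := congrArg (fun g => g.base ⟨u₀, hu₀⟩) hsf
    rw [this]; exact hu₀
  have hz'D : z' ∉ f ⁻¹ᵁ U₁ := by
    intro hcon
    have : f z' ∈ U₁ := hcon
    rw [hfz, hz', hqy'] at this
    exact hxU (hU₁U this)
  haveI : IsReduced (f ⁻¹ᵁ U₁ : h₁.image.Opens).toScheme :=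
    isReduced_of_isOpenImmersion (f ⁻¹ᵁ U₁).ι
  -- key claim
  have hclaim : (f ∣_ U₁) ≫ h₁ = (f ⁻¹ᵁ U₁).ι ≫ i := by
    refine ext_of_isDominant_of_isSeparated q ?_ s' ?_
    · rw [Category.assoc, hh₁, morphismRestrict_ι, Category.assoc, hf]
    · rw [← Category.assoc, hs'1, Category.id_comp, ← Category.assoc, hs'2, hsi]
  obtain ⟨R, iR, iD, iDVR, v, vb, hv, hvb⟩ := exists_dvr_centered (f ⁻¹ᵁ U₁) hD z' hz'D
  have hu : (v ≫ f) (IsLocalRing.closedPoint R) = x := by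
    rw [Scheme.Hom.comp_apply, hv, hfz, hz', hqy']
  obtain ⟨ub, hubdef⟩ : ∃ ub : Spec (CommRingCat.of (FractionRing R)) ⟶ (U : Scheme.{u}),
      ub = vb ≫ (f ∣_ U₁) ≫ X.homOfLE hU₁U := ⟨_, rfl⟩
  have hub : ub ≫ U.ι =
      Spec.map (CommRingCat.ofHom (algebraMap R (FractionRing R))) ≫ v ≫ f := by
    rw [hubdef, Category.assoc, Category.assoc, Scheme.homOfLE_ι, morphismRestrict_ι,
      ← Category.assoc, hvb, Category.assoc]
  obtain ⟨g, hgq, hgc, hgg⟩ := H R (v ≫ f) hu ub hub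
  haveI := isDominant_specMap_fractionRing R
  have hgv : g = v ≫ i := by
    refine ext_of_isDominant_of_isSeparated q ?_
      (Spec.map (CommRingCat.ofHom (algebraMap R (FractionRing R)))) ?_
    · rw [hgq, Category.assoc, hf]
    · rw [hgg, hubdef, Category.assoc, Category.assoc, ← hh₁def, hclaim, ← Category.assoc, hvb,
        Category.assoc]
  have := hgc
  rw [hgv, Scheme.Hom.comp_apply, hv, hz'] at this
  exact this

end Groth.Agent.Lib.Helper13.SectionDvr
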