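import Mathlib
import Groth.Prelude.Def_CDiv
import Groth.Agent.Lib.Helper13.SectionDvr2

/-!
# Cartier divisors on integral schemes of dimension at most one: auxiliary lemmas
-/

universe u

open CategoryTheory AlgebraicGeometry TopologicalSpace

namespace Groth.Agent.Lib.Helper13.CDivLib

open CDiv

variable {X : Scheme.{u}} [IsIntegral X]

/-- the set of points where a rational function is regular is open -/
theorem isOpen_setOf_mem_range (k : X.functionField) :
    IsOpen {x : X | k ∈ Set.range (algebraMap (X.presheaf.stalk x) X.functionField)} := by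
  rw [isOpen_iff_forall_mem_open]
  rintro x ⟨t, ht⟩
  obtain ⟨U, hxU, s, hs⟩ := X.presheaf.exists_germ_eq t
  haveI : Nonempty U := ⟨⟨x, hxU⟩⟩
  refine ⟨U, ?_, U.isOpen, hxU⟩
  intro y hy
  refine ⟨X.presheaf.germ U y hy s, ?_⟩
  rw [Scheme.algebraMap_germ_eq_germToFunctionField, ← ht, ← hs,
    Scheme.algebraMap_germ_eq_germToFunctionField]

theorem mem_stalkUnits_iff (x : X) (f : KUnits X) :
    f ∈ stalkUnits X x ↔
      (f : X.functionField) ∈ Set.range (algebraMap (X.presheaf.stalk x) X.functionField) ∧
      ((f⁻¹ : KUnits X) : X.functionField) ∈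
        Set.range (algebraMap (X.presheaf.stalk x) X.functionField) := by
  constructor
  · rintro ⟨u, rfl⟩
    exact ⟨⟨u, rfl⟩, ⟨((u⁻¹ : (X.presheaf.stalk x)ˣ) : X.presheaf.stalk x), by
      rw [← map_inv]; rfl⟩⟩
  · rintro ⟨⟨a, ha⟩, ⟨b, hb⟩⟩
    have hab : a * b = 1 := by
      apply IsFractionRing.injective (X.presheaf.stalk x) X.functionField
      rw [map_mul, ha, hb, map_one, ← Units.val_mul, mul_inv_cancel, Units.val_one]
    have hba : b * a = 1 := by rw [mul_comm]; exact hab
    refine ⟨⟨a, b, hab, hba⟩, ?_⟩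
    apply Units.ext
    exact ha

theorem germOf_eq_one_iff (x : X) (f : KUnits X) : germOf X x f = 1 ↔ f ∈ stalkUnits X x :=
  QuotientGroup.eq_one_iff f

/-- triviality of the germ of a rational function is an open condition -/
theorem isOpen_setOf_germOf_eq_one (f : KUnits X) : IsOpen {x : X | germOf X x f = 1} := by
  have : {x : X | germOf X x f = 1} =
      {x : X | (f : X.functionField) ∈
        Set.range (algebraMap (X.presheaf.stalk x) X.functionField)} ∩
      {x : X | ((f⁻¹ : KUnits X) : X.functionField) ∈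
        Set.range (algebraMap (X.presheaf.stalk x) X.functionField)} := by
    ext x
    rw [Set.mem_setOf_eq, germOf_eq_one_iff, mem_stalkUnits_iff]
    rfl
  rw [this]
  exact (isOpen_setOf_mem_range _).inter (isOpen_setOf_mem_range _)

/-- the support of a divisor is closed -/
theorem isClosed_supp (D : Divisor X) : IsClosed (supp D) := by
  rw [← isOpen_compl_iff, isOpen_iff_forall_mem_open]
  intro x hx
  obtain ⟨U, f, hxU, hU⟩ := D.2 x
  refine ⟨(U : Set X) ∩ {y | germOf X y f = 1}, ?_, U.isOpen.inter (isOpen_setOf_germOf_eq_one f),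
    ⟨hxU, ?_⟩⟩
  · rintro y ⟨hyU, hy⟩
    change ¬ (D.1 y ≠ 1)
    rw [not_not, hU y hyU]
    exact hy
  · have : ¬ (D.1 x ≠ 1) := hx
    rw [not_not, hU x hxU] at this
    exact this

/-- the germ at the generic point is trivial -/
theorem germ_genericPoint (D : Divisor X) : genericPoint X ∉ supp D := by
  intro h
  apply h
  obtain ⟨f, hf⟩ := QuotientGroup.mk_surjective (D.1 (genericPoint X))
  rw [← hf]
  change germOf X _ f = 1
  rw [germOf_eq_one_iff, mem_stalkUnits_iff]
  have key : ∀ k : X.functionField,
      k ∈ Set.range (@algebraMap (X.presheaf.stalk (genericPoint X)) X.functionField _ _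
        (stalkFunctionFieldAlgebra X (genericPoint X))) := by
    intro k
    obtain ⟨U, hU, s, hs⟩ := X.presheaf.exists_germ_eq k
    haveI : Nonempty U := ⟨⟨_, hU⟩⟩
    refine ⟨X.presheaf.germ U _ hU s, ?_⟩
    rw [Scheme.algebraMap_germ_eq_germToFunctionField]
    exact hs
  exact ⟨key _, key _⟩

/-- in an integral scheme of dimension at most one every point other than the generic point is
closed -/
theorem isClosed_singleton_of_ne_genericPoint (hdim : topologicalKrullDim X ≤ 1) (z : X)
    (hz : z ≠ genericPoint X) : IsClosed ({z} : Set X) := by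
  rw [← closure_eq_iff_isClosed]
  apply Set.Subset.antisymm _ subset_closure
  intro y hy
  rw [Set.mem_singleton_iff]
  let T₀ : IrreducibleCloseds X := ⟨closure {y}, isIrreducible_singleton.closure, isClosed_closure⟩
  let T₁ : IrreducibleCloseds X := ⟨closure {z}, isIrreducible_singleton.closure, isClosed_closure⟩
  let T₂ : IrreducibleCloseds X :=
    ⟨closure {genericPoint X}, isIrreducible_singleton.closure, isClosed_closure⟩
  have h01 : T₀ ≤ T₁ := by
    change closure {y} ⊆ closure {z}
    exact closure_minimal (Set.singleton_subset_iff.mpr hy) isClosed_closure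
  have h12 : T₁ ≤ T₂ := by
    change closure {z} ⊆ closure {genericPoint X}
    rw [(genericPoint_spec X).def]
    exact Set.subset_univ _
  rcases (Order.krullDim_le_one_iff.mp hdim) T₁ with hmin | hmax
  · have h10 : T₁ ≤ T₀ := hmin h01
    have hzy : z ∈ closure ({y} : Set X) := h10 (subset_closure rfl)
    have h1 : y ⤳ z := specializes_iff_mem_closure.mpr hzy
    have h2 : z ⤳ y := specializes_iff_mem_closure.mpr hy
    exact (h1.antisymm h2).eq
  · exfalso
    apply hz
    have h21 : T₂ ≤ T₁ := hmax h12
    have hηz : genericPoint X ∈ closure ({z} : Set X) := h21 (subset_closure rfl)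
    have h1 : z ⤳ genericPoint X := specializes_iff_mem_closure.mpr hηz
    have h2 : genericPoint X ⤳ z := (genericPoint_spec X).specializes trivial
    exact (h1.antisymm h2).eq

/-- a closed subset of a locally Noetherian scheme all of whose points are closed is discrete -/
theorem discreteTopology_of_isClosed_of_forall_isClosed {Y : Scheme.{u}} [IsLocallyNoetherian Y]
    (Z : Set Y) (hZ : IsClosed Z) (hpt : ∀ z ∈ Z, IsClosed ({z} : Set Y)) :
    DiscreteTopology Z := by
  rw [discreteTopology_iff_isOpen_singleton]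
  rintro ⟨z, hzZ⟩
  obtain ⟨W, hW, hzW⟩ : ∃ W : Y.Opens, IsAffineOpen W ∧ z ∈ W := by
    obtain ⟨_, ⟨V, hV, rfl⟩, hxV, -⟩ := Y.isBasis_affineOpens.exists_subset_of_mem_open
      (Set.mem_univ z) isOpen_univ
    exact ⟨V, hV, hxV⟩
  haveI : NoetherianSpace W.toScheme := by
    haveI : IsAffine W.toScheme := hW
    haveI : IsNoetherian W.toScheme := ⟨⟩
    infer_instance
  let A : Set W.toScheme := W.ι ⁻¹' ({z}ᶜ : Set Y)
  let B : Set W.toScheme := W.ι ⁻¹' (Zᶜ : Set Y)
  have hA : IsOpen A := (hpt z hzZ).isOpen_compl.preimage W.ι.continuous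
  have hB : IsOpen B := hZ.isOpen_compl.preimage W.ι.continuous
  let z₁ : W.toScheme := ⟨z, hzW⟩
  have hz₁ : z₁ ∉ closure (A \ B) := by
    intro hcon
    obtain ⟨δ, ⟨hδA, hδB⟩, hδz⟩ :=
      SectionDvr.exists_specializes_of_mem_closure_diff A B hA hB z₁ hcon
    have hδZ : W.ι δ ∈ Z := by
      by_contra h; exact hδB h
    have h1 : W.ι δ ⤳ z := hδz.map W.ι.continuous
    have h2 : z ∈ closure ({W.ι δ} : Set Y) := specializes_iff_mem_closure.mp h1
    rw [(hpt _ hδZ).closure_eq, Set.mem_singleton_iff] at h2
    exact hδA h2.symm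
  have hO : IsOpen (W.ι '' (closure (A \ B))ᶜ) :=
    W.ι.isOpenEmbedding.isOpenMap _ isClosed_closure.isOpen_compl
  have : ({⟨z, hzZ⟩} : Set Z) = Subtype.val ⁻¹' (W.ι '' (closure (A \ B))ᶜ) := by
    ext ⟨p, hpZ⟩
    simp only [Set.mem_singleton_iff, Subtype.mk.injEq, Set.mem_preimage]
    constructor
    · rintro rfl
      exact ⟨z₁, hz₁, rfl⟩
    · rintro ⟨p₁, hp₁, rfl⟩
      by_contra hne
      exact hp₁ (subset_closure ⟨hne, fun h => h hpZ⟩)
  rw [this]
  exact hO.preimage continuous_subtype_val

/-- in a locally Noetherian integral scheme of dimension at most one, a closed subset not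
containing the generic point is discrete -/
theorem discreteTopology_of_isClosed [IsLocallyNoetherian X] (hdim : topologicalKrullDim X ≤ 1)
    (Z : Set X) (hZ : IsClosed Z) (hη : genericPoint X ∉ Z) : DiscreteTopology Z :=
  discreteTopology_of_isClosed_of_forall_isClosed Z hZ fun z hz =>
    isClosed_singleton_of_ne_genericPoint hdim z (fun h => hη (h ▸ hz))

theorem discreteTopology_supp [IsLocallyNoetherian X] (hdim : topologicalKrullDim X ≤ 1)
    (D : Divisor X) : DiscreteTopology (supp D) :=
  discreteTopology_of_isClosed hdim _ (isClosed_supp D) (germ_genericPoint D)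

/-- removing a point from a closed discrete set leaves a closed set -/
theorem isClosed_diff_singleton {T : Type*} [TopologicalSpace T] (E : Set T) (hE : IsClosed E)
    (hEd : DiscreteTopology E) (x : T) : IsClosed (E \ {x}) := by
  by_cases hx : x ∈ E
  · have h1 : IsOpen ({⟨x, hx⟩} : Set E) := isOpen_discrete _
    obtain ⟨O, hO, hOx⟩ := isOpen_induced_iff.mp h1
    have : E \ {x} = E ∩ Oᶜ := by
      ext y
      constructor
      · rintro ⟨hyE, hyx⟩
        refine ⟨hyE, fun hyO => hyx ?_⟩
        have : (⟨y, hyE⟩ : E) ∈ Subtype.val ⁻¹' O := hyO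
        rw [hOx, Set.mem_singleton_iff] at this
        exact congrArg Subtype.val this
      · rintro ⟨hyE, hyO⟩
        refine ⟨hyE, fun hyx => hyO ?_⟩
        rw [Set.mem_singleton_iff] at hyx
        subst hyx
        have : (⟨y, hx⟩ : E) ∈ Subtype.val ⁻¹' O := by rw [hOx]; rfl
        exact this
    rw [this]
    exact hE.inter hO.isClosed_compl
  · rw [Set.diff_singleton_eq_self hx]
    exact hE

/-- a family of germs which is trivial outside a closed discrete set is a divisor -/
theorem mem_divisorGroup_of_closed_discrete [IsLocallyNoetherian X]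
    (hdim : topologicalKrullDim X ≤ 1) (E : Set X) (hE : IsClosed E) (hEd : DiscreteTopology E)
    (d : ∀ x : X, Germ X x) (hd : ∀ x, x ∉ E → d x = 1) : d ∈ divisorGroup X := by
  intro x
  by_cases hx : x ∈ E
  · obtain ⟨f, hf⟩ := QuotientGroup.mk_surjective (d x)
    have hS1 := isClosed_diff_singleton _ (isClosed_supp (div f))
      (discreteTopology_supp hdim (div f)) x
    have hE1 := isClosed_diff_singleton E hE hEd x
    refine ⟨⟨(E \ {x})ᶜ ∩ (supp (div f) \ {x})ᶜ, hE1.isOpen_compl.inter hS1.isOpen_compl⟩, f,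
      ⟨fun h => h.2 rfl, fun h => h.2 rfl⟩, ?_⟩
    rintro y ⟨hy1, hy2⟩
    by_cases hyx : y = x
    · subst hyx
      exact hf.symm
    · have hyE : y ∉ E := fun h => hy1 ⟨h, hyx⟩
      have hyS : y ∉ supp (div f) := fun h => hy2 ⟨h, hyx⟩
      rw [hd y hyE]
      have : ¬ ((div f).1 y ≠ 1) := hyS
      rw [not_not] at this
      exact this.symm
  · refine ⟨⟨Eᶜ, hE.isOpen_compl⟩, 1, hx, ?_⟩
    intro y hy
    rw [hd y hy]
    exact (QuotientGroup.mk_one _).symm

open Classical in
/-- the divisor with prescribed germs on a closed discrete set and trivial germs elsewhere -/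
noncomputable def divisorOfGerms [IsLocallyNoetherian X] (hdim : topologicalKrullDim X ≤ 1)
    (E : Set X) (hE : IsClosed E) (hEd : DiscreteTopology E) (d : ∀ x : X, Germ X x) :
    Divisor X :=
  ⟨fun x => if x ∈ E then d x else 1,
    mem_divisorGroup_of_closed_discrete hdim E hE hEd _ (fun x hx => if_neg hx)⟩

theorem divisorOfGerms_apply_of_mem [IsLocallyNoetherian X] (hdim : topologicalKrullDim X ≤ 1)
    (E : Set X) (hE : IsClosed E) (hEd : DiscreteTopology E) (d : ∀ x : X, Germ X x) {x : X}
    (hx : x ∈ E) : (divisorOfGerms hdim E hE hEd d).1 x = d x := if_pos hx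

theorem divisorOfGerms_apply_of_not_mem [IsLocallyNoetherian X]
    (hdim : topologicalKrullDim X ≤ 1)
    (E : Set X) (hE : IsClosed E) (hEd : DiscreteTopology E) (d : ∀ x : X, Germ X x) {x : X}
    (hx : x ∉ E) : (divisorOfGerms hdim E hE hEd d).1 x = 1 := if_neg hx

theorem supp_divisorOfGerms_subset [IsLocallyNoetherian X] (hdim : topologicalKrullDim X ≤ 1)
    (E : Set X) (hE : IsClosed E) (hEd : DiscreteTopology E) (d : ∀ x : X, Germ X x) :
    supp (divisorOfGerms hdim E hE hEd d) ⊆ E := by
  intro x hx
  by_contra hxE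
  exact hx (divisorOfGerms_apply_of_not_mem hdim E hE hEd d hxE)

/-- the unit of the function field attached to a nonzero element of a local ring -/
noncomputable def unitOf (x : X) (a : X.presheaf.stalk x) (ha : a ≠ 0) : KUnits X :=
  Units.mk0 (algebraMap (X.presheaf.stalk x) X.functionField a) (by
    intro h
    apply ha
    apply IsFractionRing.injective (X.presheaf.stalk x) X.functionField
    rw [h, map_zero])

theorem isEffectiveAt_of_eq [IsLocallyNoetherian X] (D : Divisor X) (x : X)
    (a : X.presheaf.stalk x) (ha : a ≠ 0) (h : D.1 x = germOf X x (unitOf x a ha)) :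
    IsEffectiveAt D x :=
  ⟨a, (unitOf x a ha).ne_zero, h⟩

theorem isEffectiveAt_of_eq_one (D : Divisor X) (x : X) (h : D.1 x = 1) : IsEffectiveAt D x := by
  refine ⟨1, by rw [map_one]; exact one_ne_zero, ?_⟩
  rw [h]
  symm
  rw [germOf_eq_one_iff]
  have : (Units.mk0 (algebraMap (X.presheaf.stalk x) X.functionField 1)
      (by rw [map_one]; exact one_ne_zero) : KUnits X) = 1 := by
    apply Units.ext
    exact map_one _
  rw [this]
  exact one_mem _

/-- the germ of a nonzero nonunit of the local ring is nontrivial -/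
theorem germOf_unitOf_ne_one (x : X) (a : X.presheaf.stalk x) (ha : a ≠ 0) (hu : ¬ IsUnit a) :
    germOf X x (unitOf x a ha) ≠ 1 := by
  rw [Ne, germOf_eq_one_iff]
  rintro ⟨u, hu'⟩
  apply hu
  have h1 : algebraMap (X.presheaf.stalk x) X.functionField (u : X.presheaf.stalk x) =
      algebraMap (X.presheaf.stalk x) X.functionField a := congrArg Units.val hu'
  have h2 := IsFractionRing.injective (X.presheaf.stalk x) X.functionField h1
  rw [← h2]
  exact u.isUnit

end Groth.Agent.Lib.Helper13.CDivLib
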