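import Mathlib
import Groth.Prelude.Def_CAlg
import Groth.Agent.S5752
import Groth.Agent.S0320

/-!
# A Noetherian local domain with a "pole only at the closed point" has depth one
-/

universe u

namespace Groth.Agent.Lib.Helper13.DepthOne

open IsLocalRing

/-- Let `A` be a Noetherian local domain with fraction field `K`, and `g ∈ K` not in `A` such that
`g ∈ A_p` for every prime `p` other than the maximal ideal. Then `A` has depth one. -/
theorem depth_eq_one_of_pole {A : Type u} [CommRing A] [IsDomain A] [IsLocalRing A]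
    [IsNoetherianRing A] {K : Type*} [Field K] [Algebra A K] [IsFractionRing A K] (g : K)
    (hg : g ∉ Set.range (algebraMap A K))
    (hp : ∀ p : Ideal A, p.IsPrime → p ≠ maximalIdeal A →
      ∃ s : A, s ∉ p ∧ ∃ r : A, algebraMap A K s * g = algebraMap A K r) :
    LocCoh.depth A A = 1 := by
  classical
  obtain ⟨a, b, hb, hab⟩ := IsFractionRing.div_surjective (A := A) g
  have hb0 : b ≠ 0 := nonZeroDivisors.ne_zero hb
  have hbK : algebraMap A K b ≠ 0 := by
    intro h
    exact hb0 (IsFractionRing.injective A K (by rw [h, map_zero]))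
  -- `b` is not a unit
  have hbm : b ∈ maximalIdeal A := by
    rw [mem_maximalIdeal, mem_nonunits_iff]
    intro hu
    obtain ⟨c, hc⟩ := hu.exists_right_inv
    apply hg
    refine ⟨a * c, ?_⟩
    rw [← hab, map_mul, eq_div_iff hbK, mul_assoc, ← map_mul, mul_comm c b, hc, map_one, mul_one]
  -- key equivalence: `c * a ∈ (b)` iff `c • g ∈ A`
  have hkey : ∀ c : A, (∃ r, c * a = r * b) ↔ ∃ r, algebraMap A K c * g = algebraMap A K r := by
    intro c
    constructor
    · rintro ⟨r, hr⟩
      refine ⟨r, ?_⟩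
      rw [← hab, mul_div_assoc', ← map_mul, hr, map_mul, mul_div_assoc, div_self hbK, mul_one]
    · rintro ⟨r, hr⟩
      refine ⟨r, ?_⟩
      apply IsFractionRing.injective A K
      rw [map_mul, map_mul, ← hr, ← hab, mul_assoc, div_mul_cancel₀ _ hbK]
  -- the module `M = A / bA`
  let M := QuotSMulTop b A
  let π : A →ₗ[A] M := Submodule.mkQ _
  have hπ : ∀ c : A, π c = 0 ↔ ∃ r, c = r * b := by
    intro c
    change Submodule.Quotient.mk c = 0 ↔ _
    rw [Submodule.Quotient.mk_eq_zero, Submodule.mem_smul_pointwise_iff_exists]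
    constructor
    · rintro ⟨r, -, hr⟩
      exact ⟨r, by rw [← hr, smul_eq_mul, mul_comm]⟩
    · rintro ⟨r, hr⟩
      exact ⟨r, trivial, by rw [hr, smul_eq_mul, mul_comm]⟩
  -- `a` is nonzero in `M`
  have ha : π a ≠ 0 := by
    rw [Ne, hπ]
    rintro ⟨r, hr⟩
    apply hg
    obtain ⟨r', hr'⟩ := (hkey 1).mp ⟨r, by rw [one_mul, hr]⟩
    exact ⟨r', by rw [← hr', map_one, one_mul]⟩
  -- the cyclic submodule generated by `a`
  let N : Submodule A M := Submodule.span A {π a}
  haveI : Nontrivial N := by
    refine ⟨⟨⟨π a, Submodule.subset_span rfl⟩, 0, ?_⟩⟩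
    intro h
    exact ha (congrArg Subtype.val h)
  obtain ⟨q, hq⟩ := associatedPrimes.nonempty A N
  have hqM : q ∈ associatedPrimes A M :=
    associatedPrimes.subset_of_injective (f := N.subtype) N.injective_subtype hq
  -- `q` is the maximal ideal
  have hqm : q = maximalIdeal A := by
    by_contra hne
    obtain ⟨hqp, ⟨n, hn⟩, hqn⟩ := (Submodule.isAssociatedPrime_iff).mp hq
    obtain ⟨s, hsq, r, hr⟩ := hp q hqp hne
    apply hsq
    rw [hqn]
    -- `s` kills `N`
    rw [Submodule.mem_colon_singleton, Submodule.mem_bot]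
    obtain ⟨c, rfl⟩ := Submodule.mem_span_singleton.mp hn
    apply Subtype.ext
    change s • (c • π a) = 0
    rw [smul_comm, ← map_smul, smul_eq_mul, ← map_smul, smul_eq_mul]
    obtain ⟨r', hr'⟩ := (hkey s).mpr ⟨r, hr⟩
    rw [hπ]
    exact ⟨c * r', by rw [hr']; ring⟩
  rw [hqm] at hqM
  have h0 : LocCoh.depth A M = 0 := (Groth.Agent.S5752.result A M).mpr hqM
  have hIM : maximalIdeal A • (⊤ : Submodule A A) ≠ ⊤ := by
    rw [Ideal.smul_top_eq_map, Algebra.algebraMap_self, Ideal.map_id]
    intro h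
    have h1 : (1 : A) ∈ Submodule.restrictScalars A (maximalIdeal A) := by rw [h]; trivial
    exact (Ideal.ne_top_iff_one _).mp (IsLocalRing.maximalIdeal.isMaximal A).ne_top h1
  have hreg : IsSMulRegular A b := by
    intro x y hxy
    exact mul_left_cancel₀ hb0 hxy
  have h1 := Groth.Agent.S0320.result A (maximalIdeal A) A hIM b hbm hreg
  change LocCoh.idealDepth (maximalIdeal A) A = 1
  rw [← h1]
  change LocCoh.depth A M + 1 = 1
  rw [h0, zero_add]

end Groth.Agent.Lib.Helper13.DepthOne
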