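import Mathlib
import Groth.Prelude.Def_CDiv
import Groth.Agent.Lib.Helper13.CDivLib
import Groth.Agent.Lib.Helper13.DepthOne
import Groth.Agent.Lib.Helper13.LocalIso2

/-!
# Depth one at the maximal points of the polar locus of a rational function
-/

universe u

open CategoryTheory AlgebraicGeometry TopologicalSpace

namespace Groth.Agent.Lib.Helper13.CDivLib

variable {X : Scheme.{u}} [IsIntegral X]


/-- a rational function regular at a point of an affine open is a fraction with denominator
outside the corresponding prime -/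
theorem exists_fraction_of_mem_range {W : X.Opens} [Nonempty W] (z : X) (hzW : z ∈ W)
    (q' : Ideal Γ(X, W)) [q'.IsPrime]
    (locz : @IsLocalization.AtPrime Γ(X, W) _ (X.presheaf.stalk z) _
      (X.presheaf.algebra_section_stalk ⟨z, hzW⟩) q' _)
    (g : X.functionField)
    (hg : g ∈ Set.range (algebraMap (X.presheaf.stalk z) X.functionField)) :
    ∃ r s : Γ(X, W), s ∉ q' ∧
      algebraMap Γ(X, W) X.functionField s * g = algebraMap Γ(X, W) X.functionField r := by
  obtain ⟨t, ht⟩ := hg
  letI algz := X.presheaf.algebra_section_stalk ⟨z, hzW⟩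
  haveI towz : IsScalarTower Γ(X, W) (X.presheaf.stalk z) X.functionField :=
    functionField_isScalarTower X W ⟨z, hzW⟩
  obtain ⟨⟨r, s⟩, hrs⟩ := @IsLocalization.surj _ _ q'.primeCompl _ _ _ locz t
  refine ⟨r, s.1, s.2, ?_⟩
  have h1 := congrArg (algebraMap (X.presheaf.stalk z) X.functionField) hrs
  rw [map_mul, ht, ← IsScalarTower.algebraMap_apply, ← IsScalarTower.algebraMap_apply] at h1
  rw [mul_comm]
  exact h1

/-- If a rational function is not regular at `x` but is regular at every proper generization of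
`x`, then the local ring at `x` has depth one. -/
theorem depth_stalk_eq_one_of_pole [IsLocallyNoetherian X] (x : X) (g : X.functionField)
    (hg : g ∉ Set.range (algebraMap (X.presheaf.stalk x) X.functionField))
    (H : ∀ z : X, z ⤳ x → z ≠ x →
      g ∈ Set.range (algebraMap (X.presheaf.stalk z) X.functionField)) :
    LocCoh.depth (X.presheaf.stalk x) (X.presheaf.stalk x) = 1 := by
  obtain ⟨W, hW, hxW⟩ : ∃ W : X.Opens, IsAffineOpen W ∧ x ∈ W := by
    obtain ⟨_, ⟨V, hV, rfl⟩, hxV, -⟩ := X.isBasis_affineOpens.exists_subset_of_mem_open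
      (Set.mem_univ x) isOpen_univ
    exact ⟨V, hV, hxV⟩
  haveI : Nonempty W := ⟨⟨x, hxW⟩⟩
  letI algx := X.presheaf.algebra_section_stalk ⟨x, hxW⟩
  haveI locx := hW.isLocalization_stalk ⟨x, hxW⟩
  haveI towx : IsScalarTower Γ(X, W) (X.presheaf.stalk x) X.functionField :=
    functionField_isScalarTower X W ⟨x, hxW⟩
  apply DepthOne.depth_eq_one_of_pole g hg
  intro p hp hpm
  haveI := hp
  let q' : PrimeSpectrum Γ(X, W) :=
    ⟨p.comap (algebraMap Γ(X, W) (X.presheaf.stalk x)), inferInstance⟩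
  have hle : q' ≤ hW.primeIdealOf ⟨x, hxW⟩ := by
    intro a ha
    rw [LocalIso.mem_primeIdealOf_iff hW x hxW a]
    intro hu
    have h1 : algebraMap Γ(X, W) (X.presheaf.stalk x) a ∈ p := ha
    exact hp.ne_top (Ideal.eq_top_of_isUnit_mem _ h1 hu)
  have hne : q' ≠ hW.primeIdealOf ⟨x, hxW⟩ := by
    intro h
    apply hpm
    have h1 : Ideal.under Γ(X, W) p = (hW.primeIdealOf ⟨x, hxW⟩).asIdeal :=
      congrArg PrimeSpectrum.asIdeal h
    have h2 := IsLocalization.map_comap (hW.primeIdealOf ⟨x, hxW⟩).asIdeal.primeCompl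
      (X.presheaf.stalk x) p
    have h3 := IsLocalization.map_comap (hW.primeIdealOf ⟨x, hxW⟩).asIdeal.primeCompl
      (X.presheaf.stalk x) (IsLocalRing.maximalIdeal (X.presheaf.stalk x))
    have h4 : Ideal.under Γ(X, W) (IsLocalRing.maximalIdeal (X.presheaf.stalk x)) =
        (hW.primeIdealOf ⟨x, hxW⟩).asIdeal :=
      IsLocalization.AtPrime.comap_maximalIdeal (X.presheaf.stalk x)
        (hW.primeIdealOf ⟨x, hxW⟩).asIdeal
    rw [← h2, ← h3, h1, h4]
  have hzW : hW.fromSpec q' ∈ W := by
    have : hW.fromSpec q' ∈ Set.range hW.fromSpec := Set.mem_range_self _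
    rwa [hW.range_fromSpec] at this
  have hzx : hW.fromSpec q' ⤳ x := by
    have h1 : q' ⤳ hW.primeIdealOf ⟨x, hxW⟩ := (PrimeSpectrum.le_iff_specializes _ _).mp hle
    have h2 := h1.map hW.fromSpec.continuous
    rwa [hW.fromSpec_primeIdealOf ⟨x, hxW⟩] at h2
  have hzne : hW.fromSpec q' ≠ x := by
    intro h
    apply hne
    apply hW.fromSpec.isOpenEmbedding.injective
    rw [hW.fromSpec_primeIdealOf ⟨x, hxW⟩]
    exact h
  have locz := hW.isLocalization_stalk' q' hzW
  obtain ⟨r, s, hs, hrs⟩ := exists_fraction_of_mem_range (hW.fromSpec q') hzW q'.asIdeal locz g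
    (H _ hzx hzne)
  refine ⟨algebraMap Γ(X, W) (X.presheaf.stalk x) s, fun h => hs h,
    algebraMap Γ(X, W) (X.presheaf.stalk x) r, ?_⟩
  rw [← IsScalarTower.algebraMap_apply, ← IsScalarTower.algebraMap_apply]
  exact hrs

end Groth.Agent.Lib.Helper13.CDivLib
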