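import Mathlib
import Groth.Prelude.Def_CDiv
import Groth.Agent.Lib.Helper13.CDivLib

/-!
# Maximal points of closed subsets, and the locus where a divisor is effective
-/

universe u

open CategoryTheory AlgebraicGeometry TopologicalSpace

namespace Groth.Agent.Lib.Helper13.CDivLib

/-- In a quasi-sober `T0` space every point of a closed subset `Z` has a generization which is a
maximal point of `Z`. -/
theorem exists_maximal_generization {Y : Type*} [TopologicalSpace Y] [QuasiSober Y] [T0Space Y]
    (Z : Set Y) (hZ : IsClosed Z) (y : Y) (hy : y ∈ Z) :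
    ∃ x ∈ Z, x ⤳ y ∧ ∀ z ∈ Z, z ⤳ x → z = x := by
  let y' : Z := ⟨y, hy⟩
  have hC : IsIrreducible (irreducibleComponent y') := isIrreducible_irreducibleComponent
  have hCc : IsClosed (irreducibleComponent y') := isClosed_irreducibleComponent
  have hC' : IsIrreducible ((Subtype.val : Z → Y) '' irreducibleComponent y') :=
    hC.image _ continuous_subtype_val.continuousOn
  have hC'c : IsClosed ((Subtype.val : Z → Y) '' irreducibleComponent y') :=
    hZ.isClosedEmbedding_subtypeVal.isClosedMap _ hCc
  obtain ⟨x, hx⟩ := QuasiSober.sober hC' hC'c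
  have hxC' : x ∈ (Subtype.val : Z → Y) '' irreducibleComponent y' := hx.mem
  have hxZ : x ∈ Z := by
    obtain ⟨c, -, rfl⟩ := hxC'
    exact c.2
  have hyC' : y ∈ (Subtype.val : Z → Y) '' irreducibleComponent y' :=
    ⟨y', mem_irreducibleComponent, rfl⟩
  refine ⟨x, hxZ, ?_, ?_⟩
  · rw [specializes_iff_mem_closure, hx.def]
    exact hyC'
  · intro z hz hzx
    let z' : Z := ⟨z, hz⟩
    have hirr : IsPreirreducible (closure ({z'} : Set Z)) :=
      (isIrreducible_singleton.closure).isPreirreducible
    have hsub : irreducibleComponent y' ⊆ closure ({z'} : Set Z) := by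
      intro c hc
      rw [closure_subtype, Set.image_singleton]
      have h1 : (c : Y) ∈ closure ({x} : Set Y) := by
        rw [hx.def]
        exact ⟨c, hc, rfl⟩
      have h2 : closure ({x} : Set Y) ⊆ closure ({z} : Set Y) := by
        apply closure_minimal _ isClosed_closure
        rw [Set.singleton_subset_iff]
        exact specializes_iff_mem_closure.mp hzx
      exact h2 h1
    have heq := eq_irreducibleComponent hirr hsub
    have hz'C : z' ∈ irreducibleComponent y' := by
      rw [← heq]
      exact subset_closure rfl
    have hxz : x ⤳ z := by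
      rw [specializes_iff_mem_closure, hx.def]
      exact ⟨z', hz'C, rfl⟩
    exact (hzx.antisymm hxz).eq

open CDiv

variable {X : Scheme.{u}} [IsIntegral X]

/-- effectivity at a point in terms of a local equation -/
theorem isEffectiveAt_iff (D : Divisor X) (x : X) (f : KUnits X) (h : D.1 x = germOf X x f) :
    IsEffectiveAt D x ↔
      (f : X.functionField) ∈ Set.range (algebraMap (X.presheaf.stalk x) X.functionField) := by
  constructor
  · rintro ⟨a, ha, hD⟩
    rw [h] at hD
    have h1 : f⁻¹ * Units.mk0 _ ha ∈ stalkUnits X x := QuotientGroup.eq.mp hD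
    obtain ⟨u, hu⟩ := h1
    refine ⟨a * ((u⁻¹ : (X.presheaf.stalk x)ˣ) : X.presheaf.stalk x), ?_⟩
    have h2 : algebraMap (X.presheaf.stalk x) X.functionField (u : X.presheaf.stalk x) =
        ((f⁻¹ : KUnits X) : X.functionField) *
          algebraMap (X.presheaf.stalk x) X.functionField a := by
      have := congrArg Units.val hu
      simpa using this
    have h3 : algebraMap (X.presheaf.stalk x) X.functionField
        ((u⁻¹ : (X.presheaf.stalk x)ˣ) : X.presheaf.stalk x) *
        algebraMap (X.presheaf.stalk x) X.functionField (u : X.presheaf.stalk x) = 1 := by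
      rw [← map_mul, Units.inv_mul, map_one]
    rw [map_mul]
    have hf : (f : X.functionField) ≠ 0 := f.ne_zero
    have h4 : ((f⁻¹ : KUnits X) : X.functionField) = (f : X.functionField)⁻¹ := by
      simp
    rw [h4] at h2
    have h5 : algebraMap (X.presheaf.stalk x) X.functionField a =
        (f : X.functionField) *
          algebraMap (X.presheaf.stalk x) X.functionField (u : X.presheaf.stalk x) := by
      rw [h2, ← mul_assoc, mul_inv_cancel₀ hf, one_mul]
    rw [h5, mul_assoc, mul_comm (algebraMap (X.presheaf.stalk x) X.functionField _), h3, mul_one]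
  · rintro ⟨a, ha⟩
    have ha' : algebraMap (X.presheaf.stalk x) X.functionField a ≠ 0 := by
      rw [ha]; exact f.ne_zero
    refine ⟨a, ha', ?_⟩
    rw [h]
    congr 1
    apply Units.ext
    exact ha.symm

/-- the locus where a divisor is effective is open -/
theorem isOpen_setOf_isEffectiveAt (D : Divisor X) : IsOpen {x : X | IsEffectiveAt D x} := by
  rw [isOpen_iff_forall_mem_open]
  intro x hx
  obtain ⟨U, f, hxU, hU⟩ := D.2 x
  refine ⟨(U : Set X) ∩ {z : X | (f : X.functionField) ∈
      Set.range (algebraMap (X.presheaf.stalk z) X.functionField)}, ?_,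
    U.isOpen.inter (isOpen_setOf_mem_range _), ⟨hxU, ?_⟩⟩
  · rintro z ⟨hzU, hz⟩
    exact (isEffectiveAt_iff D z f (hU z hzU)).mpr hz
  · exact (isEffectiveAt_iff D x f (hU x hxU)).mp hx

end Groth.Agent.Lib.Helper13.CDivLib
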