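import Mathlib
import Groth.Prelude.Def_CAlg
import Groth.Agent.S5752
import Groth.Agent.S0320

/-!
# A normal Noetherian local domain of depth one is a discrete valuation ring
-/

universe u

namespace Groth.Agent.Lib.Helper13.DepthOne

open IsLocalRing

/-- A Noetherian local domain of depth one carries a "pole at the closed point": an element `g` of
the fraction field, not in `A`, with `g • m ⊆ A`. -/
theorem exists_pole_of_depth_eq_one {A : Type u} [CommRing A] [IsDomain A] [IsLocalRing A]
    [IsNoetherianRing A] {K : Type*} [Field K] [Algebra A K] [IsFractionRing A K]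
    (h : LocCoh.depth A A = 1) :
    maximalIdeal A ≠ ⊥ ∧ ∃ g : K, g ∉ Set.range (algebraMap A K) ∧
      ∀ c ∈ maximalIdeal A, ∃ r : A, algebraMap A K c * g = algebraMap A K r := by
  classical
  have hne : maximalIdeal A ≠ ⊥ := by
    intro hbot
    have h0 : LocCoh.depth A A = 0 := by
      rw [Groth.Agent.S5752.result A A]
      refine (isAssociatedPrime_iff).mpr ⟨inferInstance, 1, ?_⟩
      rw [hbot]
      ext r
      rw [Submodule.mem_colon_singleton]
      simp
    rw [h0] at h
    exact zero_ne_one h
  refine ⟨hne, ?_⟩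
  obtain ⟨b, hbm, hb0⟩ := Submodule.exists_mem_ne_zero_of_ne_bot hne
  have hbK : algebraMap A K b ≠ 0 := by
    intro h
    exact hb0 (IsFractionRing.injective A K (by rw [h, map_zero]))
  have hIM : maximalIdeal A • (⊤ : Submodule A A) ≠ ⊤ := by
    rw [Ideal.smul_top_eq_map, Algebra.algebraMap_self, Ideal.map_id]
    intro h
    have h1 : (1 : A) ∈ Submodule.restrictScalars A (maximalIdeal A) := by rw [h]; trivial
    exact (Ideal.ne_top_iff_one _).mp (IsLocalRing.maximalIdeal.isMaximal A).ne_top h1
  have hreg : IsSMulRegular A b := by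
    intro x y hxy
    exact mul_left_cancel₀ hb0 hxy
  have h1 := Groth.Agent.S0320.result A (maximalIdeal A) A hIM b hbm hreg
  let M := QuotSMulTop b A
  have h0 : LocCoh.depth A M = 0 := by
    change LocCoh.idealDepth (maximalIdeal A) A = 1 at h
    rw [h] at h1
    change LocCoh.idealDepth (maximalIdeal A) M = 0
    generalize LocCoh.idealDepth (maximalIdeal A) M = d at h1
    cases d using ENat.recTopCoe with
    | top => simp at h1
    | coe n =>
      have : n + 1 = 1 := by exact_mod_cast h1
      have : n = 0 := by omega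
      rw [this]; rfl
  have hass := (Groth.Agent.S5752.result A M).mp h0
  obtain ⟨-, m, hm⟩ := (isAssociatedPrime_iff).mp hass
  let π : A →ₗ[A] M := Submodule.mkQ _
  have hπ : ∀ c : A, π c = 0 ↔ ∃ r, c = r * b := by
    intro c
    change Submodule.Quotient.mk c = 0 ↔ _
    rw [Submodule.Quotient.mk_eq_zero, Submodule.mem_smul_pointwise_iff_exists]
    constructor
    · rintro ⟨r, -, hr⟩
      exact ⟨r, by rw [← hr, smul_eq_mul, mul_comm]⟩
    · rintro ⟨r, hr⟩
      exact ⟨r, trivial, by rw [hr, smul_eq_mul, mul_comm]⟩
  obtain ⟨a, rfl⟩ : ∃ a, π a = m := Submodule.mkQ_surjective _ m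
  have hmem : ∀ c : A, c ∈ maximalIdeal A ↔ ∃ r, c * a = r * b := by
    intro c
    rw [hm, Submodule.mem_colon_singleton, Submodule.mem_bot, ← map_smul, smul_eq_mul, hπ]
  let g : K := algebraMap A K a / algebraMap A K b
  have hkey : ∀ c : A, (∃ r, c * a = r * b) ↔ ∃ r, algebraMap A K c * g = algebraMap A K r := by
    intro c
    constructor
    · rintro ⟨r, hr⟩
      refine ⟨r, ?_⟩
      change algebraMap A K c * (algebraMap A K a / algebraMap A K b) = _
      rw [mul_div_assoc', ← map_mul, hr, map_mul, mul_div_assoc, div_self hbK, mul_one]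
    · rintro ⟨r, hr⟩
      refine ⟨r, ?_⟩
      apply IsFractionRing.injective A K
      rw [map_mul, map_mul, ← hr]
      change _ = algebraMap A K c * (algebraMap A K a / algebraMap A K b) * _
      rw [mul_assoc, div_mul_cancel₀ _ hbK]
  refine ⟨g, ?_, ?_⟩
  · rintro ⟨r, hr⟩
    have h2 : (1 : A) ∈ maximalIdeal A := by
      rw [hmem, hkey]
      exact ⟨r, by rw [map_one, one_mul, hr]⟩
    exact (Ideal.ne_top_iff_one _).mp (IsLocalRing.maximalIdeal.isMaximal A).ne_top h2
  · intro c hc
    exact (hkey c).mp ((hmem c).mp hc)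

/-- A normal Noetherian local domain of depth one is a discrete valuation ring. -/
theorem isDiscreteValuationRing_of_depth_eq_one {A : Type u} [CommRing A] [IsDomain A]
    [IsLocalRing A] [IsNoetherianRing A] [IsIntegrallyClosed A]
    (h : LocCoh.depth A A = 1) : IsDiscreteValuationRing A := by
  classical
  obtain ⟨hne, g, hg, hgm⟩ := exists_pole_of_depth_eq_one (K := FractionRing A) h
  have hfield : ¬ IsField A := fun hf => hne (isField_iff_maximalIdeal_eq.mp hf)
  apply ((IsDiscreteValuationRing.TFAE A hfield).out 4 0).mp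
  by_cases hcase : ∃ c ∈ maximalIdeal A, ∃ u : A, IsUnit u ∧
      algebraMap A (FractionRing A) c * g = algebraMap A (FractionRing A) u
  · obtain ⟨c, hc, u, hu, hcu⟩ := hcase
    refine ⟨c, ?_⟩
    apply le_antisymm
    · intro d hd
      obtain ⟨r, hr⟩ := hgm d hd
      obtain ⟨v, hv⟩ := hu.exists_right_inv
      have h1 : d * u = r * c := by
        apply IsFractionRing.injective A (FractionRing A)
        rw [map_mul, map_mul, ← hcu, ← hr]
        ring
      rw [Ideal.submodule_span_eq, Ideal.mem_span_singleton']
      refine ⟨r * v, ?_⟩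
      calc r * v * c = (r * c) * v := by ring
        _ = d * u * v := by rw [h1]
        _ = d := by rw [mul_assoc, hv, mul_one]
    · rw [Ideal.submodule_span_eq, Ideal.span_singleton_le_iff_mem]
      exact hc
  · exfalso
    apply hg
    push_neg at hcase
    have hstab : ∀ c ∈ maximalIdeal A, ∀ r : A,
        algebraMap A (FractionRing A) c * g = algebraMap A (FractionRing A) r →
          r ∈ maximalIdeal A := by
      intro c hc r hr
      rw [mem_maximalIdeal, mem_nonunits_iff]
      intro hu
      exact hcase c hc r hu hr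
    let N : Submodule A (FractionRing A) :=
      Submodule.map (Algebra.linearMap A (FractionRing A)) (maximalIdeal A)
    have hN : N ≠ ⊥ := by
      intro hbot
      apply hne
      rw [eq_bot_iff]
      intro x hx
      have h1 : Algebra.linearMap A (FractionRing A) x ∈ N := ⟨x, hx, rfl⟩
      rw [hbot, Submodule.mem_bot, Algebra.linearMap_apply] at h1
      rw [Submodule.mem_bot]
      exact IsFractionRing.injective A (FractionRing A) (by rw [h1, map_zero])
    have hN' : N.FG := (IsNoetherian.noetherian (maximalIdeal A)).map _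
    have hint : IsIntegral A g := by
      apply isIntegral_of_smul_mem_submodule N hN hN' g
      rintro n ⟨c, hc, rfl⟩
      obtain ⟨r, hr⟩ := hgm c hc
      refine ⟨r, hstab c hc r hr, ?_⟩
      rw [Algebra.linearMap_apply, Algebra.linearMap_apply, smul_eq_mul, mul_comm, hr]
    obtain ⟨r, hr⟩ := IsIntegrallyClosed.isIntegral_iff.mp hint
    exact ⟨r, hr⟩

end Groth.Agent.Lib.Helper13.DepthOne
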