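import Mathlib
import Groth.Prelude.Def_CDiv
import Groth.Agent.Lib.Helper13.CDivLib
import Groth.Agent.Lib.Helper13.DepthOneDvr

/-!
# Orders of vanishing at points whose local ring is a discrete valuation ring
-/

universe u

open CategoryTheory AlgebraicGeometry TopologicalSpace

namespace Groth.Agent.Lib.Helper13.CDivLib

open CDiv

variable {X : Scheme.{u}} [IsIntegral X]

theorem coheight_eq_one_of_dvr (x : X) [IsDiscreteValuationRing (X.presheaf.stalk x)] :
    Order.coheight x = 1 := by
  have h1 := ringKrullDim_stalk_eq_coheight x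
  rw [IsDiscreteValuationRing.ringKrullDim_eq_one] at h1
  have h2 : ((1 : ℕ∞) : WithBot ℕ∞) = ((Order.coheight x : ℕ∞) : WithBot ℕ∞) := by
    exact_mod_cast h1
  exact (WithBot.coe_injective h2).symm

theorem ordFrac_eq_one_of_le_of_inv {G : Type*} [LinearOrderedCommGroupWithZero G] (a : G)
    (h1 : 1 ≤ a) (h2 : 1 ≤ a⁻¹) : a = 1 := by
  have ha : a ≠ 0 := by
    rintro rfl
    simp at h1
  apply le_antisymm _ h1
  have hpos : 0 < a := lt_of_lt_of_le zero_lt_one h1
  have := mul_le_mul_of_nonneg_left h2 hpos.le
  rwa [mul_one, mul_inv_cancel₀ ha] at this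

theorem mem_range_of_ord_nonneg [IsLocallyNoetherian X] (x : X)
    [IsDiscreteValuationRing (X.presheaf.stalk x)] (hx : Order.coheight x = 1)
    (f : X.functionField) (hf : f ≠ 0) (h : 0 ≤ Scheme.ord f x) :
    f ∈ Set.range (algebraMap (X.presheaf.stalk x) X.functionField) := by
  rw [Scheme.le_ord_iff hx hf] at h
  have : Ring.KrullDimLE 1 (X.presheaf.stalk x) := krullDimLE_of_coheight_le hx.le
  change _ ≤ Ring.ordFrac (X.presheaf.stalk x) f at h
  have h' : (1 : WithZero (Multiplicative ℤ)) ≤ Ring.ordFrac (X.presheaf.stalk x) f := by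
    simpa using h
  rcases ValuationRing.isInteger_or_isInteger (X.presheaf.stalk x) f with ⟨a, ha⟩ | ⟨c, hc⟩
  · exact ⟨a, ha⟩
  · have hc0 : c ≠ 0 := by
      rintro rfl
      rw [map_zero] at hc
      exact hf (inv_eq_zero.mp hc.symm)
    have h1 := Ring.ordFrac_ge_one_of_ne_zero (K := X.functionField) hc0
    rw [hc, map_inv₀] at h1
    have h2 := ordFrac_eq_one_of_le_of_inv _ h' h1
    have h3 : Ring.ordFrac (X.presheaf.stalk x)
        (algebraMap (X.presheaf.stalk x) X.functionField c) = 1 := by
      rw [hc, map_inv₀, h2, inv_one]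
    have hu : IsUnit c := Ring.isUnit_iff_ordFrac_one_of_isDiscreteValuationRing.mpr h3
    obtain ⟨d, hd⟩ := hu.exists_right_inv
    refine ⟨d, ?_⟩
    have h4 : algebraMap (X.presheaf.stalk x) X.functionField c *
        algebraMap (X.presheaf.stalk x) X.functionField d = 1 := by
      rw [← map_mul, hd, map_one]
    rw [hc] at h4
    calc algebraMap (X.presheaf.stalk x) X.functionField d
        = f * (f⁻¹ * algebraMap (X.presheaf.stalk x) X.functionField d) := by
          rw [← mul_assoc, mul_inv_cancel₀ hf, one_mul]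
      _ = f := by rw [h4, mul_one]

theorem ord_nonneg_of_mem_range [IsLocallyNoetherian X] (x : X) (hx : Order.coheight x = 1)
    (f : X.functionField) (hf : f ≠ 0)
    (h : f ∈ Set.range (algebraMap (X.presheaf.stalk x) X.functionField)) :
    0 ≤ Scheme.ord f x := by
  rw [Scheme.le_ord_iff hx hf]
  have : Ring.KrullDimLE 1 (X.presheaf.stalk x) := krullDimLE_of_coheight_le hx.le
  change _ ≤ Ring.ordFrac (X.presheaf.stalk x) f
  obtain ⟨a, rfl⟩ := h
  have ha : a ≠ 0 := by
    rintro rfl
    exact hf (map_zero _)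
  have h1 := Ring.ordFrac_ge_one_of_ne_zero (K := X.functionField) ha
  simpa using h1

theorem mem_stalkUnits_of_ord_eq_zero [IsLocallyNoetherian X] (x : X)
    [IsDiscreteValuationRing (X.presheaf.stalk x)] (hx : Order.coheight x = 1)
    (f : KUnits X) (h : Scheme.ord (f : X.functionField) x = 0) :
    f ∈ stalkUnits X x := by
  rw [mem_stalkUnits_iff]
  constructor
  · exact mem_range_of_ord_nonneg x hx _ f.ne_zero h.ge
  · apply mem_range_of_ord_nonneg x hx _ (f⁻¹).ne_zero
    have h1 : ((f : X.functionField) * ((f⁻¹ : KUnits X) : X.functionField)) = 1 := by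
      rw [← Units.val_mul, mul_inv_cancel, Units.val_one]
    have h2 := Scheme.ord_mul (x := x) f.ne_zero (f⁻¹).ne_zero
    rw [h1, h] at h2
    have h3 : Scheme.ord (1 : X.functionField) x = 0 := by
      have := Scheme.ord_mul (x := x) (one_ne_zero (α := X.functionField)) one_ne_zero
      rw [one_mul] at this
      omega
    omega

/-- at a point of depth one of a normal scheme the local ring is a discrete valuation ring -/
theorem isDiscreteValuationRing_stalk_of_depth_eq_one [IsLocallyNoetherian X] (x : X)
    (hn : IsIntegrallyClosed (X.presheaf.stalk x))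
    (h : LocCoh.depth (X.presheaf.stalk x) (X.presheaf.stalk x) = 1) :
    IsDiscreteValuationRing (X.presheaf.stalk x) :=
  DepthOne.isDiscreteValuationRing_of_depth_eq_one h

end Groth.Agent.Lib.Helper13.CDivLib
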