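import Mathlib
import Groth.Prelude.Def_CDiv
import Groth.Prelude.Def_Pi1
import Groth.Agent.Lib.Helper13.CDivLib
import Groth.Agent.Lib.Helper13.CDivMax
import Groth.Agent.Lib.Helper13.CDivOrd
import Groth.Agent.Lib.Helper13.CDivDepth

/-!
# Normal integral schemes: local rings as intersections of the discrete valuation rings at the
points of codimension one
-/

universe u

open CategoryTheory AlgebraicGeometry TopologicalSpace

namespace Groth.Agent.Lib.Helper13.CDivLib

open CDiv

variable {X : Scheme.{u}} [IsIntegral X]

theorem algebraMap_stalkSpecializes {x z : X} (h : z ⤳ x) (c : X.presheaf.stalk x) :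
    algebraMap (X.presheaf.stalk z) X.functionField ((X.presheaf.stalkSpecializes h).hom c) =
      algebraMap (X.presheaf.stalk x) X.functionField c := by
  simp only [RingHom.algebraMap_toAlgebra]
  rw [← CommRingCat.comp_apply, TopCat.Presheaf.stalkSpecializes_comp]

theorem range_mono {x z : X} (h : z ⤳ x) :
    Set.range (algebraMap (X.presheaf.stalk x) X.functionField) ⊆
      Set.range (algebraMap (X.presheaf.stalk z) X.functionField) := by
  rintro _ ⟨c, rfl⟩
  exact ⟨_, algebraMap_stalkSpecializes h c⟩

theorem isDiscreteValuationRing_of_coheight_eq_one [IsLocallyNoetherian X] (z : X)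
    (hn : IsIntegrallyClosed (X.presheaf.stalk z)) (hz : Order.coheight z = 1) :
    IsDiscreteValuationRing (X.presheaf.stalk z) := by
  have hdim : ringKrullDim (X.presheaf.stalk z) = 1 := by
    rw [ringKrullDim_stalk_eq_coheight, hz]; rfl
  have hle : Ring.KrullDimLE 1 (X.presheaf.stalk z) := krullDimLE_of_coheight_le hz.le
  have hfield : ¬ IsField (X.presheaf.stalk z) := by
    intro hf
    rw [ringKrullDim_eq_zero_of_isField hf] at hdim
    exact zero_ne_one hdim
  apply ((IsDiscreteValuationRing.TFAE (X.presheaf.stalk z) hfield).out 3 0).mp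
  refine ⟨hn, IsLocalRing.maximalIdeal _, ⟨?_, inferInstance⟩, ?_⟩
  · exact fun h => hfield (IsLocalRing.isField_iff_maximalIdeal_eq.mpr h)
  · rintro P ⟨hP0, hP⟩
    exact IsLocalRing.eq_maximalIdeal (hP.isMaximal_of_ne_bot hP0)

theorem ord_one [IsLocallyNoetherian X] (z : X) : Scheme.ord (1 : X.functionField) z = 0 := by
  have := Scheme.ord_mul (x := z) (one_ne_zero (α := X.functionField)) one_ne_zero
  rw [one_mul] at this
  omega

theorem ord_inv [IsLocallyNoetherian X] (z : X) (f : KUnits X) :
    Scheme.ord ((f⁻¹ : KUnits X) : X.functionField) z = - Scheme.ord (f : X.functionField) z := by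
  have h1 : ((f : X.functionField) * ((f⁻¹ : KUnits X) : X.functionField)) = 1 := by
    rw [← Units.val_mul, mul_inv_cancel, Units.val_one]
  have h2 := Scheme.ord_mul (x := z) f.ne_zero (f⁻¹).ne_zero
  rw [h1, ord_one] at h2
  omega

theorem ord_eq_zero_of_mem_stalkUnits [IsLocallyNoetherian X] (z : X)
    (hz : Order.coheight z = 1) (f : KUnits X) (h : f ∈ stalkUnits X z) :
    Scheme.ord (f : X.functionField) z = 0 := by
  rw [mem_stalkUnits_iff] at h
  have h1 := ord_nonneg_of_mem_range z hz _ f.ne_zero h.1
  have h2 := ord_nonneg_of_mem_range z hz _ (f⁻¹).ne_zero h.2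
  rw [ord_inv] at h2
  omega

/-- local Hartogs: on a normal scheme a rational function which is regular at all generizations
of codimension one of `x` is regular at `x`. -/
theorem mem_range_of_forall_codim_one [IsLocallyNoetherian X] (hX : Pi1.IsNormalScheme X) (x : X)
    (g : X.functionField)
    (H : ∀ z : X, z ⤳ x → Order.coheight z = 1 →
      g ∈ Set.range (algebraMap (X.presheaf.stalk z) X.functionField)) :
    g ∈ Set.range (algebraMap (X.presheaf.stalk x) X.functionField) := by
  by_contra hx
  have hclosed : IsClosed {y : X | g ∉ Set.range (algebraMap (X.presheaf.stalk y) X.functionField)} :=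
    (isOpen_setOf_mem_range g).isClosed_compl
  obtain ⟨z, hzN, hzx, hmax⟩ := exists_maximal_generization _ hclosed x hx
  have hdepth : LocCoh.depth (X.presheaf.stalk z) (X.presheaf.stalk z) = 1 := by
    apply depth_stalk_eq_one_of_pole z g hzN
    intro y hyz hyne
    by_contra hy
    exact hyne (hmax y hy hyz)
  haveI := isDiscreteValuationRing_stalk_of_depth_eq_one z (hX z).2 hdepth
  exact hzN (H z hzx (coheight_eq_one_of_dvr z))

theorem mem_range_of_forall_ord_nonneg [IsLocallyNoetherian X] (hX : Pi1.IsNormalScheme X)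
    (x : X) (g : X.functionField) (hg : g ≠ 0)
    (H : ∀ z : X, z ⤳ x → Order.coheight z = 1 → 0 ≤ Scheme.ord g z) :
    g ∈ Set.range (algebraMap (X.presheaf.stalk x) X.functionField) := by
  apply mem_range_of_forall_codim_one hX x g
  intro z hzx hz
  haveI := isDiscreteValuationRing_of_coheight_eq_one z (hX z).2 hz
  exact mem_range_of_ord_nonneg z hz g hg (H z hzx hz)

theorem mem_stalkUnits_of_forall_ord_eq_zero [IsLocallyNoetherian X]
    (hX : Pi1.IsNormalScheme X) (x : X) (f : KUnits X)
    (H : ∀ z : X, z ⤳ x → Order.coheight z = 1 → Scheme.ord (f : X.functionField) z = 0) :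
    f ∈ stalkUnits X x := by
  rw [mem_stalkUnits_iff]
  constructor
  · exact mem_range_of_forall_ord_nonneg hX x _ f.ne_zero (fun z hzx hz => (H z hzx hz).ge)
  · apply mem_range_of_forall_ord_nonneg hX x _ (f⁻¹).ne_zero
    intro z hzx hz
    rw [ord_inv, H z hzx hz]
    simp

end Groth.Agent.Lib.Helper13.CDivLib
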