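import Mathlib
import Groth.Prelude.Def_CDiv
import Groth.Prelude.Def_Pi1
import Groth.Agent.Lib.Helper13.CDivFact

/-!
# If every prime cycle of codimension one is a divisor, the local rings are factorial
-/

universe u

open CategoryTheory AlgebraicGeometry TopologicalSpace

namespace Groth.Agent.Lib.Helper13.CDivLib

open CDiv

variable {X : Scheme.{u}} [IsIntegral X]

theorem algebraMap_ne_zero (x : X) {a : X.presheaf.stalk x} (ha : a ≠ 0) :
    algebraMap (X.presheaf.stalk x) X.functionField a ≠ 0 := by
  intro h
  apply ha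
  apply IsFractionRing.injective (X.presheaf.stalk x) X.functionField
  rw [h, map_zero]

theorem ord_algebraMap_nonneg [IsLocallyNoetherian X] {x z : X} (hzx : z ⤳ x)
    (hz : Order.coheight z = 1) {a : X.presheaf.stalk x} (ha : a ≠ 0) :
    0 ≤ Scheme.ord (algebraMap (X.presheaf.stalk x) X.functionField a) z :=
  ord_nonneg_of_mem_range z hz _ (algebraMap_ne_zero x ha) (range_mono hzx ⟨a, rfl⟩)

/-- a local equation at `x` of the prime cycle of a point `z` of codimension one -/
structure IsPrimeEquation [IsLocallyNoetherian X] (x z : X) (f : X.functionField) : Prop where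
  ne_zero : f ≠ 0
  ord_self : Scheme.ord f z = 1
  ord_other : ∀ z' : X, z' ⤳ x → Order.coheight z' = 1 → z' ≠ z → Scheme.ord f z' = 0

theorem IsPrimeEquation.mem_range [IsLocallyNoetherian X] (hX : Pi1.IsNormalScheme X)
    {x z : X} {f : X.functionField} (h : IsPrimeEquation x z f) :
    f ∈ Set.range (algebraMap (X.presheaf.stalk x) X.functionField) := by
  apply mem_range_of_forall_ord_nonneg hX x f h.ne_zero
  intro z' hz'x hz'
  by_cases hzz : z' = z
  · rw [hzz, h.ord_self]; exact zero_le_one
  · rw [h.ord_other z' hz'x hz' hzz]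

/-- divisibility by a prime equation is detected by the order at the corresponding point -/
theorem IsPrimeEquation.dvd_of_ord_pos [IsLocallyNoetherian X] (hX : Pi1.IsNormalScheme X)
    {x z : X} (hzx : z ⤳ x) (hz : Order.coheight z = 1) {p : X.presheaf.stalk x}
    (h : IsPrimeEquation x z (algebraMap (X.presheaf.stalk x) X.functionField p))
    {a : X.presheaf.stalk x} (ha : a ≠ 0)
    (hord : 1 ≤ Scheme.ord (algebraMap (X.presheaf.stalk x) X.functionField a) z) :
    p ∣ a := by
  have hp0 := h.ne_zero
  have ha0 := algebraMap_ne_zero x ha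
  let fp : KUnits X := Units.mk0 _ hp0
  have hg0 : algebraMap (X.presheaf.stalk x) X.functionField a *
      ((fp⁻¹ : KUnits X) : X.functionField) ≠ 0 := mul_ne_zero ha0 (fp⁻¹).ne_zero
  have hmem : algebraMap (X.presheaf.stalk x) X.functionField a *
      ((fp⁻¹ : KUnits X) : X.functionField) ∈
        Set.range (algebraMap (X.presheaf.stalk x) X.functionField) := by
    apply mem_range_of_forall_ord_nonneg hX x _ hg0
    intro z' hz'x hz'
    rw [Scheme.ord_mul ha0 (fp⁻¹).ne_zero, ord_inv]
    change 0 ≤ _ + - Scheme.ord (algebraMap (X.presheaf.stalk x) X.functionField p) z'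
    by_cases hzz : z' = z
    · rw [hzz, h.ord_self]
      omega
    · rw [h.ord_other z' hz'x hz' hzz]
      have := ord_algebraMap_nonneg hz'x hz' ha
      omega
  obtain ⟨b, hb⟩ := hmem
  refine ⟨b, ?_⟩
  apply IsFractionRing.injective (X.presheaf.stalk x) X.functionField
  rw [map_mul, hb]
  change _ = algebraMap (X.presheaf.stalk x) X.functionField p *
    (_ * ((fp : X.functionField))⁻¹)
  rw [mul_comm (algebraMap (X.presheaf.stalk x) X.functionField a), ← mul_assoc]
  change _ = algebraMap (X.presheaf.stalk x) X.functionField p *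
    (algebraMap (X.presheaf.stalk x) X.functionField p)⁻¹ * _
  rw [mul_inv_cancel₀ hp0, one_mul]

theorem IsPrimeEquation.not_isUnit [IsLocallyNoetherian X]
    {x z : X} (hzx : z ⤳ x) (hz : Order.coheight z = 1) {p : X.presheaf.stalk x}
    (h : IsPrimeEquation x z (algebraMap (X.presheaf.stalk x) X.functionField p)) :
    ¬ IsUnit p := by
  intro hu
  obtain ⟨q, hq⟩ := hu.exists_right_inv
  have hp0 := h.ne_zero
  have hq0 : q ≠ 0 := by
    rintro rfl
    rw [mul_zero] at hq
    exact zero_ne_one hq
  have h1 := ord_algebraMap_nonneg hzx hz hq0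
  have h2 : algebraMap (X.presheaf.stalk x) X.functionField p *
      algebraMap (X.presheaf.stalk x) X.functionField q = 1 := by
    rw [← map_mul, hq, map_one]
  have h3 := Scheme.ord_mul (x := z) hp0 (algebraMap_ne_zero x hq0)
  rw [h2, ord_one, h.ord_self] at h3
  omega

theorem IsPrimeEquation.prime [IsLocallyNoetherian X] (hX : Pi1.IsNormalScheme X)
    {x z : X} (hzx : z ⤳ x) (hz : Order.coheight z = 1) {p : X.presheaf.stalk x}
    (h : IsPrimeEquation x z (algebraMap (X.presheaf.stalk x) X.functionField p)) :
    Prime p := by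
  have hp0 : p ≠ 0 := by
    rintro rfl
    exact h.ne_zero (map_zero _)
  refine ⟨hp0, h.not_isUnit hzx hz, ?_⟩
  intro b c hbc
  by_cases hb : b = 0
  · left; rw [hb]; exact dvd_zero _
  by_cases hc : c = 0
  · right; rw [hc]; exact dvd_zero _
  obtain ⟨d, hd⟩ := hbc
  have hd0 : d ≠ 0 := by
    rintro rfl
    rw [mul_zero] at hd
    exact (mul_ne_zero hb hc) hd
  have h1 := Scheme.ord_mul (x := z) (algebraMap_ne_zero x hb) (algebraMap_ne_zero x hc)
  have h2 := Scheme.ord_mul (x := z) h.ne_zero (algebraMap_ne_zero x hd0)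
  rw [← map_mul, hd, map_mul, h2, h.ord_self] at h1
  have hb' := ord_algebraMap_nonneg hzx hz hb
  have hc' := ord_algebraMap_nonneg hzx hz hc
  have hd' := ord_algebraMap_nonneg hzx hz hd0
  by_cases hb1 : 1 ≤ Scheme.ord (algebraMap (X.presheaf.stalk x) X.functionField b) z
  · left; exact h.dvd_of_ord_pos hX hzx hz hb hb1
  · right
    apply h.dvd_of_ord_pos hX hzx hz hc
    omega

/-- If every prime cycle of codimension one on the normal scheme `X` is the cycle of a divisor,
then the local rings of `X` are factorial. -/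
theorem ufm_stalk_of_prime_cycles [IsLocallyNoetherian X] (hX : Pi1.IsNormalScheme X)
    (Hdiv : ∀ x₀ : X, Order.coheight x₀ = 1 → ∃ D : Divisor X,
        (∀ f : KUnits X, D.1 x₀ = germOf X x₀ f → Scheme.ord (f : X.functionField) x₀ = 1) ∧
          ∀ x : X, x ≠ x₀ → Order.coheight x = 1 → ∀ f : KUnits X, D.1 x = germOf X x f →
            Scheme.ord (f : X.functionField) x = 0) (x : X) :
    UniqueFactorizationMonoid (X.presheaf.stalk x) := by
  have hexists : ∀ z : X, z ⤳ x → Order.coheight z = 1 → ∃ p : X.presheaf.stalk x,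
      IsPrimeEquation x z (algebraMap (X.presheaf.stalk x) X.functionField p) := by
    intro z hzx hz
    obtain ⟨D, h1, h2⟩ := Hdiv z hz
    obtain ⟨U, f, hxU, hU⟩ := D.2 x
    have hzU : z ∈ U := hzx.mem_open U.isOpen hxU
    have hf : IsPrimeEquation x z (f : X.functionField) := by
      refine ⟨f.ne_zero, h1 f (hU z hzU), ?_⟩
      intro z' hz'x hz' hne
      exact h2 z' hne hz' f (hU z' (hz'x.mem_open U.isOpen hxU))
    obtain ⟨p, hp⟩ := hf.mem_range hX
    exact ⟨p, by rw [hp]; exact hf⟩
  have key : ∀ a : X.presheaf.stalk x, Irreducible a → Prime a := by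
    intro a ha
    have ha0 : a ≠ 0 := ha.ne_zero
    have haK := algebraMap_ne_zero x ha0
    let fa : KUnits X := Units.mk0 _ haK
    have hnot : ((fa⁻¹ : KUnits X) : X.functionField) ∉
        Set.range (algebraMap (X.presheaf.stalk x) X.functionField) := by
      rintro ⟨b, hb⟩
      apply ha.not_isUnit
      refine IsUnit.of_mul_eq_one b ?_
      apply IsFractionRing.injective (X.presheaf.stalk x) X.functionField
      rw [map_mul, hb, map_one]
      change (fa : X.functionField) * _ = 1
      rw [← Units.val_mul, mul_inv_cancel, Units.val_one]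
    have hex : ∃ z : X, z ⤳ x ∧ Order.coheight z = 1 ∧
        1 ≤ Scheme.ord (algebraMap (X.presheaf.stalk x) X.functionField a) z := by
      by_contra hcon
      push_neg at hcon
      apply hnot
      apply mem_range_of_forall_ord_nonneg hX x _ (fa⁻¹).ne_zero
      intro z hzx hz
      rw [ord_inv]
      have h1 := hcon z hzx hz
      have h2 := ord_algebraMap_nonneg hzx hz ha0
      change 0 ≤ - Scheme.ord (algebraMap (X.presheaf.stalk x) X.functionField a) z
      omega
    obtain ⟨z, hzx, hz, hord⟩ := hex
    obtain ⟨p, hp⟩ := hexists z hzx hz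
    obtain ⟨b, hb⟩ := hp.dvd_of_ord_pos hX hzx hz ha0 hord
    have hpprime := hp.prime hX hzx hz
    rcases ha.isUnit_or_isUnit hb with hu | hu
    · exact absurd hu hpprime.not_unit
    · rw [hb]
      obtain ⟨u, rfl⟩ := hu
      exact (associated_mul_unit_right p u u.isUnit).prime hpprime
  exact { (inferInstance : IsCancelMulZero (X.presheaf.stalk x)),
          (inferInstance : WfDvdMonoid (X.presheaf.stalk x)) with
          irreducible_iff_prime := fun {a} => ⟨key a, Prime.irreducible⟩ }

end Groth.Agent.Lib.Helper13.CDivLib
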