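import Mathlib
import Groth.Prelude.Def_CDiv
import Groth.Prelude.Def_Pi1
import Groth.Agent.Lib.Helper13.CDivFact2
import Groth.Agent.Lib.Helper13.LocalIso2

/-!
# Local equations of prime cycles of codimension one at factorial points
-/

universe u

open CategoryTheory AlgebraicGeometry TopologicalSpace

namespace Groth.Agent.Lib.Helper13.CDivLib

open CDiv

variable {X : Scheme.{u}} [IsIntegral X]

theorem exists_affine_nhd (x : X) : ∃ W : X.Opens, IsAffineOpen W ∧ x ∈ W := by
  obtain ⟨_, ⟨V, hV, rfl⟩, hxV, -⟩ := X.isBasis_affineOpens.exists_subset_of_mem_open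
    (Set.mem_univ x) isOpen_univ
  exact ⟨V, hV, hxV⟩

/-- elements of the local ring of a generization `z` of `x` are fractions of elements of the local
ring of `x` with denominator invertible at `z` -/
theorem exists_fraction_stalk {x z : X} (hzx : z ⤳ x) (g : X.functionField)
    (hg : g ∈ Set.range (algebraMap (X.presheaf.stalk z) X.functionField)) :
    ∃ a s : X.presheaf.stalk x, IsUnit ((X.presheaf.stalkSpecializes hzx).hom s) ∧
      algebraMap (X.presheaf.stalk x) X.functionField s * g =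
        algebraMap (X.presheaf.stalk x) X.functionField a := by
  obtain ⟨W, hW, hxW⟩ := exists_affine_nhd x
  have hzW : z ∈ W := hzx.mem_open W.isOpen hxW
  haveI : Nonempty W := ⟨⟨x, hxW⟩⟩
  letI algx := X.presheaf.algebra_section_stalk ⟨x, hxW⟩
  haveI towx : IsScalarTower Γ(X, W) (X.presheaf.stalk x) X.functionField :=
    functionField_isScalarTower X W ⟨x, hxW⟩
  have locz := hW.isLocalization_stalk ⟨z, hzW⟩
  obtain ⟨r, s, hs, hrs⟩ := exists_fraction_of_mem_range z hzW
    (hW.primeIdealOf ⟨z, hzW⟩).asIdeal locz g hg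
  refine ⟨algebraMap Γ(X, W) (X.presheaf.stalk x) r,
    algebraMap Γ(X, W) (X.presheaf.stalk x) s, ?_, ?_⟩
  · have h1 : ¬ ¬ IsUnit (X.presheaf.germ W z hzW s) := fun h =>
      hs ((LocalIso.mem_primeIdealOf_iff hW z hzW s).mpr h)
    rw [not_not] at h1
    have h2 : (X.presheaf.stalkSpecializes hzx).hom
        (algebraMap Γ(X, W) (X.presheaf.stalk x) s) = X.presheaf.germ W z hzW s := by
      change (X.presheaf.stalkSpecializes hzx).hom ((X.presheaf.germ W x hxW).hom s) = _
      rw [← CommRingCat.comp_apply, TopCat.Presheaf.germ_stalkSpecializes]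
    rw [h2]
    exact h1
  · rw [← IsScalarTower.algebraMap_apply, ← IsScalarTower.algebraMap_apply]
    exact hrs

/-- two distinct generizations of `x` are separated by an element of the local ring at `x` -/
theorem exists_separating {x z z' : X} (hzx : z ⤳ x) (hz'x : z' ⤳ x) (hne : z ≠ z') :
    ∃ c : X.presheaf.stalk x,
      (¬ IsUnit ((X.presheaf.stalkSpecializes hzx).hom c) ∧
        IsUnit ((X.presheaf.stalkSpecializes hz'x).hom c)) ∨
      (IsUnit ((X.presheaf.stalkSpecializes hzx).hom c) ∧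
        ¬ IsUnit ((X.presheaf.stalkSpecializes hz'x).hom c)) := by
  obtain ⟨W, hW, hxW⟩ := exists_affine_nhd x
  have hzW : z ∈ W := hzx.mem_open W.isOpen hxW
  have hz'W : z' ∈ W := hz'x.mem_open W.isOpen hxW
  have hspec : ∀ (y : X) (hyx : y ⤳ x) (hyW : y ∈ W) (r : Γ(X, W)),
      (X.presheaf.stalkSpecializes hyx).hom ((X.presheaf.germ W x hxW).hom r) =
        X.presheaf.germ W y hyW r := by
    intro y hyx hyW r
    rw [← CommRingCat.comp_apply, TopCat.Presheaf.germ_stalkSpecializes]
  have hq : (hW.primeIdealOf ⟨z, hzW⟩).asIdeal ≠ (hW.primeIdealOf ⟨z', hz'W⟩).asIdeal := by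
    intro h
    apply hne
    have h1 : hW.primeIdealOf ⟨z, hzW⟩ = hW.primeIdealOf ⟨z', hz'W⟩ := PrimeSpectrum.ext h
    have h2 := congrArg hW.fromSpec h1
    rwa [hW.fromSpec_primeIdealOf ⟨z, hzW⟩, hW.fromSpec_primeIdealOf ⟨z', hz'W⟩] at h2
  have hex : ∃ r : Γ(X, W), ¬ (r ∈ (hW.primeIdealOf ⟨z, hzW⟩).asIdeal ↔
      r ∈ (hW.primeIdealOf ⟨z', hz'W⟩).asIdeal) := by
    by_contra hcon
    push_neg at hcon
    exact hq (Ideal.ext hcon)
  obtain ⟨r, hr⟩ := hex
  refine ⟨(X.presheaf.germ W x hxW).hom r, ?_⟩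
  rw [hspec z hzx hzW, hspec z' hz'x hz'W]
  rw [LocalIso.mem_primeIdealOf_iff hW z hzW r, LocalIso.mem_primeIdealOf_iff hW z' hz'W r] at hr
  by_cases h1 : IsUnit (X.presheaf.germ W z hzW r)
  · right
    refine ⟨h1, fun h2 => hr ?_⟩
    exact ⟨fun h => absurd h1 h, fun h => absurd h2 h⟩
  · left
    refine ⟨h1, ?_⟩
    by_contra h2
    exact hr ⟨fun _ => h2, fun _ => h1⟩

theorem ord_eq_zero_of_isUnit_specializes [IsLocallyNoetherian X] {x z : X} (hzx : z ⤳ x)
    (hz : Order.coheight z = 1) (c : X.presheaf.stalk x)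
    (hu : IsUnit ((X.presheaf.stalkSpecializes hzx).hom c)) :
    Scheme.ord (algebraMap (X.presheaf.stalk x) X.functionField c) z = 0 := by
  have hc : algebraMap (X.presheaf.stalk x) X.functionField c ≠ 0 := by
    rw [← algebraMap_stalkSpecializes hzx]
    exact algebraMap_ne_zero z hu.ne_zero
  have := ord_eq_zero_of_mem_stalkUnits z hz (Units.mk0 _ hc) ⟨hu.unit, by
    apply Units.ext
    change algebraMap (X.presheaf.stalk z) X.functionField _ = _
    exact algebraMap_stalkSpecializes hzx c⟩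
  exact this

theorem one_le_ord_of_not_isUnit_specializes [IsLocallyNoetherian X] {x z : X} (hzx : z ⤳ x)
    (hz : Order.coheight z = 1) [IsDiscreteValuationRing (X.presheaf.stalk z)]
    {c : X.presheaf.stalk x} (hc : c ≠ 0)
    (hu : ¬ IsUnit ((X.presheaf.stalkSpecializes hzx).hom c)) :
    1 ≤ Scheme.ord (algebraMap (X.presheaf.stalk x) X.functionField c) z := by
  have h0 := ord_algebraMap_nonneg hzx hz hc
  by_contra hcon
  have h1 : Scheme.ord (algebraMap (X.presheaf.stalk x) X.functionField c) z = 0 := by omega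
  have hcK := algebraMap_ne_zero x hc
  obtain ⟨u, hu'⟩ := mem_stalkUnits_of_ord_eq_zero z hz (Units.mk0 _ hcK) h1
  apply hu
  have h2 : algebraMap (X.presheaf.stalk z) X.functionField (u : X.presheaf.stalk z) =
      algebraMap (X.presheaf.stalk x) X.functionField c := congrArg Units.val hu'
  rw [← algebraMap_stalkSpecializes hzx] at h2
  have h3 := IsFractionRing.injective (X.presheaf.stalk z) X.functionField h2
  rw [← h3]
  exact u.isUnit

theorem exists_uniformizer [IsLocallyNoetherian X] (z : X) (hz : Order.coheight z = 1)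
    [IsDiscreteValuationRing (X.presheaf.stalk z)] :
    ∃ t : X.presheaf.stalk z, t ≠ 0 ∧
      Scheme.ord (algebraMap (X.presheaf.stalk z) X.functionField t) z = 1 := by
  obtain ⟨ϖ, hϖ⟩ := IsDiscreteValuationRing.exists_irreducible (X.presheaf.stalk z)
  refine ⟨ϖ, hϖ.ne_zero, ?_⟩
  rw [Scheme.ord_eq_iff hz (algebraMap_ne_zero z hϖ.ne_zero)]
  have : Ring.KrullDimLE 1 (X.presheaf.stalk z) := krullDimLE_of_coheight_le hz.le
  change Ring.ordFrac (X.presheaf.stalk z) _ = _
  rw [Ring.ordFrac_irreducible hϖ]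
  rfl

end Groth.Agent.Lib.Helper13.CDivLib
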