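import Mathlib
import Groth.Prelude.Def_CDiv
import Groth.Prelude.Def_Pi1
import Groth.Agent.Lib.Helper13.CDivFact3

/-!
# At a factorial point, every prime cycle of codimension one has a local equation
-/

universe u

open CategoryTheory AlgebraicGeometry TopologicalSpace

namespace Groth.Agent.Lib.Helper13.CDivLib

open CDiv

variable {X : Scheme.{u}} [IsIntegral X]

/-- a prime element of `O_x` vanishing at a generization `z` of codimension one divides every
element of `O_x` vanishing at `z` -/
theorem prime_dvd_of_ord_pos [IsLocallyNoetherian X] {x z : X} (hzx : z ⤳ x)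
    (hz : Order.coheight z = 1) [IsDiscreteValuationRing (X.presheaf.stalk z)]
    {p : X.presheaf.stalk x} (hp : Prime p)
    (hpz : 1 ≤ Scheme.ord (algebraMap (X.presheaf.stalk x) X.functionField p) z)
    {c : X.presheaf.stalk x} (hc : c ≠ 0)
    (hcz : 1 ≤ Scheme.ord (algebraMap (X.presheaf.stalk x) X.functionField c) z) :
    p ∣ c := by
  have hp0 : p ≠ 0 := hp.ne_zero
  have hpK := algebraMap_ne_zero x hp0
  have hcK := algebraMap_ne_zero x hc
  obtain ⟨n, hn⟩ : ∃ n : ℕ, (n : ℤ) =
      Scheme.ord (algebraMap (X.presheaf.stalk x) X.functionField p) z :=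
    ⟨(Scheme.ord (algebraMap (X.presheaf.stalk x) X.functionField p) z).toNat,
      Int.toNat_of_nonneg (by omega)⟩
  let fp : KUnits X := Units.mk0 _ hpK
  have hcn : algebraMap (X.presheaf.stalk x) X.functionField (c ^ n) ≠ 0 :=
    algebraMap_ne_zero x (pow_ne_zero n hc)
  have hordpow : ∀ m : ℕ, Scheme.ord (algebraMap (X.presheaf.stalk x) X.functionField (c ^ m)) z =
      m * Scheme.ord (algebraMap (X.presheaf.stalk x) X.functionField c) z := by
    intro m
    induction m with
    | zero => simp [ord_one]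
    | succ m ih =>
      rw [pow_succ, map_mul, Scheme.ord_mul (algebraMap_ne_zero x (pow_ne_zero m hc)) hcK, ih]
      push_cast
      ring
  have hg0 : algebraMap (X.presheaf.stalk x) X.functionField (c ^ n) *
      ((fp⁻¹ : KUnits X) : X.functionField) ≠ 0 := mul_ne_zero hcn (fp⁻¹).ne_zero
  have hgz : algebraMap (X.presheaf.stalk x) X.functionField (c ^ n) *
      ((fp⁻¹ : KUnits X) : X.functionField) ∈
        Set.range (algebraMap (X.presheaf.stalk z) X.functionField) := by
    apply mem_range_of_ord_nonneg z hz _ hg0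
    rw [Scheme.ord_mul hcn (fp⁻¹).ne_zero, ord_inv, hordpow]
    change 0 ≤ _ + - Scheme.ord (algebraMap (X.presheaf.stalk x) X.functionField p) z
    rw [← hn]
    nlinarith
  obtain ⟨a, s, hs, hsa⟩ := exists_fraction_stalk hzx _ hgz
  have hs0 : Scheme.ord (algebraMap (X.presheaf.stalk x) X.functionField s) z = 0 :=
    ord_eq_zero_of_isUnit_specializes hzx hz s hs
  have hsne : s ≠ 0 := by
    rintro rfl
    rw [map_zero] at hs
    exact not_isUnit_zero hs
  have heq : s * c ^ n = a * p := by
    apply IsFractionRing.injective (X.presheaf.stalk x) X.functionField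
    rw [map_mul, map_mul, ← hsa]
    change _ = _ * (_ * ((fp : X.functionField))⁻¹) * _
    change _ = _ * (_ * (algebraMap (X.presheaf.stalk x) X.functionField p)⁻¹) * _
    rw [mul_assoc, mul_assoc, inv_mul_cancel₀ hpK, mul_one]
  have hdvd : p ∣ s * c ^ n := ⟨a, by rw [heq, mul_comm]⟩
  rcases hp.dvd_or_dvd hdvd with h | h
  · exfalso
    obtain ⟨s', hs'⟩ := h
    have hs'0 : s' ≠ 0 := by
      rintro rfl
      rw [mul_zero] at hs'
      exact hsne hs'
    have h1 := Scheme.ord_mul (x := z) hpK (algebraMap_ne_zero x hs'0)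
    rw [← map_mul, ← hs', hs0] at h1
    have h2 := ord_algebraMap_nonneg hzx hz hs'0
    omega
  · exact hp.dvd_of_dvd_pow h

/-- at a factorial point `x`, a prime cycle of codimension one through `x` has a local equation -/
theorem exists_isPrimeEquation_of_ufm [IsLocallyNoetherian X] (hX : Pi1.IsNormalScheme X)
    {x x₀ : X} (hx : x₀ ⤳ x) (h₀ : Order.coheight x₀ = 1)
    [UniqueFactorizationMonoid (X.presheaf.stalk x)] :
    ∃ p : X.presheaf.stalk x,
      IsPrimeEquation x x₀ (algebraMap (X.presheaf.stalk x) X.functionField p) := by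
  haveI := isDiscreteValuationRing_of_coheight_eq_one x₀ (hX x₀).2 h₀
  -- an element of `O_x` vanishing at `x₀`
  obtain ⟨t, ht0, ht⟩ := exists_uniformizer x₀ h₀
  obtain ⟨a, s, hs, hsa⟩ := exists_fraction_stalk hx _ ⟨t, rfl⟩
  have hs0 : Scheme.ord (algebraMap (X.presheaf.stalk x) X.functionField s) x₀ = 0 :=
    ord_eq_zero_of_isUnit_specializes hx h₀ s hs
  have hsne : s ≠ 0 := by
    rintro rfl
    rw [map_zero] at hs
    exact not_isUnit_zero hs
  have htK := algebraMap_ne_zero x₀ ht0
  have ha1 : Scheme.ord (algebraMap (X.presheaf.stalk x) X.functionField a) x₀ = 1 := by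
    rw [← hsa, Scheme.ord_mul (algebraMap_ne_zero x hsne) htK, hs0, ht, zero_add]
  have ha0 : a ≠ 0 := by
    rintro rfl
    rw [map_zero] at hsa
    exact (mul_ne_zero (algebraMap_ne_zero x hsne) htK) hsa
  -- a prime factor vanishing at `x₀`
  have hfactor : ∀ b : X.presheaf.stalk x, b ≠ 0 →
      1 ≤ Scheme.ord (algebraMap (X.presheaf.stalk x) X.functionField b) x₀ →
      ∃ p : X.presheaf.stalk x, Prime p ∧
        1 ≤ Scheme.ord (algebraMap (X.presheaf.stalk x) X.functionField p) x₀ := by
    intro b
    refine UniqueFactorizationMonoid.induction_on_prime b ?_ ?_ ?_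
    · intro h; exact absurd rfl h
    · intro u hu _ hord
      exfalso
      have : Scheme.ord (algebraMap (X.presheaf.stalk x) X.functionField u) x₀ = 0 :=
        ord_eq_zero_of_isUnit_specializes hx h₀ u (hu.map _)
      omega
    · intro b p hb hp ih _ hord
      by_cases hp1 : 1 ≤ Scheme.ord (algebraMap (X.presheaf.stalk x) X.functionField p) x₀
      · exact ⟨p, hp, hp1⟩
      · apply ih hb
        rw [map_mul, Scheme.ord_mul (algebraMap_ne_zero x hp.ne_zero)
          (algebraMap_ne_zero x hb)] at hord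
        have := ord_algebraMap_nonneg hx h₀ hp.ne_zero
        omega
  obtain ⟨p, hp, hp1⟩ := hfactor a ha0 ha1.ge
  have hpK := algebraMap_ne_zero x hp.ne_zero
  refine ⟨p, hpK, ?_, ?_⟩
  · -- order exactly one
    obtain ⟨a', ha'⟩ := prime_dvd_of_ord_pos hx h₀ hp hp1 ha0 ha1.ge
    have ha'0 : a' ≠ 0 := by
      rintro rfl
      rw [mul_zero] at ha'
      exact ha0 ha'
    have h1 := Scheme.ord_mul (x := x₀) hpK (algebraMap_ne_zero x ha'0)
    rw [← map_mul, ← ha', ha1] at h1
    have h2 := ord_algebraMap_nonneg hx h₀ ha'0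
    omega
  · intro z hzx hz hne
    haveI := isDiscreteValuationRing_of_coheight_eq_one z (hX z).2 hz
    have h0 := ord_algebraMap_nonneg hzx hz hp.ne_zero
    by_contra hcon
    have hpz : 1 ≤ Scheme.ord (algebraMap (X.presheaf.stalk x) X.functionField p) z := by omega
    obtain ⟨c, hc⟩ := exists_separating hzx hx hne
    rcases hc with ⟨hcz, hcx⟩ | ⟨hcz, hcx⟩
    · have hc0 : c ≠ 0 := by
        rintro rfl
        rw [map_zero] at hcx
        exact not_isUnit_zero hcx
      have h1 := one_le_ord_of_not_isUnit_specializes hzx hz hc0 hcz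
      have h2 := ord_eq_zero_of_isUnit_specializes hx h₀ c hcx
      obtain ⟨c', hc'⟩ := prime_dvd_of_ord_pos hzx hz hp hpz hc0 h1
      have hc'0 : c' ≠ 0 := by
        rintro rfl
        rw [mul_zero] at hc'
        exact hc0 hc'
      have h3 := Scheme.ord_mul (x := x₀) hpK (algebraMap_ne_zero x hc'0)
      rw [← map_mul, ← hc', h2] at h3
      have h4 := ord_algebraMap_nonneg hx h₀ hc'0
      omega
    · have hc0 : c ≠ 0 := by
        rintro rfl
        rw [map_zero] at hcz
        exact not_isUnit_zero hcz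
      have h1 := one_le_ord_of_not_isUnit_specializes hx h₀ hc0 hcx
      have h2 := ord_eq_zero_of_isUnit_specializes hzx hz c hcz
      obtain ⟨c', hc'⟩ := prime_dvd_of_ord_pos hx h₀ hp hp1 hc0 h1
      have hc'0 : c' ≠ 0 := by
        rintro rfl
        rw [mul_zero] at hc'
        exact hc0 hc'
      have h3 := Scheme.ord_mul (x := z) hpK (algebraMap_ne_zero x hc'0)
      rw [← map_mul, ← hc', h2] at h3
      have h4 := ord_algebraMap_nonneg hzx hz hc'0
      omega

end Groth.Agent.Lib.Helper13.CDivLib
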