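import Mathlib
import Groth.Prelude.Def_CDiv
import Groth.Prelude.Def_Pi1
import Groth.Agent.Lib.Helper13.CDivFact4

/-!
# The divisor of a prime cycle of codimension one on a locally factorial scheme
-/

universe u

open CategoryTheory AlgebraicGeometry TopologicalSpace

namespace Groth.Agent.Lib.Helper13.CDivLib

open CDiv

/-- In a Noetherian quasi-sober space a closed subset has finitely many maximal points. -/
theorem finite_maximal_points {Y : Type*} [TopologicalSpace Y] [NoetherianSpace Y] [QuasiSober Y]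
    (A : Set Y) (hA : IsClosed A) : {z : Y | z ∈ A ∧ ∀ y ∈ A, y ⤳ z → y = z}.Finite := by
  obtain ⟨S, hSf, hSc, hSi, hSU⟩ := NoetherianSpace.exists_finite_set_isClosed_irreducible hA
  have hsub : {z : Y | z ∈ A ∧ ∀ y ∈ A, y ⤳ z → y = z} ⊆
      ⋃ t ∈ S, {z : Y | (z ∈ A ∧ ∀ y ∈ A, y ⤳ z → y = z) ∧ z ∈ t} := by
    rintro z ⟨hzA, hz⟩
    have hzA' := hzA
    rw [hSU] at hzA'
    obtain ⟨t, htS, hzt⟩ := hzA'
    exact Set.mem_biUnion htS ⟨⟨hzA, hz⟩, hzt⟩
  refine (hSf.biUnion ?_).subset hsub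
  intro t htS
  apply Set.Subsingleton.finite
  rintro z ⟨⟨-, hz⟩, hzt⟩ z' ⟨⟨-, hz'⟩, hz't⟩
  obtain ⟨ξ, hξ⟩ := QuasiSober.sober (hSi t htS) (hSc t htS)
  have hξA : ξ ∈ A := by
    rw [hSU]
    exact ⟨t, htS, hξ.mem⟩
  have h1 : ξ ⤳ z := by
    rw [specializes_iff_mem_closure, hξ.def]; exact hzt
  have h2 : ξ ⤳ z' := by
    rw [specializes_iff_mem_closure, hξ.def]; exact hz't
  rw [← hz ξ hξA h1, ← hz' ξ hξA h2]

/-- In a locally Noetherian scheme, a set of maximal points of a closed subset, none of which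
specializes to `x`, misses a neighbourhood of `x`. -/
theorem exists_nhd_disjoint_of_maximal_points {X : Scheme.{u}} [IsLocallyNoetherian X]
    (A : Set X) (hA : IsClosed A) (Sg : Set X)
    (hSg : ∀ z ∈ Sg, z ∈ A ∧ ∀ y ∈ A, y ⤳ z → y = z) (x : X) (hx : ∀ z ∈ Sg, ¬ z ⤳ x) :
    ∃ U : X.Opens, x ∈ U ∧ ∀ z ∈ Sg, z ∉ U := by
  obtain ⟨_, ⟨W, hW, rfl⟩, hxW, -⟩ := X.isBasis_affineOpens.exists_subset_of_mem_open
    (Set.mem_univ x) isOpen_univ
  haveI : IsNoetherianRing Γ(X, W) := IsLocallyNoetherian.component_noetherian ⟨W, hW⟩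
  haveI : NoetherianSpace ↥W := noetherianSpace_of_isAffineOpen W hW
  haveI : QuasiSober ↥W := W.isOpen.isOpenEmbedding_subtypeVal.quasiSober
  have hfin := finite_maximal_points ((Subtype.val : W → X) ⁻¹' A)
    (hA.preimage continuous_subtype_val)
  have hfin' : (Sg ∩ (W : Set X)).Finite := by
    refine (hfin.image Subtype.val).subset ?_
    rintro z ⟨hzS, hzW⟩
    refine ⟨⟨z, hzW⟩, ⟨(hSg z hzS).1, ?_⟩, rfl⟩
    intro y hyA hyz
    apply Subtype.ext
    exact (hSg z hzS).2 y.1 hyA (hyz.map continuous_subtype_val)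
  have hclosed : IsClosed (⋃ z ∈ Sg ∩ (W : Set X), closure ({z} : Set X)) :=
    hfin'.isClosed_biUnion (fun _ _ => isClosed_closure)
  refine ⟨⟨(W : Set X) ∩ (⋃ z ∈ Sg ∩ (W : Set X), closure ({z} : Set X))ᶜ,
    W.isOpen.inter hclosed.isOpen_compl⟩, ⟨hxW, ?_⟩, ?_⟩
  · intro hmem
    obtain ⟨z, hz, hxz⟩ := Set.mem_iUnion₂.mp hmem
    exact hx z hz.1 (specializes_iff_mem_closure.mpr hxz)
  · rintro z hzS ⟨hzW, hzc⟩
    exact hzc (Set.mem_biUnion (⟨hzS, hzW⟩ : z ∈ Sg ∩ (W : Set X)) (subset_closure rfl))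

variable {X : Scheme.{u}} [IsIntegral X]

theorem eq_genericPoint_of_specializes_of_coheight_eq_one {z y : X} (hz : Order.coheight z = 1)
    (hyz : y ⤳ z) (hne : y ≠ z) : y = genericPoint X := by
  have hlt : z < y := ⟨hyz, fun h => hne (h.antisymm hyz).eq.symm⟩
  have h1 := Order.coheight_add_one_le hlt
  rw [hz] at h1
  have h2 : Order.coheight y = 0 := by
    have : Order.coheight y + 1 ≤ 0 + 1 := by simpa using h1
    exact le_antisymm ((ENat.add_le_add_iff_right (by simp)).mp this) zero_le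
  have hmax : IsMax y := Order.coheight_eq_zero.mp h2
  have h3 : y ≤ genericPoint X := genericPoint_specializes y
  have h4 : genericPoint X ≤ y := hmax h3
  exact ((genericPoint_specializes y).antisymm h4).eq.symm

/-- the local condition defining the germs of the prime cycle of `x₀` -/
def IsCycleEquation [IsLocallyNoetherian X] (x₀ x : X) (f : KUnits X) : Prop :=
  (x₀ ⤳ x → Scheme.ord (f : X.functionField) x₀ = 1) ∧
  ∀ z : X, z ⤳ x → Order.coheight z = 1 → z ≠ x₀ → Scheme.ord (f : X.functionField) z = 0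

theorem ord_units_mul [IsLocallyNoetherian X] (z : X) (f g : KUnits X) :
    Scheme.ord ((f * g : KUnits X) : X.functionField) z =
      Scheme.ord (f : X.functionField) z + Scheme.ord (g : X.functionField) z := by
  rw [Units.val_mul, Scheme.ord_mul f.ne_zero g.ne_zero]

theorem IsCycleEquation.germOf_eq [IsLocallyNoetherian X] (hX : Pi1.IsNormalScheme X)
    {x₀ x : X} {f f' : KUnits X} (h : IsCycleEquation x₀ x f) (h' : IsCycleEquation x₀ x f') :
    germOf X x f = germOf X x f' := by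
  apply QuotientGroup.eq.mpr
  apply mem_stalkUnits_of_forall_ord_eq_zero hX
  intro z hzx hz
  rw [ord_units_mul, ord_inv]
  by_cases hzz : z = x₀
  · subst hzz
    rw [h.1 hzx, h'.1 hzx]; rfl
  · rw [h.2 z hzx hz hzz, h'.2 z hzx hz hzz]; rfl

theorem exists_isCycleEquation [IsLocallyNoetherian X] (hX : Pi1.IsNormalScheme X)
    (hufm : ∀ x : X, UniqueFactorizationMonoid (X.presheaf.stalk x))
    {x₀ : X} (h₀ : Order.coheight x₀ = 1) (x : X) : ∃ f : KUnits X, IsCycleEquation x₀ x f := by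
  by_cases hx : x₀ ⤳ x
  · haveI := hufm x
    obtain ⟨p, hp⟩ := exists_isPrimeEquation_of_ufm hX hx h₀ (x := x)
    refine ⟨Units.mk0 _ hp.ne_zero, fun _ => hp.ord_self, ?_⟩
    intro z hzx hz hne
    exact hp.ord_other z hzx hz hne
  · refine ⟨1, fun h => absurd h hx, ?_⟩
    intro z _ _ _
    rw [Units.val_one]
    exact ord_one z

theorem IsCycleEquation.exists_nhd [IsLocallyNoetherian X]
    {x₀ x : X} {f : KUnits X} (h : IsCycleEquation x₀ x f) :
    ∃ U : X.Opens, x ∈ U ∧ ∀ y ∈ U, IsCycleEquation x₀ y f := by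
  have hA : IsClosed {y : X | germOf X y f ≠ 1} :=
    (isOpen_setOf_germOf_eq_one f).isClosed_compl
  have hgen : genericPoint X ∉ {y : X | germOf X y f ≠ 1} := germ_genericPoint (div f)
  have hSg : ∀ z ∈ {z : X | Order.coheight z = 1 ∧ z ≠ x₀ ∧ Scheme.ord (f : X.functionField) z ≠ 0},
      z ∈ {y : X | germOf X y f ≠ 1} ∧
        ∀ y ∈ {y : X | germOf X y f ≠ 1}, y ⤳ z → y = z := by
    rintro z ⟨hz, -, hord⟩
    refine ⟨?_, ?_⟩
    · intro hone
      exact hord (ord_eq_zero_of_mem_stalkUnits z hz f ((germOf_eq_one_iff z f).mp hone))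
    · intro y hy hyz
      by_contra hne
      rw [eq_genericPoint_of_specializes_of_coheight_eq_one hz hyz hne] at hy
      exact hgen hy
  have hx : ∀ z ∈ {z : X | Order.coheight z = 1 ∧ z ≠ x₀ ∧
      Scheme.ord (f : X.functionField) z ≠ 0}, ¬ z ⤳ x := by
    rintro z ⟨hz, hne, hord⟩ hzx
    exact hord (h.2 z hzx hz hne)
  obtain ⟨U, hxU, hU⟩ := exists_nhd_disjoint_of_maximal_points _ hA _ hSg x hx
  by_cases hx₀ : x₀ ⤳ x
  · refine ⟨U, hxU, fun y hy => ⟨fun _ => h.1 hx₀, ?_⟩⟩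
    intro z hzy hz hne
    by_contra hord
    exact hU z ⟨hz, hne, hord⟩ (hzy.mem_open U.isOpen hy)
  · refine ⟨⟨(U : Set X) ∩ (closure ({x₀} : Set X))ᶜ, U.isOpen.inter isClosed_closure.isOpen_compl⟩,
      ⟨hxU, fun hmem => hx₀ (specializes_iff_mem_closure.mpr hmem)⟩, ?_⟩
    rintro y ⟨hyU, hyc⟩
    refine ⟨fun hx₀y => absurd (specializes_iff_mem_closure.mp hx₀y) hyc, ?_⟩
    intro z hzy hz hne
    by_contra hord
    exact hU z ⟨hz, hne, hord⟩ (hzy.mem_open U.isOpen hyU)

/-- On a locally factorial normal scheme, every prime cycle of codimension one is the cycle of a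
divisor. -/
theorem exists_divisor_of_ufm [IsLocallyNoetherian X] (hX : Pi1.IsNormalScheme X)
    (hufm : ∀ x : X, UniqueFactorizationMonoid (X.presheaf.stalk x))
    (x₀ : X) (h₀ : Order.coheight x₀ = 1) :
    ∃ D : Divisor X,
      (∀ f : KUnits X, D.1 x₀ = germOf X x₀ f → Scheme.ord (f : X.functionField) x₀ = 1) ∧
        ∀ x : X, x ≠ x₀ → Order.coheight x = 1 → ∀ f : KUnits X, D.1 x = germOf X x f →
          Scheme.ord (f : X.functionField) x = 0 := by
  choose F hF using exists_isCycleEquation hX hufm h₀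
  have hmem : (fun y : X => germOf X y (F y)) ∈ divisorGroup X := by
    intro x
    obtain ⟨U, hxU, hU⟩ := (hF x).exists_nhd
    exact ⟨U, F x, hxU, fun y hy => (hF y).germOf_eq hX (hU y hy)⟩
  refine ⟨⟨_, hmem⟩, ?_, ?_⟩
  · intro f hf
    change germOf X x₀ (F x₀) = germOf X x₀ f at hf
    have h1 : (F x₀)⁻¹ * f ∈ stalkUnits X x₀ := QuotientGroup.eq.mp hf
    have h2 := ord_eq_zero_of_mem_stalkUnits x₀ h₀ _ h1
    rw [ord_units_mul, ord_inv, (hF x₀).1 specializes_rfl] at h2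
    omega
  · intro x hne hx f hf
    change germOf X x (F x) = germOf X x f at hf
    have h1 : (F x)⁻¹ * f ∈ stalkUnits X x := QuotientGroup.eq.mp hf
    have h2 := ord_eq_zero_of_mem_stalkUnits x hx _ h1
    rw [ord_units_mul, ord_inv, (hF x).2 x specializes_rfl hx hne] at h2
    omega

end Groth.Agent.Lib.Helper13.CDivLib
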