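import Mathlib
import Groth.Agent.Lib.Helper13.StalkSpecLoc

/-!
# Locally factorial ⇔ codimension-one integral closed subschemes are regularly immersed
-/

universe u

open CategoryTheory AlgebraicGeometry TopologicalSpace Opposite IsLocalRing

namespace Groth.Agent.Lib.Helper13.LocFactorial

section Algebra

variable {R : Type*} [CommRing R] [IsNoetherianRing R] [IsLocalRing R]

theorem exists_height_eq_one (hdim : ¬ ringKrullDim R ≤ 0) :
    ∃ 𝔭 : Ideal R, 𝔭.IsPrime ∧ 𝔭.height = 1 := by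
  let D : Set ℕ∞ := {d | ∃ 𝔭 : Ideal R, 𝔭.IsPrime ∧ 𝔭.height ≠ 0 ∧ 𝔭.height = d}
  have hne : D.Nonempty := by
    refine ⟨_, maximalIdeal R, inferInstance, ?_, rfl⟩
    intro h0
    apply hdim
    rw [← IsLocalRing.maximalIdeal_height_eq_ringKrullDim, h0]
    rfl
  obtain ⟨d, ⟨𝔭, h𝔭, h0, rfl⟩, hmin⟩ := WellFounded.has_min wellFounded_lt D hne
  refine ⟨𝔭, h𝔭, le_antisymm ?_ (ENat.one_le_iff_ne_zero.mpr h0)⟩
  haveI := h𝔭
  rw [show (1 : ℕ∞) = ((1 : ℕ) : ℕ∞) from rfl, Ideal.height_le_iff]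
  intro q hq hlt
  by_contra hn
  haveI := hq
  have hq0 : q.height ≠ 0 := by
    intro h
    apply hn
    rw [h]
    exact zero_lt_one
  have := Ideal.height_strict_mono_of_isPrime_of_isPrime hlt
  exact hmin _ ⟨q, hq, hq0, rfl⟩ this

/-- A Noetherian local ring of positive dimension in which every height-one prime is generated by a
nonzerodivisor is a domain. -/
theorem isDomain_of_height_one_principal (hdim : ¬ ringKrullDim R ≤ 0)
    (H : ∀ 𝔭 : Ideal R, 𝔭.IsPrime → 𝔭.height = 1 →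
      ∃ t ∈ nonZeroDivisors R, 𝔭 = Ideal.span {t}) : IsDomain R := by
  obtain ⟨𝔭, h𝔭, hht⟩ := exists_height_eq_one hdim
  obtain ⟨t, ht, h𝔭t⟩ := H 𝔭 h𝔭 hht
  obtain ⟨𝔮, h𝔮min, h𝔮le⟩ := Ideal.exists_minimalPrimes_le (bot_le : ⊥ ≤ 𝔭)
  haveI h𝔮 : 𝔮.IsPrime := h𝔮min.1.1
  have ht𝔮 : t ∉ 𝔮 := by
    intro htq
    have h1 : 𝔭 ≤ 𝔮 := by
      rw [h𝔭t, Ideal.span_le, Set.singleton_subset_iff]
      exact htq
    have h2 : 𝔮 = 𝔭 := le_antisymm h𝔮le h1
    have h3 : 𝔮.height = 0 := Ideal.height_eq_zero_iff.mpr h𝔮min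
    rw [h2, hht] at h3
    exact one_ne_zero h3
  have hle : 𝔮 ≤ maximalIdeal R • 𝔮 := by
    intro y hy
    have hy𝔭 : y ∈ 𝔭 := h𝔮le hy
    rw [h𝔭t, Ideal.mem_span_singleton'] at hy𝔭
    obtain ⟨y', rfl⟩ := hy𝔭
    have hy' : y' ∈ 𝔮 := (h𝔮.mem_or_mem hy).resolve_right ht𝔮
    have htm : t ∈ maximalIdeal R := by
      have : t ∈ 𝔭 := by rw [h𝔭t]; exact Ideal.subset_span rfl
      exact IsLocalRing.le_maximalIdeal h𝔭.ne_top this
    rw [mul_comm]
    exact Submodule.smul_mem_smul htm hy'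
  have hbot : 𝔮 = ⊥ := Submodule.eq_bot_of_le_smul_of_le_jacobson_bot (maximalIdeal R) 𝔮
    ((isNoetherianRing_iff_ideal_fg R).mp inferInstance 𝔮) hle
    (by rw [IsLocalRing.jacobson_eq_maximalIdeal ⊥ bot_ne_top])
  haveI : (⊥ : Ideal R).IsPrime := hbot ▸ h𝔮
  exact IsDomain.of_bot_isPrime R

end Algebra

/-- In a Noetherian ring, a prime which is both minimal and maximal is an isolated point of the
spectrum. -/
theorem isOpen_singleton_of_minimal_of_maximal {A : Type*} [CommRing A] [IsNoetherianRing A]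
    (p : PrimeSpectrum A) (hmin : p.asIdeal ∈ minimalPrimes A) (hmax : p.asIdeal.IsMaximal) :
    IsOpen ({p} : Set (PrimeSpectrum A)) := by
  have hfin : (minimalPrimes A).Finite := minimalPrimes.finite_of_isNoetherianRing A
  set C : Set (PrimeSpectrum A) :=
    ⋃ 𝔮 ∈ (minimalPrimes A \ {p.asIdeal}), PrimeSpectrum.zeroLocus (𝔮 : Set A) with hC
  have hCclosed : IsClosed C :=
    (hfin.subset Set.diff_subset).isClosed_biUnion fun 𝔮 _ => PrimeSpectrum.isClosed_zeroLocus _
  have : ({p} : Set (PrimeSpectrum A)) = Cᶜ := by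
    ext r
    simp only [Set.mem_singleton_iff, Set.mem_compl_iff, hC, Set.mem_iUnion, not_exists]
    constructor
    · rintro rfl 𝔮 ⟨h𝔮, hne⟩ hmem
      have hle : 𝔮 ≤ r.asIdeal := hmem
      exact hne (le_antisymm hle (hmin.2 ⟨h𝔮.1.1, bot_le⟩ hle))
    · intro h
      obtain ⟨𝔮, h𝔮, hle⟩ := Ideal.exists_minimalPrimes_le (bot_le : ⊥ ≤ r.asIdeal)
      by_cases h𝔮p : 𝔮 = p.asIdeal
      · rw [h𝔮p] at hle
        exact PrimeSpectrum.ext (hmax.eq_of_le r.isPrime.ne_top hle).symm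
      · exact absurd hle (h 𝔮 ⟨h𝔮, h𝔮p⟩)
  rw [this]
  exact hCclosed.isOpen_compl

/-- A point of a locally Noetherian scheme with zero-dimensional local ring and no proper
specialization is isolated. -/
theorem isOpen_singleton_of_krullDimLE_zero {X : Scheme.{u}} [IsLocallyNoetherian X] (x : X)
    (h0 : ringKrullDim (X.presheaf.stalk x) ≤ 0) (hsp : ∀ x₁ : X, x ⤳ x₁ → x₁ = x) :
    IsOpen ({x} : Set X) := by
  obtain ⟨_, ⟨(V : X.Opens), hV, rfl⟩, hxV, -⟩ :=
    X.isBasis_affineOpens.exists_subset_of_mem_open (Set.mem_univ x) isOpen_univ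
  haveI : IsNoetherianRing Γ(X, V) := IsLocallyNoetherian.component_noetherian ⟨V, hV⟩
  set p := hV.primeIdealOf ⟨x, hxV⟩ with hp
  have hpx : hV.fromSpec p = x := hV.fromSpec_primeIdealOf ⟨x, hxV⟩
  letI := X.presheaf.algebra_section_stalk (⟨x, hxV⟩ : V)
  haveI := hV.isLocalization_stalk ⟨x, hxV⟩
  have hmin : p.asIdeal ∈ minimalPrimes Γ(X, V) := by
    rw [← Ideal.height_eq_zero_iff]
    have h1 := IsLocalization.AtPrime.ringKrullDim_eq_height p.asIdeal (X.presheaf.stalk x)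
    rw [h1] at h0
    have h2 : p.asIdeal.height ≤ 0 := by exact_mod_cast h0
    exact le_antisymm h2 bot_le
  have hmax : p.asIdeal.IsMaximal := by
    obtain ⟨𝔪, h𝔪, hle⟩ := Ideal.exists_le_maximal p.asIdeal p.isPrime.ne_top
    let r : PrimeSpectrum Γ(X, V) := ⟨𝔪, h𝔪.isPrime⟩
    have hpr : p ⤳ r := (PrimeSpectrum.le_iff_specializes p r).mp hle
    have h1 : hV.fromSpec p ⤳ hV.fromSpec r := hpr.map hV.fromSpec.continuous
    rw [hpx] at h1
    have h2 := hsp _ h1
    have h3 : r = p := hV.fromSpec.isOpenEmbedding.injective (h2.trans hpx.symm)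
    have : p.asIdeal = 𝔪 := congrArg PrimeSpectrum.asIdeal h3.symm
    rw [this]
    exact h𝔪
  have hopen := isOpen_singleton_of_minimal_of_maximal p hmin hmax
  have h4 := hV.fromSpec.isOpenEmbedding.isOpenMap _ hopen
  convert h4 using 1
  ext y
  constructor
  · intro hy
    rw [Set.mem_singleton_iff] at hy
    exact ⟨p, rfl, hpx.trans hy.symm⟩
  · rintro ⟨q, hq, rfl⟩
    have hq' : q = p := hq
    rw [Set.mem_singleton_iff, hq']
    exact hpx

/-- A reduced local ring of dimension `≤ 0` is a domain. -/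
theorem isDomain_of_isReduced_of_krullDimLE_zero {R : Type*} [CommRing R] [IsLocalRing R]
    [IsReduced R] (h0 : ringKrullDim R ≤ 0) : IsDomain R := by
  haveI : Ring.KrullDimLE 0 R := Ring.krullDimLE_iff.mpr h0
  have h1 : Ring.jacobson R = nilradical R := Ring.jacobson_eq_nilradical_of_krullDimLE_zero R
  have h2 : maximalIdeal R = ⊥ := by
    rw [← IsLocalRing.ringJacobson_eq_maximalIdeal, h1, nilradical_eq_zero]
    rfl
  haveI : (⊥ : Ideal R).IsPrime := h2 ▸ (maximalIdeal.isMaximal R).isPrime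
  exact IsDomain.of_bot_isPrime R

/-- EGA IV 21.11-type statement (S5090). -/
theorem locallyFactorial_iff (X : Scheme.{u}) [IsLocallyNoetherian X]
    (hred : ∀ x : X, IsOpen ({x} : Set X) → IsReduced (X.presheaf.stalk x)) :
    (∀ ζ : X, ringKrullDim (X.presheaf.stalk ζ) = 1 → ∀ (x : X) (h : ζ ⤳ x),
        ∃ t : X.presheaf.stalk x, t ∈ nonZeroDivisors (X.presheaf.stalk x) ∧
          (maximalIdeal (X.presheaf.stalk ζ)).comap (X.presheaf.stalkSpecializes h).hom =
            Ideal.span {t}) ↔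
      ∀ x : X, ∃ _ : IsDomain (X.presheaf.stalk x),
        UniqueFactorizationMonoid (X.presheaf.stalk x) := by
  constructor
  · intro Ha
    -- height-one primes are principal, generated by a nonzerodivisor
    have H1 : ∀ (x : X) (𝔭 : Ideal (X.presheaf.stalk x)), 𝔭.IsPrime → 𝔭.height = 1 →
        ∃ t ∈ nonZeroDivisors (X.presheaf.stalk x), 𝔭 = Ideal.span {t} := by
      intro x 𝔭 h𝔭 hht
      haveI := h𝔭
      obtain ⟨ζ, h, rfl⟩ := StalkSpecLoc.exists_primeOf_eq x 𝔭
      have hdim : ringKrullDim (X.presheaf.stalk ζ) = 1 := by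
        rw [StalkSpecLoc.ringKrullDim_stalk_eq_height_primeOf h, hht]
        rfl
      obtain ⟨t, ht, hspan⟩ := Ha ζ hdim x h
      exact ⟨t, ht, hspan⟩
    have Hdom1 : ∀ x : X, ¬ ringKrullDim (X.presheaf.stalk x) ≤ 0 →
        IsDomain (X.presheaf.stalk x) :=
      fun x hx => isDomain_of_height_one_principal hx (H1 x)
    have Hdom : ∀ x : X, IsDomain (X.presheaf.stalk x) := by
      intro x
      by_cases hx : ringKrullDim (X.presheaf.stalk x) ≤ 0
      · by_cases hopen : IsOpen ({x} : Set X)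
        · haveI := hred x hopen
          exact isDomain_of_isReduced_of_krullDimLE_zero hx
        · have : ∃ x₁ : X, x ⤳ x₁ ∧ x₁ ≠ x := by
            by_contra hcon
            push_neg at hcon
            exact hopen (isOpen_singleton_of_krullDimLE_zero x hx hcon)
          obtain ⟨x₁, hsp, hne⟩ := this
          have hd1 : ¬ ringKrullDim (X.presheaf.stalk x₁) ≤ 0 := by
            intro h0
            haveI : Ring.KrullDimLE 0 (X.presheaf.stalk x₁) := Ring.krullDimLE_iff.mpr h0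
            have hmax : (StalkSpecLoc.primeOf hsp).IsMaximal :=
              Ring.krullDimLE_zero_iff.mp inferInstance _ inferInstance
            exact StalkSpecLoc.primeOf_ne_maximalIdeal hsp hne.symm
              (IsLocalRing.eq_maximalIdeal hmax)
          haveI := Hdom1 x₁ hd1
          exact StalkSpecLoc.isDomain_stalk_of_specializes hsp
      · exact Hdom1 x hx
    intro x
    haveI := Hdom x
    refine ⟨Hdom x, ?_⟩
    apply UniqueFactorizationMonoid.of_forall_isPrincipal_of_height_eq_one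
    intro 𝔭 h𝔭 hht
    obtain ⟨t, -, hspan⟩ := H1 x 𝔭 h𝔭 hht
    exact ⟨t, hspan⟩
  · intro Hc ζ hdim x h
    obtain ⟨hdom, hufd⟩ := Hc x
    haveI := hdom
    haveI := hufd
    have hht : (StalkSpecLoc.primeOf h).height = 1 := by
      have := StalkSpecLoc.ringKrullDim_stalk_eq_height_primeOf h
      rw [hdim] at this
      exact_mod_cast this.symm
    have hprin := UniqueFactorizationMonoid.isPrincipal_of_height_eq_one hht
    obtain ⟨t, ht⟩ := hprin
    refine ⟨t, ?_, ht⟩
    have hne : StalkSpecLoc.primeOf h ≠ ⊥ := (StalkSpecLoc.primeOf h).ne_bot_of_height_eq_one hht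
    apply mem_nonZeroDivisors_of_ne_zero
    rintro rfl
    apply hne
    rw [ht]
    simp

end Groth.Agent.Lib.Helper13.LocFactorial
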