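import Mathlib
import Groth.Prelude.Def_CDiv
import Groth.Agent.Lib.Helper13.CDivFact5

/-!
# Local finiteness of the codimension one points where a rational function has nonzero order
-/

universe u

open CategoryTheory AlgebraicGeometry TopologicalSpace

namespace Groth.Agent.Lib.Helper13.CDivLib

open CDiv

/-- In a locally Noetherian scheme, a set of maximal points of a closed subset meets an affine
open in a finite set. -/
theorem finite_maximal_points_inter_affine {X : Scheme.{u}} [IsLocallyNoetherian X]
    (A : Set X) (hA : IsClosed A) (Sg : Set X)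
    (hSg : ∀ z ∈ Sg, z ∈ A ∧ ∀ y ∈ A, y ⤳ z → y = z) (W : X.Opens) (hW : IsAffineOpen W) :
    (Sg ∩ (W : Set X)).Finite := by
  haveI : IsNoetherianRing Γ(X, W) := IsLocallyNoetherian.component_noetherian ⟨W, hW⟩
  haveI : NoetherianSpace ↥W := noetherianSpace_of_isAffineOpen W hW
  haveI : QuasiSober ↥W := W.isOpen.isOpenEmbedding_subtypeVal.quasiSober
  have hfin := finite_maximal_points ((Subtype.val : W → X) ⁻¹' A)
    (hA.preimage continuous_subtype_val)
  refine (hfin.image Subtype.val).subset ?_
  rintro z ⟨hzS, hzW⟩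
  refine ⟨⟨z, hzW⟩, ⟨(hSg z hzS).1, ?_⟩, rfl⟩
  intro y hyA hyz
  apply Subtype.ext
  exact (hSg z hzS).2 y.1 hyA (hyz.map continuous_subtype_val)

variable {X : Scheme.{u}} [IsIntegral X]

/-- the codimension one points where a rational function has nonzero order are maximal points of
the closed set where the function is not an invertible germ -/
theorem maximal_point_of_ord_ne_zero [IsLocallyNoetherian X] (f : KUnits X) (z : X)
    (hz : Order.coheight z = 1) (hord : Scheme.ord (f : X.functionField) z ≠ 0) :
    z ∈ {y : X | germOf X y f ≠ 1} ∧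
      ∀ y ∈ {y : X | germOf X y f ≠ 1}, y ⤳ z → y = z := by
  have hgen : genericPoint X ∉ {y : X | germOf X y f ≠ 1} := germ_genericPoint (div f)
  refine ⟨?_, ?_⟩
  · intro hone
    exact hord (ord_eq_zero_of_mem_stalkUnits z hz f ((germOf_eq_one_iff z f).mp hone))
  · intro y hy hyz
    by_contra hne
    rw [eq_genericPoint_of_specializes_of_coheight_eq_one hz hyz hne] at hy
    exact hgen hy

theorem locallyFinite_ord_ne_zero [IsLocallyNoetherian X] (f : X.functionField) (hf : f ≠ 0) :
    LocallyFinite (fun ξ : {ξ : X // Order.coheight ξ = 1 ∧ Scheme.ord f ξ ≠ 0} =>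
      closure ({ξ.1} : Set X)) := by
  intro x
  obtain ⟨W, hW, hxW⟩ := exists_affine_nhd x
  refine ⟨W, W.isOpen.mem_nhds hxW, ?_⟩
  let fu : KUnits X := Units.mk0 f hf
  have hA : IsClosed {y : X | germOf X y fu ≠ 1} :=
    (isOpen_setOf_germOf_eq_one fu).isClosed_compl
  have hfin := finite_maximal_points_inter_affine {y : X | germOf X y fu ≠ 1} hA
    {z : X | Order.coheight z = 1 ∧ Scheme.ord f z ≠ 0}
    (fun z hz => maximal_point_of_ord_ne_zero fu z hz.1 hz.2) W hW
  refine Set.Finite.of_finite_image (f := Subtype.val) (hfin.subset ?_)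
    Subtype.val_injective.injOn
  rintro _ ⟨ξ, hξ, rfl⟩
  refine ⟨ξ.2, ?_⟩
  obtain ⟨y, hy1, hy2⟩ := hξ
  have : ξ.1 ⤳ y := specializes_iff_mem_closure.mpr hy1
  exact this.mem_open W.isOpen hy2

end Groth.Agent.Lib.Helper13.CDivLib
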