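import Mathlib

/-!
# The algebraic closure of `K` in a finitely generated field extension `L/K` is finite over `K`
-/

set_option autoImplicit false
set_option linter.style.haveILetI false
noncomputable section

namespace Groth.Agent.Lib.Helper13.AlgClosureFG

open scoped IntermediateField.algebraAdjoinAdjoin

/-- `K`-linearly independent elements of the relative algebraic closure stay linearly independent
over the purely transcendental subextension `K(s)` -/
theorem linearIndependent_adjoin {K L : Type*} [Field K] [Field L] [Algebra K L]
    (s : Set L) (hs : AlgebraicIndependent K ((↑) : s → L))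
    {ι : Type*} (b : ι → algebraicClosure K L) (hb : LinearIndependent K b) :
    LinearIndependent (IntermediateField.adjoin K s) (fun i => ((b i : algebraicClosure K L) : L)) := by
  classical
  rw [← LinearIndependent.iff_fractionRing (Algebra.adjoin K s) (IntermediateField.adjoin K s)]
  rw [linearIndependent_iff']
  intro u g hsum i hi
  have hg : ∀ j, ∃ p : MvPolynomial s K,
      MvPolynomial.aeval ((↑) : s → L) p = ((g j : Algebra.adjoin K s) : L) := by
    intro j
    have h1 : ((g j : Algebra.adjoin K s) : L) ∈
        (MvPolynomial.aeval (R := K) ((↑) : s → L)).range := by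
      rw [← Algebra.adjoin_eq_range]
      exact (g j).2
    exact h1
  choose p hp using hg
  have hK' : AlgebraicIndependent (algebraicClosure K L) ((↑) : s → L) := hs.algebraicClosure
  let P : MvPolynomial s (algebraicClosure K L) :=
    ∑ j ∈ u, MvPolynomial.C (b j) * MvPolynomial.map (algebraMap K (algebraicClosure K L)) (p j)
  have hP : MvPolynomial.aeval ((↑) : s → L) P = 0 := by
    rw [← hsum]
    simp only [P, map_sum, map_mul, MvPolynomial.aeval_C]
    refine Finset.sum_congr rfl (fun j _ => ?_)
    rw [MvPolynomial.aeval_map_algebraMap, hp j, mul_comm]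
    rfl
  have hP0 : P = 0 := hK' (by rw [hP, map_zero])
  have hcoeff : ∀ m, ∑ j ∈ u, (p j).coeff m • b j = 0 := by
    intro m
    have h2 := congrArg (MvPolynomial.coeff m) hP0
    simp only [P, MvPolynomial.coeff_sum, MvPolynomial.coeff_C_mul, MvPolynomial.coeff_map,
      MvPolynomial.coeff_zero] at h2
    rw [← h2]
    refine Finset.sum_congr rfl (fun j _ => ?_)
    rw [Algebra.smul_def, mul_comm]
  have h3 : ∀ m, (p i).coeff m = 0 := fun m =>
    linearIndependent_iff'.mp hb u (fun j => (p j).coeff m) (hcoeff m) i hi
  have h4 : p i = 0 := MvPolynomial.ext _ _ (fun m => by rw [h3 m, MvPolynomial.coeff_zero])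
  apply Subtype.ext
  rw [← hp i, h4, map_zero]
  rfl

/-- the relative algebraic closure in a finitely generated field extension is finite -/
theorem finite_algebraicClosure (K L : Type*) [Field K] [Field L] [Algebra K L]
    [Algebra.EssFiniteType K L] : Module.Finite K (algebraicClosure K L) := by
  classical
  obtain ⟨s', hs'⟩ := exists_finset_isTranscendenceBasis K L
  obtain ⟨s, hs⟩ : ∃ S : Set L, IsTranscendenceBasis K ((↑) : S → L) := ⟨(s' : Set L), hs'⟩
  have halg : Algebra.IsAlgebraic (IntermediateField.adjoin K s) L := by
    have := hs.isAlgebraic_field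
    rwa [Subtype.range_coe] at this
  haveI : Algebra.EssFiniteType (IntermediateField.adjoin K s) L := .of_comp K _ L
  haveI : Module.Finite (IntermediateField.adjoin K s) L :=
    Algebra.finite_of_essFiniteType_of_isAlgebraic
  have key : ∀ t : Finset (algebraicClosure K L),
      LinearIndependent K (fun i : t => (i : algebraicClosure K L)) →
      t.card ≤ Module.finrank (IntermediateField.adjoin K s) L := by
    intro t ht
    have h1 := linearIndependent_adjoin s hs.1 _ ht
    have h2 := h1.fintype_card_le_finrank
    rwa [Fintype.card_coe] at h2
  have h5 : Module.rank K (algebraicClosure K L) ≤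
      (Module.finrank (IntermediateField.adjoin K s) L : ℕ) := rank_le key
  rw [← Module.rank_lt_aleph0_iff]
  exact lt_of_le_of_lt h5 Cardinal.natCast_lt_aleph0

end Groth.Agent.Lib.Helper13.AlgClosureFG
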