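import Groth.Agent.S9392
import Groth.Agent.S9394
import Groth.Agent.Lib.Helper13.AlgClosureFG

/-!
# A quasi-finite finite type domain extension of an N-2 Noetherian domain is N-2
-/

set_option autoImplicit false
set_option linter.style.haveILetI false
universe u
noncomputable section

namespace Groth.Agent.Lib.Helper13.QuasiFiniteN2

/-- a domain integral over an N-2 domain with finite extension of fraction fields is N-2 -/
theorem isN2_of_integral (P A : Type u) [CommRing P] [IsDomain P] [CommRing A] [IsDomain A]
    [Algebra P A] [Algebra.IsIntegral P A] [FaithfulSMul P A] (hP : CAlg.IsN2 P)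
    [Algebra (FractionRing P) (FractionRing A)] [IsScalarTower P (FractionRing P) (FractionRing A)]
    [Module.Finite (FractionRing P) (FractionRing A)] : CAlg.IsN2 A := by
  intro L _ _ _ _ hfinL
  haveI := hfinL
  letI : Algebra P L := ((algebraMap A L).comp (algebraMap P A)).toAlgebra
  haveI : IsScalarTower P A L := .of_algebraMap_eq (fun _ => rfl)
  letI : Algebra (FractionRing P) L :=
    ((algebraMap (FractionRing A) L).comp (algebraMap (FractionRing P) (FractionRing A))).toAlgebra
  haveI : IsScalarTower (FractionRing P) (FractionRing A) L := .of_algebraMap_eq (fun _ => rfl)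
  haveI : IsScalarTower P (FractionRing P) L := .of_algebraMap_eq (fun x => by
    change algebraMap A L (algebraMap P A x) =
      algebraMap (FractionRing A) L (algebraMap (FractionRing P) (FractionRing A)
        (algebraMap P (FractionRing P) x))
    rw [← IsScalarTower.algebraMap_apply P (FractionRing P) (FractionRing A),
      IsScalarTower.algebraMap_apply P A (FractionRing A),
      ← IsScalarTower.algebraMap_apply A (FractionRing A) L])
  haveI : Module.Finite (FractionRing P) L := .trans (FractionRing A) L
  haveI : Module.Finite P (integralClosure P L) := hP L inferInstance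
  have hPA : ∀ x : L, IsIntegral P x → IsIntegral A x := fun x hx => hx.tower_top
  have hAP : ∀ x : L, IsIntegral A x → IsIntegral P x := fun x hx => isIntegral_trans x hx
  let E : integralClosure P L →ₗ[P] integralClosure A L :=
    { toFun := fun x => ⟨x.1, hPA x.1 x.2⟩
      map_add' := fun _ _ => rfl
      map_smul' := fun _ _ => rfl }
  have hE : Function.Surjective E := fun y => ⟨⟨y.1, hAP y.1 y.2⟩, rfl⟩
  haveI : Module.Finite P (integralClosure A L) := Module.Finite.of_surjective E hE
  exact Module.Finite.of_restrictScalars_finite P A (integralClosure A L)

/-- the fraction field of the integral closure of `R` in a finite type domain `S` is finite over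
the fraction field of `R` -/
theorem finite_fractionRing_integralClosure (R S : Type u) [CommRing R] [IsDomain R] [CommRing S]
    [IsDomain S] [Algebra R S] [FaithfulSMul R S] [Algebra.FiniteType R S]
    [FaithfulSMul R (FractionRing (integralClosure R S))] :
    letI := FractionRing.liftAlgebra R (FractionRing (integralClosure R S))
    Module.Finite (FractionRing R) (FractionRing (integralClosure R S)) := by
  letI := FractionRing.liftAlgebra R (FractionRing (integralClosure R S))
  haveI := FractionRing.isScalarTower_liftAlgebra R (FractionRing (integralClosure R S))
  haveI : FaithfulSMul R (FractionRing S) := by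
    rw [faithfulSMul_iff_algebraMap_injective, IsScalarTower.algebraMap_eq R S (FractionRing S)]
    exact (IsFractionRing.injective S (FractionRing S)).comp
      (FaithfulSMul.algebraMap_injective R S)
  letI := FractionRing.liftAlgebra R (FractionRing S)
  haveI := FractionRing.isScalarTower_liftAlgebra R (FractionRing S)
  haveI : Algebra.EssFiniteType R S := inferInstance
  haveI : Algebra.EssFiniteType S (FractionRing S) :=
    Algebra.EssFiniteType.of_isLocalization _ (nonZeroDivisors S)
  haveI : Algebra.EssFiniteType R (FractionRing S) := Algebra.EssFiniteType.comp R S _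
  haveI : Algebra.EssFiniteType (FractionRing R) (FractionRing S) :=
    Algebra.EssFiniteType.of_comp R _ _
  haveI : Module.Finite (FractionRing R) (algebraicClosure (FractionRing R) (FractionRing S)) :=
    AlgClosureFG.finite_algebraicClosure _ _
  -- the embedding `Frac S' → Frac S`
  have hjinj : Function.Injective ((algebraMap S (FractionRing S)).comp
      (integralClosure R S).val.toRingHom) := by
    rw [RingHom.coe_comp]
    exact (IsFractionRing.injective S (FractionRing S)).comp Subtype.val_injective
  let j : FractionRing (integralClosure R S) →+* FractionRing S := IsFractionRing.lift hjinj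
  have hjK : ∀ c : FractionRing R,
      j (algebraMap (FractionRing R) (FractionRing (integralClosure R S)) c) =
        algebraMap (FractionRing R) (FractionRing S) c := by
    intro c
    have h1 : j.comp (algebraMap (FractionRing R) (FractionRing (integralClosure R S))) =
        algebraMap (FractionRing R) (FractionRing S) := by
      refine IsLocalization.ringHom_ext (nonZeroDivisors R) ?_
      ext r
      simp only [RingHom.comp_apply]
      rw [← IsScalarTower.algebraMap_apply R (FractionRing R),
        ← IsScalarTower.algebraMap_apply R (FractionRing R),
        IsScalarTower.algebraMap_apply R (integralClosure R S)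
          (FractionRing (integralClosure R S))]
      change IsFractionRing.lift hjinj _ = _
      rw [IsFractionRing.lift_algebraMap]
      change algebraMap S (FractionRing S) (algebraMap R S r) = _
      rw [← IsScalarTower.algebraMap_apply]
    exact congrArg (fun f => f c) h1
  have hmem : ∀ z : FractionRing (integralClosure R S),
      j z ∈ algebraicClosure (FractionRing R) (FractionRing S) := by
    intro z
    obtain ⟨a, b, hb, rfl⟩ := IsFractionRing.div_surjective (A := integralClosure R S) z
    have hint : ∀ a : integralClosure R S,
        j (algebraMap _ (FractionRing (integralClosure R S)) a) ∈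
          algebraicClosure (FractionRing R) (FractionRing S) := by
      intro a
      change IsFractionRing.lift hjinj _ ∈ _
      rw [IsFractionRing.lift_algebraMap, mem_algebraicClosure_iff]
      have h1 : IsIntegral R (algebraMap S (FractionRing S) a.1) :=
        a.2.map (IsScalarTower.toAlgHom R S (FractionRing S))
      exact h1.tower_top.isAlgebraic
    rw [map_div₀]
    exact div_mem (hint a) (hint b)
  let φ : FractionRing (integralClosure R S) →ₗ[FractionRing R]
      algebraicClosure (FractionRing R) (FractionRing S) :=
    { toFun := fun z => ⟨j z, hmem z⟩
      map_add' := fun x y => by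
        apply Subtype.ext
        exact map_add j x y
      map_smul' := fun c x => by
        apply Subtype.ext
        change j (c • x) = c • j x
        rw [Algebra.smul_def, Algebra.smul_def, map_mul, hjK] }
  refine Module.Finite.of_injective φ ?_
  intro x y hxy
  exact j.injective (congrArg Subtype.val hxy)

/-- the integral closure localized at a good element is the localization of the big ring -/
theorem isLocalization_away_integralClosure {R S : Type u} [CommRing R] [CommRing S]
    [Algebra R S] (r : S) (hr : IsIntegral R r) (hx : ∀ x, ∃ m, IsIntegral R (r ^ m * x)) :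
    IsLocalization.Away (⟨r, hr⟩ : integralClosure R S) (Localization.Away r) := by
  have hmap : ∀ a : integralClosure R S, algebraMap (integralClosure R S) (Localization.Away r) a =
      algebraMap S (Localization.Away r) a.1 := fun a => rfl
  refine ⟨?_, ?_, ?_⟩
  · rintro ⟨_, n, rfl⟩
    rw [hmap]
    change IsUnit (algebraMap S (Localization.Away r) (r ^ n))
    exact IsLocalization.map_units (Localization.Away r) (⟨r ^ n, n, rfl⟩ : Submonoid.powers r)
  · intro z
    obtain ⟨⟨a, ⟨_, n, rfl⟩⟩, hz⟩ := IsLocalization.surj (Submonoid.powers r) z
    obtain ⟨m, hm⟩ := hx a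
    refine ⟨(⟨r ^ m * a, hm⟩, ⟨(⟨r, hr⟩ : integralClosure R S) ^ (n + m), n + m, rfl⟩), ?_⟩
    rw [hmap, hmap]
    change z * algebraMap S (Localization.Away r) (r ^ (n + m)) =
      algebraMap S (Localization.Away r) (r ^ m * a)
    rw [pow_add, map_mul, ← mul_assoc]
    change z * algebraMap S (Localization.Away r) (r ^ n) = _ at hz
    rw [hz, map_mul, mul_comm]
  · intro a b hab
    rw [hmap, hmap] at hab
    obtain ⟨⟨_, n, rfl⟩, hc⟩ := (IsLocalization.eq_iff_exists (Submonoid.powers r) _).mp hab
    refine ⟨⟨(⟨r, hr⟩ : integralClosure R S) ^ n, n, rfl⟩, ?_⟩
    apply Subtype.ext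
    exact hc

/-- **A quasi-finite finite type domain extension of an N-2 Noetherian domain is N-2.** -/
theorem isN2_of_quasiFinite {R S : Type u} [CommRing R] [IsDomain R] [CommRing S]
    [IsDomain S] [Algebra R S] (hinj : Function.Injective (algebraMap R S))
    [Algebra.FiniteType R S] [Algebra.QuasiFinite R S] (hR : CAlg.IsN2 R) : CAlg.IsN2 S := by
  classical
  haveI : FaithfulSMul R S := (faithfulSMul_iff_algebraMap_injective R S).mpr hinj
  have hinj' : Function.Injective (algebraMap R (integralClosure R S)) := by
    intro x y hxy
    exact hinj (congrArg Subtype.val hxy)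
  haveI : FaithfulSMul R (integralClosure R S) :=
    (faithfulSMul_iff_algebraMap_injective R _).mpr hinj'
  haveI : FaithfulSMul R (FractionRing (integralClosure R S)) := by
    rw [faithfulSMul_iff_algebraMap_injective,
      IsScalarTower.algebraMap_eq R (integralClosure R S) (FractionRing (integralClosure R S)),
      RingHom.coe_comp]
    exact (IsFractionRing.injective (integralClosure R S)
      (FractionRing (integralClosure R S))).comp hinj'
  letI := FractionRing.liftAlgebra R (FractionRing (integralClosure R S))
  haveI := FractionRing.isScalarTower_liftAlgebra R (FractionRing (integralClosure R S))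
  haveI : Module.Finite (FractionRing R) (FractionRing (integralClosure R S)) :=
    finite_fractionRing_integralClosure R S
  have hS' : CAlg.IsN2 (integralClosure R S) := isN2_of_integral R (integralClosure R S) hR
  -- the set of good elements
  let G : Set S := {r | r ≠ 0 ∧ IsIntegral R r ∧ ∀ x, ∃ m, IsIntegral R (r ^ m * x)}
  have hspan : Ideal.span G = ⊤ := by
    by_contra hne
    obtain ⟨p, hpmax, hle⟩ := Ideal.exists_le_maximal _ hne
    haveI : p.IsPrime := hpmax.isPrime
    obtain ⟨r, hrp, hr, hx⟩ := Algebra.zariskisMainProperty_iff.mp
      (Algebra.ZariskisMainProperty.of_finiteType (R := R) p)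
    exact hrp (hle (Ideal.subset_span ⟨fun h0 => hrp (h0 ▸ p.zero_mem), hr, hx⟩))
  obtain ⟨s, hsG, hs⟩ := (Ideal.span_eq_top_iff_finite G).mp hspan
  haveI : ∀ r : s, IsDomain (Localization.Away r.1) := fun r =>
    IsLocalization.isDomain_localization
      (powers_le_nonZeroDivisors_of_noZeroDivisors (hsG r.2).1)
  refine Groth.Agent.S9394.result S (ι := s) (fun r => r.1) ?_
    (fun r => Localization.Away r.1) (fun r => ?_)
  · have h1 : Set.range (fun r : s => (r : S)) = (s : Set S) := Subtype.range_coe
    rw [h1]
    exact hs
  · obtain ⟨hr0, hr, hx⟩ := hsG r.2
    haveI := isLocalization_away_integralClosure r.1 hr hx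
    exact Groth.Agent.S9392.result (integralClosure R S)
      (Submonoid.powers (⟨r.1, hr⟩ : integralClosure R S)) (Localization.Away r.1) hS'

end Groth.Agent.Lib.Helper13.QuasiFiniteN2
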