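import Groth.Agent.Lib.Helper13.Japanese2
import Groth.Agent.S4562

/-!
# Polynomial rings over a field are N-2; finite type domains over a field are N-2
-/

set_option autoImplicit false
universe u
noncomputable section

namespace Groth.Agent.Lib.Helper13.Japanese

open MvPolynomial

/-- polynomial rings over a field are Japanese -/
theorem isN2_mvPolynomial (k : Type u) [Field k] (n : ℕ) :
    CAlg.IsN2 (MvPolynomial (Fin n) k) := by
  apply Groth.Agent.S4562.result
  intro K' _ _ _ _ hfin hpi
  haveI := hfin
  haveI := hpi
  exact finite_integralClosure_of_purelyInseparable k n K'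


open nonZeroDivisors in
/-- a domain finite and torsion-free over an N-2 domain has finite integral closure in any finite
extension of its fraction field -/
theorem finite_integralClosure_of_finite_of_isN2 (P A K L : Type u) [CommRing P] [IsDomain P]
    [CommRing A] [IsDomain A] [Algebra P A] [Module.Finite P A] [FaithfulSMul P A]
    (hP : CAlg.IsN2 P) [Field K] [Field L] [Algebra A K] [IsFractionRing A K] [Algebra K L]
    [FiniteDimensional K L] [Algebra A L] [IsScalarTower A K L] :
    Module.Finite A (integralClosure A L) := by
  letI : Algebra P L := ((algebraMap A L).comp (algebraMap P A)).toAlgebra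
  haveI : IsScalarTower P A L := .of_algebraMap_eq (fun _ => rfl)
  letI : Algebra P K := ((algebraMap A K).comp (algebraMap P A)).toAlgebra
  haveI : IsScalarTower P A K := .of_algebraMap_eq (fun _ => rfl)
  haveI : IsScalarTower P K L := .of_algebraMap_eq (fun x => by
    change algebraMap A L (algebraMap P A x) = algebraMap K L (algebraMap A K (algebraMap P A x))
    rw [← IsScalarTower.algebraMap_apply A K L])
  have hinjK : Function.Injective (algebraMap P K) :=
    (IsFractionRing.injective A K).comp (FaithfulSMul.algebraMap_injective P A)
  letI : Algebra (FractionRing P) K := (IsFractionRing.lift hinjK).toAlgebra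
  haveI : IsScalarTower P (FractionRing P) K :=
    .of_algebraMap_eq (fun x => (IsFractionRing.lift_algebraMap hinjK x).symm)
  letI : Algebra (FractionRing P) L :=
    ((algebraMap K L).comp (algebraMap (FractionRing P) K)).toAlgebra
  haveI : IsScalarTower (FractionRing P) K L := .of_algebraMap_eq (fun _ => rfl)
  haveI : IsScalarTower P (FractionRing P) L := .of_algebraMap_eq (fun x => by
    change algebraMap P L x = algebraMap K L (algebraMap (FractionRing P) K (algebraMap P _ x))
    rw [← IsScalarTower.algebraMap_apply P (FractionRing P) K,
      ← IsScalarTower.algebraMap_apply P K L])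
  haveI : Algebra.IsIntegral P A := Algebra.IsIntegral.of_finite P A
  haveI : Algebra.IsAlgebraic P A := inferInstance
  haveI : IsLocalization (Algebra.algebraMapSubmonoid A P⁰) K := inferInstance
  haveI : Module.Finite (FractionRing P) K := .of_isLocalization P A P⁰
  haveI : Module.Finite (FractionRing P) L := .trans K L
  haveI : Module.Finite P (integralClosure P L) := hP L inferInstance
  have hPA : ∀ x : L, IsIntegral P x → IsIntegral A x := fun x hx => hx.tower_top
  have hAP : ∀ x : L, IsIntegral A x → IsIntegral P x := fun x hx => isIntegral_trans x hx
  let E : integralClosure P L →ₗ[P] integralClosure A L :=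
    { toFun := fun x => ⟨x.1, hPA x.1 x.2⟩
      map_add' := fun _ _ => rfl
      map_smul' := fun _ _ => rfl }
  have hE : Function.Surjective E := fun y => ⟨⟨y.1, hAP y.1 y.2⟩, rfl⟩
  haveI : Module.Finite P (integralClosure A L) := Module.Finite.of_surjective E hE
  exact Module.Finite.of_restrictScalars_finite P A (integralClosure A L)

/-- **Fields are universally Japanese**: the integral closure of a domain of finite type over
a field in a finite extension of its fraction field is a finite module. -/
theorem finite_integralClosure_of_finiteType (k A K L : Type u) [Field k] [CommRing A]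
    [IsDomain A] [Algebra k A] [Algebra.FiniteType k A] [Field K] [Field L] [Algebra A K]
    [IsFractionRing A K] [Algebra K L] [FiniteDimensional K L] [Algebra A L]
    [IsScalarTower A K L] : Module.Finite A (integralClosure A L) := by
  obtain ⟨s, g, hg, hfin⟩ := exists_finite_inj_algHom_of_fg k A
  letI : Algebra (MvPolynomial (Fin s) k) A := g.toRingHom.toAlgebra
  haveI : Module.Finite (MvPolynomial (Fin s) k) A := hfin
  haveI : FaithfulSMul (MvPolynomial (Fin s) k) A :=
    (faithfulSMul_iff_algebraMap_injective _ _).mpr hg
  exact finite_integralClosure_of_finite_of_isN2 (MvPolynomial (Fin s) k) A K L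
    (isN2_mvPolynomial k s)

end Groth.Agent.Lib.Helper13.Japanese
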