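import Groth.Agent.Lib.Helper13.AlgClosureFG
import Groth.Agent.Lib.Helper13.Japanese3

/-!
# Integral closure of a Nagata ring in a reduced algebra of finite type is finite
-/

set_option autoImplicit false
set_option linter.style.haveILetI false
universe u
noncomputable section

namespace Groth.Agent.Lib.Helper13.NagataFT

/-- domain case: an N-2 Noetherian domain `R` injecting into a domain `B` of finite type -/
theorem finite_integralClosure_of_domain (R B : Type u) [CommRing R] [IsDomain R]
    [IsNoetherianRing R] (hR : CAlg.IsN2 R) [CommRing B] [IsDomain B] [Algebra R B]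
    [Algebra.FiniteType R B] (hinj : Function.Injective (algebraMap R B)) :
    Module.Finite R (integralClosure R B) := by
  haveI : FaithfulSMul R (FractionRing B) := by
    rw [faithfulSMul_iff_algebraMap_injective, IsScalarTower.algebraMap_eq R B (FractionRing B)]
    exact (IsFractionRing.injective B (FractionRing B)).comp hinj
  letI := FractionRing.liftAlgebra R (FractionRing B)
  haveI := FractionRing.isScalarTower_liftAlgebra R (FractionRing B)
  haveI : Algebra.EssFiniteType R B := inferInstance
  haveI : Algebra.EssFiniteType B (FractionRing B) :=
    Algebra.EssFiniteType.of_isLocalization _ (nonZeroDivisors B)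
  haveI : Algebra.EssFiniteType R (FractionRing B) := Algebra.EssFiniteType.comp R B _
  haveI : Algebra.EssFiniteType (FractionRing R) (FractionRing B) :=
    Algebra.EssFiniteType.of_comp R _ _
  haveI : Module.Finite (FractionRing R) (algebraicClosure (FractionRing R) (FractionRing B)) :=
    AlgClosureFG.finite_algebraicClosure _ _
  have hfin : Module.Finite R
      (integralClosure R (algebraicClosure (FractionRing R) (FractionRing B))) :=
    hR (algebraicClosure (FractionRing R) (FractionRing B)) inferInstance
  haveI : IsNoetherian R
      (integralClosure R (algebraicClosure (FractionRing R) (FractionRing B))) :=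
    isNoetherian_of_isNoetherianRing_of_finite R _
  have hmem : ∀ x : integralClosure R B,
      algebraMap B (FractionRing B) x.1 ∈ algebraicClosure (FractionRing R) (FractionRing B) := by
    intro x
    rw [mem_algebraicClosure_iff]
    have h1 : IsIntegral R (algebraMap B (FractionRing B) x.1) := x.2.map
      (IsScalarTower.toAlgHom R B (FractionRing B))
    exact h1.tower_top.isAlgebraic
  haveI : IsScalarTower R (algebraicClosure (FractionRing R) (FractionRing B)) (FractionRing B) :=
    .of_algebraMap_eq (fun r => rfl)
  have hint : ∀ x : integralClosure R B, IsIntegral R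
      (⟨algebraMap B (FractionRing B) x.1, hmem x⟩ :
        algebraicClosure (FractionRing R) (FractionRing B)) := by
    intro x
    have h1 : IsIntegral R (algebraMap B (FractionRing B) x.1) := x.2.map
      (IsScalarTower.toAlgHom R B (FractionRing B))
    rw [← isIntegral_algebraMap_iff (B := FractionRing B)
      (algebraMap (algebraicClosure (FractionRing R) (FractionRing B)) (FractionRing B)).injective]
    exact h1
  let φ : integralClosure R B →ₗ[R]
      integralClosure R (algebraicClosure (FractionRing R) (FractionRing B)) :=
    { toFun := fun x => ⟨⟨algebraMap B (FractionRing B) x.1, hmem x⟩, hint x⟩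
      map_add' := fun x y => by
        apply Subtype.ext; apply Subtype.ext
        exact map_add (algebraMap B (FractionRing B)) x.1 y.1
      map_smul' := fun r x => by
        apply Subtype.ext; apply Subtype.ext
        change algebraMap B (FractionRing B) (r • x.1) = r • algebraMap B (FractionRing B) x.1
        rw [Algebra.smul_def, Algebra.smul_def, map_mul, ← IsScalarTower.algebraMap_apply] }
  refine Module.Finite.of_injective φ ?_
  intro x y hxy
  apply Subtype.ext
  have h1 := congrArg (fun z : integralClosure R
    (algebraicClosure (FractionRing R) (FractionRing B)) =>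
    ((z : algebraicClosure (FractionRing R) (FractionRing B)) : FractionRing B)) hxy
  exact IsFractionRing.injective B (FractionRing B) h1


/-- transfer of finiteness of the integral closure along a surjection of base rings -/
theorem finite_integralClosure_of_surjective (R R' B : Type*) [CommRing R] [CommRing R']
    [CommRing B] [Algebra R R'] [Algebra R B] [Algebra R' B] [IsScalarTower R R' B]
    (hsurj : Function.Surjective (algebraMap R R'))
    (h : Module.Finite R' (integralClosure R' B)) : Module.Finite R (integralClosure R B) := by
  haveI : Algebra.IsIntegral R R' := Algebra.isIntegral_of_surjective hsurj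
  haveI : Module.Finite R R' := Module.Finite.of_surjective (Algebra.linearMap R R') hsurj
  haveI : Module.Finite R (integralClosure R' B) := Module.Finite.trans R' _
  let E : integralClosure R' B →ₗ[R] integralClosure R B :=
    { toFun := fun x => ⟨x.1, isIntegral_trans x.1 x.2⟩
      map_add' := fun _ _ => rfl
      map_smul' := fun _ _ => rfl }
  refine Module.Finite.of_surjective E (fun y => ⟨⟨y.1, y.2.tower_top⟩, rfl⟩)

/-- **Integral closure of a Nagata ring in a reduced algebra of finite type is finite.** -/
theorem finite_integralClosure_of_isNagata (R : Type u) [CommRing R] (hR : CAlg.IsNagata R)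
    (S : Type u) [CommRing S] [IsReduced S] [Algebra R S] [Algebra.FiniteType R S] :
    Module.Finite R (integralClosure R S) := by
  classical
  haveI : IsNoetherianRing R := hR.1
  haveI : IsNoetherianRing S := Algebra.FiniteType.isNoetherianRing R S
  have hfinite : (minimalPrimes S).Finite := minimalPrimes.finite_of_isNoetherianRing S
  haveI : Finite (minimalPrimes S) := hfinite
  -- each quotient by a minimal prime
  have hq : ∀ q : minimalPrimes S, Module.Finite R (integralClosure R (S ⧸ q.1)) := by
    rintro ⟨q, hqmin⟩
    haveI : q.IsPrime := hqmin.1.1
    haveI : (q.under R).IsPrime := inferInstance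
    haveI : Algebra.FiniteType R (S ⧸ q) :=
      Algebra.FiniteType.of_surjective (Ideal.Quotient.mkₐ R q) Ideal.Quotient.mk_surjective
    haveI : Algebra.FiniteType (R ⧸ q.under R) (S ⧸ q) :=
      Algebra.FiniteType.of_restrictScalars_finiteType R _ _
    have hN2 : CAlg.IsN2 (R ⧸ q.under R) := hR.2 (q.under R)
    have h1 : Module.Finite (R ⧸ q.under R) (integralClosure (R ⧸ q.under R) (S ⧸ q)) :=
      finite_integralClosure_of_domain (R ⧸ q.under R) (S ⧸ q) hN2
        (FaithfulSMul.algebraMap_injective _ _)
    exact finite_integralClosure_of_surjective R (R ⧸ q.under R) (S ⧸ q)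
      Ideal.Quotient.mk_surjective h1
  haveI := hq
  haveI : Module.Finite R (∀ q : minimalPrimes S, integralClosure R (S ⧸ q.1)) := Module.Finite.pi
  haveI : IsNoetherian R (∀ q : minimalPrimes S, integralClosure R (S ⧸ q.1)) :=
    isNoetherian_of_isNoetherianRing_of_finite R _
  let Ψ : integralClosure R S →ₗ[R] (∀ q : minimalPrimes S, integralClosure R (S ⧸ q.1)) :=
    { toFun := fun x q => ⟨Ideal.Quotient.mk q.1 x.1, x.2.map (Ideal.Quotient.mkₐ R q.1)⟩
      map_add' := fun _ _ => rfl
      map_smul' := fun _ _ => rfl }
  refine Module.Finite.of_injective Ψ ?_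
  rw [← LinearMap.ker_eq_bot, LinearMap.ker_eq_bot']
  intro x hx
  apply Subtype.ext
  have h2 : x.1 ∈ sInf (minimalPrimes S) := by
    rw [Submodule.mem_sInf]
    intro q hqmin
    have h3 := congrFun hx ⟨q, hqmin⟩
    have h4 : Ideal.Quotient.mk q x.1 = 0 := congrArg Subtype.val h3
    exact Ideal.Quotient.eq_zero_iff_mem.mp h4
  have h5 : sInf (minimalPrimes S) = ⊥ := by
    change sInf ((⊥ : Ideal S).minimalPrimes) = ⊥
    rw [Ideal.sInf_minimalPrimes]
    exact nilradical_eq_zero S
  rw [h5] at h2
  exact h2

end Groth.Agent.Lib.Helper13.NagataFT
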