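import Groth.Agent.Lib.Helper13.ThickAffineK

/-!
# Thickenings: a thickening of an affine scheme is affine (general case, Stacks 06AD)
-/

universe u

open CategoryTheory AlgebraicGeometry TopologicalSpace Opposite

namespace Groth.Agent.Lib.Helper13.ThickAffine

variable {X X' : Scheme.{u}} (t : X ⟶ X') [IsClosedImmersion t]

theorem isNilpotent_ker_congr {Z : Scheme.{u}} (τ : Z ⟶ X') {D₁ D₂ : X'.Opens} (e : D₁ = D₂)
    (h : IsNilpotent (RingHom.ker (pb' τ (le_refl (τ ⁻¹ᵁ D₁))))) :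
    IsNilpotent (RingHom.ker (pb' τ (le_refl (τ ⁻¹ᵁ D₂)))) := by
  subst e
  exact h

theorem isNilpotent_map_of_isNilpotent {R S : Type*} [CommRing R] [CommRing S] (φ : R →+* S)
    {I : Ideal R} (hI : IsNilpotent I) : IsNilpotent (I.map φ) := by
  obtain ⟨n, hn⟩ := hI
  refine ⟨n, ?_⟩
  rw [← Ideal.map_pow, hn]
  exact Ideal.map_bot

theorem isNilpotent_of_le {R : Type*} [CommRing R] {I J : Ideal R} (h : I ≤ J)
    (hJ : IsNilpotent J) : IsNilpotent I := by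
  obtain ⟨n, hn⟩ := hJ
  refine ⟨n, ?_⟩
  have := Ideal.pow_right_mono h n
  rw [hn] at this
  exact le_bot_iff.1 this

section data

variable (ht : Function.Surjective t)
include ht

/-- The data attached to a section `a` of `O_X` over `t⁻¹ W'`: lifts over `U'` and `V'` and
elements of the kernel extending the difference. -/
theorem exists_data {W' U' V' : X'.Opens} (hU' : IsAffineOpen U') (hV' : IsAffineOpen V')
    (hUW : U' ≤ W') (hVW : V' ≤ W')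
    (bg : Γ(X', U')) (cf : Γ(X', V')) (eU : U' ⊓ V' = X'.basicOpen bg)
    (eV : U' ⊓ V' = X'.basicOpen cf) (a : Γ(X, t ⁻¹ᵁ W')) :
    ∃ (b : Γ(X', U')) (c : Γ(X', V')) (k : Γ(X', U')) (l : Γ(X', V')) (n m : ℕ),
      pb t (le_refl (t ⁻¹ᵁ U')) b = res X (t.preimage_mono hUW) a ∧
      pb t (le_refl (t ⁻¹ᵁ V')) c = res X (t.preimage_mono hVW) a ∧
      pb t (le_refl (t ⁻¹ᵁ U')) k = 0 ∧ pb t (le_refl (t ⁻¹ᵁ V')) l = 0 ∧
      res X' inf_le_left k = (res X' inf_le_left bg) ^ n *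
        (res X' inf_le_left b - res X' inf_le_right c) ∧
      res X' inf_le_right l = (res X' inf_le_right cf) ^ m *
        (res X' inf_le_left b - res X' inf_le_right c) := by
  have hUWX : t ⁻¹ᵁ U' ≤ t ⁻¹ᵁ W' := t.preimage_mono hUW
  have hVWX : t ⁻¹ᵁ V' ≤ t ⁻¹ᵁ W' := t.preimage_mono hVW
  obtain ⟨b, hb⟩ := pb_surjective t hU' rfl (res X hUWX a)
  obtain ⟨c, hc⟩ := pb_surjective t hV' rfl (res X hVWX a)
  have hδ : pb t (le_refl (t ⁻¹ᵁ (U' ⊓ V'))) (res X' inf_le_left b - res X' inf_le_right c) = 0 := by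
    rw [map_sub, pb_res, pb_res,
      ← res_pb t (le_refl (t ⁻¹ᵁ U')) (t.preimage_mono inf_le_left), hb, res_res,
      ← res_pb t (le_refl (t ⁻¹ᵁ V')) (t.preimage_mono inf_le_right), hc, res_res, sub_self]
  obtain ⟨n, k, hk, hk'⟩ := exists_lift_ker t hU' bg eU inf_le_left _ hδ
  obtain ⟨m, l, hl, hl'⟩ := exists_lift_ker t hV' cf eV inf_le_right _ hδ
  exact ⟨b, c, k, l, n, m, hb, hc, hk, hl, hk', hl'⟩

end data


section KEx

variable (ht : Function.Surjective t)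
include ht

/-- Existence of a sub-ideal sheaf of `ker t`, nilpotent over `U' ∩ V'`, containing the given
differences. -/
theorem exists_idealSheaf [QuasiSeparatedSpace X'] {U' V' : X'.Opens} (hU' : IsAffineOpen U')
    (hV' : IsAffineOpen V') (bg : Γ(X', U')) (cf : Γ(X', V')) (eU : U' ⊓ V' = X'.basicOpen bg)
    (eV : U' ⊓ V' = X'.basicOpen cf) (hUV : IsAffineOpen (U' ⊓ V'))
    (SU : Finset Γ(X', U')) (SV : Finset Γ(X', V'))
    (hSU : ∀ k ∈ SU, pb t (le_refl (t ⁻¹ᵁ U')) k = 0)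
    (hSV : ∀ l ∈ SV, pb t (le_refl (t ⁻¹ᵁ V')) l = 0) :
    ∃ K : X'.IdealSheafData, K ≤ t.ker ∧ IsNilpotent (K.ideal ⟨U' ⊓ V', hUV⟩) ∧
      ∀ δ : Γ(X', U' ⊓ V'), pb t (le_refl (t ⁻¹ᵁ (U' ⊓ V'))) δ = 0 →
        (∃ k ∈ SU, ∃ n : ℕ, res X' inf_le_left k = (res X' inf_le_left bg) ^ n * δ) →
        (∃ l ∈ SV, ∃ m : ℕ, res X' inf_le_right l = (res X' inf_le_right cf) ^ m * δ) →
        δ ∈ K.ideal ⟨U' ⊓ V', hUV⟩ := by
  classical
  set 𝔨U : Ideal Γ(X', U') := Ideal.span (SU : Set Γ(X', U')) with h𝔨Udef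
  set 𝔨V : Ideal Γ(X', V') := Ideal.span (SV : Set Γ(X', V')) with h𝔨Vdef
  have h𝔨U : IsNilpotent 𝔨U := by
    apply (Ideal.FG.isNilpotent_iff_le_nilradical ⟨SU, rfl⟩).2
    rw [Ideal.span_le]
    intro k hk
    exact isNilpotent_of_pb_eq_zero t ht hU'.isCompact k (hSU k hk)
  have hqc₁ : QuasiCompact (quotHom hU' 𝔨U) := inferInstance
  have hqc₂ : QuasiCompact (quotHom hV' 𝔨V) := inferInstance
  refine ⟨t.ker ⊓ (quotHom hU' 𝔨U).ker ⊓ (quotHom hV' 𝔨V).ker, inf_le_left.trans inf_le_left,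
    ?_, ?_⟩
  · -- nilpotency
    have hle : (t.ker ⊓ (quotHom hU' 𝔨U).ker ⊓ (quotHom hV' 𝔨V).ker).ideal ⟨U' ⊓ V', hUV⟩ ≤
        (quotHom hU' 𝔨U).ker.ideal ⟨U' ⊓ V', hUV⟩ :=
      (Scheme.IdealSheafData.le_def.1 (inf_le_left.trans inf_le_right)) _
    refine isNilpotent_of_le hle ?_
    have aux : ∀ (D : X'.Opens) (hD : IsAffineOpen D), D = X'.basicOpen bg →
        IsNilpotent ((quotHom hU' 𝔨U).ker.ideal ⟨D, hD⟩) := by
      intro D hD e
      subst e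
      have h1 := (quotHom hU' 𝔨U).ker.map_ideal_basicOpen ⟨U', hU'⟩ bg
      have h2 : (quotHom hU' 𝔨U).ker.ideal (X'.affineBasicOpen (U := ⟨U', hU'⟩) bg) =
          (quotHom hU' 𝔨U).ker.ideal ⟨X'.basicOpen bg, hD⟩ := rfl
      rw [← h2, ← h1]
      apply isNilpotent_map_of_isNilpotent
      refine isNilpotent_of_le ?_ h𝔨U
      intro s hs
      exact (pb'_quotHom_eq_zero_iff hU' 𝔨U s).1 ((mem_ker_ideal_iff _ hU' s).1 hs)
    exact aux _ hUV eU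
  · intro δ hδ ⟨k, hk, n, hkn⟩ ⟨l, hl, m, hlm⟩
    refine ⟨⟨?_, ?_⟩, ?_⟩
    · exact (mem_ker_ideal_iff t hUV δ).2 hδ
    · apply (mem_ker_ideal_iff _ hUV δ).2
      refine pb'_eq_zero_of_basicOpen _ bg eU inf_le_left δ k n ?_ hkn
      exact (pb'_quotHom_eq_zero_iff hU' 𝔨U k).2 (Ideal.subset_span hk)
    · apply (mem_ker_ideal_iff _ hUV δ).2
      refine pb'_eq_zero_of_basicOpen _ cf eV inf_le_right δ l m ?_ hlm
      exact (pb'_quotHom_eq_zero_iff hV' 𝔨V l).2 (Ideal.subset_span hl)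

end KEx


theorem isUnit_of_isUnit_res_of_eq (X : Scheme.{u}) {U D : X.Opens} (h : D ≤ U) (e : D = U)
    (s : Γ(X, U)) (hs : IsUnit (res X h s)) : IsUnit s := by
  subst e
  rwa [res_self] at hs

section SurjK

variable (ht : Function.Surjective t)
include ht

theorem exists_lift_of_idealSheaf {W' U' V' : X'.Opens} (hU' : IsAffineOpen U')
    (hV' : IsAffineOpen V') (hUW : U' ≤ W') (hVW : V' ≤ W') (hcov : W' ≤ U' ⊔ V')
    (f g x y a₀ : Γ(X, t ⁻¹ᵁ W')) (hf : t ⁻¹ᵁ U' = X.basicOpen f) (hg : t ⁻¹ᵁ V' = X.basicOpen g)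
    (hxy : x * f + y * g = 1) (hUV : IsAffineOpen (U' ⊓ V'))
    (K : X'.IdealSheafData) (hK : K ≤ t.ker) (hKnil : IsNilpotent (K.ideal ⟨U' ⊓ V', hUV⟩))
    (b : Γ(X, t ⁻¹ᵁ W') → Γ(X', U')) (c : Γ(X, t ⁻¹ᵁ W') → Γ(X', V'))
    (hb : ∀ a, pb t (le_refl (t ⁻¹ᵁ U')) (b a) = res X (t.preimage_mono hUW) a)
    (hc : ∀ a, pb t (le_refl (t ⁻¹ᵁ V')) (c a) = res X (t.preimage_mono hVW) a)
    (hδ : ∀ a, a = f ∨ a = g ∨ a = x ∨ a = y ∨ a = a₀ →
      res X' inf_le_left (b a) - res X' inf_le_right (c a) ∈ K.ideal ⟨U' ⊓ V', hUV⟩) :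
    ∃ a' : Γ(X', W'), pb t (le_refl (t ⁻¹ᵁ W')) a' = a₀ := by
  obtain rfl : W' = U' ⊔ V' := le_antisymm hcov (sup_le hUW hVW)
  -- the intermediate closed subscheme
  obtain ⟨Z, τ, hτci, hτker⟩ : ∃ (Z : Scheme.{u}) (τ : Z ⟶ X') (_ : IsClosedImmersion τ),
      τ.ker = K := ⟨K.subscheme, K.subschemeι, inferInstance, K.ker_subschemeι⟩
  have hτsurj : Function.Surjective τ := by
    intro x'
    have h1 : x' ∈ Set.range τ := by
      have h2 : Set.range τ = closure (Set.range τ) := τ.isClosedEmbedding.isClosed_range.closure_eq.symm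
      rw [h2, ← Scheme.Hom.support_ker, hτker]
      obtain ⟨x₀, rfl⟩ := ht x'
      exact (Scheme.IdealSheafData.support_antitone hK) (t.range_subset_ker_support ⟨x₀, rfl⟩)
    exact h1
  obtain ⟨σ, hστ⟩ : ∃ σ : X ⟶ Z, σ ≫ τ = t :=
    ⟨IsClosedImmersion.lift τ t (hτker ▸ hK), IsClosedImmersion.lift_fac _ _ _⟩
  have hσci : IsClosedImmersion σ := by
    have : IsClosedImmersion (σ ≫ τ) := hστ ▸ inferInstance
    exact IsClosedImmersion.of_comp σ τ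
  have hσsurj : Function.Surjective σ := by
    intro z
    obtain ⟨x₀, hx₀⟩ := ht (τ z)
    refine ⟨x₀, τ.isClosedEmbedding.injective ?_⟩
    rw [← hx₀, ← hστ]
    rfl
  have hpre : ∀ O' : X'.Opens, σ ⁻¹ᵁ (τ ⁻¹ᵁ O') = t ⁻¹ᵁ O' := by
    intro O'
    rw [← hστ]
    rfl
  have hle : ∀ O' : X'.Opens, t ⁻¹ᵁ O' ≤ σ ⁻¹ᵁ (τ ⁻¹ᵁ O') := fun O' => le_of_eq (hpre O').symm
  -- kernel of τ over U' ∩ V'
  have hkerτ : RingHom.ker (pb' τ (le_refl (τ ⁻¹ᵁ (U' ⊓ V')))) = K.ideal ⟨U' ⊓ V', hUV⟩ := by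
    have h1 : τ.ker.ideal ⟨U' ⊓ V', hUV⟩ = RingHom.ker (τ.app (U' ⊓ V')).hom :=
      Scheme.Hom.ker_apply τ ⟨U' ⊓ V', hUV⟩
    rw [hτker] at h1
    rw [h1]
    change RingHom.ker (τ.appLE (U' ⊓ V') (τ ⁻¹ᵁ (U' ⊓ V')) le_rfl).hom = _
    rw [Scheme.Hom.appLE_eq_app]
  -- gluing in Z
  have glue : ∀ a, a = f ∨ a = g ∨ a = x ∨ a = y ∨ a = a₀ →
      ∃ a'' : Γ(Z, τ ⁻¹ᵁ (U' ⊔ V')), pb' σ (hle (U' ⊔ V')) a'' = a := by
    intro a ha
    have h0 : pb' τ (le_refl (τ ⁻¹ᵁ (U' ⊓ V')))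
        (res X' inf_le_left (b a) - res X' inf_le_right (c a)) = 0 := by
      have := hδ a ha
      rw [← hkerτ] at this
      exact this
    obtain ⟨a'', h1, h2⟩ := exists_glue₂ Z (τ ⁻¹ᵁ U') (τ ⁻¹ᵁ V')
      (pb' τ (le_refl (τ ⁻¹ᵁ U')) (b a)) (pb' τ (le_refl (τ ⁻¹ᵁ V')) (c a)) (by
        rw [res_pb', res_pb']
        rw [map_sub, pb'_res, pb'_res, sub_eq_zero] at h0
        exact h0)
    refine ⟨a'', ?_⟩
    refine eq_of_res₂ X (t.preimage_mono hUW) (t.preimage_mono hVW) (le_refl _) _ _ ?_ ?_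
    · rw [res_pb', ← hb a, ← pb'_res σ (τ.preimage_mono hUW) (hle U') a'']
      have h1' : res Z (τ.preimage_mono hUW) a'' = pb' τ (le_refl (τ ⁻¹ᵁ U')) (b a) := h1
      rw [h1', pb'_comp]
      exact (pb'_congr hστ _ _)
    · rw [res_pb', ← hc a, ← pb'_res σ (τ.preimage_mono hVW) (hle V') a'']
      have h2' : res Z (τ.preimage_mono hVW) a'' = pb' τ (le_refl (τ ⁻¹ᵁ V')) (c a) := h2
      rw [h2', pb'_comp]
      exact (pb'_congr hστ _ _)
  obtain ⟨f'', hf''⟩ := glue f (Or.inl rfl)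
  obtain ⟨g'', hg''⟩ := glue g (Or.inr (Or.inl rfl))
  obtain ⟨x'', hx''⟩ := glue x (Or.inr (Or.inr (Or.inl rfl)))
  obtain ⟨y'', hy''⟩ := glue y (Or.inr (Or.inr (Or.inr (Or.inl rfl))))
  obtain ⟨a₀'', ha₀''⟩ := glue a₀ (Or.inr (Or.inr (Or.inr (Or.inr rfl))))
  -- basic opens in Z
  have hbo : ∀ (O' : X'.Opens) (s'' : Γ(Z, τ ⁻¹ᵁ (U' ⊔ V'))) (s : Γ(X, t ⁻¹ᵁ (U' ⊔ V'))),
      pb' σ (hle (U' ⊔ V')) s'' = s → t ⁻¹ᵁ O' = X.basicOpen s → τ ⁻¹ᵁ O' = Z.basicOpen s'' := by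
    intro O' s'' s hs hO'
    apply opens_ext σ hσsurj
    rw [hpre, hO', ← hs]
    have h1 : X.basicOpen (pb' σ (hle (U' ⊔ V')) s'') =
        t ⁻¹ᵁ (U' ⊔ V') ⊓ σ ⁻¹ᵁ (Z.basicOpen s'') := Scheme.basicOpen_appLE σ _ _ _ s''
    rw [h1]
    apply inf_eq_right.2
    rw [← hpre]
    exact σ.preimage_mono (Z.basicOpen_le s'')
  have hunit : IsUnit (x'' * f'' + y'' * g'') := by
    apply isUnit_of_isUnit_pb σ hσsurj
    apply isUnit_of_isUnit_res_of_eq X (hle (U' ⊔ V')) (hpre (U' ⊔ V')).symm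
    rw [res_pb']
    have : pb' σ (hle (U' ⊔ V')) (x'' * f'' + y'' * g'') = 1 := by
      rw [map_add, map_mul, map_mul, hf'', hg'', hx'', hy'', hxy]
    rw [this]
    exact isUnit_one
  have hspan : Ideal.span {f'', g''} = ⊤ := by
    apply Ideal.eq_top_of_isUnit_mem _ _ hunit
    exact Ideal.mem_span_pair.2 ⟨x'', y'', rfl⟩
  have hsurjτ := pb_surjective_of_two τ hτsurj hU' hV' hUW hVW hcov f'' g''
    (hbo U' f'' f hf'' hf) (hbo V' g'' g hg'' hg) hspan (by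
      change IsNilpotent (RingHom.ker (pb' τ (le_refl (τ ⁻¹ᵁ (U' ⊓ V')))))
      rw [hkerτ]
      exact hKnil)
  obtain ⟨a', ha'⟩ := hsurjτ a₀''
  refine ⟨a', ?_⟩
  have h1 : pb' σ (hle (U' ⊔ V')) (pb' τ (le_refl (τ ⁻¹ᵁ (U' ⊔ V'))) a') = a₀ := by
    have ha'' : pb' τ (le_refl (τ ⁻¹ᵁ (U' ⊔ V'))) a' = a₀'' := ha'
    rw [ha'', ha₀'']
  rw [pb'_comp] at h1
  rw [← h1]
  exact (pb'_congr hστ.symm _ _)

end SurjK

section Main

variable (ht : Function.Surjective t)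
include ht

theorem surj2_of_quasiSeparated [QuasiSeparatedSpace X'] : Surj2 t ⊤ := by
  intro W' U' V' _ hU' hV' hUW hVW hcov _ f g hf hg hfg a₀
  classical
  obtain ⟨x, y, hxy⟩ := Ideal.mem_span_pair.1
    (hfg ▸ Submodule.mem_top : (1 : Γ(X, t ⁻¹ᵁ W')) ∈ Ideal.span {f, g})
  have hUWX : t ⁻¹ᵁ U' ≤ t ⁻¹ᵁ W' := t.preimage_mono hUW
  have hVWX : t ⁻¹ᵁ V' ≤ t ⁻¹ᵁ W' := t.preimage_mono hVW
  obtain ⟨bg, hbg⟩ := pb_surjective t hU' rfl (res X hUWX g)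
  obtain ⟨cf, hcf⟩ := pb_surjective t hV' rfl (res X hVWX f)
  have eU : U' ⊓ V' = X'.basicOpen bg := basicOpen_lift_eq t ht hUW g hg bg hbg
  have eV : U' ⊓ V' = X'.basicOpen cf := by
    rw [inf_comm]
    exact basicOpen_lift_eq t ht hVW f hf cf hcf
  have hUV : IsAffineOpen (U' ⊓ V') := by
    rw [eU]
    exact hU'.basicOpen bg
  choose b c k l n m hb hc hk hl hk' hl' using exists_data t ht hU' hV' hUW hVW bg cf eU eV
  let L : Finset Γ(X, t ⁻¹ᵁ W') := {f, g, x, y, a₀}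
  obtain ⟨K, hK, hKnil, hKmem⟩ := exists_idealSheaf t ht hU' hV' bg cf eU eV hUV
    (L.image k) (L.image l)
    (by
      intro k' hk'
      obtain ⟨a, _, rfl⟩ := Finset.mem_image.1 hk'
      exact hk a)
    (by
      intro l' hl'
      obtain ⟨a, _, rfl⟩ := Finset.mem_image.1 hl'
      exact hl a)
  apply exists_lift_of_idealSheaf t ht hU' hV' hUW hVW hcov f g x y a₀ hf hg hxy hUV K hK hKnil
    b c hb hc
  intro a ha
  have haL : a ∈ L := by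
    simp only [L, Finset.mem_insert, Finset.mem_singleton]
    exact ha
  apply hKmem
  · rw [map_sub, pb_res, pb_res,
      ← res_pb t (le_refl (t ⁻¹ᵁ U')) (t.preimage_mono inf_le_left), hb, res_res,
      ← res_pb t (le_refl (t ⁻¹ᵁ V')) (t.preimage_mono inf_le_right), hc, res_res, sub_self]
  · exact ⟨k a, Finset.mem_image_of_mem k haL, n a, hk' a⟩
  · exact ⟨l a, Finset.mem_image_of_mem l haL, m a, hl' a⟩

/-- **A thickening of an affine scheme is affine** (Stacks 06AD): if `t : X ⟶ X'` is a surjective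
closed immersion and `X` is affine, then `X'` is affine. -/
theorem isAffine_of_isAffine [IsAffine X] : IsAffine X' := by
  have e : X ≃ₜ X' := t.isClosedEmbedding.isEmbedding.toHomeomorphOfSurjective ht
  have : QuasiSeparatedSpace X' := (quasiSeparatedSpace_congr e).1 inferInstance
  have h := isAffineOpen_of_surj2 t ht ⊤ (isAffineOpen_top X) (surj2_of_quasiSeparated t ht)
  have h2 : IsAffine (⊤ : X'.Opens).toScheme := h
  exact .of_isIso X'.topIso.inv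

end Main

/-- Opens version: if `t : X ⟶ X'` is a surjective closed immersion and `t⁻¹ W'` is affine, then `W'`
is affine. -/
theorem isAffineOpen_of_isAffineOpen_preimage (ht : Function.Surjective t) (W' : X'.Opens)
    (hW : IsAffineOpen (t ⁻¹ᵁ W')) : IsAffineOpen W' := by
  have h1 : IsAffine (t ⁻¹ᵁ W').toScheme := hW
  have hs : Function.Surjective (t ∣_ W') := by
    rintro ⟨x', hx'⟩
    obtain ⟨x, rfl⟩ := ht x'
    exact ⟨⟨x, hx'⟩, Subtype.ext (morphismRestrict_base_coe t W' ⟨x, hx'⟩)⟩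
  exact isAffine_of_isAffine (t ∣_ W') hs

end Groth.Agent.Lib.Helper13.ThickAffine
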