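import Mathlib

/-!
# The normal locus of a domain with finite integral closure contains a nonempty basic open
-/

set_option autoImplicit false
set_option linter.style.haveILetI false
universe u
noncomputable section

namespace Groth.Agent.Lib.Helper13.NormalLocus

open nonZeroDivisors

/-- a common denominator for the integral closure, when it is a finite module -/
theorem exists_common_denominator (A K : Type*) [CommRing A] [IsDomain A] [Field K] [Algebra A K]
    [IsFractionRing A K] (hfin : Module.Finite A (integralClosure A K)) :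
    ∃ f : A, f ≠ 0 ∧ ∀ c : K, IsIntegral A c → ∃ a : A, algebraMap A K a = algebraMap A K f * c := by
  classical
  obtain ⟨S, hS⟩ := hfin.fg_top
  obtain ⟨b, hb⟩ := IsLocalization.exist_integer_multiples_of_finset A⁰
    (S.image (fun c : integralClosure A K => (c : K)))
  refine ⟨b, nonZeroDivisors.ne_zero b.2, fun c hc => ?_⟩
  let N : Submodule A (integralClosure A K) :=
    { carrier := {c | ∃ a : A, algebraMap A K a = algebraMap A K b * (c : K)}
      add_mem' := by
        rintro x y ⟨a, ha⟩ ⟨a', ha'⟩
        exact ⟨a + a', by rw [map_add, ha, ha']; push_cast; ring⟩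
      zero_mem' := ⟨0, by simp⟩
      smul_mem' := by
        rintro r x ⟨a, ha⟩
        refine ⟨r * a, ?_⟩
        rw [map_mul, ha]
        change _ = _ * ((r • x : integralClosure A K) : K)
        rw [Subalgebra.coe_smul, Algebra.smul_def]
        ring }
  have hSN : (S : Set (integralClosure A K)) ⊆ N := by
    intro c hc
    obtain ⟨a, ha⟩ := hb (c : K) (Finset.mem_image.mpr ⟨c, hc, rfl⟩)
    exact ⟨a, by rw [ha, Algebra.smul_def]⟩
  have hN : N = ⊤ := by
    rw [eq_top_iff, ← hS]
    exact Submodule.span_le.mpr hSN
  have hcN : (⟨c, hc⟩ : integralClosure A K) ∈ N := by rw [hN]; trivial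
  exact hcN

/-- localizations at primes avoiding the common denominator are integrally closed -/
theorem exists_ne_zero_forall_isIntegrallyClosed (A K : Type*) [CommRing A] [IsDomain A] [Field K]
    [Algebra A K] [IsFractionRing A K] (hfin : Module.Finite A (integralClosure A K)) :
    ∃ f : A, f ≠ 0 ∧ ∀ (p : Ideal A) [p.IsPrime], f ∉ p →
      ∀ (Ap : Type*) [CommRing Ap] [Algebra A Ap] [IsLocalization.AtPrime Ap p],
        IsIntegrallyClosed Ap := by
  obtain ⟨f, hf0, hf⟩ := exists_common_denominator A K hfin
  refine ⟨f, hf0, fun p _ hfp Ap _ _ _ => ?_⟩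
  have hle : p.primeCompl ≤ A⁰ := p.primeCompl_le_nonZeroDivisors
  have hunit : ∀ y : p.primeCompl, IsUnit (algebraMap A K y) := fun y =>
    IsLocalization.map_units K (⟨y.1, hle y.2⟩ : A⁰)
  letI : Algebra Ap K := (IsLocalization.lift (M := p.primeCompl) (S := Ap) hunit).toAlgebra
  haveI : IsScalarTower A Ap K := .of_algebraMap_eq (fun x =>
    (IsLocalization.lift_eq (M := p.primeCompl) (S := Ap) hunit x).symm)
  haveI : IsDomain Ap := IsLocalization.isDomain_of_le_nonZeroDivisors (M := p.primeCompl) Ap hle
  haveI : IsFractionRing Ap K :=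
    IsFractionRing.isFractionRing_of_isDomain_of_isLocalization p.primeCompl Ap K
  rw [isIntegrallyClosed_iff K]
  intro x hx
  obtain ⟨m, hm⟩ := IsIntegral.exists_multiple_integral_of_isLocalization p.primeCompl x hx
  obtain ⟨a, ha⟩ := hf _ hm
  have hfm : f * m.1 ∈ p.primeCompl := p.primeCompl.mul_mem hfp m.2
  refine ⟨IsLocalization.mk' Ap a ⟨f * m.1, hfm⟩, ?_⟩
  have h1 : algebraMap A K (f * m.1) ≠ 0 := by
    rw [Ne, map_eq_zero_iff _ (IsFractionRing.injective A K)]
    exact nonZeroDivisors.ne_zero (hle hfm)
  apply mul_right_cancel₀ h1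
  rw [IsScalarTower.algebraMap_apply A Ap K (f * m.1), ← map_mul,
    IsLocalization.mk'_spec_mk, ← IsScalarTower.algebraMap_apply, ha,
    ← IsScalarTower.algebraMap_apply, map_mul, Submonoid.smul_def, Algebra.smul_def]
  ring

end Groth.Agent.Lib.Helper13.NormalLocus
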