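import Groth.Agent.Lib.Helper13.N1Criterion
import Groth.Agent.Lib.Helper13.NormalLocus
import Groth.Agent.S9391

/-!
# N-1 for a Noetherian domain: generic normality plus N-1 at the maximal ideals
-/

set_option autoImplicit false
set_option linter.style.haveILetI false
universe u
noncomputable section

namespace Groth.Agent.Lib.Helper13.N1Criterion

open scoped nonZeroDivisors

/-- if `R_f` is integrally closed, every element of `K` integral over `R` has a power of `f`
as a denominator -/
theorem exists_pow_mul_of_isIntegrallyClosed_away {R K : Type*} [CommRing R] [IsDomain R]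
    [Field K] [Algebra R K] [IsFractionRing R K] (f : R) (hf : f ≠ 0)
    (hAf : IsIntegrallyClosed (Localization.Away f)) (c : K) (hc : IsIntegral R c) :
    ∃ k : ℕ, ∃ a : R, algebraMap R K a = algebraMap R K f ^ k * c := by
  have hle : Submonoid.powers f ≤ R⁰ := powers_le_nonZeroDivisors_of_noZeroDivisors hf
  have hunit : ∀ y : Submonoid.powers f, IsUnit (algebraMap R K y) := fun y =>
    IsLocalization.map_units K (⟨y.1, hle y.2⟩ : R⁰)
  letI : Algebra (Localization.Away f) K :=
    (IsLocalization.lift (M := Submonoid.powers f) (S := Localization.Away f) hunit).toAlgebra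
  haveI : IsScalarTower R (Localization.Away f) K := .of_algebraMap_eq (fun x =>
    (IsLocalization.lift_eq (M := Submonoid.powers f) (S := Localization.Away f) hunit x).symm)
  haveI : IsDomain (Localization.Away f) :=
    IsLocalization.isDomain_of_le_nonZeroDivisors (M := Submonoid.powers f) _ hle
  haveI : IsFractionRing (Localization.Away f) K :=
    IsFractionRing.isFractionRing_of_isDomain_of_isLocalization (Submonoid.powers f) _ K
  have hc' : IsIntegral (Localization.Away f) c := hc.tower_top
  obtain ⟨y, hy⟩ := IsIntegrallyClosed.algebraMap_eq_of_integral hc'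
  obtain ⟨⟨a, ⟨_, k, rfl⟩⟩, hya⟩ := IsLocalization.surj (Submonoid.powers f) y
  refine ⟨k, a, ?_⟩
  have h1 := congrArg (algebraMap (Localization.Away f) K) hya
  rw [map_mul, hy, ← IsScalarTower.algebraMap_apply, ← IsScalarTower.algebraMap_apply] at h1
  rw [← h1, map_pow, mul_comm]

/-- transfer of N-1 of a localization at a prime to an arbitrary fraction field -/
theorem finite_integralClosure_of_isN1_localization {R : Type u} [CommRing R] [IsDomain R]
    (m : Ideal R) [m.IsPrime] (Rm : Type u) [CommRing Rm] [IsDomain Rm] [Algebra R Rm]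
    [IsLocalization.AtPrime Rm m] (K : Type*) [Field K] [Algebra R K] [IsFractionRing R K]
    [Algebra Rm K] [IsScalarTower R Rm K] (h : CAlg.IsN1 Rm) :
    Module.Finite Rm (integralClosure Rm K) := by
  haveI : IsFractionRing Rm K :=
    IsFractionRing.isFractionRing_of_isDomain_of_isLocalization m.primeCompl _ _
  unfold CAlg.IsN1 at h
  haveI := h
  exact Module.Finite.equiv ((FractionRing.algEquiv Rm K).mapIntegralClosure).toLinearEquiv

/-- **criterion**: `R_f` integrally closed and `R_m` N-1 at all maximal ideals implies N-1 -/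
theorem isN1_of_away_of_atPrime (R : Type u) [CommRing R] [IsDomain R] [IsNoetherianRing R]
    (f : R) (hf : f ≠ 0) (hAf : IsIntegrallyClosed (Localization.Away f))
    (hm : ∀ (m : Ideal R) [m.IsMaximal], CAlg.IsN1 (Localization.AtPrime m)) : CAlg.IsN1 R := by
  unfold CAlg.IsN1
  refine finite_integralClosure_of_assoc (K := FractionRing R) f hf
    (exists_pow_mul_of_isIntegrallyClosed_away f hf hAf) (fun q hq => ?_)
  haveI hqp : q.IsPrime := IsAssociatedPrime.isPrime hq
  obtain ⟨m, hmmax, hqm⟩ := Ideal.exists_le_maximal q hqp.ne_top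
  haveI := hmmax
  haveI : m.IsPrime := hmmax.isPrime
  have hfin := finite_integralClosure_of_isN1_localization m (Localization.AtPrime m)
    (FractionRing R) (hm m)
  obtain ⟨n, hn⟩ := exists_pow_mul_mem_localization f
    (exists_pow_mul_of_isIntegrallyClosed_away f hf hAf) m (Localization.AtPrime m) hfin
  refine ⟨n, fun c hc => ?_⟩
  obtain ⟨s, hs, b, hb⟩ := hn c hc
  exact ⟨s, fun h => hs (hqm h), b, hb⟩

/-- the localization away from a common denominator of the integral closure is integrally
closed -/
theorem isIntegrallyClosed_away_of_common_denominator {R K : Type*} [CommRing R] [IsDomain R]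
    [Field K] [Algebra R K] [IsFractionRing R K] (f : R) (hf : f ≠ 0)
    (hden : ∀ c : K, IsIntegral R c → ∃ a : R, algebraMap R K a = algebraMap R K f * c) :
    IsIntegrallyClosed (Localization.Away f) := by
  have hle : Submonoid.powers f ≤ R⁰ := powers_le_nonZeroDivisors_of_noZeroDivisors hf
  have hunit : ∀ y : Submonoid.powers f, IsUnit (algebraMap R K y) := fun y =>
    IsLocalization.map_units K (⟨y.1, hle y.2⟩ : R⁰)
  letI : Algebra (Localization.Away f) K :=
    (IsLocalization.lift (M := Submonoid.powers f) (S := Localization.Away f) hunit).toAlgebra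
  haveI : IsScalarTower R (Localization.Away f) K := .of_algebraMap_eq (fun x =>
    (IsLocalization.lift_eq (M := Submonoid.powers f) (S := Localization.Away f) hunit x).symm)
  haveI : IsDomain (Localization.Away f) :=
    IsLocalization.isDomain_of_le_nonZeroDivisors (M := Submonoid.powers f) _ hle
  haveI : IsFractionRing (Localization.Away f) K :=
    IsFractionRing.isFractionRing_of_isDomain_of_isLocalization (Submonoid.powers f) _ K
  rw [isIntegrallyClosed_iff K]
  intro x hx
  obtain ⟨m, hm⟩ := IsIntegral.exists_multiple_integral_of_isLocalization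
    (Submonoid.powers f) x hx
  obtain ⟨a, ha⟩ := hden _ hm
  have hfm : f * m.1 ∈ Submonoid.powers f :=
    (Submonoid.powers f).mul_mem (Submonoid.mem_powers f) m.2
  refine ⟨IsLocalization.mk' (Localization.Away f) a ⟨f * m.1, hfm⟩, ?_⟩
  have h1 : algebraMap R K (f * m.1) ≠ 0 := by
    rw [Ne, map_eq_zero_iff _ (IsFractionRing.injective R K)]
    exact nonZeroDivisors.ne_zero (hle hfm)
  apply mul_right_cancel₀ h1
  have h2 : algebraMap (Localization.Away f) K
      (IsLocalization.mk' (Localization.Away f) a ⟨f * m.1, hfm⟩) * algebraMap R K (f * m.1) =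
      algebraMap R K a := by
    rw [IsScalarTower.algebraMap_apply R (Localization.Away f) K (f * m.1), ← map_mul,
      IsLocalization.mk'_spec_mk, ← IsScalarTower.algebraMap_apply]
  rw [h2, ha, map_mul, Submonoid.smul_def, Algebra.smul_def]
  ring

/-- **N-1 criterion (both directions)** -/
theorem isN1_iff (R : Type u) [CommRing R] [IsDomain R] [IsNoetherianRing R] :
    CAlg.IsN1 R ↔ ((∃ f : R, f ≠ 0 ∧ IsIntegrallyClosed (Localization.Away f)) ∧
      ∀ (m : Ideal R) [m.IsMaximal], CAlg.IsN1 (Localization.AtPrime m)) := by
  constructor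
  · intro h
    refine ⟨?_, fun m _ => Groth.Agent.S9391.result R m.primeCompl (Localization.AtPrime m) h⟩
    obtain ⟨f, hf0, hf⟩ := NormalLocus.exists_common_denominator R (FractionRing R) h
    exact ⟨f, hf0, isIntegrallyClosed_away_of_common_denominator f hf0 hf⟩
  · rintro ⟨⟨f, hf0, hAf⟩, hm⟩
    exact isN1_of_away_of_atPrime R f hf0 hAf hm

end Groth.Agent.Lib.Helper13.N1Criterion
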