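import Groth.Agent.Lib.Helper13.NagataFT

/-!
# Integral closure of a Nagata ring in a field that is finitely generated over a residue field
-/

set_option autoImplicit false
set_option linter.style.haveILetI false
universe u
noncomputable section

namespace Groth.Agent.Lib.Helper13.NagataFT2

/-- an N-2 Noetherian domain `R` inside a field `L` finitely generated over `Frac R` -/
theorem finite_integralClosure_of_field (R L : Type u) [CommRing R] [IsDomain R]
    [IsNoetherianRing R] (hR : CAlg.IsN2 R) [Field L] [Algebra R L] [FaithfulSMul R L]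
    (hess : letI := FractionRing.liftAlgebra R L; Algebra.EssFiniteType (FractionRing R) L) :
    Module.Finite R (integralClosure R L) := by
  letI := FractionRing.liftAlgebra R L
  haveI := FractionRing.isScalarTower_liftAlgebra R L
  haveI : Algebra.EssFiniteType (FractionRing R) L := hess
  haveI : Module.Finite (FractionRing R) (algebraicClosure (FractionRing R) L) :=
    AlgClosureFG.finite_algebraicClosure _ _
  have hfin : Module.Finite R
      (integralClosure R (algebraicClosure (FractionRing R) L)) :=
    hR (algebraicClosure (FractionRing R) L) inferInstance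
  haveI : IsNoetherian R
      (integralClosure R (algebraicClosure (FractionRing R) L)) :=
    isNoetherian_of_isNoetherianRing_of_finite R _
  have hmem : ∀ x : integralClosure R L,
      x.1 ∈ algebraicClosure (FractionRing R) L := by
    intro x
    rw [mem_algebraicClosure_iff]
    exact x.2.tower_top.isAlgebraic
  haveI : IsScalarTower R (algebraicClosure (FractionRing R) L) L :=
    .of_algebraMap_eq (fun r => rfl)
  have hint : ∀ x : integralClosure R L, IsIntegral R
      (⟨x.1, hmem x⟩ : algebraicClosure (FractionRing R) L) := by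
    intro x
    rw [← isIntegral_algebraMap_iff (B := L)
      (algebraMap (algebraicClosure (FractionRing R) L) L).injective]
    exact x.2
  let φ : integralClosure R L →ₗ[R]
      integralClosure R (algebraicClosure (FractionRing R) L) :=
    { toFun := fun x => ⟨⟨x.1, hmem x⟩, hint x⟩
      map_add' := fun x y => rfl
      map_smul' := fun r x => by
        apply Subtype.ext; apply Subtype.ext
        change r • x.1 = r • x.1
        rfl }
  refine Module.Finite.of_injective φ ?_
  intro x y hxy
  apply Subtype.ext
  have h1 := congrArg (fun z : integralClosure R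
    (algebraicClosure (FractionRing R) L) =>
    ((z : algebraicClosure (FractionRing R) L) : L)) hxy
  exact h1

/-- A Nagata ring `A`, a field `k` generated by the image of `A`, a finitely generated field
extension `L / k`: the integral closure of `A` in `L` is a finite `A`-module. -/
theorem finite_integralClosure_of_residue (A k L : Type u) [CommRing A] (hA : CAlg.IsNagata A)
    [Field k] [Field L] (φ : A →+* k) (ψ : k →+* L) (hψ : ψ.EssFiniteType)
    (hφ : ∀ z : k, ∃ a s : A, φ s ≠ 0 ∧ z * φ s = φ a) :
    letI := (ψ.comp φ).toAlgebra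
    Module.Finite A (integralClosure A L) := by
  letI := (ψ.comp φ).toAlgebra
  haveI : IsNoetherianRing A := hA.1
  haveI hp : (RingHom.ker φ).IsPrime := RingHom.ker_isPrime φ
  have hN2 : CAlg.IsN2 (A ⧸ RingHom.ker φ) := hA.2 (RingHom.ker φ)
  -- the algebra structures
  letI algRk : Algebra (A ⧸ RingHom.ker φ) k := (RingHom.kerLift φ).toAlgebra
  letI algkL : Algebra k L := ψ.toAlgebra
  letI algRL : Algebra (A ⧸ RingHom.ker φ) L := (ψ.comp (RingHom.kerLift φ)).toAlgebra
  haveI : IsScalarTower (A ⧸ RingHom.ker φ) k L := .of_algebraMap_eq (fun r => rfl)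
  haveI : IsScalarTower A (A ⧸ RingHom.ker φ) L := .of_algebraMap_eq (fun r => rfl)
  have hinjk : Function.Injective (algebraMap (A ⧸ RingHom.ker φ) k) :=
    RingHom.kerLift_injective φ
  haveI : FaithfulSMul (A ⧸ RingHom.ker φ) k :=
    (faithfulSMul_iff_algebraMap_injective _ _).mpr hinjk
  haveI : FaithfulSMul (A ⧸ RingHom.ker φ) L := by
    rw [faithfulSMul_iff_algebraMap_injective]
    exact ψ.injective.comp hinjk
  letI := FractionRing.liftAlgebra (A ⧸ RingHom.ker φ) k
  haveI := FractionRing.isScalarTower_liftAlgebra (A ⧸ RingHom.ker φ) k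
  letI := FractionRing.liftAlgebra (A ⧸ RingHom.ker φ) L
  haveI := FractionRing.isScalarTower_liftAlgebra (A ⧸ RingHom.ker φ) L
  -- Frac (A/p) → k is surjective
  have hsurj : Function.Surjective (algebraMap (FractionRing (A ⧸ RingHom.ker φ)) k) := by
    intro z
    obtain ⟨a, s, hs, hz⟩ := hφ z
    have hs' : algebraMap (A ⧸ RingHom.ker φ) k (Ideal.Quotient.mk _ s) ≠ 0 := hs
    have hs0 : (Ideal.Quotient.mk (RingHom.ker φ) s) ≠ 0 := fun h => hs' (by rw [h, map_zero])
    have hs1 : algebraMap (A ⧸ RingHom.ker φ) (FractionRing (A ⧸ RingHom.ker φ))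
        (Ideal.Quotient.mk _ s) ≠ 0 := fun h => hs0
      ((IsFractionRing.injective _ (FractionRing (A ⧸ RingHom.ker φ))) (by rw [h, map_zero]))
    refine ⟨algebraMap (A ⧸ RingHom.ker φ) (FractionRing (A ⧸ RingHom.ker φ))
        (Ideal.Quotient.mk (RingHom.ker φ) a) /
      algebraMap (A ⧸ RingHom.ker φ) (FractionRing (A ⧸ RingHom.ker φ))
        (Ideal.Quotient.mk (RingHom.ker φ) s), ?_⟩
    rw [map_div₀, ← IsScalarTower.algebraMap_apply, ← IsScalarTower.algebraMap_apply]
    rw [div_eq_iff hs']
    exact hz.symm
  haveI : IsScalarTower (FractionRing (A ⧸ RingHom.ker φ)) k L := by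
    refine .of_algebraMap_eq' ?_
    refine IsLocalization.ringHom_ext (nonZeroDivisors (A ⧸ RingHom.ker φ)) ?_
    ext r
    simp only [RingHom.comp_apply]
    rw [← IsScalarTower.algebraMap_apply, ← IsScalarTower.algebraMap_apply,
      ← IsScalarTower.algebraMap_apply]
  haveI : Algebra.FiniteType (FractionRing (A ⧸ RingHom.ker φ)) k :=
    Algebra.FiniteType.of_surjective (Algebra.ofId _ _) hsurj
  haveI : Algebra.EssFiniteType k L := hψ
  haveI : Algebra.EssFiniteType (FractionRing (A ⧸ RingHom.ker φ)) L :=
    Algebra.EssFiniteType.comp _ k L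
  have h1 : Module.Finite (A ⧸ RingHom.ker φ) (integralClosure (A ⧸ RingHom.ker φ) L) :=
    finite_integralClosure_of_field (A ⧸ RingHom.ker φ) L hN2 inferInstance
  exact NagataFT.finite_integralClosure_of_surjective A (A ⧸ RingHom.ker φ) L
    Ideal.Quotient.mk_surjective h1

end Groth.Agent.Lib.Helper13.NagataFT2
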