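import Groth.Agent.Lib.Helper13.JapanesePoly
import Groth.Agent.S4562

/-!
# Polynomial rings in one variable over an N-1 / N-2 Noetherian domain are N-1 / N-2
-/

set_option autoImplicit false
set_option linter.style.haveILetI false
universe u
noncomputable section

namespace Groth.Agent.Lib.Helper13.JapanesePoly

open Polynomial Groth.Agent.Lib.Helper13.Japanese

/-- data extracted from a finite purely inseparable extension `L` of `Frac R[X]` -/
theorem exists_data (R : Type u) [CommRing R] [IsDomain R]
    (L : Type u) [Field L] [Algebra R[X] L] [Algebra (FractionRing R[X]) L]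
    [IsScalarTower R[X] (FractionRing R[X]) L]
    [FiniteDimensional (FractionRing R[X]) L]
    [IsPurelyInseparable (FractionRing R[X]) L]
    (p : ℕ) [ExpChar R p] :
    ∃ (e m : ℕ) (b : Fin m → L) (f g : Fin m → R[X]),
      Submodule.span (FractionRing R[X]) (Set.range b) = ⊤ ∧
      (∀ i, g i ≠ 0) ∧
      (∀ i, b i ^ p ^ e * algebraMap R[X] L (g i) = algebraMap R[X] L (f i)) := by
  classical
  haveI : ExpChar (FractionRing R[X]) p :=
    expChar_of_injective_ringHom (f := (algebraMap R[X] (FractionRing R[X])).comp
      (C : R →+* R[X])) (by
        rw [RingHom.coe_comp]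
        exact (IsFractionRing.injective R[X] (FractionRing R[X])).comp Polynomial.C_injective) p
  obtain ⟨m, b, hb⟩ := Module.Finite.exists_fin (R := FractionRing R[X]) (M := L)
  have h1 : ∀ i, ∃ f g : R[X], g ≠ 0 ∧
      b i ^ p ^ IsPurelyInseparable.exponent (FractionRing R[X]) L *
        algebraMap R[X] L g = algebraMap R[X] L f := by
    intro i
    obtain ⟨y, hy⟩ := IsPurelyInseparable.exponent_def' (FractionRing R[X]) p (b i)
    obtain ⟨f, g, hg, hfg⟩ := IsFractionRing.div_surjective (A := R[X]) y
    refine ⟨f, g, nonZeroDivisors.ne_zero hg, ?_⟩
    rw [← hy, ← hfg, IsScalarTower.algebraMap_apply R[X] (FractionRing R[X]) L g, ← map_mul,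
      div_mul_cancel₀, ← IsScalarTower.algebraMap_apply]
    rw [Ne, map_eq_zero_iff _ (IsFractionRing.injective _ _)]
    exact nonZeroDivisors.ne_zero hg
  choose f g hg hfg using h1
  exact ⟨_, m, b, f, g, hb, hg, hfg⟩

/-- **Polynomial ring over an N-2 domain, purely inseparable case**: the integral closure of
`R[X]` in a finite purely inseparable extension of `Frac R[X]` is a finite module. -/
theorem finite_integralClosure_of_purelyInseparable (R : Type u) [CommRing R] [IsDomain R]
    [IsNoetherianRing R] (hR : CAlg.IsN2 R)
    (L : Type u) [Field L] [Algebra R[X] L] [Algebra (FractionRing R[X]) L]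
    [IsScalarTower R[X] (FractionRing R[X]) L]
    [FiniteDimensional (FractionRing R[X]) L]
    [IsPurelyInseparable (FractionRing R[X]) L] :
    Module.Finite R[X] (integralClosure R[X] L) := by
  classical
  obtain ⟨p, hp⟩ := ExpChar.exists R
  haveI : ExpChar R p := hp
  haveI : ExpChar (FractionRing R) p :=
    expChar_of_injective_ringHom (IsFractionRing.injective R (FractionRing R)) p
  obtain ⟨e, m, b, f, g, hb, hg, hfg⟩ := exists_data R L p
  have hq : 0 < p ^ e := pow_pos (expChar_pos R p) e
  -- the finite extension `k'` containing the `q`-th roots of all coefficients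
  let T : Finset (FractionRing R) :=
    Finset.univ.biUnion (fun i => ((f i).coeffs ∪ (g i).coeffs).image (algebraMap R _))
  obtain ⟨k', _, _, hfin, hroots⟩ :=
    exists_finite_ext_with_roots (FractionRing R) T (p ^ e) hq
  haveI : FiniteDimensional (FractionRing R) k' := hfin
  letI : Algebra R k' := ((algebraMap (FractionRing R) k').comp
    (algebraMap R (FractionRing R))).toAlgebra
  haveI : IsScalarTower R (FractionRing R) k' := .of_algebraMap_eq (fun _ => rfl)
  haveI : Module.Finite R (integralClosure R k') := hR k' inferInstance
  haveI : IsIntegrallyClosed (integralClosure R k') :=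
    integralClosure.isIntegrallyClosedOfFiniteExtension (FractionRing R)
  have hinjR : Function.Injective (algebraMap R (integralClosure R k')) := by
    intro x y hxy
    have h1 := congrArg (algebraMap (integralClosure R k') k') hxy
    rw [← IsScalarTower.algebraMap_apply, ← IsScalarTower.algebraMap_apply] at h1
    exact ((algebraMap (FractionRing R) k').injective.comp
      (IsFractionRing.injective R (FractionRing R))) h1
  have hroots' : ∀ (h : R[X]), (h.coeffs.image (algebraMap R (FractionRing R))) ⊆ T →
      ∀ n : ℕ, ∃ d : integralClosure R k',
        d ^ (p ^ e) = algebraMap R (integralClosure R k') (h.coeff n) := by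
    intro h hh n
    by_cases h0 : h.coeff n = 0
    · exact ⟨0, by rw [h0, map_zero, zero_pow hq.ne']⟩
    · obtain ⟨d, hd⟩ := hroots _ (hh (Finset.mem_image_of_mem _
        (Polynomial.coeff_mem_coeffs h0)))
      have hdint : IsIntegral R d := by
        apply IsIntegral.of_pow hq
        rw [hd, ← IsScalarTower.algebraMap_apply]
        exact isIntegral_algebraMap
      refine ⟨⟨d, hdint⟩, ?_⟩
      apply Subtype.ext
      change d ^ (p ^ e) = algebraMap R k' (h.coeff n)
      rw [hd, ← IsScalarTower.algebraMap_apply]
  haveI : ExpChar (integralClosure R k') p := expChar_of_injective_ringHom hinjR p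
  have hF : ∀ i, ∃ F : (integralClosure R k')[X],
      F ^ (p ^ e) = phi R p e (integralClosure R k') (f i) := fun i =>
    exists_pow_eq_phi R p e _ (f i) (hroots' (f i) (fun c hc => by
      obtain ⟨c', hc', rfl⟩ := Finset.mem_image.mp hc
      exact Finset.mem_biUnion.mpr ⟨i, Finset.mem_univ i,
        Finset.mem_image_of_mem _ (Finset.mem_union_left _ hc')⟩))
  have hG : ∀ i, ∃ G : (integralClosure R k')[X],
      G ^ (p ^ e) = phi R p e (integralClosure R k') (g i) := fun i =>
    exists_pow_eq_phi R p e _ (g i) (hroots' (g i) (fun c hc => by
      obtain ⟨c', hc', rfl⟩ := Finset.mem_image.mp hc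
      exact Finset.mem_biUnion.mpr ⟨i, Finset.mem_univ i,
        Finset.mem_image_of_mem _ (Finset.mem_union_right _ hc')⟩))
  choose F hF using hF
  choose G hG using hG
  -- the target rings
  have hj : Function.Injective (algebraMap (integralClosure R k')[X]
      (AlgebraicClosure (FractionRing (integralClosure R k')[X]))) := by
    rw [IsScalarTower.algebraMap_eq (integralClosure R k')[X]
      (FractionRing (integralClosure R k')[X])
      (AlgebraicClosure (FractionRing (integralClosure R k')[X]))]
    exact (algebraMap (FractionRing (integralClosure R k')[X])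
      (AlgebraicClosure (FractionRing (integralClosure R k')[X]))).injective.comp
      (IsFractionRing.injective _ _)
  have hjP : Function.Injective ((algebraMap (integralClosure R k')[X]
      (AlgebraicClosure (FractionRing (integralClosure R k')[X]))).comp
        (phi R p e (integralClosure R k'))) :=
    hj.comp (phi_injective R p e _ hq hinjR)
  letI : Algebra (FractionRing R[X])
      (AlgebraicClosure (FractionRing (integralClosure R k')[X])) :=
    (IsFractionRing.lift hjP).toAlgebra
  let ψ : L →ₐ[FractionRing R[X]]
      (AlgebraicClosure (FractionRing (integralClosure R k')[X])) := IsAlgClosed.lift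
  have hψK : ∀ c : FractionRing R[X],
      ψ (algebraMap (FractionRing R[X]) L c) = IsFractionRing.lift hjP c :=
    fun c => ψ.commutes c
  have hψP : ∀ a : R[X], ψ.toRingHom (algebraMap R[X] L a) =
      algebraMap (integralClosure R k')[X]
        (AlgebraicClosure (FractionRing (integralClosure R k')[X]))
        (phi R p e (integralClosure R k') a) := by
    intro a
    change ψ _ = _
    rw [IsScalarTower.algebraMap_apply R[X] (FractionRing R[X]) L, hψK]
    exact IsFractionRing.lift_algebraMap hjP a
  haveI : ExpChar (AlgebraicClosure (FractionRing (integralClosure R k')[X])) p :=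
    expChar_of_injective_ringHom (f := ((algebraMap (integralClosure R k')[X]
      (AlgebraicClosure (FractionRing (integralClosure R k')[X]))).comp
        (C : (integralClosure R k') →+* (integralClosure R k')[X])))
      (by rw [RingHom.coe_comp]; exact hj.comp Polynomial.C_injective) p
  -- claim 1
  have h1 : ∀ i, ψ (b i) * algebraMap (integralClosure R k')[X]
      (AlgebraicClosure (FractionRing (integralClosure R k')[X])) (G i) =
      algebraMap (integralClosure R k')[X]
      (AlgebraicClosure (FractionRing (integralClosure R k')[X])) (F i) := by
    intro i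
    apply iterateFrobenius_inj (AlgebraicClosure (FractionRing (integralClosure R k')[X])) p e
    rw [iterateFrobenius_def, iterateFrobenius_def, mul_pow, ← map_pow, ← map_pow, ← map_pow,
      hG, hF, ← hψP, ← hψP]
    change ψ _ * ψ _ = ψ _
    rw [← map_mul, hfg]
  have hG0 : ∀ i, algebraMap (integralClosure R k')[X]
      (AlgebraicClosure (FractionRing (integralClosure R k')[X])) (G i) ≠ 0 := by
    intro i h0
    have h3 : G i = 0 := hj (by rw [h0, map_zero])
    have h4 := hG i
    rw [h3, zero_pow hq.ne'] at h4
    exact hg i (phi_injective R p e _ hq hinjR (by rw [← h4, map_zero]))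
  have hBM : ∀ β : (integralClosure R k')[X], algebraMap (integralClosure R k')[X]
      (AlgebraicClosure (FractionRing (integralClosure R k')[X])) β ∈
      (algebraMap (FractionRing (integralClosure R k')[X])
        (AlgebraicClosure (FractionRing (integralClosure R k')[X]))).fieldRange := fun β =>
    ⟨algebraMap _ _ β, (IsScalarTower.algebraMap_apply _ _ _ β).symm⟩
  -- claim 2
  have h2 : ∀ x, ψ.toRingHom x ∈ (algebraMap (FractionRing (integralClosure R k')[X])
      (AlgebraicClosure (FractionRing (integralClosure R k')[X]))).fieldRange := by
    apply mem_subfield_of_span (K₀ := FractionRing R[X]) ψ.toRingHom _ ?_ b hb ?_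
    · intro c
      obtain ⟨a, s, hs, rfl⟩ := IsFractionRing.div_surjective (A := R[X]) c
      change ψ _ ∈ _
      rw [hψK, map_div₀, IsFractionRing.lift_algebraMap, IsFractionRing.lift_algebraMap]
      exact Subfield.div_mem _ (hBM _) (hBM _)
    · intro i
      have h5 : ψ (b i) = algebraMap (integralClosure R k')[X]
          (AlgebraicClosure (FractionRing (integralClosure R k')[X])) (F i) /
          algebraMap (integralClosure R k')[X]
          (AlgebraicClosure (FractionRing (integralClosure R k')[X])) (G i) := by
        rw [eq_div_iff (hG0 i)]
        exact h1 i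
      change ψ _ ∈ _
      rw [h5]
      exact Subfield.div_mem _ (hBM _) (hBM _)
  exact finite_of_embedding (phi R p e (integralClosure R k')) (phi_finite R p e _ hq) _ hj
    ψ.toRingHom hψP
    (fun x hx => exists_of_integral (M := FractionRing (integralClosure R k')[X])
      (phi R p e (integralClosure R k')) ψ.toRingHom hψP h2 x hx)

/-- the polynomial ring over an N-2 Noetherian domain is N-2 -/
theorem isN2_polynomial (R : Type u) [CommRing R] [IsDomain R] [IsNoetherianRing R]
    (hR : CAlg.IsN2 R) : CAlg.IsN2 R[X] := by
  apply Groth.Agent.S4562.result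
  intro K' _ _ _ _ hfin hpi
  haveI := hfin
  haveI := hpi
  exact finite_integralClosure_of_purelyInseparable R hR K'

/-- the polynomial ring over an N-1 Noetherian domain is N-1 -/
theorem isN1_polynomial (R : Type u) [CommRing R] [IsDomain R] [IsNoetherianRing R]
    (hR : CAlg.IsN1 R) : CAlg.IsN1 R[X] := by
  haveI : Module.Finite R (integralClosure R (FractionRing R)) := hR
  haveI : IsIntegrallyClosed (integralClosure R (FractionRing R)) :=
    integralClosure.isIntegrallyClosedOfFiniteExtension (FractionRing R)
  have hinjR : Function.Injective (algebraMap R (integralClosure R (FractionRing R))) := by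
    intro x y hxy
    have h1 := congrArg (algebraMap (integralClosure R (FractionRing R)) (FractionRing R)) hxy
    rw [← IsScalarTower.algebraMap_apply, ← IsScalarTower.algebraMap_apply] at h1
    exact IsFractionRing.injective R (FractionRing R) h1
  have hq : 0 < 1 ^ 0 := by norm_num
  have hj : Function.Injective (algebraMap (integralClosure R (FractionRing R))[X]
      (FractionRing (integralClosure R (FractionRing R))[X])) :=
    IsFractionRing.injective (integralClosure R (FractionRing R))[X]
      (FractionRing (integralClosure R (FractionRing R))[X])
  have hjP : Function.Injective ((algebraMap (integralClosure R (FractionRing R))[X]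
      (FractionRing (integralClosure R (FractionRing R))[X])).comp
        (phi R 1 0 (integralClosure R (FractionRing R)))) :=
    hj.comp (phi_injective R 1 0 _ hq hinjR)
  have hψP : ∀ a : R[X], (IsFractionRing.lift hjP) (algebraMap R[X] (FractionRing R[X]) a) =
      algebraMap (integralClosure R (FractionRing R))[X]
        (FractionRing (integralClosure R (FractionRing R))[X])
        (phi R 1 0 (integralClosure R (FractionRing R)) a) := fun a =>
    IsFractionRing.lift_algebraMap hjP a
  exact finite_of_embedding (phi R 1 0 (integralClosure R (FractionRing R)))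
    (phi_finite R 1 0 _ hq) _ hj (IsFractionRing.lift hjP) hψP
    (fun x hx => exists_of_integral (M := FractionRing (integralClosure R (FractionRing R))[X])
      (phi R 1 0 (integralClosure R (FractionRing R))) (IsFractionRing.lift hjP) hψP
      (fun y => ⟨_, rfl⟩) x hx)

end Groth.Agent.Lib.Helper13.JapanesePoly
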