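import Mathlib

set_option autoImplicit false
set_option linter.unusedSectionVars false
set_option linter.unusedVariables false
set_option linter.style.haveILetI false
universe u

open CategoryTheory CategoryTheory.Limits AlgebraicGeometry

/-!
# `K`-points of schemes and residue fields (helper13)
-/

namespace Groth.Agent.Lib.Helper13.KPoint

/-- a `K`-point through a given point -/
theorem exists_eq_specMap_comp {K : Type u} [Field K] {X : Scheme.{u}}
    (f : Spec (CommRingCat.of K) ⟶ X) (x : X)
    (h : f.base (IsLocalRing.closedPoint K) = x) :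
    ∃ ψ : X.residueField x ⟶ CommRingCat.of K, f = Spec.map ψ ≫ X.fromSpecResidueField x := by
  subst h
  exact ⟨_, (Scheme.descResidueField_stalkClosedPointTo_fromSpecResidueField K X f).symm⟩

/-- `K`-points through the same point with the same projection agree when the residue field map
of the projection is surjective -/
theorem eq_of_residueFieldMap_surjective {K : Type u} [Field K] {W B : Scheme.{u}} (q : W ⟶ B)
    (σ₁ σ₂ : Spec (CommRingCat.of K) ⟶ W) (w : W)
    (h₁ : σ₁.base (IsLocalRing.closedPoint K) = w) (h₂ : σ₂.base (IsLocalRing.closedPoint K) = w)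
    (hq : σ₁ ≫ q = σ₂ ≫ q) (hs : Function.Surjective (q.residueFieldMap w).hom) : σ₁ = σ₂ := by
  obtain ⟨ψ₁, rfl⟩ := exists_eq_specMap_comp σ₁ w h₁
  obtain ⟨ψ₂, rfl⟩ := exists_eq_specMap_comp σ₂ w h₂
  simp only [Category.assoc] at hq
  rw [← Scheme.Hom.SpecMap_residueFieldMap_fromSpecResidueField, ← Category.assoc,
    ← Category.assoc, cancel_mono, ← Spec.map_comp, ← Spec.map_comp] at hq
  have h3 := Spec.map_injective hq
  haveI : Epi (q.residueFieldMap w) := ConcreteCategory.epi_of_surjective _ hs
  rw [cancel_epi] at h3
  rw [h3]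

/-- the residue field map of a projection at the image of a `K`-point lying over the generic
`K`-point of `Spec A` (`K` the fraction field of `A`) is surjective -/
theorem residueFieldMap_surjective_of_comp_eq {A K : Type u} [CommRing A] [Field K] [Algebra A K]
    [IsFractionRing A K] {W : Scheme.{u}} (q : W ⟶ Spec (CommRingCat.of A))
    (σ : Spec (CommRingCat.of K) ⟶ W)
    (hσ : σ ≫ q = Spec.map (CommRingCat.ofHom (algebraMap A K))) :
    Function.Surjective (q.residueFieldMap (σ.base (IsLocalRing.closedPoint K))).hom := by
  set w := σ.base (IsLocalRing.closedPoint K) with hw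
  -- the residue field maps
  let φσ : W.residueField w ⟶ CommRingCat.of K :=
    Scheme.descResidueField (Scheme.stalkClosedPointTo σ)
  let φ : (Spec (CommRingCat.of A)).residueField (q.base w) ⟶ CommRingCat.of K :=
    q.residueFieldMap w ≫ φσ
  have hφ : Spec.map φ ≫ (Spec (CommRingCat.of A)).fromSpecResidueField (q.base w) =
      Spec.map (CommRingCat.ofHom (algebraMap A K)) := by
    rw [Spec.map_comp, Category.assoc, Scheme.Hom.SpecMap_residueFieldMap_fromSpecResidueField,
      ← Category.assoc, Scheme.descResidueField_stalkClosedPointTo_fromSpecResidueField, hσ]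
  -- `φ` is surjective
  have hφs : Function.Surjective φ.hom := by
    rw [← Scheme.Spec.map_residueFieldIso_inv_eq_fromSpecResidueField, ← Spec.map_comp,
      ← Spec.map_comp] at hφ
    have h1 := Spec.map_injective hφ
    intro k
    obtain ⟨a, b, hb, rfl⟩ := IsFractionRing.div_surjective (A := A) k
    have ha' : ∀ c : A, φ.hom ((Scheme.Spec.residueFieldIso (CommRingCat.of A) (q.base w)).inv.hom
        (algebraMap A _ c)) = algebraMap A K c := by
      intro c
      have := congrArg (fun ψ : CommRingCat.of A ⟶ CommRingCat.of K => ψ.hom c) h1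
      exact this
    refine ⟨(Scheme.Spec.residueFieldIso (CommRingCat.of A) (q.base w)).inv.hom (algebraMap A _ a) /
      (Scheme.Spec.residueFieldIso (CommRingCat.of A) (q.base w)).inv.hom (algebraMap A _ b), ?_⟩
    rw [map_div₀, ha', ha']
  intro u
  obtain ⟨v, hv⟩ := hφs (φσ.hom u)
  refine ⟨v, ?_⟩
  have hinj : Function.Injective φσ.hom := RingHom.injective _
  apply hinj
  rw [← hv]
  rfl

/-- a `K`-point through a point with bijective residue field map over the generic point -/
theorem exists_kpoint_of_bijective {A K : Type u} [CommRing A] [Field K] [Algebra A K]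
    {W : Scheme.{u}} (q : W ⟶ Spec (CommRingCat.of A)) (x' : W)
    (hη : (Spec.map (CommRingCat.ofHom (algebraMap A K))).base (IsLocalRing.closedPoint K) =
      q.base x')
    (hbij : Function.Bijective (q.residueFieldMap x').hom) :
    ∃ σ : Spec (CommRingCat.of K) ⟶ W, σ.base (IsLocalRing.closedPoint K) = x' ∧
      σ ≫ q = Spec.map (CommRingCat.ofHom (algebraMap A K)) := by
  obtain ⟨ψg, hψg⟩ := exists_eq_specMap_comp (Spec.map (CommRingCat.ofHom (algebraMap A K))) _ hη
  let e := RingEquiv.ofBijective (q.residueFieldMap x').hom hbij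
  let ψ : W.residueField x' ⟶ CommRingCat.of K :=
    CommRingCat.ofHom (ψg.hom.comp e.symm.toRingHom)
  refine ⟨Spec.map ψ ≫ W.fromSpecResidueField x', ?_, ?_⟩
  · exact W.fromSpecResidueField_apply x' _
  · rw [Category.assoc, ← Scheme.Hom.SpecMap_residueFieldMap_fromSpecResidueField,
      ← Category.assoc, ← Spec.map_comp, hψg]
    congr 2
    ext z
    show ψg.hom (e.symm (e z)) = ψg.hom z
    rw [RingEquiv.symm_apply_apply]

end Groth.Agent.Lib.Helper13.KPoint
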