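import Mathlib
import Groth.Agent.Lib.Helper13.KPoint
import Groth.Agent.Lib.Helper13.SectionDvr2
import Groth.Agent.Lib.Helper3.AlgSpDvrCl
import Groth.Agent.Lib.Helper28.ProjSpaceBasic
import Groth.Agent.S7410
import Groth.Agent.S4450

set_option autoImplicit false
set_option linter.unusedSectionVars false
set_option linter.unusedVariables false
set_option linter.style.haveILetI false
universe u

open CategoryTheory CategoryTheory.Limits AlgebraicGeometry TopologicalSpace

/-!
# A discrete valuative criterion at maximal points, centred at one point (helper13)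

Over a Noetherian base in which every nonempty closed subset contains `b₀`, a separated morphism of
finite type is proper as soon as discrete valuation rings centred at `b₀` whose generic point maps to
a maximal point of the source admit lifts (Chow lemma, projective closure).
-/

namespace Groth.Agent.Lib.Helper13.DvrAtMax

/-- a point with no proper generization -/
def IsMaxPt {α : Type*} [TopologicalSpace α] (ξ : α) : Prop := ∀ ξ' : α, ξ' ⤳ ξ → ξ' = ξ

theorem exists_isMaxPt_specializes {α : Type*} [TopologicalSpace α] [QuasiSober α] [T0Space α]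
    (x : α) : ∃ ξ : α, ξ ⤳ x ∧ IsMaxPt ξ := by
  obtain ⟨ξ, hξ⟩ := QuasiSober.sober (isIrreducible_irreducibleComponent (x := x))
    isClosed_irreducibleComponent
  refine ⟨ξ, ?_, ?_⟩
  · rw [specializes_iff_mem_closure, hξ.def]
    exact mem_irreducibleComponent
  · intro ξ' h
    have h1 : irreducibleComponent x ⊆ closure {ξ'} := by
      rw [← hξ.def]
      exact closure_minimal (Set.singleton_subset_iff.mpr (specializes_iff_mem_closure.mp h))
        isClosed_closure
    have h2 : closure {ξ'} = irreducibleComponent x := by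
      have := irreducibleComponent_property x
      exact this.2.2 _ isIrreducible_singleton.closure.isPreirreducible h1
    have h3 : ξ ⤳ ξ' := by
      rw [specializes_iff_mem_closure, hξ.def, ← h2]
      exact subset_closure rfl
    exact (h.antisymm h3).eq

/-- a maximal point of a Noetherian space lies in every dense open -/
theorem IsMaxPt.mem_of_dense {α : Type*} [TopologicalSpace α] [NoetherianSpace α] [QuasiSober α]
    {ξ : α} (h : IsMaxPt ξ) (V : Set α) (hV : IsOpen V) (hd : Dense V) : ξ ∈ V := by
  obtain ⟨δ, hδ, hδξ⟩ := Groth.Agent.Lib.Helper13.SectionDvr.exists_specializes_of_mem_closure_diff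
    V ∅ hV isOpen_empty ξ (by rw [Set.sdiff_empty]; exact hd ξ)
  rw [← h δ hδξ]
  exact hδ.1

/-- images of maximal points under a morphism that is an isomorphism over an open -/
theorem isMaxPt_image_of_isIso_restrict {X' T : Scheme.{u}} (π : X' ⟶ T) (U : T.Opens)
    [IsIso (π ∣_ U)] (x : X') (hx : x ∈ π ⁻¹ᵁ U)
    (hmax : ∀ x' : X', x' ∈ π ⁻¹ᵁ U → x' ⤳ x → x' = x) : IsMaxPt (π.base x) := by
  intro t' ht'
  have ht'U : t' ∈ U := ht'.mem_open U.2 hx
  have hcomp : ∀ a : (π ⁻¹ᵁ U).toScheme, U.ι.base ((π ∣_ U).base a) = π.base ((π ⁻¹ᵁ U).ι.base a) := by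
    intro a
    have := congrArg (fun φ : (π ⁻¹ᵁ U).toScheme ⟶ T => φ.base a) (morphismRestrict_ι π U)
    exact this
  obtain ⟨y₀, hy₀⟩ : ∃ y₀ : (π ⁻¹ᵁ U).toScheme, (π ⁻¹ᵁ U).ι.base y₀ = x := by
    have : x ∈ Set.range (π ⁻¹ᵁ U).ι.base := by rw [Scheme.Opens.range_ι]; exact hx
    exact this
  obtain ⟨u', hu'⟩ : ∃ u' : U.toScheme, U.ι.base u' = t' := by
    have : t' ∈ Set.range U.ι.base := by rw [Scheme.Opens.range_ι]; exact ht'U
    exact this
  let e := asIso (π ∣_ U)
  let x'' : (π ⁻¹ᵁ U).toScheme := e.inv.base u'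
  have h1 : (π ∣_ U).base x'' = u' := by
    show (e.inv ≫ e.hom).base u' = _
    rw [Iso.inv_hom_id]; rfl
  have h2 : π.base ((π ⁻¹ᵁ U).ι.base x'') = t' := by rw [← hcomp, h1, hu']
  have hind : Topology.IsInducing (π ∣_ U).base := (e.hom.homeomorph).isInducing
  have h3 : x'' ⤳ y₀ := by
    rw [← hind.specializes_iff, h1, ← U.ι.isOpenEmbedding.isInducing.specializes_iff, hu', hcomp,
      hy₀]
    exact ht'
  have h4 : (π ⁻¹ᵁ U).ι.base x'' ⤳ x := by
    rw [← hy₀]
    exact ((π ⁻¹ᵁ U).ι.isOpenEmbedding.isInducing.specializes_iff).mpr h3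
  have h5 : (π ⁻¹ᵁ U).ι.base x'' ∈ π ⁻¹ᵁ U := by
    rw [← SetLike.mem_coe, ← Scheme.Opens.range_ι]; exact ⟨x'', rfl⟩
  rw [← h2, hmax _ h5 h4]

/-- the discrete valuative criterion with centre at a given point, for `K`-points at maximal
points -/
def DvrAtMax {X B : Scheme.{u}} (fB : X ⟶ B) (b₀ : B) : Prop :=
  ∀ (A : Type u) [CommRing A] [IsDomain A] [IsDiscreteValuationRing A]
    (hA : Spec (CommRingCat.of A) ⟶ B) (x : Spec (CommRingCat.of (FractionRing A)) ⟶ X),
    hA.base (IsLocalRing.closedPoint A) = b₀ →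
    IsMaxPt (x.base (IsLocalRing.closedPoint (FractionRing A))) →
    x ≫ fB = Spec.map (CommRingCat.ofHom (algebraMap A (FractionRing A))) ≫ hA →
    ∃ l : Spec (CommRingCat.of A) ⟶ X, l ≫ fB = hA ∧
      Spec.map (CommRingCat.ofHom (algebraMap A (FractionRing A))) ≫ l = x

set_option maxHeartbeats 3200000 in
theorem isProper_of_dvrAtMax {T B : Scheme.{u}} [IsLocallyNoetherian B] [CompactSpace B]
    [QuasiSeparatedSpace B] (fB : T ⟶ B) [IsSeparated fB] [LocallyOfFiniteType fB]
    [QuasiCompact fB] (b₀ : B) (hb₀ : ∀ F : Set B, IsClosed F → F.Nonempty → b₀ ∈ F)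
    (H : DvrAtMax fB b₀) : IsProper fB := by
  haveI : IsLocallyNoetherian T := LocallyOfFiniteType.isLocallyNoetherian fB
  haveI : CompactSpace T := QuasiCompact.compactSpace_of_compactSpace fB
  haveI : IsNoetherian T := {}
  have hfin : (irreducibleComponents T).Finite := NoetherianSpace.finite_irreducibleComponents
  obtain ⟨n, X', π, j, hj, hcomm, hπ, hsurj, U, hU, hiso⟩ := Groth.Agent.S7410.result fB hfin
  let p := CohB1.ProjSpaceOver.toBase n B
  haveI hp : IsProper p := Groth.Agent.Lib.Helper28.ProjSpaceBasic.isProper_toBase n B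
  haveI : IsLocallyNoetherian (CohB1.ProjSpaceOver n B) :=
    LocallyOfFiniteType.isLocallyNoetherian p
  -- the reduced closure of the good open
  let W : X'.Opens := π ⁻¹ᵁ U
  let I := Scheme.IdealSheafData.vanishingIdeal (Closeds.closure (W : Set X'))
  let ι'' : I.subscheme ⟶ X' := I.subschemeι
  have hrange : Set.range ι''.base = closure (W : Set X') := by
    have := Scheme.IdealSheafData.range_subschemeι I
    rw [Scheme.IdealSheafData.coe_support_vanishingIdeal] at this
    exact this
  let π'' : I.subscheme ⟶ T := ι'' ≫ π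
  let j'' : I.subscheme ⟶ CohB1.ProjSpaceOver n B := ι'' ≫ j
  have hcomm'' : j'' ≫ p = π'' ≫ fB := by
    simp only [j'', π'', Category.assoc]; rw [hcomm]
  haveI : IsProper π'' := by simp only [π'']; infer_instance
  haveI : IsImmersion j'' := by simp only [j'']; infer_instance
  haveI : Surjective π'' := by
    constructor
    intro t
    have hcl : IsClosed (π.base '' closure (W : Set X')) := π.isClosedMap _ isClosed_closure
    have hsub : (U : Set T) ⊆ π.base '' closure (W : Set X') := by
      intro u hu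
      obtain ⟨x, rfl⟩ := hsurj.surj u
      exact ⟨x, subset_closure hu, rfl⟩
    have := closure_minimal hsub hcl (hU t)
    obtain ⟨x, hx, rfl⟩ := this
    rw [← hrange] at hx
    obtain ⟨z, rfl⟩ := hx
    exact ⟨z, rfl⟩
  haveI : LocallyOfFiniteType (j'' ≫ p) := by rw [hcomm'']; infer_instance
  haveI : LocallyOfFiniteType j'' := locallyOfFiniteType_of_comp j'' p
  haveI : CompactSpace I.subscheme := QuasiCompact.compactSpace_of_compactSpace π''
  haveI : IsLocallyNoetherian I.subscheme := LocallyOfFiniteType.isLocallyNoetherian π''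
  haveI : IsNoetherian I.subscheme := {}
  -- the good open is dense in the reduced closure
  have hdense : Dense ((ι'' ⁻¹ᵁ W : I.subscheme.Opens) : Set I.subscheme) := by
    intro z
    have hind : Topology.IsInducing ι''.base := ι''.isClosedEmbedding.isInducing
    rw [hind.closure_eq_preimage_closure_image]
    have : ι''.base '' ((ι'' ⁻¹ᵁ W : I.subscheme.Opens) : Set I.subscheme) = (W : Set X') := by
      ext x
      constructor
      · rintro ⟨z, hz, rfl⟩; exact hz
      · intro hx
        have : x ∈ Set.range ι''.base := by rw [hrange]; exact subset_closure hx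
        obtain ⟨z, rfl⟩ := this
        exact ⟨z, hx, rfl⟩
    rw [this, ← hrange]
    exact ⟨z, rfl⟩
  -- maximal points of the reduced closure go to maximal points
  have hmaxpt : ∀ ξ : I.subscheme, IsMaxPt ξ → IsMaxPt (π''.base ξ) := by
    intro ξ hξ
    have hξW : ξ ∈ (ι'' ⁻¹ᵁ W : I.subscheme.Opens) :=
      hξ.mem_of_dense _ (ι'' ⁻¹ᵁ W).2 hdense
    refine isMaxPt_image_of_isIso_restrict π U (ι''.base ξ) hξW ?_
    intro x' hx' hsp
    have : x' ∈ Set.range ι''.base := by rw [hrange]; exact subset_closure hx'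
    obtain ⟨ξ', rfl⟩ := this
    rw [hξ ξ' ((ι''.isClosedEmbedding.isInducing.specializes_iff).mp hsp)]
  -- the range of `j''` is closed
  have hcl : IsClosed (Set.range j''.base) := by
    rw [← closure_subset_iff_isClosed]
    intro c hc
    by_contra hcR
    have hC : IsClosed (closure (Set.range j''.base) ∩ (Set.range j''.base)ᶜ) := by
      have : IsLocallyClosed (Set.range j''.base) := j''.isLocallyClosed_range
      have h2 := this.isOpen_coborder
      rw [coborder, ← Set.sdiff_eq] at *
      exact isOpen_compl_iff.mp h2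
    have hF : IsClosed (p.base '' (closure (Set.range j''.base) ∩ (Set.range j''.base)ᶜ)) :=
      p.isClosedMap _ hC
    obtain ⟨c', ⟨hc'1, hc'2⟩, hc'3⟩ := hb₀ _ hF ⟨p.base c, c, ⟨hc, hcR⟩, rfl⟩
    obtain ⟨ξ₀, hξ₀⟩ := Groth.Agent.Lib.Helper3.DvrCl.exists_specializes_of_mem_closure_range
      j''.base j''.continuous c' hc'1
    obtain ⟨ξ, hξξ₀, hξmax⟩ := exists_isMaxPt_specializes ξ₀
    have hsp : j''.base ξ ⤳ c' := (hξξ₀.map j''.continuous).trans hξ₀
    have hne : c' ≠ j''.base ξ := fun h => hc'2 ⟨ξ, h.symm⟩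
    obtain ⟨A, hA, hdvr, hAcl, hAcomm⟩ := Groth.Agent.S4450.result j'' ξ c' hsp hne
    let xK : Spec (CommRingCat.of (FractionRing A)) ⟶ I.subscheme :=
      Spec.map (CommRingCat.ofHom
        ((FractionRing.algEquiv A (I.subscheme.residueField ξ)).symm :
          I.subscheme.residueField ξ →+* FractionRing A)) ≫
        I.subscheme.fromSpecResidueField ξ
    have hx1 : xK ≫ j'' = Spec.map (CommRingCat.ofHom (algebraMap A (FractionRing A))) ≫ hA := by
      simp only [xK]
      rw [Category.assoc, ← hAcomm, ← Category.assoc, ← Spec.map_comp]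
      congr 2
      ext a
      exact ((FractionRing.algEquiv A (I.subscheme.residueField ξ)).symm.commutes a)
    have hxKpt : xK.base (IsLocalRing.closedPoint (FractionRing A)) = ξ :=
      I.subscheme.fromSpecResidueField_apply ξ _
    obtain ⟨l, hl1, hl2⟩ := H A (hA ≫ p) (xK ≫ π'')
      ((congrArg p.base hAcl).trans hc'3)
      (by
        have : (xK ≫ π'').base (IsLocalRing.closedPoint (FractionRing A)) = π''.base ξ :=
          congrArg π''.base hxKpt
        rw [this]; exact hmaxpt ξ hξmax)
      (by rw [Category.assoc, ← hcomm'', ← Category.assoc, hx1, Category.assoc])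
    have hE : ValuativeCriterion.Existence π'' := by
      have : UniversallyClosed π'' := inferInstance
      rw [UniversallyClosed.eq_valuativeCriterion] at this
      exact this.1
    let S₁ : ValuativeCommSq π'' :=
      { R := A, K := FractionRing A, i₁ := xK, i₂ := l, commSq := ⟨hl2.symm⟩ }
    obtain ⟨⟨l', hl'1, hl'2⟩⟩ := hE S₁
    have hUq : ValuativeCriterion.Uniqueness p := IsSeparated.valuativeCriterion p
    let S₂ : ValuativeCommSq p :=
      { R := A, K := FractionRing A, i₁ := xK ≫ j'', i₂ := hA ≫ p,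
        commSq := ⟨by rw [Category.assoc, ← Category.assoc, hx1, Category.assoc]⟩ }
    let L1 : S₂.commSq.LiftStruct := ⟨hA, hx1.symm, rfl⟩
    let L2 : S₂.commSq.LiftStruct := ⟨l' ≫ j'', by rw [← Category.assoc, hl'1], by
      rw [Category.assoc, hcomm'', ← Category.assoc, hl'2, hl1]⟩
    have heq : hA = l' ≫ j'' := by
      show L1.l = L2.l
      exact congrArg CommSq.LiftStruct.l ((hUq S₂).elim L1 L2)
    apply hc'2
    rw [← hAcl, heq]
    exact ⟨l'.base _, rfl⟩
  haveI : IsClosedImmersion j'' := IsClosedImmersion.of_isPreimmersion j'' hcl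
  haveI : IsProper (π'' ≫ fB) := by rw [← hcomm'']; infer_instance
  haveI : UniversallyClosed fB := UniversallyClosed.of_comp_surjective π'' fB
  exact { }

end Groth.Agent.Lib.Helper13.DvrAtMax
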