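import Mathlib
import Groth.Agent.Lib.Helper13.StalkSpecLoc
import Groth.Agent.Lib.Helper13.DvrAtMax
import Groth.Agent.Lib.lead.GenFiniteCore

/-!
# Morphisms that are local isomorphisms at some points (helper13)

`g : T ⟶ X` with `T` affine, mapping maximal points injectively to maximal points.  If the stalk
maps at `s`, `s'` are isomorphisms and `g s = g s'` then `s = s'`.
-/

set_option autoImplicit false
set_option linter.unusedSectionVars false
set_option linter.unusedVariables false
set_option linter.style.haveILetI false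
universe u

open CategoryTheory CategoryTheory.Limits AlgebraicGeometry TopologicalSpace IsLocalRing

namespace Groth.Agent.Lib.Helper13.AffPts1

open Groth.Agent.Lib.Helper13.StalkSpecLoc Groth.Agent.Lib.Helper13.DvrAtMax

variable {T X : Scheme.{u}} (g : T ⟶ X)

/-- the stalk map at a generization of a point where the stalk map is bijective is bijective -/
theorem isIso_stalkMap_of_specializes {s t : T} (h : s ⤳ t) [IsIso (g.stalkMap t)] :
    IsIso (g.stalkMap s) := by
  have hX : g.base s ⤳ g.base t := g.base.hom.map_specializes h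
  let spT := T.presheaf.stalkSpecializes h
  let spX := X.presheaf.stalkSpecializes hX
  have hnat : spX ≫ g.stalkMap s = g.stalkMap t ≫ spT :=
    Scheme.Hom.stalkSpecializes_stalkMap g s t h
  have hnat' : ∀ a, (g.stalkMap s).hom (spX.hom a) = spT.hom ((g.stalkMap t).hom a) := fun a =>
    congrArg (fun φ : X.presheaf.stalk (g.base t) ⟶ T.presheaf.stalk s => φ.hom a) hnat
  have hbij : Function.Bijective (g.stalkMap t).hom :=
    (ConcreteCategory.isIso_iff_bijective (g.stalkMap t)).mp inferInstance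
  letI algT := spT.hom.toAlgebra
  letI algX := spX.hom.toAlgebra
  haveI locT := isLocalization_stalkSpecializes h
  haveI locX := isLocalization_stalkSpecializes hX
  have halgT : ∀ a, algebraMap (T.presheaf.stalk t) (T.presheaf.stalk s) a = spT.hom a :=
    fun a => rfl
  have halgX : ∀ a, algebraMap (X.presheaf.stalk (g.base t)) (X.presheaf.stalk (g.base s)) a =
    spX.hom a := fun a => rfl
  -- units
  have hunitT : ∀ v : T.presheaf.stalk t, v ∉ primeOf h → IsUnit (spT.hom v) := fun v hv =>
    (halgT v) ▸ IsLocalization.map_units (T.presheaf.stalk s) (⟨v, hv⟩ : (primeOf h).primeCompl)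
  have hunitX : ∀ u : X.presheaf.stalk (g.base t), u ∉ primeOf hX → IsUnit (spX.hom u) :=
    fun u hu => (halgX u) ▸
      IsLocalization.map_units (X.presheaf.stalk (g.base s)) (⟨u, hu⟩ : (primeOf hX).primeCompl)
  have hnotmem : ∀ u : X.presheaf.stalk (g.base t), (g.stalkMap t).hom u ∉ primeOf h →
      u ∉ primeOf hX := by
    intro u hu hmem
    have h1 : IsUnit (spT.hom ((g.stalkMap t).hom u)) := hunitT _ hu
    rw [← hnat'] at h1
    have h2 : IsUnit (spX.hom u) := (isUnit_map_iff (g.stalkMap s).hom _).mp h1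
    exact ((mem_maximalIdeal _).mp hmem) h2
  rw [ConcreteCategory.isIso_iff_bijective]
  constructor
  · -- injective
    rw [injective_iff_map_eq_zero]
    intro z hz
    obtain ⟨⟨a, u⟩, hau⟩ := IsLocalization.surj (primeOf hX).primeCompl z
    have hau' : z * spX.hom u.1 = spX.hom a := hau
    have h1 : spT.hom ((g.stalkMap t).hom a) = 0 := by
      rw [← hnat', ← hau', map_mul]
      have : (g.stalkMap s).hom z = 0 := hz
      rw [this, zero_mul]
    obtain ⟨v, hv⟩ := (IsLocalization.map_eq_zero_iff (primeOf h).primeCompl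
      (T.presheaf.stalk s) ((g.stalkMap t).hom a)).mp h1
    obtain ⟨u', hu'⟩ := hbij.2 v.1
    have h2 : u' * a = 0 := by
      apply hbij.1
      rw [map_mul, map_zero, hu']
      exact hv
    have hu'n : u' ∉ primeOf hX := hnotmem u' (by rw [hu']; exact v.2)
    have h3 : spX.hom a = 0 :=
      (IsLocalization.map_eq_zero_iff (primeOf hX).primeCompl
        (X.presheaf.stalk (g.base s)) a).mpr ⟨⟨u', hu'n⟩, h2⟩
    rw [h3] at hau'
    exact (hunitX u.1 u.2).mul_left_eq_zero.mp hau'
  · -- surjective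
    intro w
    obtain ⟨⟨b, v⟩, hbv⟩ := IsLocalization.surj (primeOf h).primeCompl w
    have hbv' : w * spT.hom v.1 = spT.hom b := hbv
    obtain ⟨a, ha⟩ := hbij.2 b
    obtain ⟨u, hu⟩ := hbij.2 v.1
    have hun : u ∉ primeOf hX := hnotmem u (by rw [hu]; exact v.2)
    obtain ⟨c, hc⟩ := (hunitX u hun).exists_right_inv
    refine ⟨spX.hom a * c, ?_⟩
    have hvunit : IsUnit (spT.hom v.1) := hunitT v.1 v.2
    apply hvunit.mul_left_injective
    show (g.stalkMap s).hom (spX.hom a * c) * spT.hom v.1 = w * spT.hom v.1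
    rw [hbv', ← hu, ← hnat', ← map_mul, mul_assoc, mul_comm c, hc, mul_one, hnat', ha]

/-- generizations of `g t` lift to generizations of `t` when the stalk map at `t` is bijective -/
theorem exists_generization_lift {t : T} [IsIso (g.stalkMap t)] {y : X} (hy : y ⤳ g.base t) :
    ∃ s : T, s ⤳ t ∧ g.base s = y := by
  have h1 : y ∈ Set.range (X.fromSpecStalk (g.base t)).base := by
    rw [Scheme.range_fromSpecStalk]; exact hy
  obtain ⟨p, hp⟩ := h1
  let σ := Spec.map (g.stalkMap t)
  have hσ : σ ≫ X.fromSpecStalk (g.base t) = T.fromSpecStalk t ≫ g :=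
    Scheme.SpecMap_stalkMap_fromSpecStalk g
  obtain ⟨p', hp'⟩ : ∃ p', σ.base p' = p := ⟨(inv σ).base p, by
    rw [← Scheme.Hom.comp_apply, IsIso.inv_hom_id]; rfl⟩
  refine ⟨(T.fromSpecStalk t).base p', ?_, ?_⟩
  · have : (T.fromSpecStalk t).base p' ∈ Set.range (T.fromSpecStalk t).base := ⟨_, rfl⟩
    rwa [Scheme.range_fromSpecStalk] at this
  · have h2 : g.base ((T.fromSpecStalk t).base p') = (X.fromSpecStalk (g.base t)).base (σ.base p') :=
      (congrArg (fun φ : Spec (T.presheaf.stalk t) ⟶ X => φ.base p') hσ).symm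
    rw [h2, hp', hp]

/-- `g` is injective on the generizations of a point where the stalk map is bijective -/
theorem eq_of_specializes_of_map_eq {t : T} [IsIso (g.stalkMap t)] {s s' : T} (hs : s ⤳ t)
    (hs' : s' ⤳ t) (h : g.base s = g.base s') : s = s' := by
  have h1 : s ∈ Set.range (T.fromSpecStalk t).base := by
    rw [Scheme.range_fromSpecStalk]; exact hs
  have h1' : s' ∈ Set.range (T.fromSpecStalk t).base := by
    rw [Scheme.range_fromSpecStalk]; exact hs'
  obtain ⟨p, rfl⟩ := h1
  obtain ⟨p', rfl⟩ := h1'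
  let σ := Spec.map (g.stalkMap t)
  have hσ : σ ≫ X.fromSpecStalk (g.base t) = T.fromSpecStalk t ≫ g :=
    Scheme.SpecMap_stalkMap_fromSpecStalk g
  have e1 : ∀ q, g.base ((T.fromSpecStalk t).base q) =
      (X.fromSpecStalk (g.base t)).base (σ.base q) := fun q =>
    (congrArg (fun φ : Spec (T.presheaf.stalk t) ⟶ X => φ.base q) hσ).symm
  rw [e1, e1] at h
  have h2 : σ.base p = σ.base p' := (X.fromSpecStalk (g.base t)).isEmbedding.injective h
  have h3 : p = p' := by
    have := congrArg (inv σ).base h2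
    rwa [← Scheme.Hom.comp_apply, ← Scheme.Hom.comp_apply, IsIso.hom_inv_id] at this
  rw [h3]

/-- the one-sided step of the key lemma: with a common generization `η` at which everything is a
local isomorphism, `g s' = g s` forces `s ⤳ s'`, for `T` affine -/
theorem specializes_of_common_generization [IsAffine T] {s s' η : T} [IsIso (g.stalkMap s)]
    [IsIso (g.stalkMap s')] [IsIso (g.stalkMap η)] (hηs : η ⤳ s) (hηs' : η ⤳ s')
    (h : g.base s' = g.base s) : s ⤳ s' := by
  by_contra hns
  rw [specializes_iff_forall_open] at hns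
  simp only [not_forall] at hns
  obtain ⟨O, hO, hs'O, hsO⟩ := hns
  obtain ⟨_, ⟨a, rfl⟩, hs'a, haO⟩ :=
    (Opens.isBasis_iff_nbhd.mp (isBasis_basicOpen T))
      (show s' ∈ (⟨O, hO⟩ : T.Opens) from hs'O)
  have hsa : s ∉ T.basicOpen a := fun hc => hsO (haO hc)
  have hu : ¬ IsUnit (T.presheaf.germ ⊤ s trivial a) := fun hc =>
    hsa ((T.mem_basicOpen_top a s).mpr hc)
  have hu' : IsUnit (T.presheaf.germ ⊤ s' trivial a) := (T.mem_basicOpen_top a s').mp hs'a
  have hbij : Function.Bijective (g.stalkMap s).hom :=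
    (ConcreteCategory.isIso_iff_bijective (g.stalkMap s)).mp inferInstance
  have hbij' : Function.Bijective (g.stalkMap s').hom :=
    (ConcreteCategory.isIso_iff_bijective (g.stalkMap s')).mp inferInstance
  have hbijη : Function.Bijective (g.stalkMap η).hom :=
    (ConcreteCategory.isIso_iff_bijective (g.stalkMap η)).mp inferInstance
  obtain ⟨z, hz⟩ := hbij.2 (T.presheaf.germ ⊤ s trivial a)
  obtain ⟨c, hc⟩ := hu'.exists_right_inv
  obtain ⟨z', hz'⟩ := hbij'.2 c
  have hznu : ¬ IsUnit z := fun hzu => hu (hz ▸ hzu.map (g.stalkMap s).hom)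
  -- transport
  let c₀ := X.presheaf.stalkSpecializes (specializes_of_eq h.symm)
  let z'' := c₀.hom z'
  have hXs : g.base η ⤳ g.base s := g.base.hom.map_specializes hηs
  have hXs' : g.base η ⤳ g.base s' := g.base.hom.map_specializes hηs'
  let spX := X.presheaf.stalkSpecializes hXs
  let spX' := X.presheaf.stalkSpecializes hXs'
  have hcomp : c₀ ≫ spX = spX' := X.presheaf.stalkSpecializes_comp _ _
  have hcomp' : spX.hom z'' = spX'.hom z' :=
    congrArg (fun φ : X.presheaf.stalk (g.base s') ⟶ X.presheaf.stalk (g.base η) => φ.hom z') hcomp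
  let spT := T.presheaf.stalkSpecializes hηs
  let spT' := T.presheaf.stalkSpecializes hηs'
  have hnat : ∀ w, (g.stalkMap η).hom (spX.hom w) = spT.hom ((g.stalkMap s).hom w) := fun w =>
    congrArg (fun φ : X.presheaf.stalk (g.base s) ⟶ T.presheaf.stalk η => φ.hom w)
      (Scheme.Hom.stalkSpecializes_stalkMap g η s hηs)
  have hnat' : ∀ w, (g.stalkMap η).hom (spX'.hom w) = spT'.hom ((g.stalkMap s').hom w) := fun w =>
    congrArg (fun φ : X.presheaf.stalk (g.base s') ⟶ T.presheaf.stalk η => φ.hom w)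
      (Scheme.Hom.stalkSpecializes_stalkMap g η s' hηs')
  have hg1 : spT.hom (T.presheaf.germ ⊤ s trivial a) = T.presheaf.germ ⊤ η trivial a :=
    congrArg (fun φ : Γ(T, ⊤) ⟶ T.presheaf.stalk η => φ.hom a)
      (T.presheaf.germ_stalkSpecializes (U := ⊤) (y := s) trivial hηs)
  have hg2 : spT'.hom (T.presheaf.germ ⊤ s' trivial a) = T.presheaf.germ ⊤ η trivial a :=
    congrArg (fun φ : Γ(T, ⊤) ⟶ T.presheaf.stalk η => φ.hom a)
      (T.presheaf.germ_stalkSpecializes (U := ⊤) (y := s') trivial hηs')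
  have h1 : (g.stalkMap η).hom (spX.hom (z * z'' - 1)) = 0 := by
    rw [map_sub, map_sub, map_mul, map_mul, map_one, map_one, hcomp', hnat, hnat', hz, hz', hg1,
      ← hg2, ← map_mul, hc, map_one, sub_self]
  have h2 : spX.hom (z * z'' - 1) = 0 := by
    apply hbijη.1
    rw [h1, map_zero]
  have h3 : IsUnit (z * z'' - 1) := by
    have h4 : z * z'' ∈ nonunits (X.presheaf.stalk (g.base s)) := by
      intro hzz
      exact hznu (isUnit_of_mul_isUnit_left hzz)
    have h5 := IsLocalRing.isUnit_one_sub_self_of_mem_nonunits _ h4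
    have : z * z'' - 1 = -(1 - z * z'') := by ring
    rw [this]
    exact h5.neg
  have h6 : IsUnit (spX.hom (z * z'' - 1)) := h3.map spX.hom
  rw [h2] at h6
  exact not_isUnit_zero h6

/-- **Key lemma**: `g` is injective on the locus where it is a local isomorphism, provided it maps
maximal points injectively to maximal points and `T` is affine. -/
theorem eq_of_map_eq [IsAffine T]
    (G1 : ∀ η : T, IsMaxPt η → IsMaxPt (g.base η))
    (G2 : ∀ η η' : T, IsMaxPt η → IsMaxPt η' → g.base η = g.base η' → η = η')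
    {s s' : T} [IsIso (g.stalkMap s)] [IsIso (g.stalkMap s')] (h : g.base s' = g.base s) :
    s = s' := by
  obtain ⟨η, hηs, hη⟩ := exists_isMaxPt_specializes s
  have hξ : g.base η ⤳ g.base s' := h ▸ g.base.hom.map_specializes hηs
  obtain ⟨η', hη's', hη'⟩ := exists_generization_lift g hξ
  have hη'max : IsMaxPt η' := by
    intro θ hθ
    obtain ⟨θ', hθ'θ, hθ'⟩ := exists_isMaxPt_specializes θ
    have h1 : g.base θ' ⤳ g.base η := hη' ▸ g.base.hom.map_specializes (hθ'θ.trans hθ)
    have h2 : g.base θ' = g.base η := G1 η hη _ h1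
    have h3 : θ' = η' := eq_of_specializes_of_map_eq g ((hθ'θ.trans hθ).trans hη's') hη's'
      (h2.trans hη'.symm)
    have h4 : η' ⤳ θ := h3 ▸ hθ'θ
    exact (hθ.antisymm h4).eq
  have hηη' : η = η' := G2 η η' hη hη'max hη'.symm
  subst hηη'
  haveI := isIso_stalkMap_of_specializes g hηs
  have h1 : s ⤳ s' := specializes_of_common_generization g hηs hη's' h
  have h2 : s' ⤳ s := specializes_of_common_generization g hη's' hηs h.symm
  exact (h1.antisymm h2).eq

/-- generizations are detected on `X`, on the locus where `g` is a local isomorphism -/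
theorem specializes_of_map_specializes [IsAffine T]
    (G1 : ∀ η : T, IsMaxPt η → IsMaxPt (g.base η))
    (G2 : ∀ η η' : T, IsMaxPt η → IsMaxPt η' → g.base η = g.base η' → η = η')
    {s k : T} [IsIso (g.stalkMap s)] [IsIso (g.stalkMap k)] (h : g.base s ⤳ g.base k) :
    s ⤳ k := by
  obtain ⟨s', hs'k, hs'⟩ := exists_generization_lift g h
  haveI := isIso_stalkMap_of_specializes g hs'k
  have : s = s' := eq_of_map_eq g G1 G2 hs'
  exact this ▸ hs'k


/-- the set of generizations of points of `F` -/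
def Gen (F : Finset T) : Set T := {s | ∃ t ∈ F, s ⤳ t}

theorem mem_Gen_self {F : Finset T} {t : T} (ht : t ∈ F) : t ∈ Gen F := ⟨t, ht, specializes_rfl⟩

theorem Gen_of_specializes {F : Finset T} {s s' : T} (hs : s ∈ Gen F) (h : s' ⤳ s) : s' ∈ Gen F := by
  obtain ⟨t, ht, hst⟩ := hs
  exact ⟨t, ht, h.trans hst⟩

theorem isIso_of_mem_Gen {F : Finset T} (hF : ∀ t ∈ F, IsIso (g.stalkMap t)) {s : T}
    (hs : s ∈ Gen F) : IsIso (g.stalkMap s) := by
  obtain ⟨t, ht, hst⟩ := hs
  haveI := hF t ht
  exact isIso_stalkMap_of_specializes g hst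

/-- generizations of `g k`, `k ∈ F`, are images of points of `Gen F` -/
theorem exists_mem_Gen_of_specializes {F : Finset T} (hF : ∀ t ∈ F, IsIso (g.stalkMap t)) {k : T}
    (hk : k ∈ F) {z : X} (hz : z ⤳ g.base k) : ∃ s ∈ Gen F, s ⤳ k ∧ g.base s = z := by
  haveI := hF k hk
  obtain ⟨s, hsk, hs⟩ := exists_generization_lift g hz
  exact ⟨s, ⟨k, hk, hsk⟩, hsk, hs⟩

/-- **Tool**: neighbourhoods in `T` of a point `k ∈ F` are seen, on the generizations of `F`, by
neighbourhoods in `X` of `g k`. -/
theorem exists_open_nhd_preimage_subset [IsAffine T] [QuasiSeparatedSpace X]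
    (G1 : ∀ η : T, IsMaxPt η → IsMaxPt (g.base η))
    (G2 : ∀ η η' : T, IsMaxPt η → IsMaxPt η' → g.base η = g.base η' → η = η')
    (F : Finset T) (hF : ∀ t ∈ F, IsIso (g.stalkMap t)) (k : T) (hk : k ∈ F) (N : T.Opens)
    (hkN : k ∈ N) :
    ∃ O : X.Opens, g.base k ∈ O ∧ ∀ s ∈ Gen F, g.base s ∈ O → s ∈ N := by
  classical
  let S : T → Set X := fun i => (T.fromSpecStalk i ≫ g).base '' ((T.fromSpecStalk i).base ⁻¹' (N : Set T)ᶜ)
  have hclosed : IsClosed (⋃ i ∈ F, closure (S i)) :=
    Set.Finite.isClosed_biUnion F.finite_toSet (fun i _ => isClosed_closure)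
  refine ⟨⟨(⋃ i ∈ F, closure (S i))ᶜ, hclosed.isOpen_compl⟩, ?_, ?_⟩
  · intro hmem
    change g.base k ∈ ⋃ i ∈ F, closure (S i) at hmem
    simp only [Set.mem_iUnion] at hmem
    obtain ⟨i, hi, hmem⟩ := hmem
    have hcl : IsClosed ((T.fromSpecStalk i).base ⁻¹' (N : Set T)ᶜ) :=
      (N.isOpen.isClosed_compl).preimage (T.fromSpecStalk i).continuous
    obtain ⟨c, hc, hck⟩ := Groth.Agent.Lib.lead.GenFiniteCore.exists_specializes_of_mem_closure_image
      (T.fromSpecStalk i ≫ g) _ hcl (g.base k) hmem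
    let s := (T.fromSpecStalk i).base c
    have hsi : s ⤳ i := by
      have : s ∈ Set.range (T.fromSpecStalk i).base := ⟨c, rfl⟩
      rwa [Scheme.range_fromSpecStalk] at this
    haveI := hF i hi
    haveI := hF k hk
    haveI := isIso_stalkMap_of_specializes g hsi
    have hsk : s ⤳ k := specializes_of_map_specializes g G1 G2 hck
    exact hc (hsk.mem_open N.isOpen hkN)
  · rintro s ⟨i, hi, hsi⟩ hsO
    by_contra hsN
    apply hsO
    change g.base s ∈ ⋃ i ∈ F, closure (S i)
    simp only [Set.mem_iUnion]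
    refine ⟨i, hi, subset_closure ?_⟩
    have : s ∈ Set.range (T.fromSpecStalk i).base := by
      rw [Scheme.range_fromSpecStalk]; exact hsi
    obtain ⟨c, rfl⟩ := this
    exact ⟨c, hsN, rfl⟩


end Groth.Agent.Lib.Helper13.AffPts1
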