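import Mathlib

/-!
# Prime avoidance on affine opens and a glueing criterion for affineness (helper13)
-/

set_option autoImplicit false
set_option linter.unusedSectionVars false
set_option linter.unusedVariables false
set_option linter.style.haveILetI false
universe u

open CategoryTheory CategoryTheory.Limits AlgebraicGeometry TopologicalSpace IsLocalRing Opposite

namespace Groth.Agent.Lib.Helper13.AffPts2

variable {X : Scheme.{u}}

/-- the ideal of sections over `U` whose non-vanishing locus lies in `O` -/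
def idealOfOpen (U O : X.Opens) : Ideal Γ(X, U) where
  carrier := {f | X.basicOpen f ≤ O}
  add_mem' := fun ha hb => (X.basicOpen_add_le _ _).trans (sup_le ha hb)
  zero_mem' := by
    show X.basicOpen (0 : Γ(X, U)) ≤ O
    rw [Scheme.basicOpen_zero]; exact bot_le
  smul_mem' := fun c x hx => by
    show X.basicOpen (c • x) ≤ O
    rw [smul_eq_mul, Scheme.basicOpen_mul]
    exact inf_le_right.trans hx

theorem mem_idealOfOpen {U O : X.Opens} {f : Γ(X, U)} :
    f ∈ idealOfOpen U O ↔ X.basicOpen f ≤ O := Iff.rfl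

/-- the prime ideal of sections over `U` vanishing at `y` (and `⊤` if `y ∉ U`) -/
noncomputable def primeAt (U : X.Opens) (y : X) : Ideal Γ(X, U) := by
  classical
  exact if hy : y ∈ U then
    Ideal.comap (X.presheaf.germ U y hy).hom (maximalIdeal (X.presheaf.stalk y)) else ⊤

theorem primeAt_isPrime {U : X.Opens} {y : X} (hy : y ∈ U) : (primeAt U y).IsPrime := by
  unfold primeAt
  rw [dif_pos hy]
  exact Ideal.comap_isPrime _ _

theorem mem_primeAt {U : X.Opens} {y : X} (hy : y ∈ U) (f : Γ(X, U)) :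
    f ∈ primeAt U y ↔ y ∉ X.basicOpen f := by
  unfold primeAt
  rw [dif_pos hy, Ideal.mem_comap, mem_maximalIdeal, mem_nonunits_iff, X.mem_basicOpen f y hy]

/-- **prime avoidance**: an ideal of `Γ(X, U)` not vanishing at any of finitely many points
contains an element vanishing at none of them -/
theorem exists_mem_ideal_forall_mem_basicOpen {U : X.Opens} (I : Ideal Γ(X, U)) (Y : Finset X)
    (hY : ∀ y ∈ Y, ∃ f ∈ I, y ∈ X.basicOpen f) : ∃ f ∈ I, ∀ y ∈ Y, y ∈ X.basicOpen f := by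
  classical
  rcases Y.eq_empty_or_nonempty with rfl | ⟨y₀, hy₀⟩
  · exact ⟨0, I.zero_mem, fun y hy => absurd hy (Finset.notMem_empty y)⟩
  by_contra hcon
  have hYU : ∀ y ∈ Y, y ∈ U := fun y hy => by
    obtain ⟨f, _, hf⟩ := hY y hy
    exact X.basicOpen_le f hf
  have hsub : (I : Set Γ(X, U)) ⊆ ⋃ y ∈ (↑Y : Set X), primeAt U y := by
    intro f hf
    by_contra hnot
    apply hcon
    refine ⟨f, hf, fun y hy => ?_⟩
    by_contra hyf
    apply hnot
    simp only [Set.mem_iUnion]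
    exact ⟨y, hy, (mem_primeAt (hYU y hy) f).mpr hyf⟩
  rw [Ideal.subset_union_prime (s := Y) (f := primeAt U) (a := y₀) (b := y₀) (fun y hy _ _ => primeAt_isPrime (hYU y hy))] at hsub
  obtain ⟨y, hy, hle⟩ := hsub
  obtain ⟨f, hfI, hf⟩ := hY y hy
  exact (mem_primeAt (hYU y hy) f).mp (hle hfI) hf

/-- a finite set of points of an affine open `U` inside an open `O` lies in a basic open of `U`
contained in `O` -/
theorem exists_basicOpen_le_of_finset {U : X.Opens} (hU : IsAffineOpen U) (O : X.Opens)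
    (Y : Finset X) (hYU : ∀ y ∈ Y, y ∈ U) (hYO : ∀ y ∈ Y, y ∈ O) :
    ∃ f : Γ(X, U), X.basicOpen f ≤ O ∧ ∀ y ∈ Y, y ∈ X.basicOpen f := by
  obtain ⟨f, hf, hfY⟩ := exists_mem_ideal_forall_mem_basicOpen (idealOfOpen U O) Y (fun y hy => by
    obtain ⟨f, hf1, hf2⟩ := hU.exists_basicOpen_le (V := O) ⟨y, hYO y hy⟩ (hYU y hy)
    exact ⟨f, hf1, hf2⟩)
  exact ⟨f, hf, hfY⟩

/-- two-open version: if every point of `Y ⊆ U` lies in `O₁` or `O₂`, there are `a₁`, `a₂` with
non-vanishing loci in `O₁`, resp. `O₂`, and `a₁ + a₂` vanishing at no point of `Y`. -/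
theorem exists_add_of_finset {U : X.Opens} (hU : IsAffineOpen U) (O₁ O₂ : X.Opens)
    (Y : Finset X) (hYU : ∀ y ∈ Y, y ∈ U) (hYO : ∀ y ∈ Y, y ∈ O₁ ∨ y ∈ O₂) :
    ∃ a₁ a₂ : Γ(X, U), X.basicOpen a₁ ≤ O₁ ∧ X.basicOpen a₂ ≤ O₂ ∧
      ∀ y ∈ Y, y ∈ X.basicOpen (a₁ + a₂) := by
  obtain ⟨f, hf, hfY⟩ := exists_mem_ideal_forall_mem_basicOpen
    (idealOfOpen U O₁ ⊔ idealOfOpen U O₂) Y (fun y hy => by
    rcases hYO y hy with h | h
    · obtain ⟨f, hf1, hf2⟩ := hU.exists_basicOpen_le (V := O₁) ⟨y, h⟩ (hYU y hy)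
      exact ⟨f, Ideal.mem_sup_left hf1, hf2⟩
    · obtain ⟨f, hf1, hf2⟩ := hU.exists_basicOpen_le (V := O₂) ⟨y, h⟩ (hYU y hy)
      exact ⟨f, Ideal.mem_sup_right hf1, hf2⟩)
  obtain ⟨a₁, ha₁, a₂, ha₂, rfl⟩ := Submodule.mem_sup.mp hf
  exact ⟨a₁, a₂, ha₁, ha₂, hfY⟩

/-- on a quasi-compact open `W` of a quasi-separated scheme, if the non-vanishing locus of
`ε ∈ Γ(X, W)` lies in `U₀` and `β ∈ Γ(X, U₀)`, then `D(ε) ∩ D(β)` is the non-vanishing locus of a
section over `W`. -/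
theorem exists_section_basicOpen_eq [QuasiSeparatedSpace X] (W : X.Opens) (hWc : IsCompact W.1)
    (ε : Γ(X, W)) {U₀ : X.Opens} (β : Γ(X, U₀)) (h : X.basicOpen ε ≤ U₀) :
    ∃ A : Γ(X, W), X.basicOpen A = X.basicOpen ε ⊓ X.basicOpen β := by
  let β' : Γ(X, X.basicOpen ε) := X.presheaf.map (homOfLE h).op β
  obtain ⟨n, α, hα⟩ := exists_eq_pow_mul_of_isCompact_of_isQuasiSeparated X W hWc
    (IsQuasiSeparated.of_quasiSeparatedSpace _) ε β'
  dsimp only [TopCat.Presheaf.restrictOpenCommRingCat_apply] at hα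
  refine ⟨ε * α, ?_⟩
  rw [Scheme.basicOpen_mul]
  have h1 := congrArg X.basicOpen hα
  rw [Scheme.basicOpen_res, Scheme.basicOpen_mul, Scheme.basicOpen_res] at h1
  have hunit : IsUnit ((X.presheaf.map (homOfLE (X.basicOpen_le ε)).op ε) ^ n) :=
    (RingedSpace.isUnit_res_basicOpen _ ε).pow n
  rw [Scheme.basicOpen_of_isUnit _ hunit] at h1
  rw [h1, ← inf_assoc, inf_idem]

/-- **glueing two affine opens**: `U₁ = D(β) ⊆ U₀`, `V₁ = D(γ) ⊆ V₀` with `U₀`, `V₀` affine, and a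
section `ε` over `W = U₁ ∪ V₁` with `D(ε) ∩ V₁ ⊆ U₀` and `D(1 - ε) ∩ U₁ ⊆ V₀`.  Then there is an
affine open in `W` containing the zeros of `1 - ε` in `U₁` and the zeros of `ε` in `V₁`. -/
theorem exists_affine_glue [QuasiSeparatedSpace X] {U₀ V₀ : X.Opens} (hU₀ : IsAffineOpen U₀)
    (hV₀ : IsAffineOpen V₀) (β : Γ(X, U₀)) (γ : Γ(X, V₀)) (W : X.Opens)
    (hW : W = X.basicOpen β ⊔ X.basicOpen γ) (ε : Γ(X, W))
    (h1 : X.basicOpen ε ⊓ X.basicOpen γ ≤ U₀) (h2 : X.basicOpen (1 - ε) ⊓ X.basicOpen β ≤ V₀) :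
    ∃ W' : X.Opens, IsAffineOpen W' ∧ W' ≤ W ∧
      (∀ x ∈ X.basicOpen β, x ∉ X.basicOpen (1 - ε) → x ∈ W') ∧
      (∀ x ∈ X.basicOpen γ, x ∉ X.basicOpen ε → x ∈ W') := by
  have hU₁ : IsAffineOpen (X.basicOpen β) := hU₀.basicOpen β
  have hV₁ : IsAffineOpen (X.basicOpen γ) := hV₀.basicOpen γ
  have hU₁W : X.basicOpen β ≤ W := hW ▸ le_sup_left
  have hV₁W : X.basicOpen γ ≤ W := hW ▸ le_sup_right
  have hWc : IsCompact W.1 := by
    rw [hW]
    exact hU₁.isCompact.union hV₁.isCompact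
  have hcover : ∀ x ∈ W, x ∈ X.basicOpen β ∨ x ∈ X.basicOpen γ := by
    intro x hx
    rw [hW] at hx
    exact hx
  -- the loci of `ε` and `1 - ε` lie in `U₀`, `V₀`
  have hε : X.basicOpen ε ≤ U₀ := by
    intro x hx
    rcases hcover x (X.basicOpen_le ε hx) with h | h
    · exact X.basicOpen_le β h
    · exact h1 ⟨hx, h⟩
  have hε' : X.basicOpen (1 - ε) ≤ V₀ := by
    intro x hx
    rcases hcover x (X.basicOpen_le _ hx) with h | h
    · exact h2 ⟨hx, h⟩
    · exact X.basicOpen_le γ h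
  obtain ⟨A₁, hA₁⟩ := exists_section_basicOpen_eq W hWc ε β hε
  obtain ⟨A₂, hA₂⟩ := exists_section_basicOpen_eq W hWc (1 - ε) γ hε'
  -- `D(ε) ∪ D(1 - ε) = W`
  have hor : ∀ x ∈ W, x ∈ X.basicOpen ε ∨ x ∈ X.basicOpen (1 - ε) := by
    intro x hx
    have h3 : x ∈ X.basicOpen (ε + (1 - ε)) := by
      rw [add_sub_cancel, Scheme.basicOpen_one]; exact hx
    exact X.basicOpen_add_le _ _ h3
  have hsub : ∀ (a b : Γ(X, W)) (x : X), x ∈ X.basicOpen a → x ∉ X.basicOpen b →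
      x ∈ X.basicOpen (a + b) := by
    intro a b x hxa hxb
    have h3 : a = (a + b) + (-1) * b := by ring
    rw [h3] at hxa
    rcases X.basicOpen_add_le _ _ hxa with h | h
    · exact h
    · rw [Scheme.basicOpen_mul] at h
      exact absurd h.2 hxb
  -- affineness of the two pieces
  have haff₁ : IsAffineOpen (X.basicOpen A₁) := by
    rw [hA₁]
    have := hU₁.basicOpen (X.presheaf.map (homOfLE hU₁W).op ε)
    rwa [Scheme.basicOpen_res, inf_comm] at this
  have haff₂ : IsAffineOpen (X.basicOpen A₂) := by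
    rw [hA₂]
    have := hV₁.basicOpen (X.presheaf.map (homOfLE hV₁W).op (1 - ε))
    rwa [Scheme.basicOpen_res, inf_comm] at this
  let δ := A₁ + A₂
  refine ⟨X.basicOpen δ, ?_, X.basicOpen_le δ, ?_, ?_⟩
  · -- affine
    let r : Γ(X, W) ⟶ Γ(X, X.basicOpen δ) := X.presheaf.map (homOfLE (X.basicOpen_le δ)).op
    apply isAffineOpen_of_isAffineOpen_basicOpen (X.basicOpen δ) {r.hom A₁, r.hom A₂}
    · rw [Ideal.eq_top_iff_one]
      have hu : IsUnit (r.hom δ) := RingedSpace.isUnit_res_basicOpen _ δ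
      have hmem : r.hom δ ∈ Ideal.span ({r.hom A₁, r.hom A₂} : Set Γ(X, X.basicOpen δ)) := by
        show r.hom (A₁ + A₂) ∈ _
        rw [map_add]
        exact Ideal.add_mem _ (Ideal.subset_span (by simp)) (Ideal.subset_span (by simp))
      exact (Ideal.eq_top_of_isUnit_mem _ hmem hu) ▸ Submodule.mem_top
    · intro i hi
      rcases hi with rfl | rfl
      · have := haff₁.basicOpen (X.presheaf.map (homOfLE (X.basicOpen_le A₁)).op δ)
        rw [Scheme.basicOpen_res] at this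
        show IsAffineOpen (X.basicOpen (X.presheaf.map (homOfLE (X.basicOpen_le δ)).op A₁))
        rw [Scheme.basicOpen_res, inf_comm]
        exact this
      · have := haff₂.basicOpen (X.presheaf.map (homOfLE (X.basicOpen_le A₂)).op δ)
        rw [Scheme.basicOpen_res] at this
        show IsAffineOpen (X.basicOpen (X.presheaf.map (homOfLE (X.basicOpen_le δ)).op A₂))
        rw [Scheme.basicOpen_res, inf_comm]
        exact this
  · intro x hxβ hx
    have hxε : x ∈ X.basicOpen ε := (hor x (hU₁W hxβ)).resolve_right hx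
    have hxA₁ : x ∈ X.basicOpen A₁ := hA₁ ▸ ⟨hxε, hxβ⟩
    have hxA₂ : x ∉ X.basicOpen A₂ := fun hc => hx (hA₂ ▸ hc : x ∈ X.basicOpen (1 - ε) ⊓ _).1
    exact hsub A₁ A₂ x hxA₁ hxA₂
  · intro x hxγ hx
    have hxε : x ∈ X.basicOpen (1 - ε) := (hor x (hV₁W hxγ)).resolve_left hx
    have hxA₂ : x ∈ X.basicOpen A₂ := hA₂ ▸ ⟨hxε, hxγ⟩
    have hxA₁ : x ∉ X.basicOpen A₁ := fun hc => hx (hA₁ ▸ hc : x ∈ X.basicOpen ε ⊓ _).1
    have := hsub A₂ A₁ x hxA₂ hxA₁
    rwa [add_comm] at this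


end Groth.Agent.Lib.Helper13.AffPts2
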