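import Mathlib
import Groth.Agent.Lib.Helper13.AffPts1
import Groth.Agent.Lib.Helper13.AffPts2

/-!
# Affine opens containing the images of finitely many points (helper13)
-/

set_option autoImplicit false
set_option linter.unusedSectionVars false
set_option linter.unusedVariables false
set_option linter.style.haveILetI false
universe u

open CategoryTheory CategoryTheory.Limits AlgebraicGeometry TopologicalSpace IsLocalRing Opposite

namespace Groth.Agent.Lib.Helper13.AffPts3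

open Groth.Agent.Lib.Helper13.StalkSpecLoc Groth.Agent.Lib.Helper13.DvrAtMax
open Groth.Agent.Lib.Helper13.AffPts1 Groth.Agent.Lib.Helper13.AffPts2

variable {T X : Scheme.{u}} (g : T ⟶ X)

/-- `σ ∈ Γ(X, O)` lifts `e ∈ Γ(T, D)` along `g` at the generizations of `F` lying over `O` -/
def Good (F : Finset T) (D : T.Opens) (e : Γ(T, D)) (O : X.Opens) (σ : Γ(X, O)) : Prop :=
  ∀ s ∈ Gen F, ∀ hO : g.base s ∈ O, ∃ hD : s ∈ D,
    (g.stalkMap s).hom (X.presheaf.germ O (g.base s) hO σ) = T.presheaf.germ D s hD e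

theorem Good.restrict {F : Finset T} {D : T.Opens} {e : Γ(T, D)} {O : X.Opens} {σ : Γ(X, O)}
    (h : Good g F D e O σ) {O' : X.Opens} (hle : O' ≤ O) :
    Good g F D e O' (X.presheaf.map (homOfLE hle).op σ) := by
  intro s hs hO'
  obtain ⟨hD, h⟩ := h s hs (hle hO')
  refine ⟨hD, ?_⟩
  rw [TopCat.Presheaf.germ_res_apply]
  exact h

/-- local lifts of sections at a point of `F` -/
theorem exists_local_lift [IsAffine T] [QuasiSeparatedSpace X]
    (G1 : ∀ η : T, IsMaxPt η → IsMaxPt (g.base η))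
    (G2 : ∀ η η' : T, IsMaxPt η → IsMaxPt η' → g.base η = g.base η' → η = η')
    (F : Finset T) (hF : ∀ t ∈ F, IsIso (g.stalkMap t)) (D : T.Opens) (e : Γ(T, D)) (k : T)
    (hk : k ∈ F) (hkD : k ∈ D) :
    ∃ (O : X.Opens) (σ : Γ(X, O)), g.base k ∈ O ∧ IsAffineOpen O ∧ Good g F D e O σ := by
  haveI := hF k hk
  have hbij : Function.Bijective (g.stalkMap k).hom :=
    (ConcreteCategory.isIso_iff_bijective (g.stalkMap k)).mp inferInstance
  obtain ⟨z, hz⟩ := hbij.2 (T.presheaf.germ D k hkD e)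
  obtain ⟨O₀, hkO₀, σ₀, hσ₀⟩ := X.presheaf.exists_germ_eq (x := g.base k) z
  have h1 : T.presheaf.germ (g ⁻¹ᵁ O₀) k hkO₀ (g.app O₀ σ₀) = T.presheaf.germ D k hkD e := by
    rw [← Scheme.Hom.germ_stalkMap_apply g O₀ k hkO₀ σ₀, hσ₀]
    exact hz
  obtain ⟨N, hkN, i₁, i₂, hN⟩ := T.presheaf.germ_eq k hkO₀ hkD _ _ h1
  obtain ⟨O₁, hkO₁, hO₁⟩ := exists_open_nhd_preimage_subset g G1 G2 F hF k hk N hkN
  obtain ⟨O, hOaff, hkO, hOle⟩ := exists_isAffineOpen_mem_and_subset (x := g.base k)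
    (U := O₀ ⊓ O₁) ⟨hkO₀, hkO₁⟩
  have hle₀ : O ≤ O₀ := fun x hx => (hOle hx).1
  have hle₁ : O ≤ O₁ := fun x hx => (hOle hx).2
  refine ⟨O, X.presheaf.map (homOfLE hle₀).op σ₀, hkO, hOaff, ?_⟩
  intro s hs hsO
  have hsN : s ∈ N := hO₁ s hs (hle₁ hsO)
  refine ⟨i₂.le hsN, ?_⟩
  rw [TopCat.Presheaf.germ_res_apply]
  have h2 := Scheme.Hom.germ_stalkMap_apply g O₀ s (hle₀ hsO) σ₀
  have h3 : T.presheaf.germ (g ⁻¹ᵁ O₀) s (hle₀ hsO) (g.app O₀ σ₀) =
      T.presheaf.germ N s hsN (T.presheaf.map i₁.op (g.app O₀ σ₀)) :=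
    (T.presheaf.germ_res_apply i₁ s hsN _).symm
  have h4 : T.presheaf.germ D s (i₂.le hsN) e =
      T.presheaf.germ N s hsN (T.presheaf.map i₂.op e) :=
    (T.presheaf.germ_res_apply i₂ s hsN _).symm
  rw [h4, ← hN, ← h3]
  exact h2

/-- the locus in `Q` where the germ of `a` is non-zero -/
def suppIn (Q : X.Opens) (a : Γ(X, Q)) : Set X := {x | ∃ h : x ∈ Q, X.presheaf.germ Q x h a ≠ 0}

theorem germ_eq_zero_of_not_mem_suppIn {Q : X.Opens} {a : Γ(X, Q)} {x : X} (hx : x ∉ suppIn Q a)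
    (hxQ : x ∈ Q) : X.presheaf.germ Q x hxQ a = 0 := by
  by_contra h
  exact hx ⟨hxQ, h⟩

theorem isClosed_suppIn_subtype (Q : X.Opens) (a : Γ(X, Q)) :
    IsClosed {c : Q | X.presheaf.germ Q c.1 c.2 a ≠ 0} := by
  rw [← isOpen_compl_iff, isOpen_iff_forall_mem_open]
  intro c hc
  have hc0 : X.presheaf.germ Q c.1 c.2 a = 0 := by
    by_contra h
    exact hc h
  obtain ⟨W, hcW, i₁, i₂, hW⟩ := X.presheaf.germ_eq c.1 c.2 c.2 a 0 (by rw [hc0, map_zero])
  refine ⟨Subtype.val ⁻¹' (W : Set X), ?_, W.isOpen.preimage continuous_subtype_val, hcW⟩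
  intro c' hc'
  change c'.1 ∈ W at hc'
  show ¬ (X.presheaf.germ Q c'.1 c'.2 a ≠ 0)
  rw [not_not, ← X.presheaf.germ_res_apply i₁ c'.1 hc' a, hW, map_zero, map_zero]

/-- a section over a quasi-compact open whose germs vanish at all generizations of `y` has support
whose closure misses `y` -/
theorem not_mem_closure_suppIn [QuasiSeparatedSpace X] (Q : X.Opens) (hQ : IsCompact Q.1)
    (a : Γ(X, Q)) (y : X)
    (hy : ∀ z : X, z ⤳ y → ∀ hz : z ∈ Q, X.presheaf.germ Q z hz a = 0) :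
    y ∉ closure (suppIn Q a) := by
  intro hmem
  haveI : CompactSpace Q := isCompact_iff_compactSpace.mp hQ
  have himg : Q.ι.base '' {c : Q | X.presheaf.germ Q c.1 c.2 a ≠ 0} = suppIn Q a := by
    ext x
    constructor
    · rintro ⟨c, hc, rfl⟩
      exact ⟨c.2, hc⟩
    · rintro ⟨hxQ, hx⟩
      exact ⟨⟨x, hxQ⟩, hx, rfl⟩
  rw [← himg] at hmem
  obtain ⟨c, hc, hcy⟩ := Groth.Agent.Lib.lead.GenFiniteCore.exists_specializes_of_mem_closure_image
    Q.ι _ (isClosed_suppIn_subtype Q a) y hmem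
  exact hc (hy _ hcy c.2)


/-- the difference of two sections on the intersection of their domains -/
noncomputable def diffSec {U V : X.Opens} (σ : Γ(X, U)) (σ' : Γ(X, V)) : Γ(X, U ⊓ V) :=
  X.presheaf.map (Opens.infLELeft U V).op σ - X.presheaf.map (Opens.infLERight U V).op σ'

theorem germ_diffSec {U V : X.Opens} (σ : Γ(X, U)) (σ' : Γ(X, V)) (x : X) (hx : x ∈ U ⊓ V) :
    X.presheaf.germ (U ⊓ V) x hx (diffSec σ σ') =
      X.presheaf.germ U x hx.1 σ - X.presheaf.germ V x hx.2 σ' := by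
  unfold diffSec
  rw [map_sub, TopCat.Presheaf.germ_res_apply, TopCat.Presheaf.germ_res_apply]

/-- **global lift**: a section of `T` near `F` lifts to a section of `X` near `g(F)`, compatibly at
all generizations of `F`. -/
theorem exists_lift [IsAffine T] [QuasiSeparatedSpace X]
    (G1 : ∀ η : T, IsMaxPt η → IsMaxPt (g.base η))
    (G2 : ∀ η η' : T, IsMaxPt η → IsMaxPt η' → g.base η = g.base η' → η = η')
    (F : Finset T) (hF : ∀ t ∈ F, IsIso (g.stalkMap t)) (D : T.Opens) (e : Γ(T, D))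
    (hFD : ∀ k ∈ F, k ∈ D) :
    ∃ (O : X.Opens) (σ : Γ(X, O)), (∀ k ∈ F, g.base k ∈ O) ∧ Good g F D e O σ := by
  classical
  let ι := {k : T // k ∈ F}
  choose O σ hkO hOaff hgood using fun k : ι =>
    exists_local_lift g G1 G2 F hF D e k.1 k.2 (hFD k.1 k.2)
  have hQ : ∀ i j, IsCompact (O i ⊓ O j).1 := fun i j =>
    QuasiSeparatedSpace.inter_isCompact _ _ (O i).isOpen (hOaff i).isCompact (O j).isOpen
      (hOaff j).isCompact
  let C : Set X := ⋃ p : ι × ι, closure (suppIn (O p.1 ⊓ O p.2) (diffSec (σ p.1) (σ p.2)))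
  have hC : IsClosed C := isClosed_iUnion_of_finite (fun _ => isClosed_closure)
  -- germs of the local lifts agree at generizations of points of `g(F)`
  have hagree : ∀ (i j : ι) (s₀ : T), s₀ ∈ Gen F → ∀ (hi : g.base s₀ ∈ O i) (hj : g.base s₀ ∈ O j),
      X.presheaf.germ (O i) (g.base s₀) hi (σ i) = X.presheaf.germ (O j) (g.base s₀) hj (σ j) := by
    intro i j s₀ hs₀ hi hj
    haveI := isIso_of_mem_Gen g hF hs₀
    have hbij : Function.Bijective (g.stalkMap s₀).hom :=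
      (ConcreteCategory.isIso_iff_bijective (g.stalkMap s₀)).mp inferInstance
    obtain ⟨hD₁, h₁⟩ := hgood i s₀ hs₀ hi
    obtain ⟨hD₂, h₂⟩ := hgood j s₀ hs₀ hj
    exact hbij.1 (h₁.trans h₂.symm)
  have hkC : ∀ k ∈ F, g.base k ∉ C := by
    intro k hk hmem
    simp only [C, Set.mem_iUnion] at hmem
    obtain ⟨⟨i, j⟩, hmem⟩ := hmem
    refine not_mem_closure_suppIn (O i ⊓ O j) (hQ i j) (diffSec (σ i) (σ j)) (g.base k) ?_ hmem
    intro z hz hzQ
    obtain ⟨s₀, hs₀, -, rfl⟩ := exists_mem_Gen_of_specializes g hF hk hz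
    rw [germ_diffSec, hagree i j s₀ hs₀ hzQ.1 hzQ.2, sub_self]
  let Cc : X.Opens := ⟨Cᶜ, hC.isOpen_compl⟩
  let O' : ι → X.Opens := fun k => O k ⊓ Cc
  let sf : ∀ k : ι, Γ(X, O' k) := fun k => X.presheaf.map (Opens.infLELeft (O k) Cc).op (σ k)
  have hcompat : TopCat.Presheaf.IsCompatible X.presheaf O' sf := by
    intro i j
    apply TopCat.Presheaf.section_ext X.sheaf
    intro x hx
    have hxi : x ∈ O i := hx.1.1
    have hxj : x ∈ O j := hx.2.1
    have hxC : x ∉ C := hx.1.2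
    have hx0 : x ∉ suppIn (O i ⊓ O j) (diffSec (σ i) (σ j)) := fun hc =>
      hxC (Set.mem_iUnion.mpr ⟨(i, j), subset_closure hc⟩)
    have h0 := (germ_diffSec (σ i) (σ j) x ⟨hxi, hxj⟩).symm.trans
      (germ_eq_zero_of_not_mem_suppIn hx0 ⟨hxi, hxj⟩)
    rw [sub_eq_zero] at h0
    show X.presheaf.germ (O' i ⊓ O' j) x hx (X.presheaf.map (Opens.infLELeft (O' i) (O' j)).op
        (X.presheaf.map (Opens.infLELeft (O i) Cc).op (σ i))) =
      X.presheaf.germ (O' i ⊓ O' j) x hx (X.presheaf.map (Opens.infLERight (O' i) (O' j)).op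
        (X.presheaf.map (Opens.infLELeft (O j) Cc).op (σ j)))
    rw [TopCat.Presheaf.germ_res_apply, TopCat.Presheaf.germ_res_apply,
      TopCat.Presheaf.germ_res_apply, TopCat.Presheaf.germ_res_apply]
    exact h0
  obtain ⟨τ, hτ, -⟩ := X.sheaf.existsUnique_gluing' O' (iSup O')
    (fun k => homOfLE (le_iSup O' k)) le_rfl sf hcompat
  refine ⟨iSup O', τ, ?_, ?_⟩
  · intro k hk
    exact Opens.mem_iSup.mpr ⟨⟨k, hk⟩, hkO ⟨k, hk⟩, hkC k hk⟩
  · intro s₀ hs₀ hO
    obtain ⟨k, hk⟩ := Opens.mem_iSup.mp hO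
    obtain ⟨hD, h⟩ := hgood k s₀ hs₀ hk.1
    refine ⟨hD, ?_⟩
    rw [← h]
    congr 1
    have h1 := hτ k
    change X.presheaf.map (homOfLE (le_iSup O' k)).op τ =
      X.presheaf.map (Opens.infLELeft (O k) Cc).op (σ k) at h1
    rw [← X.presheaf.germ_res_apply (homOfLE (le_iSup O' k)) (g.base s₀) hk τ, h1,
      TopCat.Presheaf.germ_res_apply]


theorem Good.one_sub {F : Finset T} {D : T.Opens} {e : Γ(T, D)} {O : X.Opens} {σ : Γ(X, O)}
    (h : Good g F D e O σ) : Good g F D (1 - e) O (1 - σ) := by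
  intro s hs hO
  obtain ⟨hD, h⟩ := h s hs hO
  refine ⟨hD, ?_⟩
  rw [map_sub, map_sub, map_one, map_one, map_sub, map_one, h]

theorem Good.mem_basicOpen {F : Finset T} {D : T.Opens} {e : Γ(T, D)} {O : X.Opens} {σ : Γ(X, O)}
    (h : Good g F D e O σ) {s : T} (hs : s ∈ Gen F) (hσ : g.base s ∈ X.basicOpen σ) :
    s ∈ T.basicOpen e := by
  have hO : g.base s ∈ O := X.basicOpen_le σ hσ
  obtain ⟨hD, heq⟩ := h s hs hO
  have h1 : IsUnit (X.presheaf.germ O (g.base s) hO σ) := (X.mem_basicOpen σ (g.base s) hO).mp hσ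
  have h2 := h1.map (g.stalkMap s).hom
  rw [heq] at h2
  exact (T.mem_basicOpen e s hD).mpr h2

/-- the separating function: on an affine `T`, with `E ∪ {t}` finite, `g(E) ⊆ U₀`, `g t ∈ V₀ ∖ U₀`
and no point of `E` specializing to `t`. -/
theorem exists_separating_section [IsAffine T] (E : Finset T) (t : T) (U₀ V₀ : X.Opens)
    (hE : ∀ j ∈ E, g.base j ∈ U₀) (ht : g.base t ∈ V₀) (htU : g.base t ∉ U₀)
    (hjt : ∀ j ∈ E, ¬ j ⤳ t) :
    ∃ (D : T.Opens) (e : Γ(T, D)), (∀ j ∈ E, j ∈ D) ∧ t ∈ D ∧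
      T.basicOpen e ≤ g ⁻¹ᵁ U₀ ∧ T.basicOpen (1 - e) ≤ g ⁻¹ᵁ V₀ ∧
      (∀ j ∈ E, j ∉ T.basicOpen (1 - e)) ∧ t ∉ T.basicOpen e := by
  classical
  have hC₁ : IsClosed (⋃ j ∈ E, closure ({j} : Set T)) :=
    Set.Finite.isClosed_biUnion E.finite_toSet (fun _ _ => isClosed_closure)
  let O₁ : T.Opens := g ⁻¹ᵁ V₀ ⊓ ⟨(⋃ j ∈ E, closure ({j} : Set T))ᶜ, hC₁.isOpen_compl⟩
  let O₂ : T.Opens := g ⁻¹ᵁ U₀ ⊓ ⟨(closure ({t} : Set T))ᶜ, isClosed_closure.isOpen_compl⟩
  have htO₁ : t ∈ O₁ := by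
    refine ⟨ht, ?_⟩
    intro hmem
    simp only [Set.mem_iUnion] at hmem
    obtain ⟨j, hj, hmem⟩ := hmem
    exact hjt j hj (specializes_iff_mem_closure.mpr hmem)
  have hjO₂ : ∀ j ∈ E, j ∈ O₂ := by
    intro j hj
    refine ⟨hE j hj, ?_⟩
    intro hmem
    have h1 : t ⤳ j := specializes_iff_mem_closure.mpr hmem
    have h2 : g.base t ⤳ g.base j := g.base.hom.map_specializes h1
    exact htU (h2.mem_open U₀.isOpen (hE j hj))
  obtain ⟨a₁, a₂, ha₁, ha₂, hY⟩ := exists_add_of_finset (isAffineOpen_top T) O₁ O₂ (insert t E)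
    (fun _ _ => trivial) (fun y hy => by
      rcases Finset.mem_insert.mp hy with rfl | hy
      · exact Or.inl htO₁
      · exact Or.inr (hjO₂ y hy))
  let h := a₁ + a₂
  let D := T.basicOpen h
  let r : Γ(T, ⊤) ⟶ Γ(T, D) := T.presheaf.map (homOfLE (T.basicOpen_le h)).op
  have hunit : IsUnit (r.hom h) := RingedSpace.isUnit_res_basicOpen _ h
  obtain ⟨u, hu⟩ := hunit.exists_right_inv
  have hsum : (r.hom a₁ + r.hom a₂) * u = 1 := by rw [← map_add]; exact hu
  have hbO₁ : T.basicOpen (r.hom a₁) ≤ T.basicOpen a₁ := by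
    show T.basicOpen (T.presheaf.map (homOfLE (T.basicOpen_le h)).op a₁) ≤ _
    rw [Scheme.basicOpen_res]; exact inf_le_right
  have hbO₂ : T.basicOpen (r.hom a₂) ≤ T.basicOpen a₂ := by
    show T.basicOpen (T.presheaf.map (homOfLE (T.basicOpen_le h)).op a₂) ≤ _
    rw [Scheme.basicOpen_res]; exact inf_le_right
  have he1 : 1 - r.hom a₂ * u = r.hom a₁ * u := by linear_combination (-1 : Γ(T, D)) * hsum
  have hle₂ : T.basicOpen (r.hom a₂ * u) ≤ O₂ := by
    rw [Scheme.basicOpen_mul]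
    exact inf_le_left.trans (hbO₂.trans ha₂)
  have hle₁ : T.basicOpen (1 - r.hom a₂ * u) ≤ O₁ := by
    rw [he1, Scheme.basicOpen_mul]
    exact inf_le_left.trans (hbO₁.trans ha₁)
  refine ⟨D, r.hom a₂ * u, fun j hj => hY j (Finset.mem_insert_of_mem hj),
    hY t (Finset.mem_insert_self t E), hle₂.trans inf_le_left, hle₁.trans inf_le_left, ?_, ?_⟩
  · intro j hj hmem
    have := (hle₁ hmem).2
    apply this
    simp only [Set.mem_iUnion]
    exact ⟨j, hj, subset_closure rfl⟩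
  · intro hmem
    exact (hle₂ hmem).2 (subset_closure rfl)


/-- **shrinking**: inside an affine open `A ⊇ g(Y)`, `Y ⊆ F` finite, there is a basic open of `A`
containing `g(Y)`, contained in a prescribed neighbourhood `O` of `g(Y)`, on which a quasi-compact
open `Q` lies in `B`, provided this holds at the images of generizations of `F`. -/
theorem exists_basicOpen_shrink [QuasiSeparatedSpace X] (F : Finset T)
    (hF : ∀ t ∈ F, IsIso (g.stalkMap t)) {A : X.Opens} (hA : IsAffineOpen A) (Y : Finset T)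
    (hYF : ∀ y ∈ Y, y ∈ F) (hYA : ∀ y ∈ Y, g.base y ∈ A) (Q : X.Opens) (hQ : IsCompact Q.1)
    (B : X.Opens) (hQB : ∀ s ∈ Gen F, g.base s ∈ Q → g.base s ∈ B) (O : X.Opens)
    (hYO : ∀ y ∈ Y, g.base y ∈ O) :
    ∃ f : Γ(X, A), X.basicOpen f ≤ O ∧ (∀ y ∈ Y, g.base y ∈ X.basicOpen f) ∧
      Q ⊓ X.basicOpen f ≤ B := by
  classical
  haveI : CompactSpace Q := isCompact_iff_compactSpace.mp hQ
  let Z : Set X := Q.ι.base '' (Q.ι.base ⁻¹' (B : Set X)ᶜ)
  have hZc : IsClosed (Q.ι.base ⁻¹' (B : Set X)ᶜ) :=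
    B.isOpen.isClosed_compl.preimage Q.ι.continuous
  have hYZ : ∀ y ∈ Y, g.base y ∉ closure Z := by
    intro y hy hmem
    obtain ⟨c, hc, hcy⟩ := Groth.Agent.Lib.lead.GenFiniteCore.exists_specializes_of_mem_closure_image
      Q.ι _ hZc (g.base y) hmem
    obtain ⟨s, hs, -, hsc⟩ := exists_mem_Gen_of_specializes g hF (hYF y hy) hcy
    have h1 : g.base s ∈ Q := hsc ▸ c.2
    have h2 : g.base s ∈ B := hQB s hs h1
    exact hc (hsc ▸ h2)
  let O' : X.Opens := O ⊓ ⟨(closure Z)ᶜ, isClosed_closure.isOpen_compl⟩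
  obtain ⟨f, hfO, hfY⟩ := exists_basicOpen_le_of_finset hA O' (Y.image g.base)
    (fun x hx => by
      obtain ⟨y, hy, rfl⟩ := Finset.mem_image.mp hx
      exact hYA y hy)
    (fun x hx => by
      obtain ⟨y, hy, rfl⟩ := Finset.mem_image.mp hx
      exact ⟨hYO y hy, hYZ y hy⟩)
  refine ⟨f, hfO.trans inf_le_left, fun y hy => hfY _ (Finset.mem_image_of_mem _ hy), ?_⟩
  rintro x ⟨hxQ, hxf⟩
  by_contra hxB
  exact (hfO hxf).2 (subset_closure ⟨⟨x, hxQ⟩, hxB, rfl⟩)

theorem mem_of_mem_basicOpen_res {U V : X.Opens} (hle : V ≤ U) (σ : Γ(X, U)) {x : X}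
    (hx : x ∈ X.basicOpen (X.presheaf.map (homOfLE hle).op σ)) : x ∈ X.basicOpen σ := by
  rw [Scheme.basicOpen_res] at hx
  exact hx.2

theorem mem_basicOpen_res {U V : X.Opens} (hle : V ≤ U) (σ : Γ(X, U)) {x : X} (hxV : x ∈ V)
    (hx : x ∈ X.basicOpen σ) : x ∈ X.basicOpen (X.presheaf.map (homOfLE hle).op σ) := by
  rw [Scheme.basicOpen_res]
  exact ⟨hxV, hx⟩

/-- **the inductive step**: adding one point -/
theorem exists_affine_step [IsAffine T] [QuasiSeparatedSpace X]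
    (G1 : ∀ η : T, IsMaxPt η → IsMaxPt (g.base η))
    (G2 : ∀ η η' : T, IsMaxPt η → IsMaxPt η' → g.base η = g.base η' → η = η')
    (E : Finset T) (t : T) [DecidableEq T] (hF : ∀ k ∈ insert t E, IsIso (g.stalkMap k))
    {U₀ V₀ : X.Opens} (hU₀ : IsAffineOpen U₀) (hV₀ : IsAffineOpen V₀)
    (hE : ∀ j ∈ E, g.base j ∈ U₀) (ht : g.base t ∈ V₀) (htU : g.base t ∉ U₀)
    (hjt : ∀ j ∈ E, ¬ j ⤳ t) :
    ∃ W : X.Opens, IsAffineOpen W ∧ ∀ k ∈ insert t E, g.base k ∈ W := by
  obtain ⟨D, e, hED, htD, he, he', hEe, hte⟩ :=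
    exists_separating_section g E t U₀ V₀ hE ht htU hjt
  obtain ⟨O, σ, hFO, hgood⟩ := exists_lift g G1 G2 (insert t E) hF D e (fun k hk => by
    rcases Finset.mem_insert.mp hk with rfl | hk
    · exact htD
    · exact hED k hk)
  have hgood' := hgood.one_sub
  have hEF : ∀ y ∈ E, y ∈ insert t E := fun y hy => Finset.mem_insert_of_mem hy
  have htF : ∀ y ∈ ({t} : Finset T), y ∈ insert t E := fun y hy => by
    rw [Finset.mem_singleton.mp hy]; exact Finset.mem_insert_self t E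
  -- first shrinking into `O`
  obtain ⟨γ', hγ'O, hγ't⟩ := exists_basicOpen_le_of_finset hV₀ O ({g.base t} : Finset X)
    (fun x hx => by rw [Finset.mem_singleton.mp hx]; exact ht)
    (fun x hx => by
      rw [Finset.mem_singleton.mp hx]; exact hFO t (Finset.mem_insert_self t E))
  have hγ't : g.base t ∈ X.basicOpen γ' := hγ't _ (Finset.mem_singleton_self _)
  classical
  obtain ⟨β', hβ'O, hβ'E⟩ := exists_basicOpen_le_of_finset hU₀ O (E.image g.base)
    (fun x hx => by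
      obtain ⟨y, hy, rfl⟩ := Finset.mem_image.mp hx
      exact hE y hy)
    (fun x hx => by
      obtain ⟨y, hy, rfl⟩ := Finset.mem_image.mp hx
      exact hFO y (hEF y hy))
  have hβ'E : ∀ j ∈ E, g.base j ∈ X.basicOpen β' := fun j hj =>
    hβ'E _ (Finset.mem_image_of_mem _ hj)
  -- second shrinking
  let σV := X.presheaf.map (homOfLE hγ'O).op σ
  obtain ⟨γ, hγle, hγt, hγU⟩ := exists_basicOpen_shrink g (insert t E) hF hV₀ {t} htF
    (fun y hy => by rw [Finset.mem_singleton.mp hy]; exact ht) (X.basicOpen σV)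
    ((hV₀.basicOpen γ').basicOpen σV).isCompact U₀
    (fun s hs hsQ => he (hgood.mem_basicOpen g hs (mem_of_mem_basicOpen_res hγ'O σ hsQ)))
    (X.basicOpen γ') (fun y hy => by rw [Finset.mem_singleton.mp hy]; exact hγ't)
  have hγt : g.base t ∈ X.basicOpen γ := hγt t (Finset.mem_singleton_self t)
  let σU := X.presheaf.map (homOfLE hβ'O).op (1 - σ)
  obtain ⟨β, hβle, hβE, hβV⟩ := exists_basicOpen_shrink g (insert t E) hF hU₀ E hEF hE
    (X.basicOpen σU) ((hU₀.basicOpen β').basicOpen σU).isCompact V₀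
    (fun s hs hsQ => he' (hgood'.mem_basicOpen g hs (mem_of_mem_basicOpen_res hβ'O (1 - σ) hsQ)))
    (X.basicOpen β') hβ'E
  -- glue
  have hWO : X.basicOpen β ⊔ X.basicOpen γ ≤ O :=
    sup_le (hβle.trans hβ'O) (hγle.trans hγ'O)
  let ε := X.presheaf.map (homOfLE hWO).op σ
  have h1ε : 1 - ε = X.presheaf.map (homOfLE hWO).op (1 - σ) := by
    rw [map_sub, map_one]
  obtain ⟨W', hW'aff, -, hW'β, hW'γ⟩ := exists_affine_glue hU₀ hV₀ β γ _ rfl ε
    (by
      rintro x ⟨hx1, hx2⟩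
      have hx3 : x ∈ X.basicOpen σ := mem_of_mem_basicOpen_res hWO σ hx1
      exact hγU ⟨mem_basicOpen_res hγ'O σ (hγle hx2) hx3, hx2⟩)
    (by
      rintro x ⟨hx1, hx2⟩
      have hx3 : x ∈ X.basicOpen (1 - σ) := mem_of_mem_basicOpen_res hWO (1 - σ) (h1ε ▸ hx1)
      exact hβV ⟨mem_basicOpen_res hβ'O (1 - σ) (hβle hx2) hx3, hx2⟩)
  refine ⟨W', hW'aff, fun k hk => ?_⟩
  rcases Finset.mem_insert.mp hk with rfl | hk
  · apply hW'γ _ hγt
    intro hmem
    have hx3 : g.base k ∈ X.basicOpen σ := mem_of_mem_basicOpen_res hWO σ hmem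
    exact hte (hgood.mem_basicOpen g (mem_Gen_self (Finset.mem_insert_self k E)) hx3)
  · apply hW'β _ (hβE k hk)
    intro hmem
    have hx3 : g.base k ∈ X.basicOpen (1 - σ) :=
      mem_of_mem_basicOpen_res hWO (1 - σ) (h1ε ▸ hmem)
    exact hEe k hk (hgood'.mem_basicOpen g (mem_Gen_self (hEF k hk)) hx3)


/-- **finitely many points at which `g` is a local isomorphism map into a common affine open** -/
theorem exists_affine_of_finset [IsAffine T] [QuasiSeparatedSpace X]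
    (G1 : ∀ η : T, IsMaxPt η → IsMaxPt (g.base η))
    (G2 : ∀ η η' : T, IsMaxPt η → IsMaxPt η' → g.base η = g.base η' → η = η')
    (s : Finset T) (hs : ∀ t ∈ s, IsIso (g.stalkMap t)) :
    ∃ U : X.Opens, IsAffineOpen U ∧ ∀ t ∈ s, g.base t ∈ U := by
  classical
  induction s using Finset.strongInduction with
  | H s ih =>
    rcases s.eq_empty_or_nonempty with rfl | hne
    · exact ⟨⊥, isAffineOpen_bot X, fun t ht => absurd ht (Finset.notMem_empty t)⟩
    obtain ⟨t, hts, hmin⟩ := Finset.exists_min_image s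
      (fun t => (s.filter (fun t' => t' ⤳ t)).card) hne
    have hjt : ∀ j ∈ s.erase t, ¬ j ⤳ t := by
      intro j hj hjt
      have hjs : j ∈ s := Finset.mem_of_mem_erase hj
      have hne : j ≠ t := Finset.ne_of_mem_erase hj
      have hss : s.filter (fun t' => t' ⤳ j) ⊂ s.filter (fun t' => t' ⤳ t) := by
        rw [Finset.ssubset_iff_of_subset]
        · refine ⟨t, Finset.mem_filter.mpr ⟨hts, specializes_rfl⟩, ?_⟩
          intro hmem
          have htj : t ⤳ j := (Finset.mem_filter.mp hmem).2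
          exact hne (hjt.antisymm htj).eq
        · intro x hx
          have := Finset.mem_filter.mp hx
          exact Finset.mem_filter.mpr ⟨this.1, this.2.trans hjt⟩
      exact absurd (Finset.card_lt_card hss) (not_lt.mpr (hmin j hjs))
    obtain ⟨U₀, hU₀, hU₀E⟩ := ih (s.erase t) (Finset.erase_ssubset hts)
      (fun k hk => hs k (Finset.mem_of_mem_erase hk))
    by_cases htU : g.base t ∈ U₀
    · refine ⟨U₀, hU₀, fun k hk => ?_⟩
      by_cases hkt : k = t
      · rw [hkt]; exact htU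
      · exact hU₀E k (Finset.mem_erase.mpr ⟨hkt, hk⟩)
    · obtain ⟨V₀, hV₀, htV₀, -⟩ := exists_isAffineOpen_mem_and_subset (x := g.base t)
        (U := ⊤) trivial
      have hins : insert t (s.erase t) = s := Finset.insert_erase hts
      obtain ⟨W, hW, hWs⟩ := exists_affine_step g G1 G2 (s.erase t) t
        (fun k hk => hs k (hins ▸ hk)) hU₀ hV₀ hU₀E htV₀ htU hjt
      exact ⟨W, hW, fun k hk => hWs k (hins.symm ▸ hk)⟩

/-- maximal points are the generic points of the irreducible components -/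
theorem isMaxPt_iff_closure_mem_irreducibleComponents {α : Type*} [TopologicalSpace α]
    [QuasiSober α] [T0Space α] (η : α) :
    IsMaxPt η ↔ closure ({η} : Set α) ∈ irreducibleComponents α := by
  constructor
  · intro h
    obtain ⟨Z, hZ, hηZ⟩ := exists_mem_irreducibleComponents_subset_of_isIrreducible
      (closure ({η} : Set α)) isIrreducible_singleton.closure
    have hZcl : IsClosed Z := isClosed_of_mem_irreducibleComponents Z hZ
    obtain ⟨ξ, hξ⟩ := QuasiSober.sober hZ.1 hZcl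
    have h1 : ξ ⤳ η := by
      rw [specializes_iff_mem_closure, hξ.def]
      exact hηZ (subset_closure rfl)
    rw [h ξ h1] at hξ
    rw [hξ.def]
    exact hZ
  · intro h ξ hξ
    have h1 : closure ({η} : Set α) ⊆ closure ({ξ} : Set α) :=
      closure_minimal (Set.singleton_subset_iff.mpr (specializes_iff_mem_closure.mp hξ))
        isClosed_closure
    have h2 : closure ({ξ} : Set α) ⊆ closure ({η} : Set α) :=
      h.2 isIrreducible_singleton.closure h1
    have h3 : η ⤳ ξ := specializes_iff_mem_closure.mpr (h2 (subset_closure rfl))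
    exact (hξ.antisymm h3).eq

/-- the statement in terms of irreducible components -/
theorem main (f : T ⟶ X) [IsAffine T] [QuasiSeparatedSpace X]
    (hgen : ∀ η : T, closure ({η} : Set T) ∈ irreducibleComponents (T : Type u) →
      closure ({(f.base η)} : Set X) ∈ irreducibleComponents (X : Type u))
    (hinj : ∀ η η' : T, closure ({η} : Set T) ∈ irreducibleComponents (T : Type u) →
      closure ({η'} : Set T) ∈ irreducibleComponents (T : Type u) → f.base η = f.base η' → η = η')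
    (s : Finset T) (hs : ∀ t ∈ s, IsIso (f.stalkMap t)) :
    ∃ U : X.Opens, IsAffineOpen U ∧ ∀ t ∈ s, f.base t ∈ U := by
  apply exists_affine_of_finset f _ _ s hs
  · intro η hη
    rw [isMaxPt_iff_closure_mem_irreducibleComponents] at hη ⊢
    exact hgen η hη
  · intro η η' hη hη' h
    rw [isMaxPt_iff_closure_mem_irreducibleComponents] at hη hη'
    exact hinj η η' hη hη' h


end Groth.Agent.Lib.Helper13.AffPts3
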