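import Groth.Prelude.Def_MoreMor
import Mathlib

/-!
# Affine stratifications: tools (helper13)

* `HasAffStratNat X n`: ℕ-valued variant of `MoreMor.HasAffineStratification`.
* `hasAffineStratification_of_nat`: conversion.
* `dim_le_of_range_subset_compl`: the dimension drops on the complement of an open meeting every
  irreducible component.
* `exists_affine_open_affineHom_meeting_components`: a Noetherian scheme has an affine open with
  affine inclusion meeting every irreducible component.
* `hasAffStratNat_glue`: glue an affine open stratum on top of a stratification of the complement.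
-/

set_option autoImplicit false
universe u

namespace Groth.Agent.Lib.Helper13.AffStrat

open AlgebraicGeometry CategoryTheory TopologicalSpace Topology Order Function

/-- ℕ-valued variant of `MoreMor.HasAffineStratification`. -/
def HasAffStratNat (X : Scheme.{u}) (n : ℕ) : Prop :=
  ∃ s : X → ℕ, (∀ x, s x ≤ n) ∧ (∀ i, IsClosed {x : X | s x ≤ i}) ∧
    ∀ i ≤ n, ∃ (Z : Scheme.{u}) (ι : Z ⟶ X),
      IsImmersion ι ∧ IsAffine Z ∧ IsAffineHom ι ∧ Set.range ι = {x : X | s x = i}

theorem hasAffineStratification_of_nat {X : Scheme.{u}} {n : ℕ} (h : HasAffStratNat X n) :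
    MoreMor.HasAffineStratification X n := by
  obtain ⟨s, hs, hcl, hstr⟩ := h
  refine ⟨fun x => ⟨s x, Nat.lt_succ_of_le (hs x)⟩, ?_, ?_⟩
  · intro i
    have : {x : X | (⟨s x, Nat.lt_succ_of_le (hs x)⟩ : Fin (n + 1)) ≤ i} = {x : X | s x ≤ i.val} := by
      ext x
      simp [Fin.le_def]
    rw [this]
    exact hcl _
  · intro i
    obtain ⟨Z, ι, h1, h2, h3, h4⟩ := hstr i.val (Nat.le_of_lt_succ i.isLt)
    refine ⟨Z, ι, h1, h2, h3, ?_⟩
    rw [h4]
    ext x
    simp [Fin.ext_iff]

/-- Chains in (subspaces of) the complement of an open set meeting every irreducible component can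
be prolonged. -/
theorem length_succ_le_dim_of_range_subset_compl {X Y : Type*} [TopologicalSpace X]
    [TopologicalSpace Y]
    (U : Set X) (hmeet : ∀ T ∈ irreducibleComponents X, (T ∩ U).Nonempty) (hUo : IsOpen U)
    (f : Y → X) (hf : IsInducing f) (hr : Set.range f ⊆ Uᶜ)
    (p : LTSeries (IrreducibleCloseds Y)) :
    ((p.length + 1 : ℕ) : WithBot ℕ∞) ≤ topologicalKrullDim X := by
  unfold topologicalKrullDim
  let q : LTSeries (IrreducibleCloseds X) :=
    p.map (IrreducibleCloseds.map f hf.continuous)
      (IrreducibleCloseds.map_strictMono_of_isInducing hf)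
  obtain ⟨T, hT, hle⟩ :=
    exists_mem_irreducibleComponents_subset_of_isIrreducible _ q.last.isIrreducible
  let T' : IrreducibleCloseds X := ⟨T, hT.1, isClosed_of_mem_irreducibleComponents T hT⟩
  have hsub : (q.last : Set X) ⊆ Uᶜ := by
    have h1 : (q.last : Set X) = closure (f '' (p.last : Set Y)) := by
      simp only [q, LTSeries.last_map]
      rfl
    rw [h1]
    refine closure_minimal ?_ hUo.isClosed_compl
    rintro _ ⟨y, -, rfl⟩
    exact hr ⟨y, rfl⟩
  have hlt : q.last < T' := by
    refine lt_of_le_of_ne hle ?_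
    intro heq
    obtain ⟨x, hxT, hxU⟩ := hmeet T hT
    have : x ∈ (q.last : Set X) := by rw [heq]; exact hxT
    exact hsub this hxU
  have h2 := LTSeries.length_le_krullDim (q.snoc T' hlt)
  have h4 : (q.snoc T' hlt).length = p.length + 1 := by
    simp [q]
  rw [h4] at h2
  exact h2

/-- The dimension drops on (subspaces of) the complement of an open set meeting every irreducible
component. -/
theorem dim_le_of_range_subset_compl {X Y : Type*} [TopologicalSpace X] [TopologicalSpace Y]
    (U : Set X) (hmeet : ∀ T ∈ irreducibleComponents X, (T ∩ U).Nonempty) (hUo : IsOpen U)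
    (f : Y → X) (hf : IsInducing f) (hr : Set.range f ⊆ Uᶜ) (d : ℕ)
    (hd : topologicalKrullDim X ≤ ((d + 1 : ℕ) : WithBot ℕ∞)) :
    topologicalKrullDim Y ≤ (d : WithBot ℕ∞) := by
  have key := length_succ_le_dim_of_range_subset_compl U hmeet hUo f hf hr
  unfold topologicalKrullDim
  rw [Order.krullDim]
  refine iSup_le fun p => ?_
  have h3 := (key p).trans hd
  have h5 : p.length + 1 ≤ d + 1 := by exact_mod_cast h3
  exact_mod_cast Nat.le_of_succ_le_succ h5

/-- If the dimension is `≤ 0`, an open set meeting every irreducible component is everything. -/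
theorem eq_univ_of_dim_le_zero {X : Type*} [TopologicalSpace X]
    (U : Set X) (hmeet : ∀ T ∈ irreducibleComponents X, (T ∩ U).Nonempty) (hUo : IsOpen U)
    (hd : topologicalKrullDim X ≤ ((0 : ℕ) : WithBot ℕ∞)) : U = Set.univ := by
  by_contra hne
  obtain ⟨x, hx⟩ := (Set.ne_univ_iff_exists_notMem U).mp hne
  let y : ↥(Uᶜ) := ⟨x, hx⟩
  let p : LTSeries (IrreducibleCloseds ↥(Uᶜ)) :=
    RelSeries.singleton _ ⟨closure {y}, isIrreducible_singleton.closure, isClosed_closure⟩
  have key := length_succ_le_dim_of_range_subset_compl U hmeet hUo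
    (Subtype.val : ↥(Uᶜ) → X) IsInducing.subtypeVal (by rw [Subtype.range_coe]) p
  have h3 := key.trans hd
  have h5 : p.length + 1 ≤ 0 := by exact_mod_cast h3
  omega

/-- A Noetherian scheme has an affine open with affine inclusion meeting every irreducible
component. -/
theorem exists_affine_open_affineHom_meeting_components (X : Scheme.{u}) [IsNoetherian X] :
    ∃ U : X.Opens, IsAffineOpen U ∧ IsAffineHom U.ι ∧
      ∀ T ∈ irreducibleComponents X, (T ∩ (U : Set X)).Nonempty := by
  classical
  have hfin : (irreducibleComponents X).Finite :=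
    TopologicalSpace.NoetherianSpace.finite_irreducibleComponents
  haveI : Finite ↥(irreducibleComponents X) := hfin.to_subtype
  -- a finite affine cover
  have hW : ∀ x : X, ∃ W : X.Opens, IsAffineOpen W ∧ x ∈ W := by
    intro x
    obtain ⟨W, hW, hx, -⟩ := exists_isAffineOpen_mem_and_subset (x := x) (U := ⊤) trivial
    exact ⟨W, hW, hx⟩
  choose W hWaff hxW using hW
  obtain ⟨t, ht⟩ := isCompact_univ.elim_finite_subcover (fun x => (W x : Set X))
    (fun x => (W x).isOpen) (fun x _ => Set.mem_iUnion.mpr ⟨x, hxW x⟩)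
  -- generic points of the components
  let η : ↥(irreducibleComponents X) → X := fun T => (genericPoints.ofComponent T).1
  have hη : ∀ T : ↥(irreducibleComponents X), IsGenericPoint (η T) T.1 :=
    fun T => genericPoints.isGenericPoint_ofComponent T
  -- the other components
  let C : ↥(irreducibleComponents X) → Set X := fun T => ⋃₀ (irreducibleComponents X \ {T.1})
  have hCclosed : ∀ T, IsClosed (C T) := by
    intro T
    change IsClosed (⋃₀ (irreducibleComponents X \ {T.1}))
    rw [Set.sUnion_eq_biUnion]
    exact (hfin.subset Set.sdiff_subset).isClosed_biUnion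
      fun W hW => isClosed_of_mem_irreducibleComponents W hW.1
  have hηC : ∀ T, η T ∉ C T := by
    intro T hmem
    obtain ⟨T', ⟨hT', hne⟩, hmem'⟩ := hmem
    have h1 : T.1 ⊆ T' :=
      ((hη T).mem_closed_set_iff (isClosed_of_mem_irreducibleComponents T' hT')).mp hmem'
    exact hne (T.2.2 hT'.1 h1 |> fun h => (Set.Subset.antisymm h h1))
  have hCcompl : ∀ T : ↥(irreducibleComponents X), (C T)ᶜ ⊆ T.1 := by
    intro T x hx
    have hxu : x ∈ ⋃₀ irreducibleComponents X := by
      rw [sUnion_irreducibleComponents]; trivial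
    obtain ⟨T', hT', hxT'⟩ := hxu
    by_cases h : T' = T.1
    · rw [← h]; exact hxT'
    · exact absurd ⟨T', ⟨hT', h⟩, hxT'⟩ hx
  -- the open set in which we choose the affine piece around `η T`
  let O : ↥(irreducibleComponents X) → X.Opens := fun T =>
    ⟨(⋂ x ∈ t.filter (fun x => η T ∈ W x), (W x : Set X)) ∩ (C T)ᶜ,
      (isOpen_biInter_finset fun x _ => (W x).isOpen).inter (hCclosed T).isOpen_compl⟩
  have hηO : ∀ T, η T ∈ O T := by
    intro T
    refine ⟨?_, hηC T⟩
    simp only [Set.mem_iInter]
    intro x hx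
    exact (Finset.mem_filter.mp hx).2
  have hV : ∀ T, ∃ V : X.Opens, IsAffineOpen V ∧ η T ∈ V ∧ V ≤ O T := by
    intro T
    obtain ⟨V, hV, hx, hle⟩ := exists_isAffineOpen_mem_and_subset (x := η T) (U := O T) (hηO T)
    exact ⟨V, hV, hx, hle⟩
  choose V hVaff hηV hVO using hV
  have hVT : ∀ T, (V T : Set X) ⊆ T.1 := fun T x hx => hCcompl T (hVO T hx).2
  have hdisj : Pairwise (Disjoint on V) := by
    intro T T' hne
    change Disjoint (V T) (V T')
    rw [disjoint_iff]
    ext x
    simp only [Opens.coe_inf, Set.mem_inter_iff, SetLike.mem_coe, Opens.coe_bot,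
      Set.mem_empty_iff_false, iff_false, not_and]
    intro hx hx'
    have h1 : x ∈ T'.1 := hVT T' hx'
    have h2 : x ∉ C T := (hVO T hx).2
    exact h2 ⟨T'.1, ⟨T'.2, fun h => hne (Subtype.ext h).symm⟩, h1⟩
  refine ⟨⨆ T, V T, IsAffineOpen.iSup_of_disjoint hVaff hdisj, ?_, ?_⟩
  · -- the inclusion is affine
    apply isAffineHom_of_forall_exists_isAffineOpen
    intro y
    obtain ⟨x, hx⟩ := Set.mem_iUnion.mp (ht (Set.mem_univ y))
    obtain ⟨hxt, hyx⟩ := Set.mem_iUnion.mp hx
    refine ⟨W x, hyx, hWaff x, ?_⟩
    rw [← (⨆ T, V T).ι.isAffineOpen_iff_of_isOpenImmersion,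
      Scheme.Hom.image_preimage_eq_opensRange_inf, Scheme.Opens.opensRange_ι]
    let V' : ↥(irreducibleComponents X) → X.Opens := fun T => if η T ∈ W x then V T else ⊥
    have hV'aff : ∀ T, IsAffineOpen (V' T) := by
      intro T
      simp only [V']
      split_ifs
      · exact hVaff T
      · exact isAffineOpen_bot X
    have hV'le : ∀ T, V' T ≤ V T := by
      intro T
      simp only [V']
      split_ifs
      · exact le_rfl
      · exact bot_le
    have hdisj' : Pairwise (Disjoint on V') := by
      intro T T' hne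
      exact (hdisj hne).mono (hV'le T) (hV'le T')
    have heq : (⨆ T, V T) ⊓ W x = ⨆ T, V' T := by
      apply le_antisymm
      · rintro z ⟨hz1, hz2⟩
        obtain ⟨T, hzT⟩ := Opens.mem_iSup.mp hz1
        refine Opens.mem_iSup.mpr ⟨T, ?_⟩
        have hηW : η T ∈ W x :=
          ((hη T).mem_open_set_iff (W x).isOpen).mpr ⟨z, hVT T hzT, hz2⟩
        simp only [V', hηW, if_true]
        exact hzT
      · refine iSup_le fun T => ?_
        simp only [V']
        split_ifs with h
        · refine le_inf (le_iSup V T) ?_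
          intro z hz
          have := (hVO T hz).1
          simp only [Set.mem_iInter] at this
          exact this x (Finset.mem_filter.mpr ⟨hxt, h⟩)
        · exact bot_le
    rw [heq]
    exact IsAffineOpen.iSup_of_disjoint hV'aff hdisj'
  · intro T hT
    refine ⟨η ⟨T, hT⟩, (hη ⟨T, hT⟩).mem, ?_⟩
    exact Opens.mem_iSup.mpr ⟨⟨T, hT⟩, hηV ⟨T, hT⟩⟩

/-- glue an affine open stratum (with affine inclusion) on top of an affine stratification of the
closed complement. -/
theorem hasAffStratNat_glue {X Z : Scheme.{u}} (U : X.Opens) (hU : IsAffineOpen U)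
    [IsAffineHom U.ι] (c : Z ⟶ X) [IsClosedImmersion c] (hc : Set.range c = (U : Set X)ᶜ) (d : ℕ)
    (hZ : HasAffStratNat Z d) : HasAffStratNat X (d + 1) := by
  classical
  obtain ⟨sZ, hsZ, hclZ, hstrZ⟩ := hZ
  have hinj : Function.Injective c := c.isClosedEmbedding.injective
  have hex : ∀ x : X, x ∉ U → ∃ z, c z = x := by
    intro x hx
    have : x ∈ Set.range c := by rw [hc]; exact hx
    exact this
  let s : X → ℕ := fun x => if h : x ∈ U then d + 1 else sZ (hex x h).choose
  have hsU : ∀ x, x ∈ U → s x = d + 1 := fun x hx => by simp [s, hx]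
  have hcU : ∀ z, c z ∉ U := fun z => by
    have : c z ∈ Set.range c := ⟨z, rfl⟩
    rw [hc] at this; exact this
  have hsc : ∀ z, s (c z) = sZ z := by
    intro z
    have h := hcU z
    simp only [s, h, dif_neg, not_false_eq_true]
    congr 1
    exact hinj (hex (c z) h).choose_spec
  have hsle : ∀ x, s x ≤ d + 1 := by
    intro x
    by_cases hx : x ∈ U
    · rw [hsU x hx]
    · obtain ⟨z, rfl⟩ := hex x hx
      rw [hsc]; exact (hsZ z).trans (Nat.le_succ d)
  refine ⟨s, hsle, ?_, ?_⟩
  · intro i
    by_cases hi : d + 1 ≤ i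
    · have : {x : X | s x ≤ i} = Set.univ := by
        ext x
        simp only [Set.mem_setOf_eq, Set.mem_univ, iff_true]
        exact (hsle x).trans hi
      rw [this]; exact isClosed_univ
    · have : {x : X | s x ≤ i} = c '' {z | sZ z ≤ i} := by
        ext x
        constructor
        · intro hx
          have hxU : x ∉ U := fun h => hi (by rw [← hsU x h]; exact hx)
          obtain ⟨z, rfl⟩ := hex x hxU
          refine ⟨z, ?_, rfl⟩
          change sZ z ≤ i
          rw [← hsc]; exact hx
        · rintro ⟨z, hz, rfl⟩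
          change s (c z) ≤ i
          rw [hsc]; exact hz
      rw [this]
      exact c.isClosedEmbedding.isClosedMap _ (hclZ i)
  · intro i hi
    by_cases hid : i = d + 1
    · subst hid
      refine ⟨U, U.ι, inferInstance, hU, inferInstance, ?_⟩
      rw [Scheme.Opens.range_ι]
      ext x
      constructor
      · exact fun hx => hsU x hx
      · intro hx
        by_contra hxU
        obtain ⟨z, rfl⟩ := hex x hxU
        change s (c z) = d + 1 at hx
        rw [hsc] at hx
        have := hsZ z
        omega
    · have hid' : i ≤ d := by omega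
      obtain ⟨Zi, ιi, h1, h2, h3, h4⟩ := hstrZ i hid'
      refine ⟨Zi, ιi ≫ c, inferInstance, h2, inferInstance, ?_⟩
      rw [Scheme.Hom.comp_base, TopCat.coe_comp, Set.range_comp, h4]
      ext x
      constructor
      · rintro ⟨z, hz, rfl⟩
        change s (c z) = i
        rw [hsc]; exact hz
      · intro hx
        have hxU : x ∉ U := fun h => by
          rw [Set.mem_setOf_eq, hsU x h] at hx; exact hid hx.symm
        obtain ⟨z, rfl⟩ := hex x hxU
        refine ⟨z, ?_, rfl⟩
        change sZ z = i
        rw [← hsc]; exact hx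

/-- Stacks 0F2X: a Noetherian scheme of dimension `≤ d` has an affine stratification indexed by
`0, …, d`. -/
theorem hasAffStratNat_of_dim_le : ∀ (d : ℕ) (X : Scheme.{u}) [IsNoetherian X],
    topologicalKrullDim X ≤ (d : WithBot ℕ∞) → HasAffStratNat X d := by
  intro d
  induction d with
  | zero =>
    intro X _ hd
    obtain ⟨U, hU, hUaff, hmeet⟩ := exists_affine_open_affineHom_meeting_components X
    have hUtop : (U : Set X) = Set.univ := eq_univ_of_dim_le_zero _ hmeet U.isOpen hd
    refine ⟨fun _ => 0, fun _ => le_rfl, fun i => ?_, fun i hi => ?_⟩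
    · simp
    · refine ⟨U, U.ι, inferInstance, hU, hUaff, ?_⟩
      rw [Scheme.Opens.range_ι, hUtop]
      ext x
      simp only [Set.mem_univ, Set.mem_setOf_eq, true_iff]
      omega
  | succ d ih =>
    intro X _ hd
    obtain ⟨U, hU, hUaff, hmeet⟩ := exists_affine_open_affineHom_meeting_components X
    let Zc : Closeds X := ⟨(U : Set X)ᶜ, U.isOpen.isClosed_compl⟩
    let I := Scheme.IdealSheafData.vanishingIdeal Zc
    let c := I.subschemeι
    have hc : Set.range c = (U : Set X)ᶜ := by
      rw [Scheme.IdealSheafData.range_subschemeι, Scheme.IdealSheafData.coe_support_vanishingIdeal]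
      rfl
    haveI : IsLocallyNoetherian I.subscheme := LocallyOfFiniteType.isLocallyNoetherian c
    haveI : CompactSpace I.subscheme := c.isClosedEmbedding.compactSpace
    haveI : IsNoetherian I.subscheme := {}
    have hdim : topologicalKrullDim I.subscheme ≤ (d : WithBot ℕ∞) :=
      dim_le_of_range_subset_compl _ hmeet U.isOpen c c.isClosedEmbedding.isInducing hc.le d hd
    exact hasAffStratNat_glue U hU c hc d (ih I.subscheme hdim)

end Groth.Agent.Lib.Helper13.AffStrat
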