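import Mathlib

/-! Helper13: prime avoidance for finitely many points of an affine open. -/

set_option autoImplicit false
universe u
open CategoryTheory CategoryTheory.Limits AlgebraicGeometry Opposite

namespace Groth.Agent.Lib.Helper13.AffineAvoid

/-- prime avoidance: finitely many points of an open of an affine open lie in a basic open
contained in that open -/
theorem exists_basicOpen_le_of_finite {X : Scheme.{u}} {U : X.Opens} (hU : IsAffineOpen U)
    (O : X.Opens) {d : ℕ} (x : Fin d → X) (hxU : ∀ k, x k ∈ U) (hxO : ∀ k, x k ∈ O) :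
    ∃ h : Γ(X, U), X.basicOpen h ≤ O ∧ ∀ k, x k ∈ X.basicOpen h := by
  let A := Γ(X, U)
  let φ : Spec A ⟶ X := hU.fromSpec
  let p : Fin d → PrimeSpectrum A := fun k => hU.primeIdealOf ⟨x k, hxU k⟩
  have hp : ∀ k, φ (p k) = x k := fun k => hU.fromSpec_primeIdealOf ⟨x k, hxU k⟩
  let C : Set (PrimeSpectrum A) := {q | φ q ∉ O}
  let I : Ideal A := PrimeSpectrum.vanishingIdeal C
  have hC : IsClosed C := by
    have h1 : IsOpen (φ ⁻¹' (O : Set X)) := O.isOpen.preimage φ.continuous
    exact h1.isClosed_compl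
  have hCI : PrimeSpectrum.zeroLocus (I : Set A) = C := by
    rw [PrimeSpectrum.zeroLocus_vanishingIdeal_eq_closure, hC.closure_eq]
  have hnot : ∀ k, ¬ I ≤ (p k).asIdeal := by
    intro k hk
    have : p k ∈ PrimeSpectrum.zeroLocus (I : Set A) := hk
    rw [hCI] at this
    apply this
    rw [hp]
    exact hxO k
  obtain ⟨h, hhI, hh⟩ : ∃ h ∈ I, ∀ k, h ∉ (p k).asIdeal := by
    rcases d with _ | d
    · exact ⟨0, I.zero_mem, fun k => k.elim0⟩
    · by_contra hcon
      push Not at hcon
      have hsub : (I : Set A) ⊆ ⋃ i ∈ ((Finset.univ : Finset (Fin (d+1))) : Set (Fin (d+1))),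
          ((p i).asIdeal : Set A) := by
        intro a ha
        obtain ⟨k, hk⟩ := hcon a ha
        simp only [Set.mem_iUnion]
        exact ⟨k, by simp, hk⟩
      rw [Ideal.subset_union_prime (0 : Fin (d+1)) 0 (fun i _ _ _ => (p i).isPrime)] at hsub
      obtain ⟨i, -, hi⟩ := hsub
      exact hnot i hi
  refine ⟨h, ?_, ?_⟩
  · intro y hy
    have hyU : y ∈ U := X.basicOpen_le h hy
    have : y ∈ Set.range φ := by rw [hU.range_fromSpec]; exact hyU
    obtain ⟨q, rfl⟩ := this
    have hq : q ∈ φ ⁻¹ᵁ X.basicOpen h := hy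
    rw [hU.fromSpec_preimage_basicOpen] at hq
    by_contra hqO
    have hqC : q ∈ C := hqO
    rw [← hCI] at hqC
    exact hq (hqC hhI)
  · intro k
    rw [← hp k]
    change p k ∈ φ ⁻¹ᵁ X.basicOpen h
    rw [hU.fromSpec_preimage_basicOpen]
    exact hh k

end Groth.Agent.Lib.Helper13.AffineAvoid
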