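import Mathlib

set_option autoImplicit false
universe u

namespace Groth.Agent.Lib.Helper13.SepClosedPt

open TensorProduct

theorem infinite_of_isSepClosed (K : Type*) [Field K] [IsSepClosed K] : Infinite K := by
  by_contra h
  rw [not_infinite_iff_finite] at h
  haveI : PerfectField K := inferInstance
  haveI : IsAlgClosed K := inferInstance
  exact not_finite K

theorem exists_eval_ne_zero {K : Type*} [Field K] [Infinite K] {n : ℕ}
    (f : MvPolynomial (Fin n) K) (hf : f ≠ 0) : ∃ a : Fin n → K, MvPolynomial.eval a f ≠ 0 := by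
  by_contra hcon
  push Not at hcon
  exact hf (MvPolynomial.funext (fun x => by simpa using hcon x))

/-- a nonzero algebra étale over a polynomial ring over a separably closed field has a rational
point -/
theorem exists_ringHom_of_etale (K : Type u) [Field K] [IsSepClosed K] (n : ℕ) (A : Type u)
    [CommRing A] [Nontrivial A] [Algebra (MvPolynomial (Fin n) K) A]
    [Algebra.Etale (MvPolynomial (Fin n) K) A] :
    ∃ g : A →+* K, ∀ c : K, g (algebraMap (MvPolynomial (Fin n) K) A (MvPolynomial.C c)) = c := by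
  classical
  haveI := infinite_of_isSepClosed K
  have hopen := PrimeSpectrum.isOpenMap_comap_of_hasGoingDown_of_finitePresentation
    (R := MvPolynomial (Fin n) K) (S := A)
  have hW : IsOpen (Set.range (PrimeSpectrum.comap (algebraMap (MvPolynomial (Fin n) K) A))) :=
    hopen.isOpen_range
  obtain ⟨q₀⟩ : Nonempty (PrimeSpectrum A) := inferInstance
  obtain ⟨_, ⟨_, ⟨f, rfl⟩, rfl⟩, hf1, hf2⟩ :=
    PrimeSpectrum.isBasis_basic_opens.exists_subset_of_mem_open
      (Set.mem_range_self (f := PrimeSpectrum.comap (algebraMap (MvPolynomial (Fin n) K) A)) q₀) hW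
  have hf0 : f ≠ 0 := by
    rintro rfl
    simp at hf1
  obtain ⟨a, ha⟩ := exists_eval_ne_zero f hf0
  let φ : MvPolynomial (Fin n) K →ₐ[K] K := MvPolynomial.aeval a
  have hφs : Function.Surjective φ := fun c => ⟨MvPolynomial.C c, by simp [φ]⟩
  let m : PrimeSpectrum (MvPolynomial (Fin n) K) :=
    ⟨RingHom.ker φ.toRingHom, RingHom.ker_isPrime _⟩
  have hm : m ∈ (PrimeSpectrum.basicOpen f : Set _) := by
    change f ∉ RingHom.ker φ.toRingHom
    rw [RingHom.mem_ker]
    simpa [φ, MvPolynomial.aeval_eq_eval] using ha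
  obtain ⟨q, hq⟩ := hf2 hm
  -- `K` as an algebra over the polynomial ring via evaluation at `a`
  letI : Algebra (MvPolynomial (Fin n) K) K := φ.toRingHom.toAlgebra
  have halg : ∀ p : MvPolynomial (Fin n) K, algebraMap (MvPolynomial (Fin n) K) K p = φ p :=
    fun _ => rfl
  haveI : Algebra.Etale K (K ⊗[MvPolynomial (Fin n) K] A) := inferInstance
  -- nontriviality of the fibre
  have hnt : Nontrivial (K ⊗[MvPolynomial (Fin n) K] A) := by
    let ψ₁ : K →+* q.asIdeal.ResidueField :=
      (algebraMap (MvPolynomial (Fin n) K) q.asIdeal.ResidueField).comp MvPolynomial.C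
    have hcompat : ∀ p : MvPolynomial (Fin n) K,
        ψ₁ (φ p) = algebraMap (MvPolynomial (Fin n) K) q.asIdeal.ResidueField p := by
      intro p
      have h1 : p - MvPolynomial.C (φ p) ∈ m.asIdeal := by
        change p - MvPolynomial.C (φ p) ∈ RingHom.ker φ.toRingHom
        rw [RingHom.mem_ker]
        simp [φ]
      rw [← hq] at h1
      have h2 : algebraMap (MvPolynomial (Fin n) K) A (p - MvPolynomial.C (φ p)) ∈ q.asIdeal := h1
      have h3 : algebraMap A q.asIdeal.ResidueField
          (algebraMap (MvPolynomial (Fin n) K) A (p - MvPolynomial.C (φ p))) = 0 := by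
        rw [Ideal.algebraMap_residueField_eq_zero]
        exact h2
      rw [← IsScalarTower.algebraMap_apply, map_sub, sub_eq_zero] at h3
      exact h3.symm
    let ψ₁' : K →ₐ[MvPolynomial (Fin n) K] q.asIdeal.ResidueField :=
      { ψ₁ with commutes' := fun p => hcompat p }
    let F : K ⊗[MvPolynomial (Fin n) K] A →ₐ[MvPolynomial (Fin n) K] q.asIdeal.ResidueField :=
      Algebra.TensorProduct.lift ψ₁' (IsScalarTower.toAlgHom _ _ _) (fun _ _ => Commute.all _ _)
    exact RingHom.domain_nontrivial F.toRingHom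
  obtain ⟨b₀⟩ : Nonempty (PrimeSpectrum (K ⊗[MvPolynomial (Fin n) K] A)) := inferInstance
  let ev : K ⊗[MvPolynomial (Fin n) K] A →ₐ[K] K :=
    (Pi.evalAlgHom K (fun _ => K) b₀).comp
      (Algebra.FormallyEtale.equivPiOfIsSepClosed K (K ⊗[MvPolynomial (Fin n) K] A)).toAlgHom
  refine ⟨ev.toRingHom.comp
    (Algebra.TensorProduct.includeRight : A →ₐ[MvPolynomial (Fin n) K] K ⊗[MvPolynomial (Fin n) K] A).toRingHom, ?_⟩
  intro c
  change ev (Algebra.TensorProduct.includeRight
    (algebraMap (MvPolynomial (Fin n) K) A (MvPolynomial.C c))) = c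
  rw [AlgHom.commutes, Algebra.TensorProduct.algebraMap_apply, halg]
  have : φ (MvPolynomial.C c) = c := by simp [φ]
  rw [this]
  have h5 : (c ⊗ₜ[MvPolynomial (Fin n) K] (1 : A)) =
      algebraMap K (K ⊗[MvPolynomial (Fin n) K] A) c := by
    rw [Algebra.TensorProduct.algebraMap_apply]
    simp
  rw [h5, AlgHom.commutes]
  simp

theorem exists_algHom_of_isStandardSmooth (K A : Type u) [Field K] [IsSepClosed K] [CommRing A]
    [Algebra K A] [Nontrivial A] [Algebra.IsStandardSmooth K A] : Nonempty (A →ₐ[K] K) := by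
  have hf : (algebraMap K A).IsStandardSmooth := RingHom.isStandardSmooth_algebraMap.mpr inferInstance
  obtain ⟨n, g, hg1, hg2⟩ := hf.exists_etale_mvPolynomial
  letI : Algebra (MvPolynomial (Fin n) K) A := g.toAlgebra
  haveI : Algebra.Etale (MvPolynomial (Fin n) K) A := hg2
  obtain ⟨h, hh⟩ := exists_ringHom_of_etale K n A
  refine ⟨{ h with commutes' := fun c => ?_ }⟩
  have := hh c
  rw [← hg1]
  exact this

theorem exists_algHom_of_smooth (K A : Type u) [Field K] [IsSepClosed K] [CommRing A]
    [Algebra K A] [Nontrivial A] [Algebra.Smooth K A] : Nonempty (A →ₐ[K] K) := by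
  obtain ⟨s, hs, h⟩ := Algebra.Smooth.exists_span_eq_top_isStandardSmooth K A
  have hex : ∃ t ∈ s, Nontrivial (Localization.Away t) := by
    by_contra hcon
    push Not at hcon
    have hsub : s ⊆ (nilradical A : Set A) := by
      intro t ht
      have h1 := hcon t ht
      rw [IsLocalization.subsingleton_iff (M := Submonoid.powers t)] at h1
      obtain ⟨k, hk⟩ := h1
      exact ⟨k, hk⟩
    have h2 : Ideal.span s ≤ nilradical A := Ideal.span_le.2 hsub
    rw [hs, top_le_iff] at h2
    have h3 : (1 : A) ∈ nilradical A := by rw [h2]; trivial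
    obtain ⟨k, hk⟩ := h3
    rw [one_pow] at hk
    exact one_ne_zero hk
  obtain ⟨t, ht, hnt⟩ := hex
  haveI := h t ht
  obtain ⟨g⟩ := exists_algHom_of_isStandardSmooth K (Localization.Away t)
  exact ⟨g.comp (IsScalarTower.toAlgHom K A (Localization.Away t))⟩

end Groth.Agent.Lib.Helper13.SepClosedPt
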