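import Mathlib
import Groth.Agent.Lib.Helper13.SepClosedPt

set_option autoImplicit false
universe u

open AlgebraicGeometry CategoryTheory Limits

namespace Groth.Agent.Lib.Helper13.SepClosedSch

open Groth.Agent.Lib.Helper13.SepClosedPt

/-- affine case -/
theorem exists_section_spec {K : Type u} [Field K] [IsSepClosed K] {R : CommRingCat.{u}}
    (ψ : CommRingCat.of K ⟶ R) [Smooth (Spec.map ψ)] [Nonempty ↥(Spec R)] :
    ∃ y : Spec (CommRingCat.of K) ⟶ Spec R, y ≫ Spec.map ψ = 𝟙 _ := by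
  have hsm : ψ.hom.Smooth := (HasRingHomProperty.Spec_iff (P := @Smooth)).mp inferInstance
  algebraize [ψ.hom]
  haveI : Nontrivial R := by
    obtain ⟨x⟩ := (inferInstance : Nonempty ↥(Spec R))
    exact PrimeSpectrum.nontrivial (x : PrimeSpectrum R)
  obtain ⟨g⟩ := exists_algHom_of_smooth K R
  refine ⟨Spec.map (CommRingCat.ofHom g.toRingHom), ?_⟩
  rw [← Spec.map_comp, ← Spec.map_id]
  congr 1
  ext c
  exact g.commutes c

/-- a nonempty open of a smooth scheme over a separably closed field contains a rational point -/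
theorem exists_section_mem_open {K : Type u} [Field K] [IsSepClosed K] {X : Scheme.{u}}
    (f : X ⟶ Spec (CommRingCat.of K)) [Smooth f] (U : X.Opens) (hne : (U : Set X).Nonempty) :
    ∃ y : Spec (CommRingCat.of K) ⟶ X, y ≫ f = 𝟙 _ ∧ ∀ t, y t ∈ U := by
  obtain ⟨x, hx⟩ := hne
  obtain ⟨V, hV, hxV, hVU⟩ := exists_isAffineOpen_mem_and_subset (x := x) (U := U) hx
  haveI : IsAffine V.toScheme := hV
  let e := V.toScheme.isoSpec
  let f'' : Spec Γ(V.toScheme, ⊤) ⟶ Spec (CommRingCat.of K) := e.inv ≫ V.ι ≫ f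
  haveI : Smooth f'' := by
    dsimp only [f'']
    infer_instance
  obtain ⟨ψ, hψ⟩ : ∃ ψ, Spec.map ψ = f'' := ⟨Spec.preimage f'', Spec.map_preimage _⟩
  haveI : Smooth (Spec.map ψ) := by rw [hψ]; infer_instance
  haveI : Nonempty ↥(Spec Γ(V.toScheme, ⊤)) := ⟨e.hom ⟨x, hxV⟩⟩
  obtain ⟨y₀, hy₀⟩ := exists_section_spec ψ
  refine ⟨y₀ ≫ e.inv ≫ V.ι, ?_, ?_⟩
  · rw [Category.assoc, Category.assoc, ← hy₀, hψ]
  · intro t
    rw [Scheme.Hom.comp_apply, Scheme.Hom.comp_apply]
    exact hVU (e.inv (y₀ t)).2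

/-- points with values in a separably closed extension are dense in a smooth scheme -/
theorem exists_Kpoint_mem_open {k K : Type u} [Field k] [Field K] [Algebra k K] [IsSepClosed K]
    {X : Scheme.{u}} (p : X ⟶ Spec (CommRingCat.of k)) [Smooth p] (U : X.Opens)
    (hne : (U : Set X).Nonempty) :
    ∃ y : Spec (CommRingCat.of K) ⟶ X,
      y ≫ p = Spec.map (CommRingCat.ofHom (algebraMap k K)) ∧ ∀ t, y t ∈ U := by
  let j : Spec (CommRingCat.of K) ⟶ Spec (CommRingCat.of k) :=
    Spec.map (CommRingCat.ofHom (algebraMap k K))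
  haveI : Surjective j := by
    constructor
    intro s
    obtain ⟨t⟩ := (inferInstance : Nonempty (PrimeSpectrum K))
    refine ⟨t, ?_⟩
    haveI : Subsingleton (PrimeSpectrum k) := inferInstance
    exact Subsingleton.elim (α := PrimeSpectrum k) _ _
  obtain ⟨x, hx⟩ := hne
  obtain ⟨z, hz⟩ := (inferInstance : Surjective (pullback.fst p j)).surj x
  obtain ⟨y₀, hy1, hy2⟩ := exists_section_mem_open (pullback.snd p j) (pullback.fst p j ⁻¹ᵁ U)
    ⟨z, by change pullback.fst p j z ∈ U; rw [hz]; exact hx⟩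
  refine ⟨y₀ ≫ pullback.fst p j, ?_, ?_⟩
  · rw [Category.assoc, pullback.condition, ← Category.assoc, hy1, Category.id_comp]
  · intro t
    rw [Scheme.Hom.comp_apply]
    exact hy2 t

end Groth.Agent.Lib.Helper13.SepClosedSch
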