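import Mathlib

/-!
# Base change along composites, for `pullback.snd`
-/

set_option autoImplicit false
universe u

open CategoryTheory CategoryTheory.Limits AlgebraicGeometry

namespace Groth.Agent.Lib.Helper13.BCPaste

variable {X S T T' : Scheme.{u}}

theorem snd_snd_iff (P : MorphismProperty Scheme.{u}) [P.RespectsIso]
    (f : X ⟶ S) (b : T ⟶ S) (a : T' ⟶ T) :
    P (pullback.snd (pullback.snd f b) a) ↔ P (pullback.snd f (a ≫ b)) := by
  have h : pullback.snd (pullback.snd f b) a =
      (pullbackLeftPullbackSndIso f b a).hom ≫ pullback.snd f (a ≫ b) :=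
    (pullbackLeftPullbackSndIso_hom_snd f b a).symm
  rw [h]
  exact P.cancel_left_of_respectsIso _ _

/-- base change along a composite -/
theorem snd_comp (P : MorphismProperty Scheme.{u}) [P.IsStableUnderBaseChange]
    (f : X ⟶ S) (b : T ⟶ S) (a : T' ⟶ T) (h : P (pullback.snd f b)) :
    P (pullback.snd f (a ≫ b)) :=
  (snd_snd_iff P f b a).mp (MorphismProperty.pullback_snd _ _ h)

theorem snd_congr (P : MorphismProperty Scheme.{u}) (f : X ⟶ S) {b b' : T ⟶ S} (e : b = b')
    (h : P (pullback.snd f b)) : P (pullback.snd f b') := by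
  subst e; exact h

/-- `pullback.snd f b` as a base change of `f` in the form used by `universally` -/
theorem isPullback_snd_snd (f : X ⟶ S) (b : T ⟶ S) (a : T' ⟶ T) :
    IsPullback (pullback.snd (pullback.snd f b) a)
      (pullback.fst (pullback.snd f b) a ≫ pullback.fst f b) (a ≫ b) f :=
  ((IsPullback.of_hasPullback (pullback.snd f b) a).paste_horiz
    (IsPullback.of_hasPullback f b)).flip

end Groth.Agent.Lib.Helper13.BCPaste
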