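import Mathlib

/-!
# Reduced schemes with finitely many irreducible components are germ-injective
-/

universe u

open CategoryTheory CategoryTheory.Limits AlgebraicGeometry TopologicalSpace

namespace Groth.Agent.Lib.Helper13.GermInj

theorem isGermInjectiveAt_of_isReduced_of_finite (S : Scheme.{u}) [IsReduced S]
    (hS : (irreducibleComponents (S : Type u)).Finite) (s : S) : S.IsGermInjectiveAt s := by
  -- the union of the components not through `s`
  obtain ⟨F, hF⟩ : ∃ F : Set S, F = ⋃₀ {C | C ∈ irreducibleComponents (S : Type u) ∧ s ∉ C} :=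
    ⟨_, rfl⟩
  have hFcl : IsClosed F := by
    rw [hF, Set.sUnion_eq_biUnion]
    refine Set.Finite.isClosed_biUnion (hS.subset (fun C hC => hC.1)) ?_
    intro C hC
    exact isClosed_of_mem_irreducibleComponents C hC.1
  have hsF : s ∉ F := by
    rw [hF]
    rintro ⟨C, hC, hsC⟩
    exact hC.2 hsC
  obtain ⟨V, hV, hsV, hVF⟩ := exists_isAffineOpen_mem_and_subset (x := s)
    (U := ⟨Fᶜ, hFcl.isOpen_compl⟩) hsF
  refine ⟨⟨V, hsV, hV, ?_⟩⟩
  rw [injective_iff_map_eq_zero]
  intro a ha
  obtain ⟨V', hsV', iU, iV, hres⟩ := S.presheaf.germ_eq s hsV hsV a 0 (by rw [ha, map_zero])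
  rw [map_zero] at hres
  rw [← AlgebraicGeometry.basicOpen_eq_bot_iff]
  by_contra hne
  obtain ⟨z, hz⟩ : ∃ z, z ∈ S.basicOpen a := by
    by_contra hcon
    apply hne
    ext y
    simp only [TopologicalSpace.Opens.coe_bot, Set.mem_empty_iff_false, iff_false]
    exact fun hy => hcon ⟨y, hy⟩
  have hzV : z ∈ V := S.basicOpen_le a hz
  -- the component through `z` passes through `s`
  have hsC : s ∈ irreducibleComponent z := by
    by_contra hsC
    have : z ∈ F := by
      rw [hF]
      exact ⟨irreducibleComponent z, ⟨irreducibleComponent_mem_irreducibleComponents z, hsC⟩,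
        mem_irreducibleComponent⟩
    exact hVF hzV this
  have hirr : IsPreirreducible (irreducibleComponent z) := isIrreducible_irreducibleComponent.2
  obtain ⟨w, hwC, hw1, hw2⟩ := hirr (S.basicOpen a) V' (S.basicOpen a).isOpen V'.isOpen
    ⟨z, mem_irreducibleComponent, hz⟩ ⟨s, hsC, hsV'⟩
  have h0 : S.basicOpen (S.presheaf.map iU.op a) = ⊥ := by
    rw [hres]
    exact Scheme.basicOpen_zero S V'
  rw [Scheme.basicOpen_res] at h0
  have : w ∈ (V' ⊓ S.basicOpen a : S.Opens) := ⟨hw2, hw1⟩
  rw [h0] at this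
  exact this

end Groth.Agent.Lib.Helper13.GermInj
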