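import Mathlib
import Groth.Agent.Lib.Helper13.LocalIsoFP
import Groth.Agent.Lib.Helper13.GermInj

/-!
# Birational morphisms between schemes with finitely many irreducible components
-/

universe u

open CategoryTheory CategoryTheory.Limits AlgebraicGeometry TopologicalSpace

namespace Groth.Agent.Lib.Helper13.BiratFinite

/-- being an open immersion can be checked on a cover of the source, given injectivity -/
theorem isOpenImmersion_of_cover {Z Y : Scheme.{u}} (g : Z ⟶ Y) {ι : Type*}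
    (W : ι → Scheme.{u}) (j : ∀ i, W i ⟶ Z) [∀ i, IsOpenImmersion (j i)]
    (hcov : ∀ z : Z, ∃ i, z ∈ Set.range (j i))
    (hoi : ∀ i, IsOpenImmersion (j i ≫ g)) (hinj : Function.Injective g) :
    IsOpenImmersion g := by
  have hemb : Topology.IsOpenEmbedding g := by
    apply Topology.IsOpenEmbedding.of_continuous_injective_isOpenMap g.continuous hinj
    intro O hO
    have : g '' O = ⋃ i, (j i ≫ g) '' ((j i) ⁻¹' O) := by
      ext y
      constructor
      · rintro ⟨z, hz, rfl⟩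
        obtain ⟨i, w, rfl⟩ := hcov z
        exact Set.mem_iUnion.mpr ⟨i, w, hz, rfl⟩
      · intro hy
        obtain ⟨i, w, hw, rfl⟩ := Set.mem_iUnion.mp hy
        exact ⟨j i w, hw, rfl⟩
    rw [this]
    refine isOpen_iUnion fun i => ?_
    haveI := hoi i
    exact (j i ≫ g).isOpenEmbedding.isOpenMap _ (hO.preimage (j i).continuous)
  have : ∀ z, IsIso (g.stalkMap z) := by
    intro z
    obtain ⟨i, w, rfl⟩ := hcov z
    haveI := hoi i
    have h1 : IsIso ((j i ≫ g).stalkMap w) := inferInstance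
    rw [Scheme.Hom.stalkMap_comp] at h1
    exact @IsIso.of_isIso_comp_right _ _ _ _ _ (g.stalkMap (j i w)) ((j i).stalkMap w)
      inferInstance h1
  exact IsOpenImmersion.of_isIso_stalkMap g hemb

/-- the open complement of the union of the irreducible components other than `closure {y}` -/
def M (Y : Scheme.{u}) (hY : (irreducibleComponents Y).Finite) (y : Y) : Y.Opens :=
  ⟨(⋃₀ {D | D ∈ irreducibleComponents Y ∧ D ≠ closure {y}})ᶜ, by
    rw [isOpen_compl_iff, Set.sUnion_eq_biUnion]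
    exact Set.Finite.isClosed_biUnion (hY.subset fun D hD => hD.1)
      fun D hD => isClosed_of_mem_irreducibleComponents D hD.1⟩

theorem mem_M {Y : Scheme.{u}} (hY : (irreducibleComponents Y).Finite) (y : Y)
    (hy : closure {y} ∈ irreducibleComponents Y) : y ∈ M Y hY y := by
  rintro ⟨D, ⟨hD, hne⟩, hyD⟩
  apply hne
  have h1 : closure {y} ⊆ D :=
    (isClosed_of_mem_irreducibleComponents D hD).closure_subset_iff.mpr
      (Set.singleton_subset_iff.mpr hyD)
  exact (hy.eq_of_subset hD.prop h1).symm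

theorem closure_eq_of_mem_M {Y : Scheme.{u}} (hY : (irreducibleComponents Y).Finite)
    {y' y1 y2 : Y} (h1 : y' ∈ M Y hY y1) (h2 : y' ∈ M Y hY y2) :
    closure {y1} = closure {y2} := by
  have hD := irreducibleComponent_mem_irreducibleComponents y'
  have hy' : y' ∈ irreducibleComponent y' := mem_irreducibleComponent
  have e1 : irreducibleComponent y' = closure {y1} := by
    by_contra hne
    exact h1 ⟨_, ⟨hD, hne⟩, hy'⟩
  have e2 : irreducibleComponent y' = closure {y2} := by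
    by_contra hne
    exact h2 ⟨_, ⟨hD, hne⟩, hy'⟩
  rw [← e1, e2]

theorem exists_opens_isIso_of_local {X Y : Scheme.{u}} (f : X ⟶ Y)
    (hYfin : (irreducibleComponents Y).Finite)
    (hbij : Set.BijOn (fun x : X => f.base x) {x : X | closure {x} ∈ irreducibleComponents X}
      {y : Y | closure {y} ∈ irreducibleComponents Y})
    (hloc : ∀ x : X, closure {x} ∈ irreducibleComponents X →
      ∃ U : X.Opens, x ∈ U ∧ IsOpenImmersion (U.ι ≫ f)) :
    ∃ (U : X.Opens) (V : Y.Opens) (hUV : U ≤ f ⁻¹ᵁ V), Dense (U : Set X) ∧ Dense (V : Set Y) ∧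
      IsIso (f.resLE V U hUV) := by
  classical
  choose! U0 hxU0 hU0 using hloc
  let GX := {x : X // closure {x} ∈ irreducibleComponents X}
  let U' : GX → X.Opens := fun x => U0 x.1 ⊓ f ⁻¹ᵁ (M Y hYfin (f.base x.1))
  have hxU' : ∀ x : GX, x.1 ∈ U' x := fun x =>
    ⟨hxU0 x.1 x.2, mem_M hYfin _ (hbij.mapsTo x.2)⟩
  have hoi' : ∀ x : GX, IsOpenImmersion ((U' x).ι ≫ f) := by
    intro x
    have hle : U' x ≤ U0 x.1 := inf_le_left
    have : (U' x).ι ≫ f = X.homOfLE hle ≫ (U0 x.1).ι ≫ f := by rw [X.homOfLE_ι_assoc]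
    rw [this]
    haveI := hU0 x.1 x.2
    infer_instance
  have hopen : ∀ x : GX, IsOpen (Set.range ((U' x).ι ≫ f)) := fun x => by
    haveI := hoi' x
    exact ((U' x).ι ≫ f).isOpenEmbedding.isOpen_range
  let V' : GX → Y.Opens := fun x => ⟨Set.range ((U' x).ι ≫ f), hopen x⟩
  have hV'M : ∀ (x : GX) (y : Y), y ∈ V' x → y ∈ M Y hYfin (f.base x.1) := by
    rintro x _ ⟨z, rfl⟩
    exact z.2.2
  obtain ⟨U, hU⟩ : ∃ U : X.Opens, U = ⨆ x : GX, U' x := ⟨_, rfl⟩
  obtain ⟨V, hV⟩ : ∃ V : Y.Opens, V = ⨆ x : GX, V' x := ⟨_, rfl⟩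
  have hmemU : ∀ z : X, z ∈ U ↔ ∃ x : GX, z ∈ U' x := fun z => by rw [hU, Opens.mem_iSup]
  have hmemV : ∀ y : Y, y ∈ V ↔ ∃ x : GX, y ∈ V' x := fun y => by rw [hV, Opens.mem_iSup]
  have hUV : U ≤ f ⁻¹ᵁ V := by
    intro z hz
    obtain ⟨x, hzx⟩ := (hmemU z).mp hz
    exact (hmemV _).mpr ⟨x, ⟨⟨z, hzx⟩, rfl⟩⟩
  refine ⟨U, V, hUV, ?_, ?_, ?_⟩
  · -- density of U
    intro z
    obtain ⟨x, hx⟩ := QuasiSober.sober (isIrreducible_irreducibleComponent (x := z))
      isClosed_irreducibleComponent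
    have hxG : closure {x} ∈ irreducibleComponents X := by
      rw [hx.def]; exact irreducibleComponent_mem_irreducibleComponents z
    have hzx : z ∈ closure {x} := by rw [hx.def]; exact mem_irreducibleComponent
    refine closure_mono ?_ hzx
    rw [Set.singleton_subset_iff]
    exact (hmemU x).mpr ⟨⟨x, hxG⟩, hxU' ⟨x, hxG⟩⟩
  · -- density of V
    intro y
    obtain ⟨y0, hy0⟩ := QuasiSober.sober (isIrreducible_irreducibleComponent (x := y))
      isClosed_irreducibleComponent
    have hyG : closure {y0} ∈ irreducibleComponents Y := by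
      rw [hy0.def]; exact irreducibleComponent_mem_irreducibleComponents y
    have hyy0 : y ∈ closure {y0} := by rw [hy0.def]; exact mem_irreducibleComponent
    obtain ⟨x, hxG, hxy⟩ := hbij.surjOn hyG
    refine closure_mono ?_ hyy0
    rw [Set.singleton_subset_iff]
    refine (hmemV y0).mpr ⟨⟨x, hxG⟩, ⟨⟨x, hxU' ⟨x, hxG⟩⟩, hxy⟩⟩
  · -- the isomorphism
    have hinj : Function.Injective (U.ι ≫ f) := by
      intro u1 u2 h12
      obtain ⟨x1, h1⟩ := (hmemU u1.1).mp u1.2
      obtain ⟨x2, h2⟩ := (hmemU u2.1).mp u2.2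
      have h12' : f.base u1.1 = f.base u2.1 := h12
      have h2' : f.base u1.1 ∈ M Y hYfin (f.base x2.1) := by rw [h12']; exact h2.2
      have hc := closure_eq_of_mem_M hYfin (y' := f.base u1.1) h1.2 h2'
      have hfx : f.base x1.1 = f.base x2.1 := (inseparable_iff_closure_eq.mpr hc).eq
      have hx12 : x1 = x2 := Subtype.ext (hbij.injOn x1.2 x2.2 hfx)
      subst hx12
      haveI := hoi' x1
      have h3 : ((U' x1).ι ≫ f) ⟨u1.1, h1⟩ = ((U' x1).ι ≫ f) ⟨u2.1, h2⟩ := h12'
      have h4 := ((U' x1).ι ≫ f).isOpenEmbedding.injective h3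
      exact Subtype.ext (congrArg (fun w : (U' x1).toScheme => (w.1 : X)) h4)
    have hle : ∀ x : GX, U' x ≤ U := fun x => by rw [hU]; exact le_iSup U' x
    have hoiU : IsOpenImmersion (U.ι ≫ f) := by
      refine isOpenImmersion_of_cover (U.ι ≫ f) (fun x : GX => (U' x).toScheme)
        (fun x => X.homOfLE (hle x)) ?_ ?_ hinj
      · intro u
        obtain ⟨x, hx⟩ := (hmemU u.1).mp u.2
        exact ⟨x, ⟨u.1, hx⟩, Subtype.ext (by rw [Scheme.homOfLE_apply])⟩
      · intro x
        rw [X.homOfLE_ι_assoc]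
        exact hoi' x
    have : IsOpenImmersion (f.resLE V U hUV ≫ V.ι) := by
      rw [Scheme.Hom.resLE_comp_ι]; exact hoiU
    have : IsOpenImmersion (f.resLE V U hUV) := IsOpenImmersion.of_comp _ V.ι
    rw [isIso_iff_isOpenImmersion_and_surjective]
    refine ⟨inferInstance, ⟨?_⟩⟩
    intro v
    obtain ⟨x, z, hz⟩ := (hmemV v.1).mp v.2
    refine ⟨⟨z.1, (hmemU _).mpr ⟨x, z.2⟩⟩, ?_⟩
    apply V.ι.isOpenEmbedding.injective
    rw [← Scheme.Hom.comp_apply, Scheme.Hom.resLE_comp_ι]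
    exact hz

end Groth.Agent.Lib.Helper13.BiratFinite
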