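import Mathlib
import Groth.Agent.Lib.Helper13.LocalIso2

/-!
# Birationality over a base, via function fields
-/

universe u

open CategoryTheory CategoryTheory.Limits AlgebraicGeometry TopologicalSpace

namespace Groth.Agent.Lib.Helper13.BiratOver

/-- transport of the residue map along an equality of points -/
theorem residue_eqToHom {S : Scheme.{u}} {s s' : S} (h : s = s') :
    S.residue s ≫ eqToHom (congrArg S.residueField h) =
      S.presheaf.stalkSpecializes (Inseparable.of_eq h.symm).specializes ≫ S.residue s' := by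
  subst h; simp

/-- information on a spread-out morphism -/
theorem stalk_info {X Y : Scheme.{u}} {U : X.Opens} (x : X) (hxU : x ∈ U) (y : Y)
    (f : U.toScheme ⟶ Y) (φ : Y.presheaf.stalk y ⟶ X.presheaf.stalk x) [IsIso φ]
    (h : Spec.map φ ≫ Y.fromSpecStalk y = U.fromSpecStalkOfMem x hxU ≫ f) :
    f ⟨x, hxU⟩ = y ∧ IsIso (f.stalkMap ⟨x, hxU⟩) := by
  have hpt : (U.fromSpecStalkOfMem x hxU) (IsLocalRing.closedPoint _) = ⟨x, hxU⟩ := by
    apply U.ι.isOpenEmbedding.injective
    rw [← Scheme.Hom.comp_apply, Scheme.Opens.fromSpecStalkOfMem_ι, Scheme.fromSpecStalk_closedPoint]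
    rfl
  have hy : f ⟨x, hxU⟩ = y := by
    have := congr($h (IsLocalRing.closedPoint _))
    rw [Scheme.Hom.comp_apply, Scheme.Hom.comp_apply, hpt] at this
    rw [← this]
    have h2 : (Spec.map φ) (IsLocalRing.closedPoint _) = IsLocalRing.closedPoint _ := by
      have : IsLocalHom φ.hom := isLocalHom_of_isIso φ
      exact IsLocalRing.comap_closedPoint φ.hom
    rw [h2, Scheme.fromSpecStalk_closedPoint]
  refine ⟨hy, ?_⟩
  have key : ∀ (y' : Y) (hy' : y' = y) (β : Y.presheaf.stalk y' ⟶ X.presheaf.stalk x),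
      Spec.map φ ≫ Y.fromSpecStalk y = Spec.map β ≫ Y.fromSpecStalk y' → IsIso β := by
    rintro y' rfl β hβ
    have : Spec.map φ = Spec.map β := (cancel_mono (Y.fromSpecStalk y')).mp hβ
    rw [← Spec.map_injective this]
    infer_instance
  have h3 : U.fromSpecStalkOfMem x hxU ≫ f =
      Spec.map (f.stalkMap ⟨x, hxU⟩ ≫ inv (U.ι.stalkMap ⟨x, hxU⟩)) ≫
        Y.fromSpecStalk (f ⟨x, hxU⟩) := by
    rw [Scheme.Opens.fromSpecStalkOfMem, Category.assoc, ← Scheme.SpecMap_stalkMap_fromSpecStalk,
      Spec.map_comp, Category.assoc]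
    rfl
  have h4 := key _ hy _ (h.trans h3)
  have h5 : f.stalkMap ⟨x, hxU⟩ = (f.stalkMap ⟨x, hxU⟩ ≫ inv (U.ι.stalkMap ⟨x, hxU⟩)) ≫
      U.ι.stalkMap ⟨x, hxU⟩ := by
    rw [Category.assoc, IsIso.inv_hom_id, Category.comp_id]
  rw [h5]
  exact @IsIso.comp_isIso _ _ _ _ _ _ _ h4 inferInstance

/-- the residue map at the generic point of an integral scheme is an isomorphism -/
instance isIso_residue_genericPoint (X : Scheme.{u}) [IsIntegral X] :
    IsIso (X.residue (genericPoint X)) := by
  rw [ConcreteCategory.isIso_iff_bijective]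
  letI : Field (X.presheaf.stalk (genericPoint X)) :=
    inferInstanceAs (Field X.functionField)
  refine ⟨?_, X.residue_surjective _⟩
  exact RingHom.injective _

/-- an open immersion from a nonempty scheme into an irreducible one is dominant -/
theorem isDominant_of_isOpenImmersion {W X : Scheme.{u}} [IrreducibleSpace X] (j : W ⟶ X)
    [IsOpenImmersion j] [Nonempty W] : IsDominant j := by
  constructor
  have h1 : IsOpen (Set.range j) := j.isOpenEmbedding.isOpen_range
  exact h1.dense (Set.range_nonempty _)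

/-- two dominant open immersions from a common scheme give a birational equivalence -/
theorem birationalOver_of_openImmersions {S W X Y : Scheme.{u}} (sX : X ⟶ S) (sY : Y ⟶ S)
    (j : W ⟶ X) (g : W ⟶ Y) [IsOpenImmersion j] [IsOpenImmersion g] [IsDominant j]
    [IsDominant g] (h : j ≫ sX = g ≫ sY) : Scheme.BirationalOver sX sY :=
  (Scheme.Hom.birationalOver j sX (j ≫ sX) rfl).symm.trans
    (Scheme.Hom.birationalOver g sY (j ≫ sX) h.symm)

theorem exists_openImmersions_of_residue_iso {S X Y : Scheme.{u}}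
    (sX : X ⟶ S) (sY : Y ⟶ S) [LocallyOfFiniteType sX] [LocallyOfFiniteType sY]
    (x : X) (y : Y) [X.IsGermInjectiveAt x] [Y.IsGermInjectiveAt y]
    [IsIso (X.residue x)] [IsIso (Y.residue y)]
    (hs : sX x = sY y)
    (e : X.residueField x ≅ Y.residueField y)
    (he : sX.residueFieldMap x ≫ e.hom =
      eqToHom (congrArg S.residueField hs) ≫ sY.residueFieldMap y) :
    ∃ (W : Scheme.{u}) (j : W ⟶ X) (g : W ⟶ Y), IsOpenImmersion j ∧ IsOpenImmersion g ∧
      Nonempty W ∧ j ≫ sX = g ≫ sY := by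
  let φ : Y.presheaf.stalk y ⟶ X.presheaf.stalk x := Y.residue y ≫ e.inv ≫ inv (X.residue x)
  haveI : IsIso φ := by dsimp only [φ]; infer_instance
  have he' : sY.residueFieldMap y ≫ e.inv =
      eqToHom (congrArg S.residueField hs.symm) ≫ sX.residueFieldMap x := by
    rw [Iso.comp_inv_eq, Category.assoc, he, ← Category.assoc, eqToHom_trans, eqToHom_refl,
      Category.id_comp]
  have hφ : sY.stalkMap y ≫ φ =
      S.presheaf.stalkSpecializes (Inseparable.of_eq hs).specializes ≫ sX.stalkMap x := by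
    rw [← cancel_mono (X.residue x)]
    simp only [φ, Category.assoc, IsIso.inv_hom_id, Category.comp_id]
    rw [← Scheme.residue_residueFieldMap_assoc, he', ← Scheme.residue_residueFieldMap,
      ← Category.assoc, residue_eqToHom hs.symm, Category.assoc]
  obtain ⟨U, hxU, f, hf1, hf2⟩ := spread_out_of_isGermInjective sX sY hs φ hφ
  obtain ⟨hfy, hfiso⟩ := stalk_info x hxU y f φ hf1
  haveI : LocallyOfFiniteType (f ≫ sY) := by rw [hf2]; infer_instance
  haveI : LocallyOfFiniteType f := locallyOfFiniteType_of_comp f sY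
  haveI : Y.IsGermInjectiveAt (f ⟨x, hxU⟩) := by rw [hfy]; infer_instance
  obtain ⟨U', hxU', hoi⟩ := LocalIso.exists_isOpenImmersion_of_isIso_stalkMap f ⟨x, hxU⟩ hfiso
  refine ⟨U'.toScheme, U'.ι ≫ U.ι, U'.ι ≫ f, inferInstance, hoi, ⟨⟨⟨x, hxU⟩, hxU'⟩⟩, ?_⟩
  rw [Category.assoc, Category.assoc, hf2]

theorem birationalOver_of_iso {S X Y : Scheme.{u}} [IsIntegral X] [IsIntegral Y]
    (sX : X ⟶ S) (sY : Y ⟶ S) [LocallyOfFiniteType sX] [LocallyOfFiniteType sY]
    (hs : sX (genericPoint X) = sY (genericPoint Y))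
    (e : X.residueField (genericPoint X) ≅ Y.residueField (genericPoint Y))
    (he : sX.residueFieldMap (genericPoint X) ≫ e.hom =
      eqToHom (congrArg S.residueField hs) ≫ sY.residueFieldMap (genericPoint Y)) :
    Scheme.BirationalOver sX sY := by
  obtain ⟨W, j, g, hj, hg, hW, h⟩ := exists_openImmersions_of_residue_iso sX sY _ _ hs e he
  haveI := isDominant_of_isOpenImmersion j
  haveI := isDominant_of_isOpenImmersion g
  exact birationalOver_of_openImmersions sX sY j g h

theorem exists_eq_genericPoint {W X : Scheme.{u}} [IrreducibleSpace X] (j : W ⟶ X)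
    [IsOpenImmersion j] [Nonempty W] : ∃ w : W, j w = genericPoint X := by
  have h1 : IsOpen (Set.range j) := j.isOpenEmbedding.isOpen_range
  have h2 : genericPoint X ∈ Set.range j := by
    rw [(genericPoint_spec X).mem_open_set_iff h1]
    obtain ⟨w⟩ := ‹Nonempty W›
    exact ⟨j w, trivial, w, rfl⟩
  exact h2

theorem eq_genericPoint_of_eq_genericPoint {W X Y : Scheme.{u}} [IrreducibleSpace X]
    [IrreducibleSpace Y] (j : W ⟶ X) (g : W ⟶ Y) [IsOpenImmersion j] [IsOpenImmersion g]
    (w : W) (hw : j w = genericPoint X) : g w = genericPoint Y := by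
  haveI : Nonempty W := ⟨w⟩
  obtain ⟨w', hw'⟩ := exists_eq_genericPoint g
  have h1 : j w ⤳ j w' := by
    rw [hw]
    exact (genericPoint_spec X).specializes trivial
  have h2 : w ⤳ w' := j.isOpenEmbedding.isInducing.specializes_iff.mp h1
  have h3 : g w ⤳ g w' := h2.map g.continuous
  have h4 : g w' ⤳ g w := by
    rw [hw']
    exact (genericPoint_spec Y).specializes trivial
  rw [← hw']
  exact (h3.antisymm h4).eq

theorem residue_iso_of_openImmersions {S W X Y : Scheme.{u}} (sX : X ⟶ S) (sY : Y ⟶ S)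
    (j : W ⟶ X) (g : W ⟶ Y) [IsOpenImmersion j] [IsOpenImmersion g]
    (h : j ≫ sX = g ≫ sY) (w : W) :
    ∃ (hs : sX (j w) = sY (g w)) (e : X.residueField (j w) ≅ Y.residueField (g w)),
      sX.residueFieldMap (j w) ≫ e.hom =
        eqToHom (congrArg S.residueField hs) ≫ sY.residueFieldMap (g w) := by
  have hs : sX (j w) = sY (g w) := by
    rw [← Scheme.Hom.comp_apply, h, Scheme.Hom.comp_apply]
  refine ⟨hs, asIso (j.residueFieldMap w) ≪≫ (asIso (g.residueFieldMap w)).symm, ?_⟩
  simp only [Iso.trans_hom, asIso_hom, Iso.symm_hom, asIso_inv]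
  rw [← Category.assoc, IsIso.comp_inv_eq, Category.assoc,
    ← Scheme.residueFieldMap_comp, ← Scheme.residueFieldMap_comp,
    Scheme.Hom.residueFieldMap_congr h w]
  rfl

theorem iso_of_birationalOver {S X Y : Scheme.{u}} [IrreducibleSpace X] [IrreducibleSpace Y]
    (sX : X ⟶ S) (sY : Y ⟶ S) (h : Scheme.BirationalOver sX sY) :
    ∃ (hs : sX (genericPoint X) = sY (genericPoint Y))
      (e : X.residueField (genericPoint X) ≅ Y.residueField (genericPoint Y)),
      sX.residueFieldMap (genericPoint X) ≫ e.hom =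
        eqToHom (congrArg S.residueField hs) ≫ sY.residueFieldMap (genericPoint Y) := by
  obtain ⟨p, hp⟩ := h
  have hne : Nonempty p.source.toScheme := by
    obtain ⟨x, hx⟩ := p.dense_source.nonempty
    exact ⟨⟨x, hx⟩⟩
  have h1 : p.source.ι ≫ sX = (p.iso.hom ≫ p.target.ι) ≫ sY := by
    rw [Category.assoc]; exact Eq.symm hp
  obtain ⟨w, hw⟩ := exists_eq_genericPoint p.source.ι
  have hgw := eq_genericPoint_of_eq_genericPoint p.source.ι (p.iso.hom ≫ p.target.ι) w hw
  have key : ∀ (x : X) (y : Y), p.source.ι w = x → (p.iso.hom ≫ p.target.ι) w = y →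
      ∃ (hs : sX x = sY y) (e : X.residueField x ≅ Y.residueField y),
        sX.residueFieldMap x ≫ e.hom =
          eqToHom (congrArg S.residueField hs) ≫ sY.residueFieldMap y := by
    rintro _ _ rfl rfl
    exact residue_iso_of_openImmersions sX sY _ _ h1 w
  exact key _ _ hw hgw

end Groth.Agent.Lib.Helper13.BiratOver
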