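import Mathlib

/-!
# Spreading out morphisms of local rings into a scheme locally of finite presentation

Mathlib's `spread_out_of_isGermInjective` without the germ-injectivity hypothesis, when the
target is locally of finite presentation over the base.
-/

universe u

open CategoryTheory CategoryTheory.Limits AlgebraicGeometry TopologicalSpace Opposite

namespace Groth.Agent.Lib.Helper13.SpreadFP

variable {X : Scheme.{u}} {R A : CommRingCat.{u}}

set_option maxHeartbeats 800000 in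
lemma exists_lift_of_finitePresentation {x : X} {U : X.Opens} (hxU : x ∈ U)
    (φ : A ⟶ X.presheaf.stalk x) (φRA : R ⟶ A) (φRX : R ⟶ Γ(X, U))
    (hφRA : RingHom.FinitePresentation φRA.hom)
    (e : φRA ≫ φ = φRX ≫ X.presheaf.germ U x hxU) :
    ∃ (V : X.Opens) (hxV : x ∈ V) (φ' : A ⟶ Γ(X, V)) (i : V ≤ U), IsAffineOpen V ∧
      φ = φ' ≫ X.presheaf.germ V x hxV ∧ φRX ≫ X.presheaf.map i.hom.op = φRA ≫ φ' := by
  classical
  letI := φRA.hom.toAlgebra
  have hfp : Algebra.FinitePresentation R A := hφRA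
  obtain ⟨n, π, hπ, T, hT⟩ := hfp.out
  have hπC : ∀ r : R, π (MvPolynomial.C r) = φRA.hom r := fun r => by
    rw [← MvPolynomial.algebraMap_eq, AlgHom.commutes]; rfl
  -- germs of the images of the variables
  choose W hxW s hs using fun i : Fin n => X.presheaf.exists_germ_eq (φ.hom (π (MvPolynomial.X i)))
  obtain ⟨V0, hV0⟩ : ∃ V0 : X.Opens, V0 = Finset.univ.inf W ⊓ U := ⟨_, rfl⟩
  have hxV0 : x ∈ V0 := by
    rw [hV0, ← SetLike.mem_coe, TopologicalSpace.Opens.coe_inf,
      TopologicalSpace.Opens.coe_finset_inf]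
    exact ⟨by simpa using fun i ↦ hxW i, hxU⟩
  have hV0U : V0 ≤ U := by rw [hV0]; exact inf_le_right
  have hV0W : ∀ i, V0 ≤ W i := fun i => by
    rw [hV0]; exact inf_le_left.trans (Finset.inf_le (Finset.mem_univ i))
  let ρ : R →+* Γ(X, V0) := (φRX ≫ X.presheaf.map (homOfLE hV0U).op).hom
  let ψ0 : MvPolynomial (Fin n) R →+* Γ(X, V0) :=
    MvPolynomial.eval₂Hom ρ (fun i => X.presheaf.map (homOfLE (hV0W i)).op (s i))
  have hψ0 : (X.presheaf.germ V0 x hxV0).hom.comp ψ0 = φ.hom.comp π.toRingHom := by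
    apply MvPolynomial.ringHom_ext
    · intro r
      simp only [RingHom.comp_apply, ψ0, MvPolynomial.eval₂Hom_C]
      change (X.presheaf.germ V0 x hxV0).hom (X.presheaf.map (homOfLE hV0U).op (φRX.hom r)) =
        φ.hom (π (MvPolynomial.C r))
      rw [hπC]
      have h1 := X.presheaf.germ_res_apply (homOfLE hV0U) x hxV0 (φRX.hom r)
      have h2 : φ.hom (φRA.hom r) = (X.presheaf.germ U x hxU).hom (φRX.hom r) :=
        congrArg (fun ξ : R ⟶ X.presheaf.stalk x => ξ.hom r) e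
      rw [h2]
      exact h1
    · intro i
      simp only [RingHom.comp_apply, ψ0, MvPolynomial.eval₂Hom_X']
      change (X.presheaf.germ V0 x hxV0).hom (X.presheaf.map (homOfLE (hV0W i)).op (s i)) =
        φ.hom (π (MvPolynomial.X i))
      rw [← hs i]
      exact X.presheaf.germ_res_apply (homOfLE (hV0W i)) x hxV0 (s i)
  -- kill the relations
  have hrel : ∀ p : MvPolynomial (Fin n) R, p ∈ RingHom.ker π.toRingHom →
      ∃ Wp : X.Opens, x ∈ Wp ∧ ∃ hle : Wp ≤ V0,
        X.presheaf.map (homOfLE hle).op (ψ0 p) = 0 := by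
    intro p hp
    have h1 : (X.presheaf.germ V0 x hxV0).hom (ψ0 p) = 0 := by
      have h2 := congrArg (fun ξ : MvPolynomial (Fin n) R →+* X.presheaf.stalk x => ξ p) hψ0
      simp only [RingHom.comp_apply] at h2
      rw [h2]
      have h3 : π.toRingHom p = 0 := hp
      rw [h3, map_zero]
    have h4 : (X.presheaf.germ V0 x hxV0) (ψ0 p) = (X.presheaf.germ V0 x hxV0) 0 := by
      rw [map_zero]; exact h1
    obtain ⟨Wp, hxWp, iU, iV, hW⟩ := X.presheaf.germ_eq x hxV0 hxV0 (ψ0 p) 0 h4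
    refine ⟨Wp, hxWp, iU.le, ?_⟩
    rw [map_zero] at hW
    exact hW
  choose! Wf hWf1 hWf2 hWf3 using hrel
  obtain ⟨V1, hV1⟩ : ∃ V1 : X.Opens, V1 = T.inf Wf ⊓ V0 := ⟨_, rfl⟩
  have hTker : ∀ p ∈ T, p ∈ RingHom.ker π.toRingHom := fun p hp => by
    rw [← hT]; exact Ideal.subset_span hp
  have hxV1 : x ∈ V1 := by
    rw [hV1, ← SetLike.mem_coe, TopologicalSpace.Opens.coe_inf,
      TopologicalSpace.Opens.coe_finset_inf]
    exact ⟨by simpa using fun p hp ↦ hWf1 p (hTker p hp), hxV0⟩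
  obtain ⟨V, hV, hxV, hVV1⟩ := exists_isAffineOpen_mem_and_subset (x := x) (U := V1) hxV1
  have hVV0 : V ≤ V0 := by
    have h1 : V1 ≤ V0 := by rw [hV1]; exact inf_le_right
    exact (show V ≤ V1 from hVV1).trans h1
  have hVWf : ∀ p ∈ T, V ≤ Wf p := fun p hp => by
    have h1 : V1 ≤ Wf p := by rw [hV1]; exact inf_le_left.trans (Finset.inf_le hp)
    exact (show V ≤ V1 from hVV1).trans h1
  let ψ : MvPolynomial (Fin n) R →+* Γ(X, V) := (X.presheaf.map (homOfLE hVV0).op).hom.comp ψ0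
  have hψker : RingHom.ker π.toRingHom ≤ RingHom.ker ψ := by
    rw [← hT, Ideal.span_le]
    intro p hp
    rw [SetLike.mem_coe, RingHom.mem_ker]
    change (X.presheaf.map (homOfLE hVV0).op).hom (ψ0 p) = 0
    have h1 : X.presheaf.map (homOfLE hVV0).op =
        X.presheaf.map (homOfLE (hWf2 p (hTker p hp))).op ≫
          X.presheaf.map (homOfLE (hVWf p hp)).op := by
      rw [← Functor.map_comp]; rfl
    rw [h1]
    change (X.presheaf.map (homOfLE (hVWf p hp)).op).hom
      ((X.presheaf.map (homOfLE (hWf2 p (hTker p hp))).op).hom (ψ0 p)) = 0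
    have h2 := hWf3 p (hTker p hp)
    change (X.presheaf.map (homOfLE (hWf2 p (hTker p hp))).op).hom (ψ0 p) = 0 at h2
    rw [h2, map_zero]
  let φ'r : A →+* Γ(X, V) := π.toRingHom.liftOfSurjective hπ ⟨ψ, hψker⟩
  have hφ'r : ∀ p, φ'r (π p) = ψ p := fun p =>
    RingHom.liftOfSurjective_comp_apply π.toRingHom hπ ⟨ψ, hψker⟩ p
  refine ⟨V, hxV, CommRingCat.ofHom φ'r, hVV0.trans hV0U, hV, ?_, ?_⟩
  · ext a
    obtain ⟨p, rfl⟩ := hπ a
    change φ.hom (π p) = (X.presheaf.germ V x hxV).hom (φ'r (π p))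
    rw [hφ'r]
    change _ = (X.presheaf.germ V x hxV).hom ((X.presheaf.map (homOfLE hVV0).op).hom (ψ0 p))
    have h1 := X.presheaf.germ_res_apply (homOfLE hVV0) x hxV (ψ0 p)
    have h2 := congrArg (fun ξ : MvPolynomial (Fin n) R →+* X.presheaf.stalk x => ξ p) hψ0
    simp only [RingHom.comp_apply] at h2
    exact h2.symm.trans h1.symm
  · ext r
    change (X.presheaf.map (homOfLE (hVV0.trans hV0U)).op).hom (φRX.hom r) = φ'r (φRA.hom r)
    rw [← hπC, hφ'r]
    change _ = (X.presheaf.map (homOfLE hVV0).op).hom (ψ0 (MvPolynomial.C r))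
    simp only [ψ0, MvPolynomial.eval₂Hom_C]
    change _ = (X.presheaf.map (homOfLE hVV0).op).hom
      ((X.presheaf.map (homOfLE hV0U).op).hom (φRX.hom r))
    have h3 : X.presheaf.map (homOfLE (hVV0.trans hV0U)).op =
        X.presheaf.map (homOfLE hV0U).op ≫ X.presheaf.map (homOfLE hVV0).op := by
      rw [← Functor.map_comp]; rfl
    rw [h3]
    rfl

variable {S Y : Scheme.{u}} (sX : X ⟶ S) (sY : Y ⟶ S)

set_option backward.isDefEq.respectTransparency.types false in
/-- Mathlib's `spread_out_of_isGermInjective` for a target locally of finite presentation,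
without germ-injectivity. -/
lemma spread_out_of_finitePresentation [LocallyOfFinitePresentation sY] {x : X} {y : Y}
    (e : sX x = sY y) (φ : Y.presheaf.stalk y ⟶ X.presheaf.stalk x)
    (h : sY.stalkMap y ≫ φ =
      S.presheaf.stalkSpecializes (Inseparable.of_eq e).specializes ≫ sX.stalkMap x) :
    ∃ (U : X.Opens) (hxU : x ∈ U) (f : U.toScheme ⟶ Y),
      Spec.map φ ≫ Y.fromSpecStalk y = U.fromSpecStalkOfMem x hxU ≫ f ∧
      f ≫ sY = U.ι ≫ sX := by
  obtain ⟨_, ⟨U, hU, rfl⟩, hxU, -⟩ :=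
    S.isBasis_affineOpens.exists_subset_of_mem_open (Set.mem_univ (sX x)) isOpen_univ
  have hyU : sY y ∈ U := e ▸ hxU
  obtain ⟨_, ⟨V : Y.Opens, hV, rfl⟩, hyV, iVU⟩ :=
    Y.isBasis_affineOpens.exists_subset_of_mem_open hyU (sY ⁻¹ᵁ U).2
  have : sY.appLE U V iVU ≫ Y.presheaf.germ V y hyV ≫ φ =
      sX.app U ≫ X.presheaf.germ (sX ⁻¹ᵁ U) x hxU := by
    rw [Scheme.Hom.appLE, Category.assoc, Y.presheaf.germ_res_assoc,
      ← Scheme.Hom.germ_stalkMap_assoc, h]
    simp
  obtain ⟨W, hxW, φ', i, hW, h₁, h₂⟩ :=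
    exists_lift_of_finitePresentation (R := Γ(S, U)) (A := Γ(Y, V)) (U := sX ⁻¹ᵁ U) (x := x) hxU
    (Y.presheaf.germ _ y hyV ≫ φ) (sY.appLE U V iVU) (sX.app U)
    (sY.finitePresentation_appLE hU hV _) this
  refine ⟨W, hxW, W.toSpecΓ ≫ Spec.map φ' ≫ hV.fromSpec, ?_, ?_⟩
  · rw [W.fromSpecStalkOfMem_toSpecΓ_assoc x hxW, ← Spec.map_comp_assoc, ← h₁,
      Spec.map_comp, Category.assoc, ← IsAffineOpen.fromSpecStalk,
      IsAffineOpen.fromSpecStalk_eq_fromSpecStalk]
  · simp only [Category.assoc]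
    rw [← IsAffineOpen.SpecMap_appLE_fromSpec sY hU hV iVU, ← Spec.map_comp_assoc, ← h₂,
      ← Scheme.Hom.appLE, ← hW.isoSpec_hom, IsAffineOpen.SpecMap_appLE_fromSpec sX hU hW i,
      ← Iso.eq_inv_comp, IsAffineOpen.isoSpec_inv_ι_assoc]

set_option backward.isDefEq.respectTransparency.types false in
/-- Mathlib's `spread_out_of_isGermInjective'` for a target locally of finite presentation. -/
lemma spread_out_of_finitePresentation' [LocallyOfFinitePresentation sY] {x : X}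
    (φ : Spec (X.presheaf.stalk x) ⟶ Y)
    (h : φ ≫ sY = X.fromSpecStalk x ≫ sX) :
    ∃ (U : X.Opens) (hxU : x ∈ U) (f : U.toScheme ⟶ Y),
      φ = U.fromSpecStalkOfMem x hxU ≫ f ∧ f ≫ sY = U.ι ≫ sX := by
  have := spread_out_of_finitePresentation sX sY ?_ (Scheme.stalkClosedPointTo φ) ?_
  · simpa only [Scheme.Spec_stalkClosedPointTo_fromSpecStalk] using this
  · rw [← Scheme.Hom.comp_apply, h, Scheme.Hom.comp_apply, Scheme.fromSpecStalk_closedPoint]
  · apply Spec.map_injective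
    rw [← cancel_mono (S.fromSpecStalk _)]
    simpa only [Spec.map_comp, Category.assoc, Scheme.SpecMap_stalkMap_fromSpecStalk,
      Scheme.Spec_stalkClosedPointTo_fromSpecStalk_assoc,
      Scheme.SpecMap_stalkSpecializes_fromSpecStalk]

end Groth.Agent.Lib.Helper13.SpreadFP
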