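import Mathlib
import Groth.Agent.Lib.Helper13.BiratOver
import Groth.Agent.Lib.Helper13.LocalIsoFP
import Groth.Agent.Lib.Helper13.SpreadFP

/-!
# Birationality over a base via local rings at generic points (finite presentation case)
-/

universe u

open CategoryTheory CategoryTheory.Limits AlgebraicGeometry TopologicalSpace

namespace Groth.Agent.Lib.Helper13.BiratOverFP

open Groth.Agent.Lib.Helper13.BiratOver

/-- cancellation for morphisms locally of finite presentation -/
theorem locallyOfFinitePresentation_of_comp {X Y Z : Scheme.{u}} (f : X ⟶ Y) (g : Y ⟶ Z)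
    [LocallyOfFinitePresentation (f ≫ g)] [LocallyOfFiniteType g] :
    LocallyOfFinitePresentation f := by
  rw [HasRingHomProperty.iff_exists_appLE (P := @LocallyOfFinitePresentation)
    (RingHom.finitePresentation_stableUnderComposition.stableUnderCompositionWithLocalizationAway
      RingHom.finitePresentation_holdsForLocalizationAway).left]
  intro x
  obtain ⟨_, ⟨Z0, hZ0, rfl⟩, hxZ0, -⟩ :=
    Z.isBasis_affineOpens.exists_subset_of_mem_open (Set.mem_univ (g (f x))) isOpen_univ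
  obtain ⟨V, hV, hxV, hVZ0⟩ := exists_isAffineOpen_mem_and_subset (x := f x) (U := g ⁻¹ᵁ Z0) hxZ0
  obtain ⟨W, hW, hxW, hWV⟩ := exists_isAffineOpen_mem_and_subset (x := x) (U := f ⁻¹ᵁ V) hxV
  refine ⟨⟨V, hV⟩, ⟨W, hW⟩, hxW, hWV, ?_⟩
  have h1 := (f ≫ g).finitePresentation_appLE hZ0 hW
    (hWV.trans ((Opens.map f.base).map (homOfLE hVZ0)).le)
  rw [← Scheme.Hom.appLE_comp_appLE f g Z0 V W hVZ0 hWV, CommRingCat.hom_comp] at h1
  exact RingHom.FinitePresentation.of_comp_finiteType _ h1 (g.finiteType_appLE hZ0 hV hVZ0)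

theorem stalk_eqToHom {S : Scheme.{u}} {s s' : S} (h : s' = s) :
    eqToHom (congrArg S.presheaf.stalk h) =
      S.presheaf.stalkSpecializes (Inseparable.of_eq h.symm).specializes := by
  subst h; simp

theorem exists_openImmersions_of_stalk_iso {S X Y : Scheme.{u}}
    (sX : X ⟶ S) (sY : Y ⟶ S) [LocallyOfFinitePresentation sX] [LocallyOfFinitePresentation sY]
    (x : X) (y : Y) (hs : sX x = sY y)
    (e : X.presheaf.stalk x ≅ Y.presheaf.stalk y)
    (he : sX.stalkMap x ≫ e.hom = eqToHom (congrArg S.presheaf.stalk hs) ≫ sY.stalkMap y) :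
    ∃ (W : Scheme.{u}) (j : W ⟶ X) (g : W ⟶ Y), IsOpenImmersion j ∧ IsOpenImmersion g ∧
      Nonempty W ∧ j ≫ sX = g ≫ sY := by
  have he' : sY.stalkMap y ≫ e.inv =
      eqToHom (congrArg S.presheaf.stalk hs.symm) ≫ sX.stalkMap x := by
    rw [Iso.comp_inv_eq, Category.assoc, he, ← Category.assoc, eqToHom_trans, eqToHom_refl,
      Category.id_comp]
  have hφ : sY.stalkMap y ≫ e.inv =
      S.presheaf.stalkSpecializes (Inseparable.of_eq hs).specializes ≫ sX.stalkMap x := by
    rw [he', stalk_eqToHom hs.symm]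
  obtain ⟨U, hxU, f, hf1, hf2⟩ := SpreadFP.spread_out_of_finitePresentation sX sY hs e.inv hφ
  obtain ⟨hfy, hfiso⟩ := stalk_info x hxU y f e.inv hf1
  haveI : LocallyOfFinitePresentation (f ≫ sY) := by rw [hf2]; infer_instance
  haveI : LocallyOfFinitePresentation f := locallyOfFinitePresentation_of_comp f sY
  obtain ⟨U', hxU', hoi⟩ := LocalIsoFP.exists_isOpenImmersion_of_isIso_stalkMap f ⟨x, hxU⟩ hfiso
  refine ⟨U'.toScheme, U'.ι ≫ U.ι, U'.ι ≫ f, inferInstance, hoi, ⟨⟨⟨x, hxU⟩, hxU'⟩⟩, ?_⟩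
  rw [Category.assoc, Category.assoc, hf2]

theorem stalk_iso_of_openImmersions {S W X Y : Scheme.{u}} (sX : X ⟶ S) (sY : Y ⟶ S)
    (j : W ⟶ X) (g : W ⟶ Y) [IsOpenImmersion j] [IsOpenImmersion g]
    (h : j ≫ sX = g ≫ sY) (w : W) :
    ∃ (hs : sX (j w) = sY (g w)) (e : X.presheaf.stalk (j w) ≅ Y.presheaf.stalk (g w)),
      sX.stalkMap (j w) ≫ e.hom =
        eqToHom (congrArg S.presheaf.stalk hs) ≫ sY.stalkMap (g w) := by
  have hs : sX (j w) = sY (g w) := by
    rw [← Scheme.Hom.comp_apply, h, Scheme.Hom.comp_apply]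
  refine ⟨hs, asIso (j.stalkMap w) ≪≫ (asIso (g.stalkMap w)).symm, ?_⟩
  simp only [Iso.trans_hom, asIso_hom, Iso.symm_hom, asIso_inv]
  rw [← Category.assoc, IsIso.comp_inv_eq, Category.assoc,
    ← Scheme.Hom.stalkMap_comp, ← Scheme.Hom.stalkMap_comp,
    Scheme.Hom.stalkMap_congr_hom _ _ h w, stalk_eqToHom hs]
  rfl

theorem birationalOver_iff {S X Y : Scheme.{u}} [IrreducibleSpace X] [IrreducibleSpace Y]
    (sX : X ⟶ S) (sY : Y ⟶ S) [LocallyOfFinitePresentation sX] [LocallyOfFinitePresentation sY] :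
    Scheme.BirationalOver sX sY ↔
      ∃ (hs : sX (genericPoint X) = sY (genericPoint Y))
        (e : X.presheaf.stalk (genericPoint X) ≅ Y.presheaf.stalk (genericPoint Y)),
        sX.stalkMap (genericPoint X) ≫ e.hom =
          eqToHom (congrArg S.presheaf.stalk hs) ≫ sY.stalkMap (genericPoint Y) := by
  constructor
  · rintro ⟨p, hp⟩
    have hne : Nonempty p.source.toScheme := by
      obtain ⟨x, hx⟩ := p.dense_source.nonempty
      exact ⟨⟨x, hx⟩⟩
    have h1 : p.source.ι ≫ sX = (p.iso.hom ≫ p.target.ι) ≫ sY := by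
      rw [Category.assoc]; exact Eq.symm hp
    obtain ⟨w, hw⟩ := exists_eq_genericPoint p.source.ι
    have hgw := eq_genericPoint_of_eq_genericPoint p.source.ι (p.iso.hom ≫ p.target.ι) w hw
    have key : ∀ (x : X) (y : Y), p.source.ι w = x → (p.iso.hom ≫ p.target.ι) w = y →
        ∃ (hs : sX x = sY y) (e : X.presheaf.stalk x ≅ Y.presheaf.stalk y),
          sX.stalkMap x ≫ e.hom =
            eqToHom (congrArg S.presheaf.stalk hs) ≫ sY.stalkMap y := by
      rintro _ _ rfl rfl
      exact stalk_iso_of_openImmersions sX sY _ _ h1 w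
    exact key _ _ hw hgw
  · rintro ⟨hs, e, he⟩
    obtain ⟨W, j, g, hj, hg, hW, h⟩ := exists_openImmersions_of_stalk_iso sX sY _ _ hs e he
    have := isDominant_of_isOpenImmersion j
    have := isDominant_of_isOpenImmersion g
    exact birationalOver_of_openImmersions sX sY j g h

end Groth.Agent.Lib.Helper13.BiratOverFP
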