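import Mathlib
import Groth.Agent.Lib.Helper13.BiratFinite
import Groth.Agent.Lib.Helper13.Dominant

/-!
# Birational morphisms: restricting to an isomorphism over a dense open of the target
-/

universe u

open CategoryTheory CategoryTheory.Limits AlgebraicGeometry TopologicalSpace

namespace Groth.Agent.Lib.Helper13.BiratRestrict

theorem germ_appLE {X Y : Scheme.{u}} (f : X ⟶ Y) {W : Y.Opens} {W' : X.Opens}
    (hW'W : W' ≤ f ⁻¹ᵁ W) (p : X) (hp : p ∈ W') (a : Γ(Y, W)) :
    (X.presheaf.germ W' p hp) ((f.appLE W W' hW'W).hom a) =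
      (f.stalkMap p).hom ((Y.presheaf.germ W (f p) (hW'W hp)).hom a) := by
  rw [Scheme.Hom.appLE, CommRingCat.hom_comp, RingHom.comp_apply,
    ← CommRingCat.comp_apply (X.presheaf.map _), X.presheaf.germ_res]
  exact (Scheme.Hom.germ_stalkMap_apply f W p (hW'W hp) a).symm

/-- If the stalk map at `x` is surjective, no proper specialization of `x` lies in the same
fibre. -/
theorem eq_of_specializes_of_stalkMap_surjective {X Y : Scheme.{u}} (f : X ⟶ Y) {x z : X}
    (hxz : x ⤳ z) (hf : f x = f z) (hsurj : Function.Surjective (f.stalkMap x).hom) :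
    x = z := by
  obtain ⟨_, ⟨W, hW, rfl⟩, hzW, -⟩ :=
    Y.isBasis_affineOpens.exists_subset_of_mem_open (Set.mem_univ (f z)) isOpen_univ
  obtain ⟨W', hW', hzW', hW'W⟩ := exists_isAffineOpen_mem_and_subset (x := z) (U := f ⁻¹ᵁ W) hzW
  have hxW' : x ∈ W' := hxz.mem_open W'.2 hzW'
  have hfxW : f x ∈ W := hW'W hxW'
  have key : ∀ b : Γ(X, W'), x ∈ X.basicOpen b → z ∈ X.basicOpen b := by
    intro b hxb
    by_contra hzb
    rw [Scheme.mem_basicOpen _ _ _ hxW'] at hxb
    rw [Scheme.mem_basicOpen _ _ _ hzW'] at hzb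
    letI := Y.presheaf.algebra_section_stalk ⟨f x, hfxW⟩
    haveI := hW.isLocalization_stalk ⟨f x, hfxW⟩
    obtain ⟨y, hy⟩ := hsurj (X.presheaf.germ W' x hxW' b)
    obtain ⟨⟨a, s⟩, has⟩ :=
      IsLocalization.surj (hW.primeIdealOf ⟨f x, hfxW⟩).asIdeal.primeCompl y
    have hs_unit : IsUnit ((Y.presheaf.germ W (f x) hfxW).hom s.1) :=
      IsLocalization.map_units (Y.presheaf.stalk (f x)) s
    have has' : y * (Y.presheaf.germ W (f x) hfxW).hom s.1 =
        (Y.presheaf.germ W (f x) hfxW).hom a := has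
    set φ := (f.appLE W W' hW'W).hom with hφ
    have e1 : (X.presheaf.germ W' x hxW') b * (X.presheaf.germ W' x hxW') (φ s.1) =
        (X.presheaf.germ W' x hxW') (φ a) := by
      rw [germ_appLE f hW'W x hxW' s.1, germ_appLE f hW'W x hxW' a, ← has', map_mul, hy]
    have hφs_unit : IsUnit ((X.presheaf.germ W' x hxW') (φ s.1)) := by
      rw [germ_appLE f hW'W x hxW' s.1]
      exact hs_unit.map _
    obtain ⟨c, hc⟩ : ∃ c : Γ(X, W'), c = b * φ s.1 - φ a := ⟨_, rfl⟩
    have hcx : (X.presheaf.germ W' x hxW') c = 0 := by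
      rw [hc, map_sub, map_mul, e1, sub_self]
    have hcz : ¬ IsUnit ((X.presheaf.germ W' z hzW') c) := by
      intro hu
      have h1 : z ∈ X.basicOpen c := (Scheme.mem_basicOpen _ _ _ hzW').mpr hu
      have h2 : x ∈ X.basicOpen c := hxz.mem_open (X.basicOpen c).2 h1
      rw [Scheme.mem_basicOpen _ _ _ hxW', hcx] at h2
      exact not_isUnit_zero h2
    have hφaz : ¬ IsUnit ((X.presheaf.germ W' z hzW') (φ a)) := by
      have h1 : φ a = b * φ s.1 - c := by rw [hc]; ring
      rw [h1, map_sub, map_mul]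
      rw [← mem_nonunits_iff, ← IsLocalRing.mem_maximalIdeal] at hzb hcz ⊢
      exact Ideal.sub_mem _ (Ideal.mul_mem_right _ _ hzb) hcz
    have hfza : f z ∉ Y.basicOpen a := by
      intro h1
      rw [Scheme.mem_basicOpen _ _ _ hzW] at h1
      apply hφaz
      rw [germ_appLE f hW'W z hzW' a]
      exact h1.map _
    have hfxa : ¬ IsUnit ((Y.presheaf.germ W (f x) hfxW).hom a) := by
      intro h1
      apply hfza
      rw [← hf]
      exact (Scheme.mem_basicOpen _ _ _ hfxW).mpr h1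
    have hφax : ¬ IsUnit ((X.presheaf.germ W' x hxW') (φ a)) := by
      rw [germ_appLE f hW'W x hxW' a]
      intro h1
      exact hfxa ((isUnit_map_iff (f.stalkMap x).hom _).mp h1)
    exact hφax (e1 ▸ hxb.mul hφs_unit)
  have h2 : z ⤳ x := by
    rw [specializes_iff_forall_open]
    intro O hO hxO
    obtain ⟨b, hb1, hb2⟩ := hW'.exists_basicOpen_le (V := ⟨O, hO⟩) ⟨x, hxO⟩ hxW'
    exact hb1 (key b hb2)
  exact (hxz.antisymm h2).eq

open Groth.Agent.Lib.Helper13.DvrProper Groth.Agent.Lib.Helper13.Dominant in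
/-- A generic point of an irreducible component lying in the closure of the image of an affine
scheme (mapping into an affine open) lies in the image. -/
theorem mem_range_of_mem_closure_range {Y : Scheme.{u}} {R : CommRingCat.{u}} (h : Spec R ⟶ Y)
    {W : Y.Opens} (hW : IsAffineOpen W) (hhW : ∀ p, h.base p ∈ W) {ξ : Y}
    (hξ : closure {ξ} ∈ irreducibleComponents (Y : Type u)) (hξW : ξ ∈ W)
    (hcl : ξ ∈ closure (Set.range h.base)) : ξ ∈ Set.range h.base := by
  obtain ⟨φ, hφ⟩ := exists_factor hW R h hhW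
  obtain ⟨p, hp⟩ : ∃ p : PrimeSpectrum Γ(Y, W), hW.fromSpec.base p = ξ := by
    have h1 : ξ ∈ Set.range hW.fromSpec.base := by rw [hW.range_fromSpec]; exact hξW
    exact h1
  have hpcl : p ∈ closure (Set.range (PrimeSpectrum.comap φ.hom)) := by
    refine mem_closure_iff.mpr ?_
    intro O hO hpO
    have hopen : IsOpen (hW.fromSpec.base '' O) := hW.fromSpec.isOpenEmbedding.isOpenMap O hO
    obtain ⟨_, ⟨o', ho', rfl⟩, ⟨r, hr⟩⟩ := mem_closure_iff.mp hcl _ hopen ⟨p, hpO, hp⟩
    refine ⟨o', ho', r, ?_⟩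
    apply hW.fromSpec.isOpenEmbedding.injective
    have h2 : h.base r = hW.fromSpec.base ((Spec.map φ).base r) := by
      rw [← Scheme.Hom.comp_apply, ← hφ]
    exact h2.symm.trans hr
  have hker : RingHom.ker φ.hom ≤ p.asIdeal := by
    rw [PrimeSpectrum.closure_range_comap] at hpcl
    exact hpcl
  have hmin : ∀ q : Ideal Γ(Y, W), q.IsPrime → q ≤ p.asIdeal → p.asIdeal ≤ q := by
    intro q hq hqp
    have h1 : (⟨q, hq⟩ : PrimeSpectrum Γ(Y, W)) ⤳ p :=
      (PrimeSpectrum.le_iff_specializes _ _).mp hqp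
    have h2 : hW.fromSpec.base ⟨q, hq⟩ ⤳ ξ := hp ▸ h1.map hW.fromSpec.continuous
    have h3 := eq_of_specializes_of_mem_irreducibleComponents hξ h2
    have h4 : (⟨q, hq⟩ : PrimeSpectrum Γ(Y, W)) = p :=
      hW.fromSpec.isOpenEmbedding.injective (h3.trans hp.symm)
    rw [← h4]
  have hmin' : p.asIdeal ∈ ((⊥ : Ideal R).comap φ.hom).minimalPrimes :=
    ⟨⟨p.2, hker⟩, fun q hq hqp => hmin q hq.1 hqp⟩
  obtain ⟨p', hp'prime, -, hp'⟩ := Ideal.exists_comap_eq_of_mem_minimalPrimes φ.hom p.asIdeal hmin'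
  refine ⟨⟨p', hp'prime⟩, ?_⟩
  rw [hφ, Scheme.Hom.comp_apply, ← hp]
  congr 1
  exact PrimeSpectrum.ext hp'

/-- a compact open intersected with a closed set is the image of an affine scheme -/
theorem exists_range_eq_inter {X : Scheme.{u}} (O : X.Opens) (hO : IsCompact (O : Set X))
    (C : Set X) (hC : IsClosed C) :
    ∃ (R : CommRingCat.{u}) (g : Spec R ⟶ X), Set.range g.base = (O : Set X) ∩ C := by
  obtain ⟨R, g, hg⟩ := isCompact_iff_exists.mp hO
  have hcl : IsClosed ((g.base ⁻¹' C : Set (Spec R)) : Set (PrimeSpectrum R)) :=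
    hC.preimage g.continuous
  obtain ⟨I, hI⟩ := (PrimeSpectrum.isClosed_iff_zeroLocus_ideal _).mp hcl
  refine ⟨CommRingCat.of (R ⧸ I), Spec.map (CommRingCat.ofHom (Ideal.Quotient.mk I)) ≫ g, ?_⟩
  have h1 : Set.range (Spec.map (CommRingCat.ofHom (Ideal.Quotient.mk I))).base =
      g.base ⁻¹' C := by
    rw [hI]
    have h2 := range_comap_of_surjective (R ⧸ I) (Ideal.Quotient.mk I)
      Ideal.Quotient.mk_surjective
    rw [Ideal.mk_ker] at h2
    exact h2
  have h3 : Set.range (Spec.map (CommRingCat.ofHom (Ideal.Quotient.mk I)) ≫ g).base =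
      g.base '' (Set.range (Spec.map (CommRingCat.ofHom (Ideal.Quotient.mk I))).base) := by
    rw [← Set.range_comp]; rfl
  rw [h3, h1, Set.image_preimage_eq_range_inter, hg]

/-- a dense open of a space with finitely many irreducible components contains the generic points
of the components -/
theorem mem_of_dense_of_mem_irreducibleComponents {X : Scheme.{u}}
    (hfin : (irreducibleComponents (X : Type u)).Finite) (U : X.Opens) (hU : Dense (U : Set X))
    {x : X} (hx : closure {x} ∈ irreducibleComponents (X : Type u)) : x ∈ U := by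
  obtain ⟨z, hzM, hzU⟩ := hU.inter_open_nonempty _ (BiratFinite.M X hfin x).2
    ⟨x, BiratFinite.mem_M hfin x hx⟩
  have e1 : irreducibleComponent z = closure {x} := by
    by_contra hne
    exact hzM ⟨_, ⟨irreducibleComponent_mem_irreducibleComponents z, hne⟩,
      mem_irreducibleComponent⟩
  have hz : z ∈ closure {x} := by rw [← e1]; exact mem_irreducibleComponent
  exact (specializes_iff_mem_closure.mpr hz).mem_open U.2 hzU

/-- an open containing the generic points of all irreducible components is dense -/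
theorem dense_of_forall_mem {Y : Scheme.{u}} (V : Y.Opens)
    (h : ∀ y : Y, closure {y} ∈ irreducibleComponents (Y : Type u) → y ∈ V) :
    Dense (V : Set Y) := by
  intro y
  obtain ⟨y0, hy0⟩ := QuasiSober.sober (isIrreducible_irreducibleComponent (x := y))
    isClosed_irreducibleComponent
  have hyG : closure {y0} ∈ irreducibleComponents (Y : Type u) := by
    rw [hy0.def]; exact irreducibleComponent_mem_irreducibleComponents y
  have hyy0 : y ∈ closure {y0} := by rw [hy0.def]; exact mem_irreducibleComponent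
  refine closure_mono ?_ hyy0
  rw [Set.singleton_subset_iff]
  exact h y0 hyG

/-- restricting an isomorphism `U ≅ V` over `V' ≤ V` when the whole preimage of `V'` is in `U` -/
theorem isIso_morphismRestrict_of_le {X Y : Scheme.{u}} (f : X ⟶ Y) (U : X.Opens) (V : Y.Opens)
    (hUV : U ≤ f ⁻¹ᵁ V) (hiso : IsIso (f.resLE V U hUV)) (V' : Y.Opens) (hV' : V' ≤ V)
    (hpre : f ⁻¹ᵁ V' ≤ U) : IsIso (f ∣_ V') := by
  have h1 : IsOpenImmersion (U.ι ≫ f) := by
    rw [← Scheme.Hom.resLE_comp_ι f hUV]; infer_instance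
  have h2 : (f ∣_ V') ≫ V'.ι = X.homOfLE hpre ≫ U.ι ≫ f := by
    rw [morphismRestrict_ι, X.homOfLE_ι_assoc]
  have h3 : IsOpenImmersion ((f ∣_ V') ≫ V'.ι) := by rw [h2]; infer_instance
  have h4 : IsOpenImmersion (f ∣_ V') := IsOpenImmersion.of_comp _ V'.ι
  rw [isIso_iff_isOpenImmersion_and_surjective]
  refine ⟨h4, ⟨?_⟩⟩
  intro v
  obtain ⟨u, hu⟩ := (ConcreteCategory.bijective_of_isIso (f.resLE V U hUV).base).2 ⟨v.1, hV' v.2⟩
  have hu' : f.base u.1 = v.1 := by
    have := congrArg (fun w : V.toScheme => (w.1 : Y)) hu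
    rw [← this]
    have h5 := congrArg (fun g : U.toScheme ⟶ Y => g.base u) (Scheme.Hom.resLE_comp_ι f hUV)
    exact h5.symm
  have huV' : u.1 ∈ f ⁻¹ᵁ V' := by
    change f.base u.1 ∈ V'
    rw [hu']; exact v.2
  refine ⟨⟨u.1, huV'⟩, ?_⟩
  apply V'.ι.isOpenEmbedding.injective
  have h6 := congrArg (fun g : (f ⁻¹ᵁ V').toScheme ⟶ Y => g.base ⟨u.1, huV'⟩)
    (morphismRestrict_ι f V')
  exact h6.trans hu'

open Groth.Agent.Lib.Helper13.Dominant in
/-- local version: around a generic point `ξ` of `Y` there is an open whose preimage lies in `U` -/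
theorem exists_nhd_preimage_le {X Y : Scheme.{u}} (f : X ⟶ Y)
    (hXfin : (irreducibleComponents (X : Type u)).Finite)
    (hYfin : (irreducibleComponents (Y : Type u)).Finite)
    (hiso : ∀ x : X, closure {x} ∈ irreducibleComponents (X : Type u) → IsIso (f.stalkMap x))
    (hf₁ : QuasiCompact f ∨ IsSeparated f)
    (U : X.Opens) (V : Y.Opens) (hUV : U ≤ f ⁻¹ᵁ V) (hU : Dense (U : Set X))
    (hV : Dense (V : Set Y)) (hiso' : IsIso (f.resLE V U hUV))
    (ξ : Y) (hξ : closure {ξ} ∈ irreducibleComponents (Y : Type u)) :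
    ∃ Vξ : Y.Opens, ξ ∈ Vξ ∧ Vξ ≤ V ∧ f ⁻¹ᵁ Vξ ≤ U := by
  have hξV : ξ ∈ V := mem_of_dense_of_mem_irreducibleComponents hYfin V hV hξ
  rcases hf₁ with hqc | hsep
  · -- quasi-compact case
    obtain ⟨W, hW, hξW, hWV⟩ := exists_isAffineOpen_mem_and_subset (x := ξ) (U := V) hξV
    have hcpt : IsCompact (f ⁻¹ᵁ W : Set X) :=
      quasiCompact_iff_forall_isAffineOpen.mp hqc W hW
    obtain ⟨R, g, hg⟩ := exists_range_eq_inter (f ⁻¹ᵁ W) hcpt ((U : Set X)ᶜ)
      (isClosed_compl_iff.mpr U.2)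
    have hgK : ∀ p, g.base p ∈ (f ⁻¹ᵁ W : Set X) ∩ (U : Set X)ᶜ := fun p => by
      rw [← hg]; exact Set.mem_range_self p
    have hnot : ξ ∉ closure (Set.range (g ≫ f).base) := by
      intro hcl
      obtain ⟨p, hp⟩ := mem_range_of_mem_closure_range (g ≫ f) hW (fun p => (hgK p).1) hξ hξW hcl
      -- the point z = g p
      obtain ⟨x', hx'⟩ := QuasiSober.sober (isIrreducible_irreducibleComponent (x := g.base p))
        isClosed_irreducibleComponent
      have hx'G : closure {x'} ∈ irreducibleComponents (X : Type u) := by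
        rw [hx'.def]; exact irreducibleComponent_mem_irreducibleComponents _
      have hx'z : x' ⤳ g.base p := by
        rw [specializes_iff_mem_closure, hx'.def]; exact mem_irreducibleComponent
      have hfz : f.base (g.base p) = ξ := hp
      have hfx' : f.base x' = ξ :=
        eq_of_specializes_of_mem_irreducibleComponents hξ (hfz ▸ hx'z.map f.continuous)
      haveI := hiso x' hx'G
      have hx'eq : x' = g.base p :=
        eq_of_specializes_of_stalkMap_surjective f hx'z (hfx'.trans hfz.symm)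
          (ConcreteCategory.bijective_of_isIso (f.stalkMap x')).2
      have hx'U : x' ∈ U := mem_of_dense_of_mem_irreducibleComponents hXfin U hU hx'G
      exact (hgK p).2 (hx'eq ▸ hx'U)
    refine ⟨W ⊓ ⟨(closure (Set.range (g ≫ f).base))ᶜ, isClosed_closure.isOpen_compl⟩,
      ⟨hξW, hnot⟩, inf_le_left.trans hWV, ?_⟩
    intro z hz
    by_contra hzU
    have hzK : z ∈ Set.range g.base := by rw [hg]; exact ⟨hz.1, hzU⟩
    obtain ⟨p, rfl⟩ := hzK
    exact hz.2 (subset_closure ⟨p, rfl⟩)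
  · -- separated case
    refine ⟨V, hξV, le_rfl, ?_⟩
    let s : V.toScheme ⟶ (f ⁻¹ᵁ V).toScheme := inv (f.resLE V U hUV) ≫ X.homOfLE hUV
    have hs : s ≫ f ∣_ V = 𝟙 _ := by
      change (inv (f.resLE V U hUV) ≫ X.homOfLE hUV) ≫ f ∣_ V = 𝟙 _
      rw [Category.assoc]
      exact IsIso.inv_hom_id (f.resLE V U hUV)
    haveI : IsClosedImmersion (s ≫ f ∣_ V) := by rw [hs]; infer_instance
    haveI : IsClosedImmersion s := IsClosedImmersion.of_comp s (f ∣_ V)
    have hcl : IsClosed (Set.range s.base) := s.isClosedEmbedding.isClosed_range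
    have hrange : ∀ w : (f ⁻¹ᵁ V).toScheme, w.1 ∈ U → w ∈ Set.range s.base := by
      intro w hw
      refine ⟨(f.resLE V U hUV).base ⟨w.1, hw⟩, ?_⟩
      have h1 : f.resLE V U hUV ≫ s = X.homOfLE hUV := by
        change f.resLE V U hUV ≫ inv (f.resLE V U hUV) ≫ X.homOfLE hUV = _
        rw [IsIso.hom_inv_id_assoc]
      have h2 := congrArg (fun k : U.toScheme ⟶ (f ⁻¹ᵁ V).toScheme => k.base ⟨w.1, hw⟩) h1
      refine h2.trans ?_
      exact Subtype.ext (by rw [Scheme.homOfLE_apply])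
    intro z hz
    by_contra hzU
    have hopen : IsOpen ((f ⁻¹ᵁ V).ι.base '' (Set.range s.base)ᶜ) :=
      (f ⁻¹ᵁ V).ι.isOpenEmbedding.isOpenMap _ hcl.isOpen_compl
    have hne : ((f ⁻¹ᵁ V).ι.base '' (Set.range s.base)ᶜ).Nonempty := by
      refine ⟨z, ⟨z, hz⟩, ?_, rfl⟩
      rintro ⟨v, hv⟩
      apply hzU
      have h3 : (s.base v).1 ∈ U := by
        change ((X.homOfLE hUV).base ((inv (f.resLE V U hUV)).base v)).1 ∈ U
        rw [Scheme.homOfLE_apply]
        exact ((inv (f.resLE V U hUV)).base v).2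
      rw [hv] at h3
      exact h3
    obtain ⟨_, ⟨w, hw, rfl⟩, hwU⟩ := hU.inter_open_nonempty _ hopen hne
    exact hw (hrange w hwU)

/-- S9679 -/
theorem exists_dense_open_isIso_restrict {X Y : Scheme.{u}} (f : X ⟶ Y)
    (hXfin : (irreducibleComponents (X : Type u)).Finite)
    (hYfin : (irreducibleComponents (Y : Type u)).Finite)
    (hiso : ∀ x : X, closure {x} ∈ irreducibleComponents (X : Type u) → IsIso (f.stalkMap x))
    (hf₁ : QuasiCompact f ∨ IsSeparated f)
    (U : X.Opens) (V : Y.Opens) (hUV : U ≤ f ⁻¹ᵁ V) (hU : Dense (U : Set X))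
    (hV : Dense (V : Set Y)) (hiso' : IsIso (f.resLE V U hUV)) :
    ∃ V' : Y.Opens, Dense (V' : Set Y) ∧ IsIso (f ∣_ V') := by
  classical
  have key := exists_nhd_preimage_le f hXfin hYfin hiso hf₁ U V hUV hU hV hiso'
  choose! Vf hVf1 hVf2 hVf3 using key
  let GY := {y : Y // closure {y} ∈ irreducibleComponents (Y : Type u)}
  obtain ⟨V', hV'⟩ : ∃ V' : Y.Opens, V' = ⨆ ξ : GY, Vf ξ.1 := ⟨_, rfl⟩
  have hmem : ∀ y : Y, y ∈ V' ↔ ∃ ξ : GY, y ∈ Vf ξ.1 := fun y => by rw [hV', Opens.mem_iSup]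
  refine ⟨V', ?_, ?_⟩
  · apply dense_of_forall_mem
    intro y hy
    exact (hmem y).mpr ⟨⟨y, hy⟩, hVf1 y hy⟩
  · refine isIso_morphismRestrict_of_le f U V hUV hiso' V' ?_ ?_
    · intro y hy
      obtain ⟨ξ, hξ⟩ := (hmem y).mp hy
      exact hVf2 ξ.1 ξ.2 hξ
    · intro z hz
      obtain ⟨ξ, hξ⟩ := (hmem _).mp hz
      exact hVf3 ξ.1 ξ.2 hξ

end Groth.Agent.Lib.Helper13.BiratRestrict
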