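import Mathlib

/-!
# Maximal ideals of the integral closure of a localization

`R` a ring, `p` a prime, `A = R_p`, `K` a field over `A`.  With `B` the integral closure of `R`
in `K` and `C` that of `A`, the maximal ideals of `C` correspond to the primes of `B` over `p`,
with the same residue fields.
-/

set_option autoImplicit false
set_option linter.style.haveILetI false
universe u
noncomputable section

namespace Groth.Agent.Lib.Helper13.BranchAlg

variable {R A K : Type*} [CommRing R] [CommRing A] [Field K] [Algebra R K] [Algebra R A]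
  [Algebra A K] [IsScalarTower R A K]

/-- the inclusion of integral closures -/
def incl : integralClosure R K →+* integralClosure A K where
  toFun b := ⟨b.1, b.2.tower_top⟩
  map_one' := rfl
  map_mul' _ _ := rfl
  map_zero' := rfl
  map_add' _ _ := rfl

@[simp] theorem incl_coe (b : integralClosure R K) : ((incl (A := A) b : integralClosure A K) : K) = b :=
  rfl

theorem incl_algebraMap (r : R) :
    incl (A := A) (algebraMap R (integralClosure R K) r) =
      algebraMap A (integralClosure A K) (algebraMap R A r) := by
  apply Subtype.ext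
  change algebraMap R K r = algebraMap A K (algebraMap R A r)
  rw [← IsScalarTower.algebraMap_apply]

variable (p : Ideal R) [p.IsPrime] [IsLocalization.AtPrime A p]

/-- every element of `C` has a multiple in `B` -/
theorem exists_smul_mem (c : integralClosure A K) :
    ∃ s : R, s ∉ p ∧ ∃ b : integralClosure R K, (b : K) = algebraMap R K s * c := by
  obtain ⟨s, hs⟩ := IsIntegral.exists_multiple_integral_of_isLocalization p.primeCompl (c : K) c.2
  refine ⟨s.1, s.2, ⟨⟨_, hs⟩, ?_⟩⟩
  change s • (c : K) = _
  rw [Submonoid.smul_def, Algebra.smul_def]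

include p in
/-- the contraction of a maximal ideal of `C` to `B` lies over `p` -/
theorem comap_comap_incl (M : Ideal (integralClosure A K)) [M.IsMaximal] :
    ((M.comap (incl (R := R))).comap (algebraMap R (integralClosure R K))) = p := by
  haveI : IsLocalRing A := IsLocalization.AtPrime.isLocalRing A p
  have h1 : (M.comap (algebraMap A (integralClosure A K))).IsMaximal :=
    Ideal.isMaximal_comap_of_isIntegral_of_isMaximal M
  have h2 : M.comap (algebraMap A (integralClosure A K)) = IsLocalRing.maximalIdeal A :=
    IsLocalRing.eq_maximalIdeal h1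
  rw [← IsLocalization.AtPrime.under_maximalIdeal A p, ← h2]
  ext r
  simp only [Ideal.mem_comap]
  rw [incl_algebraMap]

include p in
/-- primes of `C` are determined by their contraction to `B` -/
theorem eq_of_comap_incl_eq (Q₁ Q₂ : Ideal (integralClosure A K)) [Q₁.IsPrime] [Q₂.IsPrime]
    (h : Q₁.comap (incl (R := R)) = Q₂.comap (incl (R := R))) : Q₁ = Q₂ := by
  have key : ∀ (Q Q' : Ideal (integralClosure A K)) [Q.IsPrime] [Q'.IsPrime],
      Q.comap (incl (R := R)) = Q'.comap (incl (R := R)) → Q ≤ Q' := by
    intro Q Q' _ _ hQ c hc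
    obtain ⟨s, hs, b, hb⟩ := exists_smul_mem p c
    have hsunit : IsUnit (algebraMap A (integralClosure A K) (algebraMap R A s)) :=
      (IsLocalization.map_units A (⟨s, hs⟩ : p.primeCompl)).map _
    have hbc : incl (A := A) b = algebraMap A (integralClosure A K) (algebraMap R A s) * c := by
      apply Subtype.ext
      change (b : K) = algebraMap A K (algebraMap R A s) * c
      rw [hb, ← IsScalarTower.algebraMap_apply]
    have h1 : b ∈ Q.comap (incl (R := R)) := by
      rw [Ideal.mem_comap, hbc]
      exact Q.mul_mem_left _ hc
    rw [hQ, Ideal.mem_comap, hbc] at h1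
    rcases (‹Q'.IsPrime›).mem_or_mem h1 with h2 | h2
    · exact absurd (Q'.eq_top_of_isUnit_mem h2 hsunit) (‹Q'.IsPrime›).ne_top
    · exact h2
  exact le_antisymm (key Q₁ Q₂ h) (key Q₂ Q₁ h.symm)

section residue

variable (P : Ideal (integralClosure R K)) [P.IsPrime]
  (hP : P.comap (algebraMap R (integralClosure R K)) = p)
  (D : Type*) [CommRing D] [Algebra (integralClosure R K) D] [IsLocalization.AtPrime D P]
  (ι : D →+* K) (hι : ∀ b : integralClosure R K, ι (algebraMap (integralClosure R K) D b) = b)

include hP hι in
/-- `C` is contained in the local ring of `B` at a prime over `p` -/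
theorem exists_eq (c : integralClosure A K) : ∃ d : D, ι d = c := by
  obtain ⟨s, hs, b, hb⟩ := exists_smul_mem p c
  have hsP : algebraMap R (integralClosure R K) s ∉ P := by
    intro h
    apply hs
    rw [← hP]
    exact h
  have hunit : IsUnit (algebraMap (integralClosure R K) D (algebraMap R (integralClosure R K) s)) :=
    IsLocalization.map_units D (⟨_, hsP⟩ : P.primeCompl)
  obtain ⟨u, hu⟩ := hunit
  refine ⟨algebraMap (integralClosure R K) D b * ((u⁻¹ : Dˣ) : D), ?_⟩
  have h1 : ι (u : D) * ι ((u⁻¹ : Dˣ) : D) = 1 := by
    rw [← map_mul, Units.mul_inv, map_one]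
  have h2 : ι (u : D) = algebraMap R K s := by
    rw [hu, hι]
    rfl
  rw [map_mul, hι, hb, ← h2]
  calc ι ↑u * ↑c * ι ↑u⁻¹ = (ι ↑u * ι ↑u⁻¹) * ↑c := by ring
    _ = c := by rw [h1, one_mul]

variable (hinj : Function.Injective ι)

/-- the map `C → D` -/
def lam : integralClosure A K →+* D where
  toFun c := Classical.choose (exists_eq p P hP D ι hι c)
  map_one' := hinj (by rw [Classical.choose_spec (exists_eq p P hP D ι hι 1), map_one]; rfl)
  map_mul' a b := hinj (by
    rw [Classical.choose_spec (exists_eq p P hP D ι hι (a * b)), map_mul,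
      Classical.choose_spec (exists_eq p P hP D ι hι a),
      Classical.choose_spec (exists_eq p P hP D ι hι b)]; rfl)
  map_zero' := hinj (by rw [Classical.choose_spec (exists_eq p P hP D ι hι 0), map_zero]; rfl)
  map_add' a b := hinj (by
    rw [Classical.choose_spec (exists_eq p P hP D ι hι (a + b)), map_add,
      Classical.choose_spec (exists_eq p P hP D ι hι a),
      Classical.choose_spec (exists_eq p P hP D ι hι b)]; rfl)

theorem ι_lam (c : integralClosure A K) : ι (lam p P hP D ι hι hinj c) = c :=
  Classical.choose_spec (exists_eq p P hP D ι hι c)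

theorem lam_incl (b : integralClosure R K) :
    lam (A := A) p P hP D ι hι hinj (incl (A := A) b) = algebraMap (integralClosure R K) D b :=
  hinj (by rw [ι_lam, hι]; rfl)

theorem lam_algebraMap (φ : A →+* D) (hφ : ∀ a : A, ι (φ a) = algebraMap A K a) (a : A) :
    lam (A := A) p P hP D ι hι hinj (algebraMap A (integralClosure A K) a) = φ a :=
  hinj (by rw [ι_lam, hφ]; rfl)

variable [IsLocalRing D]

/-- the map from `C` to the residue field of `D` -/
def psi : integralClosure A K →+* IsLocalRing.ResidueField D :=
  (IsLocalRing.residue D).comp (lam p P hP D ι hι hinj)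

theorem psi_algebraMap (φ : A →+* D) (hφ : ∀ a : A, ι (φ a) = algebraMap A K a) (a : A) :
    psi (A := A) p P hP D ι hι hinj (algebraMap A (integralClosure A K) a) =
      IsLocalRing.residue D (φ a) := by
  change IsLocalRing.residue D (lam (A := A) p P hP D ι hι hinj _) = _
  rw [lam_algebraMap p P hP D ι hι hinj φ hφ]

theorem psi_incl (b : integralClosure R K) :
    psi (A := A) p P hP D ι hι hinj (incl (A := A) b) =
      IsLocalRing.residue D (algebraMap (integralClosure R K) D b) := by
  change IsLocalRing.residue D (lam (A := A) p P hP D ι hι hinj (incl (A := A) b)) = _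
  rw [lam_incl]

theorem psi_incl_eq_zero_iff (b : integralClosure R K) :
    psi (A := A) p P hP D ι hι hinj (incl (A := A) b) = 0 ↔ b ∈ P := by
  rw [psi_incl, IsLocalRing.residue_eq_zero_iff, IsLocalization.AtPrime.to_map_mem_maximal_iff D P]

theorem comap_ker_psi :
    (RingHom.ker (psi (A := A) p P hP D ι hι hinj)).comap (incl (A := A)) = P := by
  apply Ideal.ext
  intro b
  rw [Ideal.mem_comap, RingHom.mem_ker, psi_incl_eq_zero_iff]

theorem ker_psi_isMaximal : (RingHom.ker (psi (A := A) p P hP D ι hι hinj)).IsMaximal := by
  haveI : IsLocalRing A := IsLocalization.AtPrime.isLocalRing A p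
  haveI hprime : (RingHom.ker (psi (A := A) p P hP D ι hι hinj)).IsPrime := RingHom.ker_isPrime _
  have hcomap : (RingHom.ker (psi (A := A) p P hP D ι hι hinj)).comap
      (algebraMap A (integralClosure A K)) = IsLocalRing.maximalIdeal A := by
    have hle : IsLocalRing.maximalIdeal A ≤ (RingHom.ker (psi (A := A) p P hP D ι hι hinj)).comap
        (algebraMap A (integralClosure A K)) := by
      intro a ha
      rw [← IsLocalization.AtPrime.map_eq_maximalIdeal p A] at ha
      -- `a` is in the ideal generated by `p`
      refine Submodule.span_induction ?_ ?_ ?_ ?_ ha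
      · rintro _ ⟨r, hr, rfl⟩
        rw [Ideal.mem_comap, ← incl_algebraMap, RingHom.mem_ker, psi_incl_eq_zero_iff]
        change r ∈ P.comap (algebraMap R (integralClosure R K))
        rw [hP]
        exact hr
      · exact Ideal.zero_mem _
      · intro x y _ _ hx hy
        exact Ideal.add_mem _ hx hy
      · intro a x _ hx
        exact Ideal.mul_mem_left _ a hx
    have hne : (RingHom.ker (psi (A := A) p P hP D ι hι hinj)).comap
        (algebraMap A (integralClosure A K)) ≠ ⊤ := by
      haveI := hprime.comap (algebraMap A (integralClosure A K))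
      exact Ideal.IsPrime.ne_top inferInstance
    exact ((IsLocalRing.maximalIdeal.isMaximal A).eq_of_le hne hle).symm
  apply Ideal.isMaximal_of_isIntegral_of_isMaximal_comap (R := A)
  rw [hcomap]
  exact IsLocalRing.maximalIdeal.isMaximal A

theorem psi_surjective : Function.Surjective (psi (A := A) p P hP D ι hι hinj) := by
  haveI hmax := ker_psi_isMaximal (A := A) p P hP D ι hι hinj
  intro z
  obtain ⟨d, rfl⟩ := IsLocalRing.residue_surjective z
  obtain ⟨b, t, rfl⟩ := IsLocalization.exists_mk'_eq P.primeCompl d
  -- `ψ (incl t)` is nonzero, hence invertible modulo the maximal ideal `ker ψ`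
  have ht : psi (A := A) p P hP D ι hι hinj (incl (A := A) t.1) ≠ 0 := by
    rw [Ne, psi_incl_eq_zero_iff]
    exact t.2
  have ht' : incl (A := A) t.1 ∉ RingHom.ker (psi (A := A) p P hP D ι hι hinj) := ht
  obtain ⟨c, m, hm, hc⟩ := Ideal.IsMaximal.exists_inv hmax ht'
  have h1 : psi (A := A) p P hP D ι hι hinj c * psi (A := A) p P hP D ι hι hinj (incl (A := A) t.1)
      = 1 := by
    have := congrArg (psi (A := A) p P hP D ι hι hinj) hc
    rw [map_add, map_mul, (RingHom.mem_ker).mp hm, add_zero, map_one] at this
    exact this
  refine ⟨incl (A := A) b * c, ?_⟩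
  have h2 : IsLocalRing.residue D (IsLocalization.mk' D b t) *
      psi (A := A) p P hP D ι hι hinj (incl (A := A) t.1) =
      psi (A := A) p P hP D ι hι hinj (incl (A := A) b) := by
    rw [psi_incl, psi_incl, ← map_mul, IsLocalization.mk'_spec]
  rw [map_mul, ← h2]
  calc IsLocalRing.residue D (IsLocalization.mk' D b t) *
        psi (A := A) p P hP D ι hι hinj (incl (A := A) t.1) * psi (A := A) p P hP D ι hι hinj c
      = IsLocalRing.residue D (IsLocalization.mk' D b t) *
        (psi (A := A) p P hP D ι hι hinj c * psi (A := A) p P hP D ι hι hinj (incl (A := A) t.1)) := by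
        ring
    _ = _ := by rw [h1, mul_one]

end residue

end Groth.Agent.Lib.Helper13.BranchAlg
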