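import Mathlib
import Groth.Prelude.Def_Brnch

/-!
# Counting the embeddings `Brnch.Emb` through a presentation of the residue field
-/

set_option autoImplicit false
set_option linter.style.haveILetI false
universe u
noncomputable section

namespace Groth.Agent.Lib.Helper13.BranchEmb

variable (A : Type u) [CommRing A] [IsLocalRing A]

/-- the canonical map `A → A'` -/
def toN : A →+* CAlg2.normRed A :=
  (algebraMap (CAlg2.red A) (CAlg2.normRed A)).comp (Ideal.Quotient.mk (nilradical A))

theorem isIntegral_toN : (toN A).IsIntegral := by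
  -- `A'` is integral over `A_red`, which is a quotient of `A`
  have h1 : (algebraMap (CAlg2.red A) (CAlg2.normRed A)).IsIntegral :=
    algebraMap_isIntegral_iff.mpr inferInstance
  have h2 : (Ideal.Quotient.mk (nilradical A)).IsIntegral :=
    RingHom.isIntegral_of_surjective _ Ideal.Quotient.mk_surjective
  exact RingHom.IsIntegral.trans _ _ h2 h1

variable {A} (κ' : Type u) [Field κ'] (ρ : IsLocalRing.ResidueField A →+* κ')
  (χ : CAlg2.normRed A →+* κ') (hχ : Function.Surjective χ)
  (hcomp : ∀ a : A, χ (toN A a) = ρ (IsLocalRing.residue A a))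

include hχ hcomp in
theorem isAlgebraic :
    letI := ρ.toAlgebra
    Algebra.IsAlgebraic (IsLocalRing.ResidueField A) κ' := by
  letI := ρ.toAlgebra
  refine ⟨fun z => ?_⟩
  obtain ⟨w, rfl⟩ := hχ z
  obtain ⟨P, hPm, hP⟩ := isIntegral_toN A w
  apply IsIntegral.isAlgebraic
  refine ⟨P.map (IsLocalRing.residue A), hPm.map _, ?_⟩
  rw [Polynomial.eval₂_map]
  have : (algebraMap (IsLocalRing.ResidueField A) κ').comp (IsLocalRing.residue A) =
      χ.comp (toN A) := RingHom.ext (fun a => (hcomp a).symm)
  rw [this, ← Polynomial.hom_eval₂, hP, map_zero]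

include hχ hcomp in
theorem card_emb (m' : MaximalSpectrum (CAlg2.normRed A)) (hm' : m'.asIdeal = RingHom.ker χ) :
    ENat.card (Brnch.Emb A m') =
      (letI := ρ.toAlgebra
       ENat.card (Field.Emb (IsLocalRing.ResidueField A) κ')) := by
  letI := ρ.toAlgebra
  haveI := isAlgebraic κ' ρ χ hχ hcomp
  let q : (CAlg2.normRed A ⧸ m'.asIdeal) ≃+* κ' :=
    (Ideal.quotEquivOfEq hm').trans (RingHom.quotientKerEquivOfSurjective hχ)
  have hq : ∀ z : CAlg2.normRed A, q (Ideal.Quotient.mk _ z) = χ z := by
    intro z
    change RingHom.quotientKerEquivOfSurjective hχ (Ideal.quotEquivOfEq hm' (Ideal.Quotient.mk _ z))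
      = χ z
    rw [Ideal.quotEquivOfEq_mk, RingHom.quotientKerEquivOfSurjective_apply_mk]
  have hres : ∀ a : A, Brnch.toResidue A m' a = Ideal.Quotient.mk _ (toN A a) := fun a => rfl
  have hclo : ∀ a : A, Brnch.toClosure A a =
      algebraMap (IsLocalRing.ResidueField A) (AlgebraicClosure (IsLocalRing.ResidueField A))
        (IsLocalRing.residue A a) := fun a => rfl
  have hρ : ∀ k : IsLocalRing.ResidueField A, algebraMap (IsLocalRing.ResidueField A) κ' k = ρ k :=
    fun k => rfl
  let E : Brnch.Emb A m' ≃
      (κ' →ₐ[IsLocalRing.ResidueField A] AlgebraicClosure (IsLocalRing.ResidueField A)) :=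
    { toFun := fun σ =>
        { toRingHom := σ.1.comp q.symm.toRingHom
          commutes' := fun k => by
            obtain ⟨a, rfl⟩ := IsLocalRing.residue_surjective k
            change σ.1 (q.symm (algebraMap (IsLocalRing.ResidueField A) κ' (IsLocalRing.residue A a)))
              = _
            rw [hρ, ← hcomp, ← hq, q.symm_apply_apply, ← hres, ← hclo]
            exact RingHom.congr_fun σ.2 a }
      invFun := fun τ => ⟨τ.toRingHom.comp q.toRingHom, by
        ext a
        change τ (q (Brnch.toResidue A m' a)) = Brnch.toClosure A a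
        rw [hres, hq, hcomp, ← hρ, τ.commutes, hclo]⟩
      left_inv := fun σ => by
        apply Subtype.ext
        ext z
        change σ.1 (q.symm (q z)) = σ.1 z
        rw [q.symm_apply_apply]
      right_inv := fun τ => by
        ext z
        change τ (q (q.symm z)) = τ z
        rw [q.apply_symm_apply] }
  exact ENat.card_congr (E.trans
    (Field.embEquivOfIsAlgClosed (IsLocalRing.ResidueField A) κ'
      (AlgebraicClosure (IsLocalRing.ResidueField A))).symm)

end Groth.Agent.Lib.Helper13.BranchEmb
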