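import Groth.Agent.Lib.Helper13.NormDimOne
import Groth.Agent.Lib.Helper13.BranchAlg

/-!
# Points of the normalization over a point and maximal ideals of the normalized local ring
-/

set_option autoImplicit false
set_option linter.style.haveILetI false
universe u
noncomputable section

open CategoryTheory AlgebraicGeometry

namespace Groth.Agent.Lib.Helper13.BranchGeom

open Groth.Agent.Lib.Helper13.NormDimOne Groth.Agent.Lib.Helper13.BranchAlg

section
variable (X : Scheme.{u}) [IsIntegral X]
  [QuasiCompact (X.fromSpecStalk (genericPoint X))] [QuasiSeparated (X.fromSpecStalk (genericPoint X))]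

/-- the normalization -/
abbrev Xn : Scheme.{u} := Scheme.Hom.normalization (X.fromSpecStalk (genericPoint X))
/-- the normalization morphism -/
abbrev nu : Xn X ⟶ X := Scheme.Hom.fromNormalization (X.fromSpecStalk (genericPoint X))


variable {U : X.Opens} (hU : IsAffineOpen U) [Nonempty U]
  (e : Γ(Xn X, nu X ⁻¹ᵁ U) ≃+* integralClosure Γ(X, U) X.functionField)
  (he : ∀ a : Γ(X, U), e ((nu X).app U a) =
    algebraMap Γ(X, U) (integralClosure Γ(X, U) X.functionField) a)
  (x' : Xn X) (hx'V : x' ∈ nu X ⁻¹ᵁ U)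

/-- the map from sections of the normalization to the function field -/
def toK : Γ(Xn X, nu X ⁻¹ᵁ U) →+* X.functionField :=
  (integralClosure Γ(X, U) X.functionField).val.toRingHom.comp e.toRingHom

theorem toK_apply (b : Γ(Xn X, nu X ⁻¹ᵁ U)) : toK X e b = (e b : X.functionField) := rfl

theorem toK_injective : Function.Injective (toK X e) :=
  Subtype.val_injective.comp e.injective

theorem isUnit_toK (P : Ideal Γ(Xn X, nu X ⁻¹ᵁ U)) [P.IsPrime] (y : P.primeCompl) :
    IsUnit (toK X e (y : Γ(Xn X, nu X ⁻¹ᵁ U))) := by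
  refine IsUnit.mk0 _ ?_
  rw [Ne, ← map_zero (toK X e), (toK_injective X e).eq_iff]
  rintro h
  exact y.2 (h ▸ Ideal.zero_mem _)

/-- the embedding of the local ring of the normalization into the function field -/
def iota : (Xn X).presheaf.stalk x' →+* X.functionField :=
  letI := (Xn X).presheaf.algebra_section_stalk ⟨x', hx'V⟩
  haveI := (hU.preimage (nu X)).isLocalization_stalk ⟨x', hx'V⟩
  IsLocalization.lift (M := ((hU.preimage (nu X)).primeIdealOf ⟨x', hx'V⟩).asIdeal.primeCompl)
    (isUnit_toK X e _)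

theorem iota_germ (b : Γ(Xn X, nu X ⁻¹ᵁ U)) :
    iota X hU e x' hx'V ((Xn X).presheaf.germ (nu X ⁻¹ᵁ U) x' hx'V b) = (e b : X.functionField) := by
  letI := (Xn X).presheaf.algebra_section_stalk ⟨x', hx'V⟩
  haveI := (hU.preimage (nu X)).isLocalization_stalk ⟨x', hx'V⟩
  exact IsLocalization.lift_eq (M := ((hU.preimage (nu X)).primeIdealOf ⟨x', hx'V⟩).asIdeal.primeCompl)
    (isUnit_toK X e _) b

theorem iota_injective : Function.Injective (iota X hU e x' hx'V) := by
  letI := (Xn X).presheaf.algebra_section_stalk ⟨x', hx'V⟩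
  haveI := (hU.preimage (nu X)).isLocalization_stalk ⟨x', hx'V⟩
  unfold iota
  rw [IsLocalization.lift_injective_iff]
  intro a b
  rw [(toK_injective X e).eq_iff]
  haveI : IsIntegral (Xn X) := isIntegral_normalization X
  exact (germ_injective_of_isIntegral (Xn X) x' hx'V).eq_iff

/-- the prime of `B` corresponding to `x'` -/
def primeB : Ideal (integralClosure Γ(X, U) X.functionField) :=
  ((hU.preimage (nu X)).primeIdealOf ⟨x', hx'V⟩).asIdeal.comap e.symm.toRingHom

instance primeB_isPrime : (primeB X hU e x' hx'V).IsPrime :=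
  Ideal.comap_isPrime _ _

theorem mem_primeB_iff (b : integralClosure Γ(X, U) X.functionField) :
    b ∈ primeB X hU e x' hx'V ↔
      e.symm b ∈ ((hU.preimage (nu X)).primeIdealOf ⟨x', hx'V⟩).asIdeal := Iff.rfl

/-- the `B`-algebra structure on the local ring of the normalization -/
@[reducible] def algBD : Algebra (integralClosure Γ(X, U) X.functionField)
    ((Xn X).presheaf.stalk x') :=
  (((Xn X).presheaf.germ (nu X ⁻¹ᵁ U) x' hx'V).hom.comp e.symm.toRingHom).toAlgebra

theorem algBD_apply (b : integralClosure Γ(X, U) X.functionField) :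
    letI := algBD X e x' hx'V
    algebraMap (integralClosure Γ(X, U) X.functionField) ((Xn X).presheaf.stalk x') b =
      (Xn X).presheaf.germ (nu X ⁻¹ᵁ U) x' hx'V (e.symm b) := rfl

theorem isLocalization_BD :
    letI := algBD X e x' hx'V
    IsLocalization.AtPrime ((Xn X).presheaf.stalk x') (primeB X hU e x' hx'V) := by
  letI := (Xn X).presheaf.algebra_section_stalk ⟨x', hx'V⟩
  haveI := (hU.preimage (nu X)).isLocalization_stalk ⟨x', hx'V⟩
  have h := IsLocalization.isLocalization_of_base_ringEquiv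
    ((hU.preimage (nu X)).primeIdealOf ⟨x', hx'V⟩).asIdeal.primeCompl
    ((Xn X).presheaf.stalk x') e
  have hM : Submonoid.map e ((hU.preimage (nu X)).primeIdealOf ⟨x', hx'V⟩).asIdeal.primeCompl =
      (primeB X hU e x' hx'V).primeCompl := by
    ext b
    constructor
    · rintro ⟨y, hy, rfl⟩
      change e y ∉ primeB X hU e x' hx'V
      rw [mem_primeB_iff, e.symm_apply_apply]
      exact hy
    · intro hb
      refine ⟨e.symm b, ?_, e.apply_symm_apply b⟩
      exact hb
  rw [hM] at h
  exact h

theorem iota_algBD (b : integralClosure Γ(X, U) X.functionField) :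
    letI := algBD X e x' hx'V
    iota X hU e x' hx'V (algebraMap (integralClosure Γ(X, U) X.functionField)
      ((Xn X).presheaf.stalk x') b) = b := by
  rw [algBD_apply, iota_germ, e.apply_symm_apply]

include he in
/-- the prime of `B` lies over the prime of the image point -/
theorem comap_primeB (hxU : nu X x' ∈ U) :
    (primeB X hU e x' hx'V).comap (algebraMap Γ(X, U) (integralClosure Γ(X, U) X.functionField)) =
      (hU.primeIdealOf ⟨nu X x', hxU⟩).asIdeal := by
  ext r
  rw [Ideal.mem_comap, mem_primeB_iff, ← he, e.symm_apply_apply]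
  exact app_mem_primeIdealOf_iff X hU r x' hx'V hxU

include he in
theorem iota_stalkMap (hxU : nu X x' ∈ U) (a : X.presheaf.stalk (nu X x')) :
    iota X hU e x' hx'V ((nu X).stalkMap x' a) =
      algebraMap (X.presheaf.stalk (nu X x')) X.functionField a := by
  letI := X.presheaf.algebra_section_stalk ⟨nu X x', hxU⟩
  haveI := hU.isLocalization_stalk ⟨nu X x', hxU⟩
  have key : (iota X hU e x' hx'V).comp ((nu X).stalkMap x').hom =
      algebraMap (X.presheaf.stalk (nu X x')) X.functionField := by
    apply IsLocalization.ringHom_ext (hU.primeIdealOf ⟨nu X x', hxU⟩).asIdeal.primeCompl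
    ext r
    change iota X hU e x' hx'V ((nu X).stalkMap x' (X.presheaf.germ U (nu X x') hxU r)) =
      algebraMap (X.presheaf.stalk (nu X x')) X.functionField (X.presheaf.germ U (nu X x') hxU r)
    have h1 : (nu X).stalkMap x' (X.presheaf.germ U (nu X x') hxU r) =
        (Xn X).presheaf.germ (nu X ⁻¹ᵁ U) x' hx'V ((nu X).app U r) :=
      congr($((nu X).germ_stalkMap U x' hxU) r)
    rw [h1, iota_germ, he, Scheme.algebraMap_germ_eq_germToFunctionField]
    rfl
  exact congr($key a)

end

section fibre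

variable (X : Scheme.{u}) [IsIntegral X]
  [QuasiCompact (X.fromSpecStalk (genericPoint X))] [QuasiSeparated (X.fromSpecStalk (genericPoint X))]
  {U : X.Opens} (hU : IsAffineOpen U) [Nonempty U]
  (e : Γ(Xn X, nu X ⁻¹ᵁ U) ≃+* integralClosure Γ(X, U) X.functionField)
  (he : ∀ a : Γ(X, U), e ((nu X).app U a) =
    algebraMap Γ(X, U) (integralClosure Γ(X, U) X.functionField) a)
  (x : X) (hxU : x ∈ U)

include hxU in
theorem mem_preimage {x' : Xn X} (hx' : nu X x' = x) : x' ∈ nu X ⁻¹ᵁ U := by
  change nu X x' ∈ U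
  rw [hx']
  exact hxU

include he in
theorem comap_primeB' (x' : Xn X) (hx' : nu X x' = x) :
    (primeB X hU e x' (mem_preimage X x hxU hx')).comap
      (algebraMap Γ(X, U) (integralClosure Γ(X, U) X.functionField)) =
      (hU.primeIdealOf ⟨x, hxU⟩).asIdeal := by
  subst hx'
  exact comap_primeB X hU e he x' _ hxU

/-- the map from the integral closure of the local ring at `x` to the residue field at a point
`x'` of the normalization over `x` -/
def psiG (x' : Xn X) (hx' : nu X x' = x) :
    integralClosure (X.presheaf.stalk x) X.functionField →+*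
      IsLocalRing.ResidueField ((Xn X).presheaf.stalk x') :=
  letI := X.presheaf.algebra_section_stalk ⟨x, hxU⟩
  haveI := functionField_isScalarTower X U ⟨x, hxU⟩
  haveI := hU.isLocalization_stalk ⟨x, hxU⟩
  letI := algBD X e x' (mem_preimage X x hxU hx')
  haveI := isLocalization_BD X hU e x' (mem_preimage X x hxU hx')
  psi (A := X.presheaf.stalk x) (hU.primeIdealOf ⟨x, hxU⟩).asIdeal
    (primeB X hU e x' (mem_preimage X x hxU hx')) (comap_primeB' X hU e he x hxU x' hx')
    ((Xn X).presheaf.stalk x') (iota X hU e x' (mem_preimage X x hxU hx'))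
    (iota_algBD X hU e x' (mem_preimage X x hxU hx'))
    (iota_injective X hU e x' (mem_preimage X x hxU hx'))

theorem psiG_surjective (x' : Xn X) (hx' : nu X x' = x) :
    Function.Surjective (psiG X hU e he x hxU x' hx') := by
  letI := X.presheaf.algebra_section_stalk ⟨x, hxU⟩
  haveI := functionField_isScalarTower X U ⟨x, hxU⟩
  haveI := hU.isLocalization_stalk ⟨x, hxU⟩
  letI := algBD X e x' (mem_preimage X x hxU hx')
  haveI := isLocalization_BD X hU e x' (mem_preimage X x hxU hx')
  exact psi_surjective _ _ _ _ _ _ _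

theorem ker_psiG_isMaximal (x' : Xn X) (hx' : nu X x' = x) :
    (RingHom.ker (psiG X hU e he x hxU x' hx')).IsMaximal := by
  letI := X.presheaf.algebra_section_stalk ⟨x, hxU⟩
  haveI := functionField_isScalarTower X U ⟨x, hxU⟩
  haveI := hU.isLocalization_stalk ⟨x, hxU⟩
  letI := algBD X e x' (mem_preimage X x hxU hx')
  haveI := isLocalization_BD X hU e x' (mem_preimage X x hxU hx')
  exact ker_psi_isMaximal _ _ _ _ _ _ _

theorem comap_ker_psiG (x' : Xn X) (hx' : nu X x' = x) :
    letI := X.presheaf.algebra_section_stalk ⟨x, hxU⟩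
    haveI := functionField_isScalarTower X U ⟨x, hxU⟩
    (RingHom.ker (psiG X hU e he x hxU x' hx')).comap
      (incl (R := Γ(X, U)) (A := X.presheaf.stalk x) (K := X.functionField)) =
      primeB X hU e x' (mem_preimage X x hxU hx') := by
  letI := X.presheaf.algebra_section_stalk ⟨x, hxU⟩
  haveI := functionField_isScalarTower X U ⟨x, hxU⟩
  haveI := hU.isLocalization_stalk ⟨x, hxU⟩
  letI := algBD X e x' (mem_preimage X x hxU hx')
  haveI := isLocalization_BD X hU e x' (mem_preimage X x hxU hx')
  exact comap_ker_psi _ _ _ _ _ _ _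

theorem psiG_algebraMap (x' : Xn X) (a : X.presheaf.stalk (nu X x')) (hxU' : nu X x' ∈ U) :
    psiG X hU e he (nu X x') hxU' x' rfl
      (algebraMap (X.presheaf.stalk (nu X x')) (integralClosure _ X.functionField) a) =
      IsLocalRing.residue _ ((nu X).stalkMap x' a) := by
  letI := X.presheaf.algebra_section_stalk ⟨nu X x', hxU'⟩
  haveI := functionField_isScalarTower X U ⟨nu X x', hxU'⟩
  haveI := hU.isLocalization_stalk ⟨nu X x', hxU'⟩
  letI := algBD X e x' (mem_preimage X (nu X x') hxU' rfl)
  haveI := isLocalization_BD X hU e x' (mem_preimage X (nu X x') hxU' rfl)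
  exact psi_algebraMap _ _ _ _ _ _ _ ((nu X).stalkMap x').hom
    (iota_stalkMap X hU e he x' _ hxU') a

/-- the maximal ideal of the integral closure attached to a point of the fibre -/
def maxOf (x' : {x' : Xn X // nu X x' = x}) :
    MaximalSpectrum (integralClosure (X.presheaf.stalk x) X.functionField) :=
  ⟨RingHom.ker (psiG X hU e he x hxU x'.1 x'.2), ker_psiG_isMaximal X hU e he x hxU x'.1 x'.2⟩

theorem primeIdealOf_injective {Y : Scheme.{u}} {V : Y.Opens} (hV : IsAffineOpen V)
    {y₁ y₂ : Y} (h₁ : y₁ ∈ V) (h₂ : y₂ ∈ V)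
    (h : hV.primeIdealOf ⟨y₁, h₁⟩ = hV.primeIdealOf ⟨y₂, h₂⟩) : y₁ = y₂ := by
  have := congrArg hV.fromSpec h
  rwa [hV.fromSpec_primeIdealOf, hV.fromSpec_primeIdealOf] at this

theorem primeIdealOf_fromSpec {Y : Scheme.{u}} {V : Y.Opens} (hV : IsAffineOpen V)
    (y : Spec Γ(Y, V)) (hy : hV.fromSpec y ∈ V) :
    hV.primeIdealOf ⟨hV.fromSpec y, hy⟩ = y := by
  apply hV.fromSpec.isOpenEmbedding.injective
  rw [hV.fromSpec_primeIdealOf]

theorem maxOf_injective : Function.Injective (maxOf X hU e he x hxU) := by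
  intro x₁ x₂ h
  letI := X.presheaf.algebra_section_stalk ⟨x, hxU⟩
  haveI := functionField_isScalarTower X U ⟨x, hxU⟩
  have h1 : RingHom.ker (psiG X hU e he x hxU x₁.1 x₁.2) =
      RingHom.ker (psiG X hU e he x hxU x₂.1 x₂.2) := congrArg MaximalSpectrum.asIdeal h
  have h2 := comap_ker_psiG X hU e he x hxU x₁.1 x₁.2
  have h3 := comap_ker_psiG X hU e he x hxU x₂.1 x₂.2
  rw [h1, h3] at h2
  -- the primes of `B'` agree
  have h4 : ((hU.preimage (nu X)).primeIdealOf ⟨x₁.1, mem_preimage X x hxU x₁.2⟩).asIdeal =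
      ((hU.preimage (nu X)).primeIdealOf ⟨x₂.1, mem_preimage X x hxU x₂.2⟩).asIdeal := by
    ext b
    have := congrArg (fun I : Ideal _ => e b ∈ I) h2
    simp only [mem_primeB_iff, e.symm_apply_apply, eq_iff_iff] at this
    exact this.symm
  apply Subtype.ext
  exact primeIdealOf_injective (hU.preimage (nu X)) _ _ (PrimeSpectrum.ext h4)

include he in
theorem maxOf_surjective : Function.Surjective (maxOf X hU e he x hxU) := by
  intro M
  letI := X.presheaf.algebra_section_stalk ⟨x, hxU⟩
  haveI := functionField_isScalarTower X U ⟨x, hxU⟩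
  haveI := hU.isLocalization_stalk ⟨x, hxU⟩
  haveI := M.isMaximal
  -- the contraction to `B`
  set P : Ideal (integralClosure Γ(X, U) X.functionField) :=
    M.asIdeal.comap (incl (R := Γ(X, U)) (A := X.presheaf.stalk x) (K := X.functionField)) with hPdef
  haveI : P.IsPrime := Ideal.comap_isPrime _ _
  have hPp : P.comap (algebraMap Γ(X, U) (integralClosure Γ(X, U) X.functionField)) =
      (hU.primeIdealOf ⟨x, hxU⟩).asIdeal :=
    comap_comap_incl (A := X.presheaf.stalk x) (hU.primeIdealOf ⟨x, hxU⟩).asIdeal M.asIdeal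
  -- the prime of `B'`
  set P' : Ideal Γ(Xn X, nu X ⁻¹ᵁ U) := P.comap e.toRingHom with hP'def
  haveI : P'.IsPrime := Ideal.comap_isPrime _ _
  have hV := hU.preimage (nu X)
  set x' : Xn X := hV.fromSpec ⟨P', inferInstance⟩ with hx'def
  have hx'V : x' ∈ nu X ⁻¹ᵁ U := by
    rw [← SetLike.mem_coe, ← hV.range_fromSpec]
    exact ⟨_, rfl⟩
  have hprime : hV.primeIdealOf ⟨x', hx'V⟩ = ⟨P', inferInstance⟩ := primeIdealOf_fromSpec hV _ _
  have hxU' : nu X x' ∈ U := hx'V
  have hx' : nu X x' = x := by
    apply primeIdealOf_injective hU hxU' hxU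
    apply PrimeSpectrum.ext
    ext r
    rw [← app_mem_primeIdealOf_iff X hU r x' hx'V hxU', hprime, ← hPp]
    change e ((nu X).app U r) ∈ P ↔ _
    rw [he]
    rfl
  refine ⟨⟨x', hx'⟩, ?_⟩
  apply MaximalSpectrum.ext
  change RingHom.ker (psiG X hU e he x hxU x' hx') = M.asIdeal
  haveI := ker_psiG_isMaximal X hU e he x hxU x' hx'
  apply eq_of_comap_incl_eq (R := Γ(X, U)) (hU.primeIdealOf ⟨x, hxU⟩).asIdeal
  rw [comap_ker_psiG]
  ext b
  rw [mem_primeB_iff, hprime]
  change e (e.symm b) ∈ P ↔ _
  rw [e.apply_symm_apply]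

end fibre

section dummy

end dummy

end Groth.Agent.Lib.Helper13.BranchGeom
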