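import Mathlib

/-!
# `ENat.card` of a sigma type as an infinite sum in `ℕ∞`
-/

set_option autoImplicit false
universe u v

namespace Groth.Agent.Lib.Helper13.ENatCardSigma

open scoped ENNReal

theorem enat_summable {ι : Type*} (f : ι → ℕ∞) : Summable f :=
  ⟨_, hasSum_of_isLUB _ (isLUB_iSup)⟩

theorem toENNReal_tsum {ι : Type*} (f : ι → ℕ∞) :
    ((∑' i, f i : ℕ∞) : ℝ≥0∞) = ∑' i, (f i : ℝ≥0∞) :=
  (enat_summable f).map_tsum ENat.toENNRealRingHom.toAddMonoidHom ENat.continuous_toENNReal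

theorem card_sigma {ι : Type*} (α : ι → Type*) :
    ENat.card (Σ i, α i) = ∑' i, ENat.card (α i) := by
  apply ENat.toENNReal_strictMono.injective
  rw [toENNReal_tsum, ← ENNReal.tsum_one,
    ENNReal.tsum_sigma (f := fun (_ : ι) (_ : α _) => (1 : ℝ≥0∞))]
  congr 1
  ext i
  rw [ENNReal.tsum_one]

end Groth.Agent.Lib.Helper13.ENatCardSigma
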