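import Mathlib
import Groth.Prelude.Def_CAlg2

/-!
# `CAlg2.normRed` of a domain is its integral closure in any fraction field
-/

set_option autoImplicit false
set_option linter.style.haveILetI false
universe u
noncomputable section

namespace Groth.Agent.Lib.Helper13.NormRedEquiv

variable (A : Type u) [CommRing A] [IsDomain A]

theorem mk_injective : Function.Injective (Ideal.Quotient.mk (nilradical A)) := by
  rw [injective_iff_map_eq_zero]
  intro a ha
  rw [Ideal.Quotient.eq_zero_iff_mem, nilradical_eq_zero] at ha
  exact ha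

instance isDomain_red : IsDomain (CAlg2.red A) := by
  change IsDomain (A ⧸ nilradical A)
  rw [Ideal.Quotient.isDomain_iff_prime, nilradical_eq_zero]
  exact Ideal.isPrime_bot

theorem exists_normRedEquiv (K : Type u) [Field K] [Algebra A K] [IsFractionRing A K] :
    ∃ d : CAlg2.normRed A ≃+* integralClosure A K, ∀ a : A,
      d (algebraMap (CAlg2.red A) (CAlg2.normRed A) (Ideal.Quotient.mk (nilradical A) a)) =
        algebraMap A (integralClosure A K) a := by
  -- `F` is a fraction field of `A`
  have hinj : Function.Injective (algebraMap A (FractionRing (CAlg2.red A))) := by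
    rw [IsScalarTower.algebraMap_eq A (CAlg2.red A) (FractionRing (CAlg2.red A))]
    exact (IsFractionRing.injective (CAlg2.red A) _).comp (mk_injective A)
  haveI : FaithfulSMul A (FractionRing (CAlg2.red A)) :=
    (faithfulSMul_iff_algebraMap_injective A _).mpr hinj
  haveI hfrac : IsFractionRing A (FractionRing (CAlg2.red A)) := by
    apply IsFractionRing.of_field
    intro z
    obtain ⟨a', b', hb', rfl⟩ := IsFractionRing.div_surjective (A := CAlg2.red A) z
    obtain ⟨a, rfl⟩ := Ideal.Quotient.mk_surjective a'
    obtain ⟨b, rfl⟩ := Ideal.Quotient.mk_surjective b'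
    exact ⟨a, b, rfl⟩
  let σ : FractionRing (CAlg2.red A) ≃ₐ[A] K :=
    IsLocalization.algEquiv (nonZeroDivisors A) (FractionRing (CAlg2.red A)) K
  haveI : Algebra.IsIntegral A (CAlg2.red A) :=
    Algebra.isIntegral_of_surjective Ideal.Quotient.mk_surjective
  have h1 : ∀ z : FractionRing (CAlg2.red A), IsIntegral (CAlg2.red A) z → IsIntegral A (σ z) := by
    intro z hz
    exact (isIntegral_trans z hz).map σ.toAlgHom
  have h2 : ∀ c : K, IsIntegral A c → IsIntegral (CAlg2.red A) (σ.symm c) := by
    intro c hc
    exact (hc.map σ.symm.toAlgHom).tower_top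
  let d : CAlg2.normRed A ≃+* integralClosure A K :=
    { toFun := fun z => ⟨σ z.1, h1 z.1 z.2⟩
      invFun := fun c => ⟨σ.symm c.1, h2 c.1 c.2⟩
      left_inv := fun z => Subtype.ext (σ.symm_apply_apply z.1)
      right_inv := fun c => Subtype.ext (σ.apply_symm_apply c.1)
      map_mul' := fun z w => Subtype.ext (map_mul σ z.1 w.1)
      map_add' := fun z w => Subtype.ext (map_add σ z.1 w.1) }
  refine ⟨d, fun a => ?_⟩
  apply Subtype.ext
  change σ (algebraMap (CAlg2.red A) (FractionRing (CAlg2.red A)) (Ideal.Quotient.mk _ a)) =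
    algebraMap A K a
  rw [← σ.commutes a, IsScalarTower.algebraMap_apply A (CAlg2.red A) (FractionRing (CAlg2.red A))]
  rfl

end Groth.Agent.Lib.Helper13.NormRedEquiv
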