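import Groth.Agent.Lib.Helper13.BranchGeom
import Groth.Agent.Lib.Helper13.NormRedEquiv
import Groth.Agent.Lib.Helper13.ENatCardSigma
import Groth.Agent.Lib.Helper13.BranchEmb
import Groth.Prelude.Def_Brnch

/-!
# Branches of an integral scheme at a point and the fibre of the normalization
-/

set_option autoImplicit false
set_option linter.style.haveILetI false
universe u
noncomputable section

open CategoryTheory AlgebraicGeometry

namespace Groth.Agent.Lib.Helper13.BranchMain

open Groth.Agent.Lib.Helper13.NormDimOne Groth.Agent.Lib.Helper13.BranchAlg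
  Groth.Agent.Lib.Helper13.BranchGeom

section
variable (X : Scheme.{u}) [IsIntegral X]
  [QuasiCompact (X.fromSpecStalk (genericPoint X))] [QuasiSeparated (X.fromSpecStalk (genericPoint X))]
  {U : X.Opens} (hU : IsAffineOpen U) [Nonempty U]
  (e : Γ(Xn X, nu X ⁻¹ᵁ U) ≃+* integralClosure Γ(X, U) X.functionField)
  (he : ∀ a : Γ(X, U), e ((nu X).app U a) =
    algebraMap Γ(X, U) (integralClosure Γ(X, U) X.functionField) a)
  (x : X) (hxU : x ∈ U)
  (d : CAlg2.normRed (X.presheaf.stalk x) ≃+*
    integralClosure (X.presheaf.stalk x) X.functionField)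

/-- the surjection from the normalized local ring onto the residue field of a point over `x` -/
def chi (x' : Xn X) (hx' : nu X x' = x) :
    CAlg2.normRed (X.presheaf.stalk x) →+* IsLocalRing.ResidueField ((Xn X).presheaf.stalk x') :=
  (psiG X hU e he x hxU x' hx').comp d.toRingHom

theorem chi_surjective (x' : Xn X) (hx' : nu X x' = x) :
    Function.Surjective (chi X hU e he x hxU d x' hx') :=
  (psiG_surjective X hU e he x hxU x' hx').comp d.surjective

/-- the maximal ideal of the normalized local ring attached to a point over `x` -/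
def maxOf' (x' : {x' : Xn X // nu X x' = x}) : MaximalSpectrum (CAlg2.normRed (X.presheaf.stalk x)) :=
  ⟨RingHom.ker (chi X hU e he x hxU d x'.1 x'.2),
    RingHom.ker_isMaximal_of_surjective _ (chi_surjective X hU e he x hxU d x'.1 x'.2)⟩

theorem maxOf'_asIdeal (x' : {x' : Xn X // nu X x' = x}) :
    (maxOf' X hU e he x hxU d x').asIdeal =
      (maxOf X hU e he x hxU x').asIdeal.comap d.toRingHom := by
  ext z
  rfl

include he in
theorem maxOf'_bijective : Function.Bijective (maxOf' X hU e he x hxU d) := by
  constructor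
  · intro x₁ x₂ h
    apply maxOf_injective X hU e he x hxU
    apply MaximalSpectrum.ext
    have h1 := congrArg MaximalSpectrum.asIdeal h
    rw [maxOf'_asIdeal, maxOf'_asIdeal] at h1
    exact Ideal.comap_injective_of_surjective d.toRingHom d.surjective h1
  · intro m'
    haveI := m'.isMaximal
    have hM : (m'.asIdeal.comap d.symm.toRingHom).IsMaximal :=
      Ideal.comap_isMaximal_of_equiv d.symm
    obtain ⟨x', hx'⟩ := maxOf_surjective X hU e he x hxU ⟨_, hM⟩
    refine ⟨x', ?_⟩
    apply MaximalSpectrum.ext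
    rw [maxOf'_asIdeal, hx']
    ext z
    change d.symm (d z) ∈ m'.asIdeal ↔ _
    rw [d.symm_apply_apply]

end

section part1
variable (X : Scheme.{u}) [IsIntegral X]
  [QuasiCompact (X.fromSpecStalk (genericPoint X))] [QuasiSeparated (X.fromSpecStalk (genericPoint X))]

theorem numBranchesAt_eq (x : X) :
    Brnch.numBranchesAt X x = ENat.card {x' : Xn X // nu X x' = x} := by
  obtain ⟨_, ⟨U, hU, rfl⟩, hxU, -⟩ := X.isBasis_affineOpens.exists_subset_of_mem_open
    (Set.mem_univ x) isOpen_univ
  haveI : Nonempty U := ⟨⟨_, hxU⟩⟩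
  obtain ⟨e, he⟩ := exists_sectionsEquiv X hU
  obtain ⟨d, hd⟩ := NormRedEquiv.exists_normRedEquiv (X.presheaf.stalk x) X.functionField
  have hfin : (minimalPrimes (X.presheaf.stalk x)).Finite := by
    rw [IsDomain.minimalPrimes_eq_singleton_bot]
    exact Set.finite_singleton _
  unfold Brnch.numBranchesAt Brnch.numBranches
  rw [if_pos hfin]
  exact (ENat.card_congr (Equiv.ofBijective _ (maxOf'_bijective X hU e he x hxU d))).symm

end part1

section part2
variable (X : Scheme.{u}) [IsIntegral X]
  [QuasiCompact (X.fromSpecStalk (genericPoint X))] [QuasiSeparated (X.fromSpecStalk (genericPoint X))]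

theorem card_emb_eq {U : X.Opens} (hU : IsAffineOpen U) [Nonempty U]
    (e : Γ(Xn X, nu X ⁻¹ᵁ U) ≃+* integralClosure Γ(X, U) X.functionField)
    (he : ∀ a : Γ(X, U), e ((nu X).app U a) =
      algebraMap Γ(X, U) (integralClosure Γ(X, U) X.functionField) a)
    (x' : Xn X) (hxU : nu X x' ∈ U)
    (d : CAlg2.normRed (X.presheaf.stalk (nu X x')) ≃+*
      integralClosure (X.presheaf.stalk (nu X x')) X.functionField)
    (hd : ∀ a : X.presheaf.stalk (nu X x'),
      d (algebraMap (CAlg2.red (X.presheaf.stalk (nu X x'))) (CAlg2.normRed (X.presheaf.stalk (nu X x')))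
        (Ideal.Quotient.mk (nilradical (X.presheaf.stalk (nu X x'))) a)) =
        algebraMap (X.presheaf.stalk (nu X x')) (integralClosure _ X.functionField) a) :
    ENat.card (Brnch.Emb (X.presheaf.stalk (nu X x')) (maxOf' X hU e he (nu X x') hxU d ⟨x', rfl⟩)) =
      (letI := ((nu X).residueFieldMap x').hom.toAlgebra
       ENat.card (Field.Emb (X.residueField ((nu X).base x')) ((Xn X).residueField x'))) := by
  refine BranchEmb.card_emb (A := X.presheaf.stalk (nu X x'))
    (IsLocalRing.ResidueField ((Xn X).presheaf.stalk x')) ((nu X).residueFieldMap x').hom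
    (chi X hU e he (nu X x') hxU d x' rfl) (chi_surjective X hU e he (nu X x') hxU d x' rfl) ?_
    (maxOf' X hU e he (nu X x') hxU d ⟨x', rfl⟩) rfl
  intro a
  change psiG X hU e he (nu X x') hxU x' rfl
    (d (algebraMap (CAlg2.red (X.presheaf.stalk (nu X x')))
      (CAlg2.normRed (X.presheaf.stalk (nu X x')))
      (Ideal.Quotient.mk (nilradical (X.presheaf.stalk (nu X x'))) a))) = _
  rw [hd, psiG_algebraMap]
  exact (congr($(Scheme.residue_residueFieldMap (nu X) x') a)).symm

theorem numGeomBranchesAt_eq (x : X) :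
    Brnch.numGeomBranchesAt X x =
      ∑' x' : {x' : Xn X // (nu X).base x' = x},
        (letI := ((nu X).residueFieldMap x'.1).hom.toAlgebra
         ENat.card (Field.Emb (X.residueField ((nu X).base x'.1)) ((Xn X).residueField x'.1))) := by
  obtain ⟨_, ⟨U, hU, rfl⟩, hxU, -⟩ := X.isBasis_affineOpens.exists_subset_of_mem_open
    (Set.mem_univ x) isOpen_univ
  haveI : Nonempty U := ⟨⟨_, hxU⟩⟩
  obtain ⟨e, he⟩ := exists_sectionsEquiv X hU
  obtain ⟨d, hd⟩ := NormRedEquiv.exists_normRedEquiv (X.presheaf.stalk x) X.functionField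
  have hfin : (minimalPrimes (X.presheaf.stalk x)).Finite := by
    rw [IsDomain.minimalPrimes_eq_singleton_bot]
    exact Set.finite_singleton _
  unfold Brnch.numGeomBranchesAt Brnch.numGeomBranches
  rw [if_pos hfin, ENatCardSigma.card_sigma]
  let Φ : {x' : Xn X // (nu X).base x' = x} ≃ MaximalSpectrum (CAlg2.normRed (X.presheaf.stalk x)) :=
    Equiv.ofBijective _ (maxOf'_bijective X hU e he x hxU d)
  rw [← Φ.tsum_eq]
  apply tsum_congr
  rintro ⟨x', hx'⟩
  subst hx'
  exact card_emb_eq X hU e he x' hxU d hd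

end part2

end Groth.Agent.Lib.Helper13.BranchMain
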