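import Groth.Agent.Lib.Helper13.BranchMain

/-!
# Normalization of an integral scheme with (geometrically) unibranch local rings
-/

set_option autoImplicit false
set_option linter.style.haveILetI false
universe u
noncomputable section

open CategoryTheory AlgebraicGeometry

namespace Groth.Agent.Lib.Helper13.BranchUnib

open Groth.Agent.Lib.Helper13.NormDimOne Groth.Agent.Lib.Helper13.BranchAlg
  Groth.Agent.Lib.Helper13.BranchGeom Groth.Agent.Lib.Helper13.BranchMain

variable (X : Scheme.{u}) [IsIntegral X]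
  [QuasiCompact (X.fromSpecStalk (genericPoint X))] [QuasiSeparated (X.fromSpecStalk (genericPoint X))]

/-- the normalization morphism is surjective -/
theorem exists_over (x : X) : ∃ x' : Xn X, nu X x' = x := by
  obtain ⟨_, ⟨U, hU, rfl⟩, hxU, -⟩ := X.isBasis_affineOpens.exists_subset_of_mem_open
    (Set.mem_univ x) isOpen_univ
  haveI : Nonempty U := ⟨⟨_, hxU⟩⟩
  obtain ⟨e, he⟩ := exists_sectionsEquiv X hU
  obtain ⟨d, hd⟩ := NormRedEquiv.exists_normRedEquiv (X.presheaf.stalk x) X.functionField
  haveI : Nontrivial (CAlg2.normRed (X.presheaf.stalk x)) := inferInstance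
  obtain ⟨m, hm⟩ := Ideal.exists_maximal (CAlg2.normRed (X.presheaf.stalk x))
  obtain ⟨x', -⟩ := (maxOf'_bijective X hU e he x hxU d).surjective ⟨m, hm⟩
  exact ⟨x'.1, x'.2⟩

/-- over a point with unibranch local ring there is only one point of the normalization -/
theorem eq_of_isLocalRing (x : X) (h : IsLocalRing (CAlg2.normRed (X.presheaf.stalk x)))
    (x₁ x₂ : Xn X) (h₁ : nu X x₁ = x) (h₂ : nu X x₂ = x) : x₁ = x₂ := by
  obtain ⟨_, ⟨U, hU, rfl⟩, hxU, -⟩ := X.isBasis_affineOpens.exists_subset_of_mem_open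
    (Set.mem_univ x) isOpen_univ
  haveI : Nonempty U := ⟨⟨_, hxU⟩⟩
  obtain ⟨e, he⟩ := exists_sectionsEquiv X hU
  obtain ⟨d, hd⟩ := NormRedEquiv.exists_normRedEquiv (X.presheaf.stalk x) X.functionField
  have h3 : maxOf' X hU e he x hxU d ⟨x₁, h₁⟩ = maxOf' X hU e he x hxU d ⟨x₂, h₂⟩ := by
    apply MaximalSpectrum.ext
    rw [IsLocalRing.eq_maximalIdeal (maxOf' X hU e he x hxU d ⟨x₁, h₁⟩).isMaximal,
      IsLocalRing.eq_maximalIdeal (maxOf' X hU e he x hxU d ⟨x₂, h₂⟩).isMaximal]
  exact congrArg Subtype.val ((maxOf'_bijective X hU e he x hxU d).injective h3)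

theorem chi_toN {U : X.Opens} (hU : IsAffineOpen U) [Nonempty U]
    (e : Γ(Xn X, nu X ⁻¹ᵁ U) ≃+* integralClosure Γ(X, U) X.functionField)
    (he : ∀ a : Γ(X, U), e ((nu X).app U a) =
      algebraMap Γ(X, U) (integralClosure Γ(X, U) X.functionField) a)
    (x' : Xn X) (hxU : nu X x' ∈ U)
    (d : CAlg2.normRed (X.presheaf.stalk (nu X x')) ≃+*
      integralClosure (X.presheaf.stalk (nu X x')) X.functionField)
    (hd : ∀ a : X.presheaf.stalk (nu X x'),
      d (algebraMap (CAlg2.red (X.presheaf.stalk (nu X x'))) (CAlg2.normRed (X.presheaf.stalk (nu X x')))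
        (Ideal.Quotient.mk (nilradical (X.presheaf.stalk (nu X x'))) a)) =
        algebraMap (X.presheaf.stalk (nu X x')) (integralClosure _ X.functionField) a)
    (a : X.presheaf.stalk (nu X x')) :
    chi X hU e he (nu X x') hxU d x' rfl (BranchEmb.toN _ a) =
      ((nu X).residueFieldMap x').hom (IsLocalRing.residue _ a) := by
  change psiG X hU e he (nu X x') hxU x' rfl
    (d (algebraMap (CAlg2.red (X.presheaf.stalk (nu X x')))
      (CAlg2.normRed (X.presheaf.stalk (nu X x')))
      (Ideal.Quotient.mk (nilradical (X.presheaf.stalk (nu X x'))) a))) = _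
  rw [hd, psiG_algebraMap]
  exact (congr($(Scheme.residue_residueFieldMap (nu X) x') a)).symm

/-- over a geometrically unibranch point, the residue field extension is purely inseparable -/
theorem isPurelyInseparable_residueFieldMap (x' : Xn X)
    (h : CAlg2.IsGeomUnibranch (X.presheaf.stalk (nu X x'))) :
    ((nu X).residueFieldMap x').hom.IsPurelyInseparable := by
  obtain ⟨_, ⟨U, hU, rfl⟩, hxU, -⟩ := X.isBasis_affineOpens.exists_subset_of_mem_open
    (Set.mem_univ (nu X x')) isOpen_univ
  haveI : Nonempty U := ⟨⟨_, hxU⟩⟩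
  obtain ⟨e, he⟩ := exists_sectionsEquiv X hU
  obtain ⟨d, hd⟩ := NormRedEquiv.exists_normRedEquiv (X.presheaf.stalk (nu X x')) X.functionField
  set χ := chi X hU e he (nu X x') hxU d x' rfl with hχdef
  have hχ : Function.Surjective χ := chi_surjective X hU e he (nu X x') hxU d x' rfl
  haveI hmax : (RingHom.ker χ).IsMaximal := RingHom.ker_isMaximal_of_surjective _ hχ
  have hpow := h.2 (RingHom.ker χ)
  let q := RingHom.quotientKerEquivOfSurjective hχ
  unfold RingHom.IsPurelyInseparable
  letI := ((nu X).residueFieldMap x').hom.toAlgebra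
  set p := ringExpChar (X.residueField (nu X x')) with hp
  haveI : ExpChar (IsLocalRing.ResidueField ((Xn X).presheaf.stalk x')) p :=
    expChar_of_injective_ringHom (f := ((nu X).residueFieldMap x').hom)
      ((nu X).residueFieldMap x').hom.injective p
  haveI : ExpChar (CAlg2.normRed (X.presheaf.stalk (nu X x')) ⧸ RingHom.ker χ) p :=
    expChar_of_injective_ringHom (f := q.symm.toRingHom) q.symm.injective p
  have hpeq : ringExpChar (CAlg2.normRed (X.presheaf.stalk (nu X x')) ⧸ RingHom.ker χ) = p :=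
    ringExpChar.eq _ p
  rw [isPurelyInseparable_iff_pow_mem (X.residueField (nu X x')) p]
  intro z
  obtain ⟨w, rfl⟩ := hχ z
  obtain ⟨n, a, ha⟩ := hpow (Ideal.Quotient.mk _ w)
  rw [hpeq] at ha
  refine ⟨n, (show X.residueField (nu X x') from IsLocalRing.residue _ a), ?_⟩
  have h1 := congrArg q ha
  rw [map_pow, RingHom.quotientKerEquivOfSurjective_apply_mk] at h1
  refine Eq.trans ?_ h1
  change ((nu X).residueFieldMap x').hom (IsLocalRing.residue _ a) = _
  rw [← chi_toN X hU e he x' hxU d hd a]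
  exact (RingHom.quotientKerEquivOfSurjective_apply_mk hχ _).symm

end Groth.Agent.Lib.Helper13.BranchUnib
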