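import Mathlib

/-!
# Divisibility in Noetherian normal domains is detected at "principal" primes

`exists_prime_of_not_dvd`: in a Noetherian integrally closed domain `A`, if `g ≠ 0` does not divide `g'`,
then there are a prime `p`, `π ∈ p`, `s ∉ p` and `a` with `s * g = π * a * g'`
(so that `g' ∣ g` in `A_p` with non-unit quotient).
-/

namespace Groth.Agent.Lib.Helper13.NormalDvd

open Submodule

theorem exists_prime_of_not_dvd {A : Type*} [CommRing A] [IsDomain A] [IsNoetherianRing A]
    [IsIntegrallyClosed A] (g g' : A) (hg : g ≠ 0) (h : ¬ g ∣ g') :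
    ∃ (p : Ideal A) (_ : p.IsPrime) (π a s : A), π ∈ p ∧ s ∉ p ∧ s * g = π * a * g' := by
  classical
  let I : Ideal A := (Ideal.span {g} : Submodule A A).colon {g'}
  have hI : ∀ r : A, r ∈ I ↔ g ∣ r * g' := by
    intro r
    rw [Submodule.mem_colon_singleton, smul_eq_mul, Ideal.mem_span_singleton]
  have hx : (Ideal.Quotient.mk I 1 : A ⧸ I) ≠ 0 := by
    intro h0
    rw [Ideal.Quotient.eq_zero_iff_mem, hI, one_mul] at h0
    exact h h0
  obtain ⟨P, hP, -⟩ := exists_le_isAssociatedPrime_of_isNoetherianRing A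
    (Ideal.Quotient.mk I 1 : A ⧸ I) hx
  rw [isAssociatedPrime_iff] at hP
  obtain ⟨hPprime, y, hPy⟩ := hP
  obtain ⟨y, rfl⟩ := Ideal.Quotient.mk_surjective y
  have hmem : ∀ r : A, r ∈ P ↔ g ∣ r * (y * g') := by
    intro r
    rw [hPy, Submodule.mem_colon_singleton, Submodule.mem_bot]
    change (Ideal.Quotient.mk I (r * y) : A ⧸ I) = 0 ↔ _
    rw [Ideal.Quotient.eq_zero_iff_mem, hI, mul_assoc]
  by_cases hcase : ∃ π ∈ P, ∃ s, s ∉ P ∧ s * g = π * (y * g')
  · obtain ⟨π, hπ, s, hs, hsg⟩ := hcase
    exact ⟨P, hPprime, π, y, s, hπ, hs, by rw [hsg]; ring⟩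
  · exfalso
    have hcase' : ∀ π ∈ P, ∀ s, s * g = π * (y * g') → s ∈ P := by
      intro π hπ s hs
      by_contra hsP
      exact hcase ⟨π, hπ, s, hsP, hs⟩
    let K := FractionRing A
    let t : K := algebraMap A K (y * g') / algebraMap A K g
    have hgK : algebraMap A K g ≠ 0 := by
      simpa using (IsFractionRing.injective A K).ne hg
    let N : Submodule A K := Submodule.map (Algebra.linearMap A K) P
    have hgP : g ∈ P := by rw [hmem]; exact Dvd.intro _ rfl
    have hN : N ≠ ⊥ := by
      intro hN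
      have : algebraMap A K g ∈ N := ⟨g, hgP, rfl⟩
      rw [hN, Submodule.mem_bot] at this
      exact hgK this
    have hNfg : N.FG := (IsNoetherian.noetherian P).map _
    have hstab : ∀ n ∈ N, t • n ∈ N := by
      rintro _ ⟨r, hr, rfl⟩
      obtain ⟨s, hs⟩ := (hmem r).mp hr
      refine ⟨s, ?_, ?_⟩
      · exact hcase' r hr s (by rw [mul_comm s g, ← hs])
      · simp only [Algebra.linearMap_apply, smul_eq_mul, t]
        rw [div_mul_eq_mul_div, eq_div_iff hgK, ← map_mul, ← map_mul, mul_comm (y * g') r, hs,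
          mul_comm]
    have hint : IsIntegral A t := isIntegral_of_smul_mem_submodule N hN hNfg t hstab
    obtain ⟨c, hc⟩ := IsIntegrallyClosed.algebraMap_eq_of_integral hint
    have hc' : c * g = y * g' := by
      apply IsFractionRing.injective A K
      rw [map_mul, hc]
      simp only [t]
      rw [div_mul_cancel₀ _ hgK]
    have : (1 : A) ∈ P := by
      rw [hmem, one_mul, ← hc']
      exact Dvd.intro_left _ rfl
    exact hPprime.ne_top ((Ideal.eq_top_iff_one P).mpr this)

end Groth.Agent.Lib.Helper13.NormalDvd
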