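import Mathlib
import Groth.Agent.Lib.Helper13.NormalDvd
import Groth.Agent.Lib.Helper13.StalkSpecLoc
import Groth.Agent.Lib.Helper29.IdealComap

/-!
# Effective Cartier divisors on a normal scheme are determined by their pullback along a surjection
-/

universe u

open CategoryTheory AlgebraicGeometry TopologicalSpace Opposite IsLocalRing

namespace Groth.Agent.Lib.Helper13.CartierNormalEq

open Groth.Agent.Lib.Helper13.StalkSpecLoc

variable {S S' : Scheme.{u}}

/-- a section vanishing near `z'` whose germ is a unit on a dense open: impossible. -/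
theorem germ_ne_zero_of_dense (U₀ : S'.Opens)
    (hU₀ : ∀ V : S'.Opens, Function.Injective (S'.presheaf.map (homOfLE (inf_le_left : V ⊓ U₀ ≤ V)).op))
    (U' : S'.Opens) (z' : S') (hz' : z' ∈ U') (G₀ : Γ(S', U'))
    (hunit : ∀ w (hw : w ∈ U'), w ∈ U₀ → IsUnit (S'.presheaf.germ U' w hw G₀)) :
    S'.presheaf.germ U' z' hz' G₀ ≠ 0 := by
  intro h0
  obtain ⟨N, hzN, iU, iV, hN⟩ := S'.presheaf.germ_eq z' hz' hz' G₀ 0 (by rw [h0, map_zero])
  rw [map_zero] at hN
  have hne : ∃ w, w ∈ N ∧ w ∈ U₀ := by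
    by_contra hcon
    push Not at hcon
    have hbot : N ⊓ U₀ = ⊥ := by
      ext w
      simp only [Opens.coe_inf, Set.mem_inter_iff, SetLike.mem_coe, Opens.coe_bot,
        Set.mem_empty_iff_false, iff_false, not_and]
      exact hcon w
    have hinj := hU₀ N
    have h10 : (1 : Γ(S', N)) = 0 := by
      apply hinj
      have : Subsingleton Γ(S', N ⊓ U₀) := by
        rw [hbot]
        infer_instance
      exact Subsingleton.elim _ _
    have := congrArg (S'.presheaf.germ N z' hzN) h10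
    rw [map_one, map_zero] at this
    exact one_ne_zero this
  obtain ⟨w, hwN, hwU₀⟩ := hne
  have hu := hunit w (iU.le hwN) hwU₀
  rw [← S'.presheaf.germ_res_apply iU w hwN, hN, map_zero] at hu
  exact not_isUnit_zero hu

/-- a generator of an ideal sheaf is a unit at points outside the support. -/
theorem isUnit_germ_of_not_mem_support (D : S.IdealSheafData) (V : S.affineOpens) (g : Γ(S, V.1))
    (hDV : D.ideal V = Ideal.span {g}) (y : S) (hyV : y ∈ V.1) (hy : y ∉ D.support) :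
    IsUnit (S.presheaf.germ V.1 y hyV g) := by
  rw [← Scheme.mem_basicOpen]
  by_contra hb
  apply hy
  rw [Scheme.IdealSheafData.mem_support_iff_of_mem hyV, Scheme.mem_zeroLocus_iff]
  intro r hr
  rw [SetLike.mem_coe, hDV, Ideal.mem_span_singleton] at hr
  obtain ⟨c, rfl⟩ := hr
  rw [Scheme.basicOpen_mul]
  exact fun hh => hb hh.1

theorem germ_dvd [IsLocallyNoetherian S]
    (hnorm : ∀ x : S, IsDomain (S.presheaf.stalk x) ∧ IsIntegrallyClosed (S.presheaf.stalk x))
    (f : S' ⟶ S) (hsurj : Function.Surjective f) (U : S.Opens)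
    (hU' : ∀ V : S'.Opens, Function.Injective
      (S'.presheaf.map (homOfLE (inf_le_left : V ⊓ f ⁻¹ᵁ U ≤ V)).op))
    (D E : S.IdealSheafData) (hDU : (D.support : Set S) ⊆ (U : Set S)ᶜ)
    (h : D.comap f = E.comap f)
    (x : S) (V V' : S.affineOpens) (hxV : x ∈ V.1) (hxV' : x ∈ V'.1)
    (g : Γ(S, V.1)) (g' : Γ(S, V'.1)) (hg : g ∈ nonZeroDivisors Γ(S, V.1))
    (hDV : D.ideal V = Ideal.span {g}) (hEV' : E.ideal V' = Ideal.span {g'}) :
    S.presheaf.germ V.1 x hxV g ∣ S.presheaf.germ V'.1 x hxV' g' := by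
  by_contra hnd
  haveI := (hnorm x).1
  haveI := (hnorm x).2
  have hgx : S.presheaf.germ V.1 x hxV g ≠ 0 := by
    letI := TopCat.Presheaf.algebra_section_stalk S.presheaf (⟨x, hxV⟩ : V.1)
    haveI := V.2.isLocalization_stalk ⟨x, hxV⟩
    have := IsLocalization.map_nonZeroDivisors_le (V.2.primeIdealOf ⟨x, hxV⟩).asIdeal.primeCompl
      (S.presheaf.stalk x) ⟨g, hg, rfl⟩
    exact nonZeroDivisors.ne_zero this
  obtain ⟨p, hp, π, a, s, hπ, hs, hrel⟩ := NormalDvd.exists_prime_of_not_dvd _ _ hgx hnd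
  obtain ⟨ζ, hζ, rfl⟩ := exists_primeOf_eq x p
  obtain ⟨z', rfl⟩ := hsurj ζ
  have hzV : f z' ∈ V.1 := hζ.mem_open V.1.isOpen hxV
  have hzV' : f z' ∈ V'.1 := hζ.mem_open V'.1.isOpen hxV'
  have hσg : (S.presheaf.stalkSpecializes hζ).hom (S.presheaf.germ V.1 x hxV g) =
      S.presheaf.germ V.1 (f z') hzV g := TopCat.Presheaf.germ_stalkSpecializes_apply _ _ _ _
  have hσg' : (S.presheaf.stalkSpecializes hζ).hom (S.presheaf.germ V'.1 x hxV' g') =
      S.presheaf.germ V'.1 (f z') hzV' g' := TopCat.Presheaf.germ_stalkSpecializes_apply _ _ _ _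
  obtain ⟨U', hU'aff, hz'U', hU'le⟩ : ∃ U' : S'.Opens, IsAffineOpen U' ∧ z' ∈ U' ∧
      U' ≤ f ⁻¹ᵁ (V.1 ⊓ V'.1) := by
    obtain ⟨_, ⟨W, hW, rfl⟩, hzW, hWle⟩ := S'.isBasis_affineOpens.exists_subset_of_mem_open
      (show z' ∈ ((f ⁻¹ᵁ (V.1 ⊓ V'.1) : S'.Opens) : Set S') from ⟨hzV, hzV'⟩)
      (f ⁻¹ᵁ (V.1 ⊓ V'.1)).isOpen
    exact ⟨W, hW, hzW, hWle⟩
  have e1 : U' ≤ f ⁻¹ᵁ V.1 := fun w hw => (hU'le hw).1
  have e2 : U' ≤ f ⁻¹ᵁ V'.1 := fun w hw => (hU'le hw).2
  have hD' := Groth.Agent.Lib.Helper29.EffCart.ideal_comap_eq_map D f V ⟨U', hU'aff⟩ e1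
  have hE' := Groth.Agent.Lib.Helper29.EffCart.ideal_comap_eq_map E f V' ⟨U', hU'aff⟩ e2
  rw [hDV, Ideal.map_span, Set.image_singleton] at hD'
  rw [hEV', Ideal.map_span, Set.image_singleton, ← h, hD'] at hE'
  obtain ⟨c, hc⟩ : (f.appLE V.1 U' e1).hom g ∣ (f.appLE V'.1 U' e2).hom g' :=
    Ideal.mem_span_singleton.mp (hE' ▸ Ideal.mem_span_singleton_self _)
  -- germs at `z'`
  have hG : ∀ (w : S') (hw : w ∈ U'), S'.presheaf.germ U' w hw ((f.appLE V.1 U' e1).hom g) =
      (f.stalkMap w).hom (S.presheaf.germ V.1 (f w) (e1 hw) g) := by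
    intro w hw
    rw [Scheme.Hom.appLE, CommRingCat.hom_comp, RingHom.comp_apply]
    erw [S'.presheaf.germ_res_apply]
    exact (Scheme.Hom.germ_stalkMap_apply f V.1 w (e1 hw) g).symm
  have hG' : ∀ (w : S') (hw : w ∈ U'), S'.presheaf.germ U' w hw ((f.appLE V'.1 U' e2).hom g') =
      (f.stalkMap w).hom (S.presheaf.germ V'.1 (f w) (e2 hw) g') := by
    intro w hw
    rw [Scheme.Hom.appLE, CommRingCat.hom_comp, RingHom.comp_apply]
    erw [S'.presheaf.germ_res_apply]
    exact (Scheme.Hom.germ_stalkMap_apply f V'.1 w (e2 hw) g').symm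
  -- the contradiction
  apply germ_ne_zero_of_dense (f ⁻¹ᵁ U) hU' U' z' hz'U' ((f.appLE V.1 U' e1).hom g)
  · intro w hw hwU
    rw [hG w hw]
    apply IsUnit.map
    apply isUnit_germ_of_not_mem_support D V g hDV (f w) (e1 hw)
    intro hsupp
    exact hDU hsupp hwU
  · have h1 := congrArg (fun t => (f.stalkMap z').hom ((S.presheaf.stalkSpecializes hζ).hom t)) hrel
    simp only [map_mul] at h1
    rw [hσg, hσg', ← hG z' hz'U', ← hG' z' hz'U', hc, map_mul] at h1
    set G := S'.presheaf.germ U' z' hz'U' ((f.appLE V.1 U' e1).hom g) with hGdef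
    set φσ : S.presheaf.stalk x →+* S'.presheaf.stalk z' :=
      (f.stalkMap z').hom.comp (S.presheaf.stalkSpecializes hζ).hom with hφσ
    have hu : IsUnit (φσ s) := by
      have h2 : IsUnit ((S.presheaf.stalkSpecializes hζ).hom s) := by
        have : (S.presheaf.stalkSpecializes hζ).hom s ∉ maximalIdeal _ := hs
        simpa [mem_maximalIdeal, mem_nonunits_iff] using this
      exact h2.map (f.stalkMap z').hom
    have hm : φσ π ∈ maximalIdeal (S'.presheaf.stalk z') := by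
      have h2 : (S.presheaf.stalkSpecializes hζ).hom π ∈ maximalIdeal _ := hπ
      exact map_nonunit (f.stalkMap z').hom _ h2
    have h3 : (φσ s - φσ π * φσ a * S'.presheaf.germ U' z' hz'U' c) * G = 0 := by
      have h1' : φσ s * G = φσ π * φσ a * (G * S'.presheaf.germ U' z' hz'U' c) := h1
      rw [sub_mul, h1']
      ring
    have h4 : IsUnit (φσ s - φσ π * φσ a * S'.presheaf.germ U' z' hz'U' c) := by
      by_contra hnu
      have h5 : φσ s - φσ π * φσ a * S'.presheaf.germ U' z' hz'U' c ∈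
          maximalIdeal (S'.presheaf.stalk z') := hnu
      have h6 : φσ π * φσ a * S'.presheaf.germ U' z' hz'U' c ∈
          maximalIdeal (S'.presheaf.stalk z') := by
        rw [mul_assoc]
        exact Ideal.mul_mem_right _ _ hm
      have h7 := Ideal.add_mem _ h5 h6
      rw [sub_add_cancel] at h7
      exact h7 hu
    exact (h4.mul_right_eq_zero).mp h3

theorem eq_of_comap_eq [IsLocallyNoetherian S]
    (hnorm : ∀ x : S, IsDomain (S.presheaf.stalk x) ∧ IsIntegrallyClosed (S.presheaf.stalk x))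
    (f : S' ⟶ S) (hsurj : Function.Surjective f) (U : S.Opens)
    (hU' : ∀ V : S'.Opens, Function.Injective
      (S'.presheaf.map (homOfLE (inf_le_left : V ⊓ f ⁻¹ᵁ U ≤ V)).op))
    (D E : S.IdealSheafData)
    (hD : ∀ x : S, ∃ U : S.affineOpens, x ∈ (U : S.Opens) ∧ ∃ g : Γ(S, U),
      g ∈ nonZeroDivisors Γ(S, U) ∧ D.ideal U = Ideal.span {g})
    (hE : ∀ x : S, ∃ U : S.affineOpens, x ∈ (U : S.Opens) ∧ ∃ g : Γ(S, U),
      g ∈ nonZeroDivisors Γ(S, U) ∧ E.ideal U = Ideal.span {g})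
    (hDU : (D.support : Set S) ⊆ (U : Set S)ᶜ) (hEU : (E.support : Set S) ⊆ (U : Set S)ᶜ)
    (h : D.comap f = E.comap f) : D = E := by
  choose V hxV g hg hDV using hD
  choose V' hxV' g' hg' hEV' using hE
  have hW : ∀ x : S, ∃ W : S.affineOpens, x ∈ W.1 ∧ W.1 ≤ (V x).1 ⊓ (V' x).1 := by
    intro x
    obtain ⟨_, ⟨W, hW, rfl⟩, hxW, hWle⟩ := S.isBasis_affineOpens.exists_subset_of_mem_open
      (show x ∈ (((V x).1 ⊓ (V' x).1 : S.Opens) : Set S) from ⟨hxV x, hxV' x⟩)
      ((V x).1 ⊓ (V' x).1).isOpen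
    exact ⟨⟨W, hW⟩, hxW, hWle⟩
  choose W hxW hWle using hW
  refine Scheme.IdealSheafData.ext_of_iSup_eq_top W ?_ ?_
  · rw [eq_top_iff]
    intro x _
    exact Opens.mem_iSup.mpr ⟨x, hxW x⟩
  · intro x
    have l1 : (W x) ≤ (V x) := fun y hy => (hWle x hy).1
    have l2 : (W x) ≤ (V' x) := fun y hy => (hWle x hy).2
    rw [← D.map_ideal l1, ← E.map_ideal l2, hDV, hEV', Ideal.map_span, Ideal.map_span,
      Set.image_singleton, Set.image_singleton]
    apply le_antisymm
    · rw [Ideal.span_singleton_le_iff_mem, (W x).2.mem_ideal_iff]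
      intro y hy
      rw [Ideal.map_span, Set.image_singleton, Ideal.mem_span_singleton]
      erw [S.presheaf.germ_res_apply, S.presheaf.germ_res_apply]
      exact germ_dvd hnorm f hsurj U hU' E D hEU h.symm y (V' x) (V x) _ _ (g' x) (g x) (hg' x)
        (hEV' x) (hDV x)
    · rw [Ideal.span_singleton_le_iff_mem, (W x).2.mem_ideal_iff]
      intro y hy
      rw [Ideal.map_span, Set.image_singleton, Ideal.mem_span_singleton]
      erw [S.presheaf.germ_res_apply, S.presheaf.germ_res_apply]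
      exact germ_dvd hnorm f hsurj U hU' D E hDU h y (V x) (V' x) _ _ (g x) (g' x) (hg x)
        (hDV x) (hEV' x)

end Groth.Agent.Lib.Helper13.CartierNormalEq
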