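import Groth.Agent.Lib.Helper13.LimDescendClosedImm

/-! Transfer of descent statements to the diagonal: separated and unramified morphisms. -/

set_option autoImplicit false
universe u v

open CategoryTheory CategoryTheory.Limits AlgebraicGeometry

namespace Groth.Agent.Lib.Helper13.LimDescend

open Groth.Agent.Lib.Helper22

section general

variable {C : Type u} [Category.{v} C]

theorem prop_iff_of_isPullback (P : MorphismProperty C) [P.RespectsIso] {Q₁ Q₂ X Y Z : C}
    {f₁ : Q₁ ⟶ Y} {s₁ : Q₁ ⟶ X} {f₂ : Q₂ ⟶ Y} {s₂ : Q₂ ⟶ X} {v : Y ⟶ Z} {a : X ⟶ Z}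
    (h₁ : IsPullback f₁ s₁ v a) (h₂ : IsPullback f₂ s₂ v a) : P f₁ ↔ P f₂ := by
  rw [← h₁.isoIsPullback_hom_fst _ _ h₂, P.cancel_left_of_respectsIso]

theorem isPullback_comp_iso [HasPullbacks C] {X Y Z Z' : C} (f : Y ⟶ Z) (g : X ⟶ Z) (s : Z ⟶ Z')
    [IsIso s] : IsPullback (pullback.fst f g) (pullback.snd f g) (f ≫ s) (g ≫ s) :=
  IsPullback.of_iso (IsPullback.of_hasPullback f g) (Iso.refl _) (Iso.refl _) (Iso.refl _)
    (asIso s) (by simp) (by simp) (by simp) (by simp)

end general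

section diag

variable {J : Type u} [SmallCategory J] (E : J ⥤ Scheme.{u}) (e : Cone E)

/-- Transfer of a core descent statement to the diagonal. -/
theorem core_diagonal (P : MorphismProperty Scheme.{u}) [P.RespectsIso] (j₀ : J)
    {X₀ : Scheme.{u}} (a : X₀ ⟶ E.obj j₀)
    (coreP : ∀ a'' : X₀ ⟶ (bcDiag E j₀ (pullback.snd a a ≫ a)).obj (top j₀),
      a'' ≫ pullback.snd (E.map (top j₀).hom) (pullback.snd a a ≫ a) = pullback.diagonal a →
      P (pullback.fst ((bcCone E e j₀ (pullback.snd a a ≫ a)).π.app (top j₀)) a'') →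
      ∃ (m : Over j₀) (ψ : m ⟶ top j₀),
        P (pullback.fst ((bcDiag E j₀ (pullback.snd a a ≫ a)).map ψ) a''))
    (h : P (pullback.diagonal (pullback.fst (e.π.app j₀) a))) :
    ∃ (j : J) (ψ : j ⟶ j₀), P (pullback.diagonal (pullback.fst (E.map ψ) a)) := by
  let w : pullback a a ⟶ E.obj j₀ := pullback.snd a a ≫ a
  let σ : (bcDiag E j₀ w).obj (top j₀) ⟶ pullback a a := pullback.snd (E.map (top j₀).hom) w
  haveI hσ : IsIso σ := isIso_snd_top E j₀ w
  let a'' : X₀ ⟶ (bcDiag E j₀ w).obj (top j₀) := pullback.diagonal a ≫ inv σ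
  have ha'' : a'' ≫ σ = pullback.diagonal a := by simp [a'']
  have key : ∀ {Y : Scheme.{u}} (p : Y ⟶ E.obj j₀) (q : pullback p w ⟶ (bcDiag E j₀ w).obj (top j₀)),
      q ≫ σ = pullback.snd p w →
      (P (pullback.fst q a'') ↔ P (pullback.diagonal (pullback.fst p a))) := by
    intro Y p q hq
    obtain ⟨θ, hθ⟩ := exists_iso_diagonal_pullback_fst p a
    have hθ' : diagMap p a ≫ θ.hom = pullback.diagonal (pullback.fst p a) := hθ
    rw [← hθ', P.cancel_right_of_respectsIso]
    have h1 : IsPullback (pullback.fst q a'') (pullback.snd q a'') (q ≫ σ) (a'' ≫ σ) :=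
      isPullback_comp_iso q a'' σ
    rw [hq, ha''] at h1
    exact prop_iff_of_isPullback P h1 (diagMap_isPullback p a)
  have h0 := (key (e.π.app j₀) ((bcCone E e j₀ w).π.app (top j₀))
    (bcCone_π_snd E e j₀ w (top j₀))).mpr h
  obtain ⟨m, ψ, hm⟩ := coreP a'' ha'' h0
  exact ⟨m.left, m.hom, (key (E.map m.hom) ((bcDiag E j₀ w).map ψ)
    (bcDiag_map_snd E j₀ w ψ)).mp hm⟩

end diag

section cores

variable {J : Type u} [SmallCategory J] [IsCofiltered J] (E : J ⥤ Scheme.{u}) (e : Cone E)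
  (he : IsLimit e)

include he in
/-- Core descent statement for separated morphisms (no finiteness hypothesis). -/
theorem core_isSeparated [∀ (i j : J) (f : i ⟶ j), IsAffineHom (E.map f)] (j₀ : J)
    [CompactSpace (E.obj j₀)] [QuasiSeparatedSpace (E.obj j₀)]
    {X₀ : Scheme.{u}} [CompactSpace X₀] [QuasiSeparatedSpace X₀] (a : X₀ ⟶ E.obj j₀)
    (h : IsSeparated (pullback.fst (e.π.app j₀) a)) :
    ∃ (j : J) (ψ : j ⟶ j₀), IsSeparated (pullback.fst (E.map ψ) a) := by
  haveI : CompactSpace ↑(pullback a a) :=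
    QuasiCompact.compactSpace_of_compactSpace (pullback.fst a a)
  haveI : QuasiSeparatedSpace ↑(pullback a a) :=
    quasiSeparatedSpace_of_quasiSeparated (pullback.fst a a)
  haveI : ∀ (k k' : Over j₀) (φ : k ⟶ k'),
      IsAffineHom ((bcDiag E j₀ (pullback.snd a a ≫ a)).map φ) := fun _ _ φ => inferInstance
  suffices coreP : _ by
    obtain ⟨j, ψ, hj⟩ := core_diagonal E e @IsClosedImmersion j₀ a coreP
      h.isClosedImmersion_diagonal
    exact ⟨j, ψ, ⟨hj⟩⟩
  intro a'' ha'' hP
  haveI : LocallyOfFiniteType (a'' ≫ pullback.snd (E.map (top j₀).hom) (pullback.snd a a ≫ a)) := by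
    rw [ha'']; infer_instance
  haveI : LocallyOfFiniteType a'' := locallyOfFiniteType_of_comp a''
    (pullback.snd (E.map (top j₀).hom) (pullback.snd a a ≫ a))
  exact core_isClosedImmersion (bcDiag E j₀ (pullback.snd a a ≫ a))
    (bcCone E e j₀ (pullback.snd a a ≫ a)) (bcIsLimit E he j₀ (pullback.snd a a ≫ a))
    (top j₀) a'' hP

include he in
/-- Core descent statement for formally unramified morphisms locally of finite type. -/
theorem core_formallyUnramified [∀ (i j : J) (f : i ⟶ j), IsAffineHom (E.map f)] (j₀ : J)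
    [CompactSpace (E.obj j₀)] [QuasiSeparatedSpace (E.obj j₀)]
    {X₀ : Scheme.{u}} [CompactSpace X₀] [QuasiSeparatedSpace X₀] (a : X₀ ⟶ E.obj j₀)
    [LocallyOfFiniteType a]
    (h : FormallyUnramified (pullback.fst (e.π.app j₀) a)) :
    ∃ (j : J) (ψ : j ⟶ j₀), FormallyUnramified (pullback.fst (E.map ψ) a) := by
  haveI : CompactSpace ↑(pullback a a) :=
    QuasiCompact.compactSpace_of_compactSpace (pullback.fst a a)
  haveI : QuasiSeparatedSpace ↑(pullback a a) :=
    quasiSeparatedSpace_of_quasiSeparated (pullback.fst a a)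
  haveI : ∀ (k k' : Over j₀) (φ : k ⟶ k'),
      IsAffineHom ((bcDiag E j₀ (pullback.snd a a ≫ a)).map φ) := fun _ _ φ => inferInstance
  haveI : LocallyOfFiniteType (pullback.fst (e.π.app j₀) a) :=
    MorphismProperty.pullback_fst (P := @LocallyOfFiniteType) _ _ inferInstance
  have hd : IsOpenImmersion (pullback.diagonal (pullback.fst (e.π.app j₀) a)) := inferInstance
  suffices coreP : _ by
    obtain ⟨j, ψ, hj⟩ := core_diagonal E e @IsOpenImmersion j₀ a coreP hd
    exact ⟨j, ψ, inferInstance⟩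
  intro a'' ha'' hP
  let σ : (bcDiag E j₀ (pullback.snd a a ≫ a)).obj (top j₀) ⟶ pullback a a :=
    pullback.snd (E.map (top j₀).hom) (pullback.snd a a ≫ a)
  haveI : IsIso σ := isIso_snd_top E j₀ _
  haveI : LocallyOfFinitePresentation (a'' ≫ σ) := by
    rw [ha'']; infer_instance
  haveI : LocallyOfFinitePresentation a'' := locallyOfFinitePresentation_of_comp a'' σ
  exact core_isOpenImmersion (bcDiag E j₀ (pullback.snd a a ≫ a))
    (bcCone E e j₀ (pullback.snd a a ≫ a)) (bcIsLimit E he j₀ (pullback.snd a a ≫ a))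
    (top j₀) a'' hP

end cores

end Groth.Agent.Lib.Helper13.LimDescend
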