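import Groth.Agent.Lib.Helper13.LimModelAffine

/-!
# Descent of morphisms of finite presentation along cofiltered limits (Stacks 01ZM): main theorem
-/

set_option autoImplicit false
universe u

open CategoryTheory CategoryTheory.Limits AlgebraicGeometry TopologicalSpace Topology

namespace Groth.Agent.Lib.Helper13.LimModel

variable {I : Type u} [SmallCategory I] {D : I ⥤ Scheme.{u}} {c : Cone D}
  [IsCofiltered I] [∀ (i j : I) (f : i ⟶ j), IsAffineHom (D.map f)] (hc : IsLimit c)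
  [∀ i, CompactSpace (D.obj i)] [∀ i, QuasiSeparatedSpace (D.obj i)]

include hc in
/-- Gluing step: if `X` is covered by two quasi-compact opens having models, then `X` has a
model. -/
theorem hasModel_of_two {X U V : Scheme.{u}} (f : X ⟶ c.pt) (u : U ⟶ X) (v : V ⟶ X)
    [IsOpenImmersion u] [IsOpenImmersion v]
    (hcov : ∀ x : X, x ∈ Set.range u.base ∨ x ∈ Set.range v.base)
    [CompactSpace U] [CompactSpace V] [QuasiSeparatedSpace X]
    (hU : HasModel D c (u ≫ f)) (hV : HasModel D c (v ≫ f)) : HasModel D c f := by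
  obtain ⟨i₁, ⟨MU₀⟩⟩ := hU
  obtain ⟨i₂, ⟨MV₀⟩⟩ := hV
  let MU₁ := MU₀.ofHom (IsCofiltered.minToLeft i₁ i₂)
  let MV₁ := MV₀.ofHom (IsCofiltered.minToRight i₁ i₂)
  haveI : QuasiCompact u := inferInstance
  haveI : QuasiCompact v := inferInstance
  haveI : CompactSpace ↥(pullback u v) := inferInstance
  have hc₁ : IsCompact (((pullback.fst u v).opensRange : U.Opens) : Set U) :=
    isCompact_range (pullback.fst u v).continuous
  have hc₂ : IsCompact (((pullback.snd u v).opensRange : V.Opens) : Set V) :=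
    isCompact_range (pullback.snd u v).continuous
  obtain ⟨j, φ, W₁, hW₁c, hW₁⟩ := MU₁.exists_open hc _ hc₁
  let MU₂ := MU₁.ofHom φ
  let MV₂ := MV₁.ofHom φ
  obtain ⟨j', φ', W₂, hW₂c, hW₂⟩ := MV₂.exists_open hc _ hc₂
  let q : pullback MU₂.h₀ (D.map φ') ⟶ MU₂.Z₀ := pullback.fst MU₂.h₀ (D.map φ')
  haveI : QuasiCompact q := inferInstance
  have hq : (MU₂.ofHom φ').g ≫ q = MU₂.g := MU₂.ofHom_g_fst φ'
  refine hasModel_of_two_aux hc f u v hcov (MU₂.ofHom φ') (MV₂.ofHom φ') (q ⁻¹ᵁ W₁) ?_ ?_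
    W₂ hW₂c hW₂
  · exact QuasiCompact.isCompact_preimage (f := q) _ W₁.isOpen hW₁c
  · rw [← Scheme.Hom.comp_preimage, hq]
    exact hW₁

include hc in
/-- Every morphism of finite presentation to the limit has a model at some stage. -/
theorem hasModel_of_finitePresentation {X : Scheme.{u}} (f : X ⟶ c.pt)
    [LocallyOfFinitePresentation f] [QuasiCompact f] [QuasiSeparated f] : HasModel D c f := by
  classical
  haveI : ∀ {i j : I} (f : i ⟶ j), IsAffineHom (D.map f) := fun f => inferInstance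
  obtain ⟨i₀⟩ := IsCofiltered.nonempty (C := I)
  haveI : IsAffineHom (c.π.app i₀) := isAffineHom_π_app D c hc i₀
  haveI : CompactSpace c.pt := Scheme.compactSpace_of_isLimit D c hc
  haveI : QuasiSeparatedSpace c.pt := quasiSeparatedSpace_of_quasiSeparated (c.π.app i₀)
  haveI : CompactSpace X := QuasiCompact.compactSpace_of_compactSpace f
  haveI : QuasiSeparatedSpace X := quasiSeparatedSpace_of_quasiSeparated f
  -- affine opens mapping into affine opens of the stage `i₀`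
  have H : ∀ x : X, ∃ (V : (D.obj i₀).Opens) (Zx : X.Opens), IsAffineOpen V ∧ IsAffineOpen Zx ∧
      x ∈ Zx ∧ (Zx : Set X) ⊆ ((f ≫ c.π.app i₀) ⁻¹ᵁ V : X.Opens) := by
    intro x
    obtain ⟨_, ⟨V, hV, rfl⟩, hxV, -⟩ := (D.obj i₀).isBasis_affineOpens.exists_subset_of_mem_open
      (Set.mem_univ ((f ≫ c.π.app i₀).base x)) isOpen_univ
    obtain ⟨Zx, hZx, hxZ, hZV⟩ := exists_isAffineOpen_mem_and_subset
      (x := x) (U := (f ≫ c.π.app i₀) ⁻¹ᵁ V) hxV
    exact ⟨V, Zx, hV, hZx, hxZ, hZV⟩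
  choose V Zx hV hZx hxZ hZV using H
  have hpiece : ∀ x : X, HasModel D c ((Zx x).ι ≫ f) := by
    intro x
    haveI : IsAffine (Zx x).toScheme := hZx x
    refine hasModel_of_isAffine hc ((Zx x).ι ≫ f) i₀ (V x) (hV x) ?_
    rintro _ ⟨z, rfl⟩
    have hz : ((Zx x).ι.base z) ∈ ((f ≫ c.π.app i₀) ⁻¹ᵁ (V x) : X.Opens) :=
      hZV x (by rw [← Scheme.Opens.range_ι]; exact ⟨z, rfl⟩)
    change (c.π.app i₀).base (((Zx x).ι ≫ f).base z) ∈ V x
    rw [← Scheme.Hom.comp_apply, Category.assoc, Scheme.Hom.comp_apply]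
    exact hz
  -- induction on a finite subcover
  have key : ∀ t : Finset X, IsCompact ((t.sup Zx : X.Opens) : Set X) ∧
      HasModel D c ((t.sup Zx).ι ≫ f) := by
    intro t
    induction t using Finset.induction_on with
    | empty =>
      rw [Finset.sup_empty]
      refine ⟨by simp, ?_⟩
      haveI : IsAffine (⊥ : X.Opens).toScheme := isAffineOpen_bot X
      refine hasModel_of_isAffine hc ((⊥ : X.Opens).ι ≫ f) i₀ ⊥ (isAffineOpen_bot _) ?_
      rintro _ ⟨z, rfl⟩
      exact z.2.elim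
    | insert a t _ ih =>
      rw [Finset.sup_insert]
      obtain ⟨ihc, ihm⟩ := ih
      refine ⟨(hZx a).isCompact.union ihc, ?_⟩
      haveI : CompactSpace (Zx a).toScheme := isCompact_iff_compactSpace.mp (hZx a).isCompact
      haveI : CompactSpace (t.sup Zx).toScheme := isCompact_iff_compactSpace.mp ihc
      haveI : QuasiSeparatedSpace (Zx a ⊔ t.sup Zx).toScheme :=
        (isQuasiSeparated_iff_quasiSeparatedSpace _ (Zx a ⊔ t.sup Zx).2).mp
          (.of_quasiSeparatedSpace _)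
      refine hasModel_of_two hc ((Zx a ⊔ t.sup Zx).ι ≫ f) (X.homOfLE le_sup_left)
        (X.homOfLE le_sup_right) ?_ ?_ ?_
      · rintro ⟨x, hx | hx⟩
        · exact Or.inl ⟨⟨x, hx⟩, Scheme.homOfLE_apply' _ x hx⟩
        · exact Or.inr ⟨⟨x, hx⟩, Scheme.homOfLE_apply' _ x hx⟩
      · rw [Scheme.homOfLE_ι_assoc]
        exact hpiece a
      · rw [Scheme.homOfLE_ι_assoc]
        exact ihm
  -- conclude
  obtain ⟨t, ht⟩ := isCompact_univ.elim_finite_subcover (fun x => ((Zx x : X.Opens) : Set X))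
    (fun x => (Zx x).isOpen) (fun x _ => Set.mem_iUnion.mpr ⟨x, hxZ x⟩)
  have htop : t.sup Zx = ⊤ := by
    rw [eq_top_iff]
    intro x _
    obtain ⟨y, hy⟩ := Set.mem_iUnion.mp (ht (Set.mem_univ x))
    obtain ⟨hyt, hxy⟩ := Set.mem_iUnion.mp hy
    exact (Finset.le_sup (f := Zx) hyt) hxy
  obtain ⟨-, k, ⟨M⟩⟩ := key t
  haveI : IsIso (t.sup Zx).ι := isIso_of_isOpenImmersion_of_opensRange_eq_top (t.sup Zx).ι
    (by rw [Scheme.Opens.opensRange_ι]; exact htop)
  refine ⟨k, ⟨(M.ofIso (inv (t.sup Zx).ι)).ofEq ?_⟩⟩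
  rw [IsIso.inv_hom_id_assoc]

end Groth.Agent.Lib.Helper13.LimModel
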