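import Mathlib

/-! Morphisms between limits of schemes as limits of morphisms: the directed set of triples. -/

set_option autoImplicit false
universe u

open CategoryTheory CategoryTheory.Limits AlgebraicGeometry Opposite

namespace Groth.Agent.Lib.Helper13.NaTriples

/-- the structure morphism to `Spec ℤ` -/
noncomputable abbrev toZ (X : Scheme.{u}) : X ⟶ Spec (.of (ULift.{u} ℤ)) :=
  IsTerminal.from specULiftZIsTerminal X

section factor

variable {A : Type u} [Preorder A] [IsDirected A (· ≤ ·)] [Nonempty A]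
  (DA : Aᵒᵖ ⥤ Scheme.{u}) (cA : Cone DA) (hcA : IsLimit cA)
  (haff : ∀ (i j : Aᵒᵖ) (f : i ⟶ j), IsAffineHom (DA.map f))
  (hqc : ∀ i, CompactSpace (DA.obj i)) (hqs : ∀ i, QuasiSeparatedSpace (DA.obj i))

/-- the structure transformation to the constant diagram at `Spec ℤ` -/
noncomputable def tZ : DA ⟶ (Functor.const Aᵒᵖ).obj (Spec (.of (ULift.{u} ℤ))) where
  app i := toZ (DA.obj i)
  naturality _ _ _ := specULiftZIsTerminal.hom_ext _ _

include hcA haff hqc hqs in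
theorem exists_factor {Y : Scheme.{u}} [LocallyOfFinitePresentation (toZ Y)] (g : cA.pt ⟶ Y) :
    ∃ (a : A) (φ : DA.obj (op a) ⟶ Y), cA.π.app (op a) ≫ φ = g := by
  have : ∀ {i j : Aᵒᵖ} (f : i ⟶ j), IsAffineHom (DA.map f) := fun f => haff _ _ f
  obtain ⟨i, φ, h, -⟩ := Scheme.exists_π_app_comp_eq_of_locallyOfFinitePresentation DA (tZ DA)
    (toZ Y) cA hcA g (by ext i; exact specULiftZIsTerminal.hom_ext _ _)
  exact ⟨i.unop, φ, h⟩

include hcA haff hqc in
theorem exists_eq {Y : Scheme.{u}} [LocallyOfFiniteType (toZ Y)] (a : A)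
    (φ ψ : DA.obj (op a) ⟶ Y) (h : cA.π.app (op a) ≫ φ = cA.π.app (op a) ≫ ψ) :
    ∃ (a' : A) (h' : a ≤ a'), DA.map (homOfLE h').op ≫ φ = DA.map (homOfLE h').op ≫ ψ := by
  have : ∀ {i j : Aᵒᵖ} (f : i ⟶ j), IsAffineHom (DA.map f) := fun f => haff _ _ f
  obtain ⟨k, hk, e⟩ := Scheme.exists_hom_comp_eq_comp_of_locallyOfFiniteType DA (tZ DA)
    (toZ Y) cA hcA φ ψ (specULiftZIsTerminal.hom_ext _ _) (specULiftZIsTerminal.hom_ext _ _) h
  exact ⟨k.unop, leOfHom hk.unop, e⟩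

end factor

section

variable {A B : Type u} [Preorder A] [Preorder B]
  (DA : Aᵒᵖ ⥤ Scheme.{u}) (DB : Bᵒᵖ ⥤ Scheme.{u}) (cA : Cone DA) (cB : Cone DB)
  (F : cA.pt ⟶ cB.pt)

/-- triples `(a, b, φ : X_a ⟶ S_b)` compatible with `F`. -/
structure Tri where
  a : A
  b : B
  φ : DA.obj (op a) ⟶ DB.obj (op b)
  comm : cA.π.app (op a) ≫ φ = F ≫ cB.π.app (op b)

variable {DA DB cA cB F}

instance : Preorder (Tri DA DB cA cB F) where
  le x y := ∃ (ha : x.a ≤ y.a) (hb : x.b ≤ y.b),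
    DA.map (homOfLE ha).op ≫ x.φ = y.φ ≫ DB.map (homOfLE hb).op
  le_refl x := ⟨le_refl _, le_refl _, by
    rw [show (homOfLE (le_refl x.a)).op = 𝟙 (op x.a) from rfl,
      show (homOfLE (le_refl x.b)).op = 𝟙 (op x.b) from rfl]; simp⟩
  le_trans x y z := by
    rintro ⟨ha, hb, h⟩ ⟨ha', hb', h'⟩
    refine ⟨ha.trans ha', hb.trans hb', ?_⟩
    rw [show (homOfLE (ha.trans ha')).op = (homOfLE ha').op ≫ (homOfLE ha).op from rfl,
      show (homOfLE (hb.trans hb')).op = (homOfLE hb').op ≫ (homOfLE hb).op from rfl,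
      DA.map_comp, DB.map_comp, Category.assoc, h, ← Category.assoc, h', Category.assoc]

theorem le_def (x y : Tri DA DB cA cB F) : x ≤ y ↔ ∃ (ha : x.a ≤ y.a) (hb : x.b ≤ y.b),
    DA.map (homOfLE ha).op ≫ x.φ = y.φ ≫ DB.map (homOfLE hb).op := Iff.rfl

/-- projection to `A` -/
def pA : Tri DA DB cA cB F →o A := ⟨Tri.a, fun _ _ h => h.1⟩

/-- projection to `B` -/
def pB : Tri DA DB cA cB F →o B := ⟨Tri.b, fun _ _ h => h.2.1⟩

theorem map_map {a a' a'' : A} (h : a ≤ a') (h' : a' ≤ a'') :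
    DA.map (homOfLE h').op ≫ DA.map (homOfLE h).op = DA.map (homOfLE (h.trans h')).op := by
  rw [← DA.map_comp]; rfl

variable [IsDirected A (· ≤ ·)] [Nonempty A] [IsDirected B (· ≤ ·)] [Nonempty B]
  (hcA : IsLimit cA)
  (haff : ∀ (i j : Aᵒᵖ) (f : i ⟶ j), IsAffineHom (DA.map f))
  (hqc : ∀ i, CompactSpace (DA.obj i)) (hqs : ∀ i, QuasiSeparatedSpace (DA.obj i))
  (hB : ∀ i, LocallyOfFinitePresentation (toZ (DB.obj i)))

include hcA haff hqc hqs hB in
/-- every `b` (and every lower bound `a₀`) is dominated by a triple -/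
theorem exists_tri (a₀ : A) (b : B) : ∃ x : Tri DA DB cA cB F, a₀ ≤ x.a ∧ x.b = b := by
  have := hB (op b)
  obtain ⟨a, φ, h⟩ := exists_factor DA cA hcA haff hqc hqs (F ≫ cB.π.app (op b))
  obtain ⟨a', h1, h2⟩ := exists_ge_ge a₀ a
  refine ⟨⟨a', b, DA.map (homOfLE h2).op ≫ φ, ?_⟩, h1, rfl⟩
  rw [← Category.assoc, cA.w, h]

include hcA haff hqc hqs hB in
theorem nonempty_tri : Nonempty (Tri DA DB cA cB F) :=
  let ⟨x, _⟩ := exists_tri (F := F) hcA haff hqc hqs hB (Classical.arbitrary A)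
    (Classical.arbitrary B)
  ⟨x⟩

include hcA haff hqc hqs hB in
/-- a triple below a given one, given a level `b'' ≥ x.b` with a compatible `φ₀`. -/
theorem exists_ge_of (x : Tri DA DB cA cB F) (z : Tri DA DB cA cB F) (hb : x.b ≤ z.b) :
    ∃ (a' : A) (h' : z.a ≤ a'), x ≤ ⟨a', z.b, DA.map (homOfLE h').op ≫ z.φ, by
      rw [← Category.assoc, cA.w, z.comm]⟩ := by
  have := hB (op x.b)
  have : LocallyOfFiniteType (toZ (DB.obj (op x.b))) := inferInstance
  obtain ⟨a₁, h1, h2⟩ := exists_ge_ge x.a z.a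
  obtain ⟨a₂, h3, e⟩ := exists_eq DA cA hcA haff hqc a₁ (DA.map (homOfLE h1).op ≫ x.φ)
    (DA.map (homOfLE h2).op ≫ z.φ ≫ DB.map (homOfLE hb).op) (by
      rw [← Category.assoc, cA.w, x.comm, ← Category.assoc, cA.w, ← Category.assoc, z.comm,
        Category.assoc, cB.w])
  refine ⟨a₂, h2.trans h3, h1.trans h3, hb, ?_⟩
  change DA.map (homOfLE (h1.trans h3)).op ≫ x.φ =
    (DA.map (homOfLE (h2.trans h3)).op ≫ z.φ) ≫ DB.map (homOfLE hb).op
  rw [← map_map h1 h3, ← map_map h2 h3, Category.assoc, e]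
  simp only [Category.assoc]

include hcA haff hqc hqs hB in
theorem isDirected_tri : IsDirected (Tri DA DB cA cB F) (· ≤ ·) := by
  refine ⟨fun x y => ?_⟩
  obtain ⟨b, hb1, hb2⟩ := exists_ge_ge x.b y.b
  obtain ⟨z, -, hz⟩ := exists_tri (F := F) hcA haff hqc hqs hB (Classical.arbitrary A) b
  subst hz
  obtain ⟨a₁, h1, hx⟩ := exists_ge_of hcA haff hqc hqs hB x z hb1
  obtain ⟨a₂, h2, hy⟩ := exists_ge_of hcA haff hqc hqs hB y z hb2
  obtain ⟨a₃, h3, h4⟩ := exists_ge_ge a₁ a₂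
  let w : Tri DA DB cA cB F := ⟨a₃, z.b, DA.map (homOfLE (h1.trans h3)).op ≫ z.φ, by
    rw [← Category.assoc, cA.w, z.comm]⟩
  have hw : ∀ (a' : A) (h' : z.a ≤ a') (h'' : a' ≤ a₃),
      (⟨a', z.b, DA.map (homOfLE h').op ≫ z.φ, by rw [← Category.assoc, cA.w, z.comm]⟩ :
        Tri DA DB cA cB F) ≤ w := by
    intro a' h' h''
    refine ⟨h'', le_refl _, ?_⟩
    change DA.map (homOfLE h'').op ≫ DA.map (homOfLE h').op ≫ z.φ =
      (DA.map (homOfLE (h1.trans h3)).op ≫ z.φ) ≫ DB.map (homOfLE (le_refl z.b)).op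
    rw [show (homOfLE (le_refl z.b)).op = 𝟙 (op z.b) from rfl, DB.map_id, Category.comp_id,
      ← Category.assoc, map_map]
  exact ⟨w, hx.trans (hw a₁ h1 h3), hy.trans (hw a₂ h2 h4)⟩

include hcA haff hqc hqs hB in
theorem final_pA : (pA (DA := DA) (DB := DB) (cA := cA) (cB := cB) (F := F)).monotone.functor.Final := by
  have := isDirected_tri (F := F) hcA haff hqc hqs hB
  have := nonempty_tri (F := F) hcA haff hqc hqs hB
  refine Functor.final_of_exists_of_isFiltered _ (fun a => ?_) (fun {d c} s s' => ?_)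
  · obtain ⟨x, hx, -⟩ := exists_tri (F := F) hcA haff hqc hqs hB a (Classical.arbitrary B)
    exact ⟨x, ⟨homOfLE hx⟩⟩
  · exact ⟨c, 𝟙 c, Subsingleton.elim _ _⟩

include hcA haff hqc hqs hB in
theorem final_pB : (pB (DA := DA) (DB := DB) (cA := cA) (cB := cB) (F := F)).monotone.functor.Final := by
  have := isDirected_tri (F := F) hcA haff hqc hqs hB
  have := nonempty_tri (F := F) hcA haff hqc hqs hB
  refine Functor.final_of_exists_of_isFiltered _ (fun b => ?_) (fun {d c} s s' => ?_)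
  · obtain ⟨x, -, hx⟩ := exists_tri (F := F) hcA haff hqc hqs hB (Classical.arbitrary A) b
    exact ⟨x, ⟨homOfLE hx.ge⟩⟩
  · exact ⟨c, 𝟙 c, Subsingleton.elim _ _⟩

/-- the natural transformation of the triples -/
def triφ : (pA (DA := DA) (DB := DB) (cA := cA) (cB := cB) (F := F)).monotone.functor.op ⋙ DA ⟶
    (pB (DA := DA) (DB := DB) (cA := cA) (cB := cB) (F := F)).monotone.functor.op ⋙ DB where
  app i := i.unop.φ
  naturality i j f := by
    obtain ⟨ha, hb, h⟩ := leOfHom f.unop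
    exact h

include hcA haff hqc hqs hB in
/-- **Main statement**: a morphism between limits is a limit of morphisms. -/
theorem exists_triples (hcB : IsLimit cB) :
    ∃ (I : Type u) (_ : Preorder I) (_ : IsDirected I (· ≤ ·)) (_ : Nonempty I)
      (α : I →o A) (β : I →o B)
      (φ : α.monotone.functor.op ⋙ DA ⟶ β.monotone.functor.op ⋙ DB),
      Nonempty (IsLimit (cA.whisker α.monotone.functor.op)) ∧
      Nonempty (IsLimit (cB.whisker β.monotone.functor.op)) ∧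
      (∀ a₀ : A, ∃ i, a₀ ≤ α i) ∧ (∀ b₀ : B, ∃ i, b₀ ≤ β i) ∧
      ∀ i : I, cA.π.app (op (α i)) ≫ φ.app (op i) = F ≫ cB.π.app (op (β i)) := by
  have h1 := final_pA (F := F) hcA haff hqc hqs hB
  have h2 := final_pB (F := F) hcA haff hqc hqs hB
  refine ⟨Tri DA DB cA cB F, inferInstance, isDirected_tri (F := F) hcA haff hqc hqs hB,
    nonempty_tri (F := F) hcA haff hqc hqs hB, pA, pB, triφ, ?_, ?_, ?_, ?_, fun i => i.comm⟩
  · exact ⟨(Functor.Initial.isLimitWhiskerEquiv _ cA).symm hcA⟩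
  · exact ⟨(Functor.Initial.isLimitWhiskerEquiv _ cB).symm hcB⟩
  · intro a₀
    obtain ⟨x, hx, -⟩ := exists_tri (F := F) hcA haff hqc hqs hB a₀ (Classical.arbitrary B)
    exact ⟨x, hx⟩
  · intro b₀
    obtain ⟨x, -, hx⟩ := exists_tri (F := F) hcA haff hqc hqs hB (Classical.arbitrary A) b₀
    exact ⟨x, hx.ge⟩

end

end Groth.Agent.Lib.Helper13.NaTriples
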