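import Mathlib
import Groth.Agent.Lib.lead.NaAbs
import Groth.Agent.Lib.Helper27.NoethLfp
import Groth.Agent.Lib.Helper13.NaTriples

/-! A morphism of qcqs schemes is a limit of morphisms of schemes of finite type over `ℤ`. -/

set_option autoImplicit false
universe u

open CategoryTheory CategoryTheory.Limits AlgebraicGeometry Opposite

namespace Groth.Agent.Lib.Helper13.NaArrow

open Groth.Agent.Lib.lead.NaMain Groth.Agent.Lib.Helper13.NaTriples

theorem lfp_of_ftz {X : Scheme.{u}} (h : FTZ X) : LocallyOfFinitePresentation (toZ X) := by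
  have := h.2
  exact Groth.Agent.Lib.Helper27.NoethLfp.locallyOfFinitePresentation_of_isLocallyNoetherian _

/-- absolute approximation with the cone point on the nose -/
theorem exists_approx' (S : Scheme.{u}) [CompactSpace S] [QuasiSeparatedSpace S] :
    ∃ (I : Type u) (_ : Preorder I) (_ : IsDirected I (· ≤ ·)) (_ : Nonempty I)
      (D : Iᵒᵖ ⥤ Scheme.{u}) (π : (Functor.const Iᵒᵖ).obj S ⟶ D),
      Nonempty (IsLimit (Cone.mk S π)) ∧
      (∀ (i j : Iᵒᵖ) (f : i ⟶ j), IsAffineHom (D.map f)) ∧ (∀ i, FTZ (D.obj i)) := by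
  obtain ⟨I, _, _, _, D, c, hc, h1, h2, ⟨e⟩⟩ := exists_approx S
  refine ⟨I, inferInstance, inferInstance, inferInstance, D, (c.extend e.inv).π, ?_, h1, h2⟩
  exact ⟨IsLimit.ofIsoLimit hc (Cone.ext e (fun i => by simp))⟩

/-- **A morphism of qcqs schemes is a directed limit of morphisms of schemes of finite type over
the integers.** -/
theorem exists_arrow_approx {X S : Scheme.{u}} (f : X ⟶ S) [CompactSpace X]
    [QuasiSeparatedSpace X] [CompactSpace S] [QuasiSeparatedSpace S] :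
    ∃ (I : Type u) (_ : Preorder I) (_ : IsDirected I (· ≤ ·)) (_ : Nonempty I)
      (DX DS : Iᵒᵖ ⥤ Scheme.{u}) (φ : DX ⟶ DS)
      (πX : (Functor.const Iᵒᵖ).obj X ⟶ DX) (πS : (Functor.const Iᵒᵖ).obj S ⟶ DS),
      Nonempty (IsLimit (Cone.mk X πX)) ∧ Nonempty (IsLimit (Cone.mk S πS)) ∧
      (∀ (i j : Iᵒᵖ) (a : i ⟶ j), IsAffineHom (DX.map a)) ∧
      (∀ (i j : Iᵒᵖ) (a : i ⟶ j), IsAffineHom (DS.map a)) ∧
      (∀ i, FTZ (DX.obj i)) ∧ (∀ i, FTZ (DS.obj i)) ∧
      (∀ i, πX.app i ≫ φ.app i = f ≫ πS.app i) := by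
  obtain ⟨A, _, _, _, DA, πA, ⟨hA⟩, haffA, hftA⟩ := exists_approx' X
  obtain ⟨B, _, _, _, DB, πB, ⟨hB⟩, haffB, hftB⟩ := exists_approx' S
  have hqs : ∀ i, QuasiSeparatedSpace (DA.obj i) := fun i => by
    have := isNoetherian_of_ftz (hftA i); infer_instance
  obtain ⟨I, _, _, _, α, β, φ, ⟨h1⟩, ⟨h2⟩, -, -, h3⟩ :=
    exists_triples (DA := DA) (DB := DB) (cA := Cone.mk X πA) (cB := Cone.mk S πB) (F := f)
      hA haffA (fun i => (hftA i).1) hqs (fun i => lfp_of_ftz (hftB i)) hB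
  refine ⟨I, inferInstance, inferInstance, inferInstance, α.monotone.functor.op ⋙ DA,
    β.monotone.functor.op ⋙ DB, φ, ((Cone.mk X πA).whisker α.monotone.functor.op).π,
    ((Cone.mk S πB).whisker β.monotone.functor.op).π, ⟨h1⟩, ⟨h2⟩, ?_, ?_, ?_, ?_, ?_⟩
  · intro i j a; exact haffA _ _ _
  · intro i j a; exact haffB _ _ _
  · intro i; exact hftA _
  · intro i; exact hftB _
  · intro i; exact h3 i.unop

end Groth.Agent.Lib.Helper13.NaArrow
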