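import Mathlib

/-! Lifting cofiltered limits of schemes to the over category, and the fibre product diagram
attached to a limit of morphisms. -/

set_option autoImplicit false
universe u

open CategoryTheory CategoryTheory.Limits AlgebraicGeometry Opposite

namespace Groth.Agent.Lib.Helper13.NaOver

section overlift

variable {J : Type u} [SmallCategory J] {X S : Scheme.{u}} (G : J ⥤ Scheme.{u})
  (s : G ⟶ (Functor.const J).obj S) (π : (Functor.const J).obj X ⟶ G) (f : X ⟶ S)
  (hf : ∀ j, π.app j ≫ s.app j = f)

/-- the diagram in the over category -/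
def overDiag : J ⥤ Over S :=
  Functor.toOver G S s.app (fun {i j} a => by simpa using s.naturality a)

@[simp] lemma overDiag_obj_hom (j : J) : ((overDiag G s).obj j).hom = s.app j := rfl
@[simp] lemma overDiag_obj_left (j : J) : ((overDiag G s).obj j).left = G.obj j := rfl
@[simp] lemma overDiag_map_left {i j : J} (a : i ⟶ j) : ((overDiag G s).map a).left = G.map a := rfl

/-- the cone in the over category -/
def overCone : Cone (overDiag G s) where
  pt := Over.mk f
  π :=
    { app j := Over.homMk (π.app j) (hf j)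
      naturality i j a := by
        apply Over.OverMorphism.ext
        have := π.naturality a
        simp only [Functor.const_obj_obj, Functor.const_obj_map, Category.id_comp] at this
        simp only [Functor.const_obj_obj, Functor.const_obj_map, Category.id_comp, Over.comp_left,
          overDiag_map_left]
        exact this }

/-- it is a limit cone -/
noncomputable def overIsLimit [IsConnected J] (hπ : IsLimit (Cone.mk X π)) :
    IsLimit (overCone G s π f hf) :=
  isLimitOfReflects (Over.forget S)
    (hπ.ofIsoLimit (Cone.ext (Iso.refl _) (fun j => by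
      simp only [overCone, Functor.mapCone_pt, Over.forget_obj, Over.mk_left, Iso.refl_hom,
        Functor.mapCone_π_app, Over.forget_map, Category.id_comp]
      rfl)))

end overlift

section fibre

variable {J : Type u} [SmallCategory J] {X S : Scheme.{u}} {DX DS : J ⥤ Scheme.{u}}
  (φ : DX ⟶ DS) (πX : (Functor.const J).obj X ⟶ DX) (πS : (Functor.const J).obj S ⟶ DS)
  (f : X ⟶ S)

/-- the projections of a cone, with their honest types -/
def pr {X : Scheme.{u}} {D : J ⥤ Scheme.{u}} (π : (Functor.const J).obj X ⟶ D) (j : J) :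
    X ⟶ D.obj j := π.app j

lemma pr_w {X : Scheme.{u}} {D : J ⥤ Scheme.{u}} (π : (Functor.const J).obj X ⟶ D) {i j : J}
    (a : i ⟶ j) : pr π i ≫ D.map a = pr π j := by
  have := π.naturality a
  simp only [Functor.const_obj_obj, Functor.const_obj_map, Category.id_comp] at this
  exact this.symm

/-- the transition maps -/
noncomputable def fpMap {i j : J} (a : i ⟶ j) :
    pullback (φ.app i) (pr πS i) ⟶ pullback (φ.app j) (pr πS j) :=
  pullback.lift (pullback.fst (φ.app i) (pr πS i) ≫ DX.map a) (pullback.snd (φ.app i) (pr πS i))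
    (by rw [Category.assoc, φ.naturality a, ← Category.assoc, pullback.condition, Category.assoc,
      pr_w])

lemma fpMap_fst {i j : J} (a : i ⟶ j) : fpMap φ πS a ≫ pullback.fst (φ.app j) (pr πS j) =
    pullback.fst (φ.app i) (pr πS i) ≫ DX.map a := by
  rw [fpMap, pullback.lift_fst]

lemma fpMap_snd {i j : J} (a : i ⟶ j) : fpMap φ πS a ≫ pullback.snd (φ.app j) (pr πS j) =
    pullback.snd (φ.app i) (pr πS i) := by
  rw [fpMap, pullback.lift_snd]

/-- the diagram `j ↦ X_j ×_{S_j} S` -/
noncomputable def fpDiag : J ⥤ Scheme.{u} where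
  obj j := pullback (φ.app j) (pr πS j)
  map {i j} a := fpMap φ πS a
  map_id j := by
    apply pullback.hom_ext
    · rw [fpMap_fst, DX.map_id, Category.comp_id, Category.id_comp]
    · rw [fpMap_snd, Category.id_comp]
  map_comp a b := by
    apply pullback.hom_ext
    · rw [fpMap_fst, Category.assoc, fpMap_fst, ← Category.assoc, fpMap_fst, DX.map_comp,
        Category.assoc]
    · rw [fpMap_snd, Category.assoc, fpMap_snd, fpMap_snd]

/-- first projection -/
noncomputable def fpFst (j : J) : (fpDiag φ πS).obj j ⟶ DX.obj j := pullback.fst (φ.app j) (pr πS j)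

/-- second projection -/
noncomputable def fpSnd (j : J) : (fpDiag φ πS).obj j ⟶ S := pullback.snd (φ.app j) (pr πS j)

lemma fp_condition (j : J) : fpFst φ πS j ≫ φ.app j = fpSnd φ πS j ≫ pr πS j := pullback.condition

lemma fp_isPullback (j : J) : IsPullback (fpFst φ πS j) (fpSnd φ πS j) (φ.app j) (pr πS j) :=
  IsPullback.of_hasPullback _ _

lemma fp_hom_ext {T : Scheme.{u}} {j : J} {m n : T ⟶ (fpDiag φ πS).obj j}
    (h1 : m ≫ fpFst φ πS j = n ≫ fpFst φ πS j) (h2 : m ≫ fpSnd φ πS j = n ≫ fpSnd φ πS j) :
    m = n := pullback.hom_ext h1 h2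

@[reassoc]
lemma fpDiag_map_fst {i j : J} (a : i ⟶ j) : (fpDiag φ πS).map a ≫ fpFst φ πS j =
    fpFst φ πS i ≫ DX.map a := fpMap_fst φ πS a

@[reassoc]
lemma fpDiag_map_snd {i j : J} (a : i ⟶ j) : (fpDiag φ πS).map a ≫ fpSnd φ πS j =
    fpSnd φ πS i := fpMap_snd φ πS a

/-- the structure maps to `S` -/
noncomputable def fpStr : fpDiag φ πS ⟶ (Functor.const J).obj S where
  app j := fpSnd φ πS j
  naturality i j a := by
    rw [fpDiag_map_snd]; exact (Category.comp_id _).symm

lemma fpStr_app (j : J) : (fpStr φ πS).app j = fpSnd φ πS j := rfl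

variable (comm : ∀ j, pr πX j ≫ φ.app j = f ≫ pr πS j)

/-- the maps from `X` -/
noncomputable def fpLift (j : J) : X ⟶ (fpDiag φ πS).obj j := pullback.lift (pr πX j) f (comm j)

@[reassoc]
lemma fpLift_fst (j : J) : fpLift φ πX πS f comm j ≫ fpFst φ πS j = pr πX j :=
  pullback.lift_fst _ _ _

@[reassoc]
lemma fpLift_snd (j : J) : fpLift φ πX πS f comm j ≫ fpSnd φ πS j = f :=
  pullback.lift_snd _ _ _

/-- the cone with vertex `X` -/
noncomputable def fpπ : (Functor.const J).obj X ⟶ fpDiag φ πS where
  app j := fpLift φ πX πS f comm j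
  naturality i j a := by
    change 𝟙 X ≫ fpLift φ πX πS f comm j = fpLift φ πX πS f comm i ≫ (fpDiag φ πS).map a
    rw [Category.id_comp]
    apply fp_hom_ext
    · rw [fpLift_fst, Category.assoc, fpDiag_map_fst, fpLift_fst_assoc, pr_w]
    · rw [fpLift_snd, Category.assoc, fpDiag_map_snd, fpLift_snd]

lemma fpπ_app (j : J) : (fpπ φ πX πS f comm).app j = fpLift φ πX πS f comm j := rfl

lemma fpπ_str (j : J) : (fpπ φ πX πS f comm).app j ≫ (fpStr φ πS).app j = f :=
  fpLift_snd φ πX πS f comm j

/-- the cone is a limit cone -/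
noncomputable def fpIsLimit [IsCofiltered J] (hX : IsLimit (Cone.mk X πX))
    (hS : IsLimit (Cone.mk S πS)) : IsLimit (Cone.mk X (fpπ φ πX πS f comm)) := by
  -- all the maps to `S` from a cone agree
  have key : ∀ (t : Cone (fpDiag φ πS)) (i j : J),
      t.π.app i ≫ fpSnd φ πS i = t.π.app j ≫ fpSnd φ πS j := by
    intro t i j
    have h : ∀ {i j : J} (a : i ⟶ j), t.π.app i ≫ fpSnd φ πS i = t.π.app j ≫ fpSnd φ πS j := by
      intro i j a
      rw [← t.w a, Category.assoc, fpDiag_map_snd]
    rw [← h (IsCofiltered.minToLeft i j), h (IsCofiltered.minToRight i j)]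
  let tX : ∀ t : Cone (fpDiag φ πS), Cone DX := fun t =>
    { pt := t.pt
      π :=
        { app j := t.π.app j ≫ fpFst φ πS j
          naturality i j a := by
            change 𝟙 t.pt ≫ t.π.app j ≫ fpFst φ πS j = (t.π.app i ≫ fpFst φ πS i) ≫ DX.map a
            rw [Category.id_comp, Category.assoc, ← fpDiag_map_fst, ← Category.assoc, t.w] } }
  have lift_fst : ∀ (t : Cone (fpDiag φ πS)) (j : J), hX.lift (tX t) ≫ pr πX j =
      t.π.app j ≫ fpFst φ πS j := fun t j => hX.fac (tX t) j
  have lift_snd : ∀ (t : Cone (fpDiag φ πS)) (j : J), hX.lift (tX t) ≫ f =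
      t.π.app j ≫ fpSnd φ πS j := by
    intro t j
    refine hS.hom_ext (fun k => ?_)
    change (hX.lift (tX t) ≫ f) ≫ pr πS k = (t.π.app j ≫ fpSnd φ πS j) ≫ pr πS k
    rw [key t j k, Category.assoc, ← comm k, ← Category.assoc, lift_fst, Category.assoc,
      Category.assoc, fp_condition]
  exact
    { lift := fun t => hX.lift (tX t)
      fac := fun t j => by
        apply fp_hom_ext
        · change (hX.lift (tX t) ≫ fpLift φ πX πS f comm j) ≫ _ = _
          rw [Category.assoc, fpLift_fst, lift_fst]
        · change (hX.lift (tX t) ≫ fpLift φ πX πS f comm j) ≫ _ = _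
          rw [Category.assoc, fpLift_snd, lift_snd t j]
      uniq := fun t m hm => by
        refine hX.hom_ext (fun j => ?_)
        change m ≫ pr πX j = hX.lift (tX t) ≫ pr πX j
        rw [lift_fst, ← hm j]
        change _ = (m ≫ fpLift φ πX πS f comm j) ≫ _
        rw [Category.assoc, fpLift_fst] }

end fibre

end Groth.Agent.Lib.Helper13.NaOver
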