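import Mathlib
import Groth.Agent.Lib.Helper13.NaOver

/-! Properties of the fibre product diagram `j ↦ X_j ×_{S_j} S`. -/

set_option autoImplicit false
universe u

open CategoryTheory CategoryTheory.Limits AlgebraicGeometry Opposite

namespace Groth.Agent.Lib.Helper13.NaOver

section props

variable {J : Type u} [SmallCategory J] {X S : Scheme.{u}} {DX DS : J ⥤ Scheme.{u}}
  (φ : DX ⟶ DS) (πX : (Functor.const J).obj X ⟶ DX) (πS : (Functor.const J).obj S ⟶ DS)
  (f : X ⟶ S)

lemma fpSnd_of (P : MorphismProperty Scheme.{u}) [P.IsStableUnderBaseChange] (j : J)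
    (h : P (φ.app j)) : P (fpSnd φ πS j) :=
  P.of_isPullback (fp_isPullback φ πS j) h

lemma fpFst_of (P : MorphismProperty Scheme.{u}) [P.IsStableUnderBaseChange] (j : J)
    (h : P (pr πS j)) : P (fpFst φ πS j) :=
  P.of_isPullback (fp_isPullback φ πS j).flip h

lemma isAffineHom_fpDiag_map {i j : J} (a : i ⟶ j) (ha : IsAffineHom (DX.map a))
    (hi : IsAffineHom (pr πS i)) (hj : IsAffineHom (pr πS j)) :
    IsAffineHom ((fpDiag φ πS).map a) := by
  have h1 : IsAffineHom (fpFst φ πS i) := fpFst_of φ πS @IsAffineHom i hi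
  have h2 : IsAffineHom (fpFst φ πS j) := fpFst_of φ πS @IsAffineHom j hj
  have h3 : IsAffineHom ((fpDiag φ πS).map a ≫ fpFst φ πS j) := by
    rw [fpDiag_map_fst]; infer_instance
  exact IsAffineHom.of_comp _ (fpFst φ πS j)

lemma compactSpace_fpDiag_obj (j : J) [CompactSpace S] (h : QuasiCompact (φ.app j)) :
    CompactSpace ((fpDiag φ πS).obj j) := by
  have : QuasiCompact (fpSnd φ πS j) := fpSnd_of φ πS @QuasiCompact j h
  exact QuasiCompact.compactSpace_of_compactSpace (fpSnd φ πS j)

lemma quasiSeparatedSpace_fpDiag_obj (j : J) [QuasiSeparatedSpace S] (h : QuasiSeparated (φ.app j)) :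
    QuasiSeparatedSpace ((fpDiag φ πS).obj j) := by
  have : QuasiSeparated (fpSnd φ πS j) := fpSnd_of φ πS @QuasiSeparated j h
  exact quasiSeparatedSpace_of_quasiSeparated (fpSnd φ πS j)

end props

end Groth.Agent.Lib.Helper13.NaOver
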