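import Mathlib
import Groth.Agent.Lib.Helper13.NaFP
import Groth.Agent.Lib.Helper13.NaArrow

/-! Every morphism from a qcqs scheme to a quasi-separated scheme is a directed limit of morphisms
of finite presentation with affine transition maps. -/

set_option autoImplicit false
universe u

open CategoryTheory CategoryTheory.Limits AlgebraicGeometry Opposite

namespace Groth.Agent.Lib.Helper13.NaFP

open Groth.Agent.Lib.lead.NaMain Groth.Agent.Lib.Helper13.NaTriples
  Groth.Agent.Lib.Helper13.NaArrow Groth.Agent.Lib.Helper13.NaOver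

/-- a morphism between schemes of finite type over `ℤ` is of finite presentation -/
theorem fp_of_ftz {X Y : Scheme.{u}} (hX : FTZ X) (hY : FTZ Y) (g : X ⟶ Y) :
    LocallyOfFinitePresentation g ∧ QuasiCompact g ∧ QuasiSeparated g := by
  have := isNoetherian_of_ftz hX
  have := isNoetherian_of_ftz hY
  have := hX.1
  have h1 : LocallyOfFiniteType (g ≫ toZ Y) := by
    rw [show g ≫ toZ Y = toZ X from specULiftZIsTerminal.hom_ext _ _]
    exact hX.2
  have : LocallyOfFiniteType g := locallyOfFiniteType_of_comp g (toZ Y)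
  exact ⟨Groth.Agent.Lib.Helper27.NoethLfp.locallyOfFinitePresentation_of_isLocallyNoetherian g,
    inferInstance, inferInstance⟩

/-- the case of a quasi-compact base -/
theorem exists_fp_approx_compact {X S : Scheme.{u}} (f : X ⟶ S) [CompactSpace X]
    [QuasiSeparatedSpace X] [CompactSpace S] [QuasiSeparatedSpace S] :
    ∃ (I : Type u) (_ : Preorder I) (_ : IsDirected I (· ≤ ·)) (_ : Nonempty I)
      (G : Iᵒᵖ ⥤ Scheme.{u}) (s : G ⟶ (Functor.const Iᵒᵖ).obj S)
      (π : (Functor.const Iᵒᵖ).obj X ⟶ G),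
      Nonempty (IsLimit (Cone.mk X π)) ∧ (∀ j, pr π j ≫ s.app j = f) ∧
      (∀ j, LocallyOfFinitePresentation (s.app j) ∧ QuasiCompact (s.app j) ∧
        QuasiSeparated (s.app j)) ∧
      (∀ (i j : Iᵒᵖ) (a : i ⟶ j), IsAffineHom (G.map a)) ∧
      (∀ j, CompactSpace (G.obj j) ∧ QuasiSeparatedSpace (G.obj j)) := by
  obtain ⟨I, _, _, _, DX, DS, φ, πX, πS, ⟨hX⟩, ⟨hS⟩, affX, affS, ftX, ftS, comm⟩ :=
    exists_arrow_approx f
  have hφ := fun i => fp_of_ftz (ftX i) (ftS i) (φ.app i)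
  have affπ : ∀ i, IsAffineHom (pr πS i) := fun i => by
    have : ∀ {i j : Iᵒᵖ} (a : i ⟶ j), IsAffineHom (DS.map a) := fun a => affS _ _ a
    exact isAffineHom_π_app DS (Cone.mk S πS) hS i
  refine ⟨I, inferInstance, inferInstance, inferInstance, fpDiag φ πS, fpStr φ πS,
    fpπ φ πX πS f comm, ⟨fpIsLimit φ πX πS f comm hX hS⟩, fun j => fpπ_str φ πX πS f comm j,
    fun j => ⟨?_, ?_, ?_⟩, ?_, fun j => ⟨?_, ?_⟩⟩
  · exact fpSnd_of φ πS @LocallyOfFinitePresentation j (hφ j).1
  · exact fpSnd_of φ πS @QuasiCompact j (hφ j).2.1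
  · exact fpSnd_of φ πS @QuasiSeparated j (hφ j).2.2
  · intro i j a
    exact isAffineHom_fpDiag_map φ πS a (affX _ _ a) (affπ i) (affπ j)
  · exact compactSpace_fpDiag_obj φ πS j (hφ j).2.1
  · exact quasiSeparatedSpace_fpDiag_obj φ πS j (hφ j).2.2

/-- **Limits of morphisms of finite presentation**: the general case. -/
theorem exists_fp_approx {X S : Scheme.{u}} (f : X ⟶ S) [CompactSpace X]
    [QuasiSeparatedSpace X] [QuasiSeparatedSpace S] :
    ∃ (I : Type u) (_ : Preorder I) (_ : IsDirected I (· ≤ ·)) (_ : Nonempty I)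
      (G : Iᵒᵖ ⥤ Scheme.{u}) (s : G ⟶ (Functor.const Iᵒᵖ).obj S)
      (π : (Functor.const Iᵒᵖ).obj X ⟶ G),
      Nonempty (IsLimit (Cone.mk X π)) ∧ (∀ j, pr π j ≫ s.app j = f) ∧
      (∀ j, LocallyOfFinitePresentation (s.app j) ∧ QuasiCompact (s.app j) ∧
        QuasiSeparated (s.app j)) ∧
      (∀ (i j : Iᵒᵖ) (a : i ⟶ j), IsAffineHom (G.map a)) ∧
      (∀ j, CompactSpace (G.obj j) ∧ QuasiSeparatedSpace (G.obj j)) := by
  obtain ⟨W, hWc, hWo, hW, -⟩ := PrespectralSpace.exists_isCompact_and_isOpen_between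
    (isCompact_range f.continuous) isOpen_univ (Set.subset_univ _)
  let U : S.Opens := ⟨W, hWo⟩
  have : CompactSpace U := isCompact_iff_compactSpace.mp hWc
  have : QuasiSeparatedSpace U := quasiSeparatedSpace_of_quasiSeparated U.ι
  have hr : Set.range f ⊆ Set.range U.ι := by
    rw [Scheme.Opens.range_ι]; exact hW
  let f' : X ⟶ U := IsOpenImmersion.lift U.ι f hr
  have hf' : f' ≫ U.ι = f := IsOpenImmersion.lift_fac _ _ _
  obtain ⟨I, _, _, _, G, s, π, hπ, h1, h2, h3, h4⟩ := exists_fp_approx_compact f'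
  have : QuasiCompact U.ι := quasiCompact_of_compactSpace U.ι
  refine ⟨I, inferInstance, inferInstance, inferInstance, G,
    s ≫ (Functor.const Iᵒᵖ).map U.ι, π, hπ, fun j => ?_, fun j => ?_, h3, h4⟩
  · change pr π j ≫ s.app j ≫ U.ι = f
    rw [← Category.assoc, h1, hf']
  · obtain ⟨a, b, c⟩ := h2 j
    change LocallyOfFinitePresentation (s.app j ≫ U.ι) ∧ QuasiCompact (s.app j ≫ U.ι) ∧
      QuasiSeparated (s.app j ≫ U.ι)
    exact ⟨inferInstance, inferInstance, inferInstance⟩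

end Groth.Agent.Lib.Helper13.NaFP
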