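import Mathlib
import Groth.Agent.Lib.Helper13.NaFPMain
import Groth.Agent.S2076
import Groth.Agent.S9199
import Groth.Agent.S9200

/-! Good stages of the approximation of a morphism by morphisms of finite presentation. -/

set_option autoImplicit false
universe u
open CategoryTheory CategoryTheory.Limits AlgebraicGeometry Opposite

namespace Groth.Agent.Lib.Helper13.NaStage

open Groth.Agent.Lib.Helper13.NaFP Groth.Agent.Lib.Helper13.NaOver

variable {X S : Scheme.{u}} (f : X ⟶ S)
    {I : Type u} [Preorder I] [IsDirected I (· ≤ ·)] [Nonempty I]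
    (G : Iᵒᵖ ⥤ Scheme.{u}) (s : G ⟶ (Functor.const Iᵒᵖ).obj S)
    (π : (Functor.const Iᵒᵖ).obj X ⟶ G) (hπ : IsLimit (Cone.mk X π))
    (h1 : ∀ j, pr π j ≫ s.app j = f)
    (h3 : ∀ (i j : Iᵒᵖ) (a : i ⟶ j), IsAffineHom (G.map a))

include hπ h1 h3 in
/-- a closed immersion stage of the approximation of a morphism locally of finite type -/
theorem exists_closedImmersion_stage [LocallyOfFiniteType f] (h4 : ∀ j, CompactSpace (G.obj j)) :
    ∃ i : Iᵒᵖ, IsClosedImmersion (pr π i) := by
  haveI : IsConnected Iᵒᵖ := IsCofiltered.isConnected _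
  haveI : ∀ (i j : Iᵒᵖ) (a : i ⟶ j), IsAffineHom ((overDiag G s).map a).left := h3
  haveI : ∀ i, CompactSpace ((overDiag G s).obj i).left := h4
  let h : X ⟶ (overCone G s π f h1).pt.left := 𝟙 X
  haveI : IsClosedImmersion h := inferInstanceAs (IsClosedImmersion (𝟙 X))
  haveI : LocallyOfFiniteType (h ≫ (overCone G s π f h1).pt.hom) := by
    change LocallyOfFiniteType (𝟙 X ≫ f)
    rw [Category.id_comp]; infer_instance
  obtain ⟨i, hi⟩ := Groth.Agent.S2076.result S (overDiag G s) (overCone G s π f h1)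
    (overIsLimit G s π f h1 hπ) (Y := X) h
  refine ⟨i, ?_⟩
  have : h ≫ ((overCone G s π f h1).π.app i).left = pr π i := Category.id_comp _
  rw [← this]; exact hi

include h3 in
/-- closed immersion stages are stable under refinement -/
theorem closedImmersion_of_hom {i j : Iᵒᵖ} (a : j ⟶ i) (hi : IsClosedImmersion (pr π i)) :
    IsClosedImmersion (pr π j) := by
  have := h3 _ _ a
  have : IsClosedImmersion (pr π j ≫ G.map a) := by rw [pr_w]; exact hi
  exact IsClosedImmersion.of_comp (pr π j) (G.map a)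

include hπ h1 h3 in
/-- separated stages -/
theorem exists_separated_stage [IsSeparated f] [QuasiSeparatedSpace S]
    (h4 : ∀ j, CompactSpace (G.obj j)) (h5 : ∀ j, QuasiSeparatedSpace (G.obj j)) :
    ∃ i₁ : Iᵒᵖ, ∀ (i : Iᵒᵖ) (_ : i ⟶ i₁), IsSeparated (s.app i) := by
  let i₀ : Iᵒᵖ := op (Classical.arbitrary I)
  haveI : IsSeparated ((Cone.mk X π).π.app i₀ ≫ s.app i₀) := by
    change IsSeparated (pr π i₀ ≫ s.app i₀)
    rw [h1]; infer_instance
  exact Groth.Agent.S9199.result S G s (Cone.mk X π) hπ i₀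

include hπ h1 h3 in
/-- affine stages -/
theorem exists_affine_stage [IsAffineHom f] [CompactSpace S] [QuasiSeparatedSpace S]
    (h4 : ∀ j, CompactSpace (G.obj j)) (h5 : ∀ j, QuasiSeparatedSpace (G.obj j)) :
    ∃ i₁ : Iᵒᵖ, ∀ (i : Iᵒᵖ) (_ : i ⟶ i₁), IsAffineHom (s.app i) := by
  let i₀ : Iᵒᵖ := op (Classical.arbitrary I)
  haveI : IsAffineHom ((Cone.mk X π).π.app i₀ ≫ s.app i₀) := by
    change IsAffineHom (pr π i₀ ≫ s.app i₀)
    rw [h1]; infer_instance
  exact Groth.Agent.S9200.result S G s (Cone.mk X π) hπ i₀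

end Groth.Agent.Lib.Helper13.NaStage
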