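import Mathlib
import Groth.Agent.Lib.Helper13.ClopenProper
import Groth.Agent.Lib.lead.ChowR

set_option autoImplicit false
set_option linter.unusedSectionVars false
set_option linter.unusedVariables false
set_option linter.style.haveILetI false
universe u

open CategoryTheory CategoryTheory.Limits AlgebraicGeometry TopologicalSpace PrimeSpectrum

namespace Groth.Agent.Lib.Helper13.ClopenProperGen

open Groth.Agent.Lib.Helper13.ClopenProper

/-- the clopen proper part, over an arbitrary base ring, given the lifting of clopen subsets for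
proper schemes (`hmain`) -/
theorem exists_clopen_proper_gen (A : Type u) [CommRing A]
    (C : Set ↥(Spec (CommRingCat.of A))) (hCcl : IsClosed C)
    (hCne : ∀ T : Set ↥(Spec (CommRingCat.of A)), IsClosed T → T.Nonempty → (T ∩ C).Nonempty)
    (hmain : ∀ {Y : Scheme.{u}} (h : Y ⟶ Spec (CommRingCat.of A)) [IsProper h] (V' : Set Y),
      V' ⊆ h ⁻¹' C → IsClosed V' → IsClosed (h ⁻¹' C \ V') →
        ∃ U : Set Y, IsClopen U ∧ U ∩ h ⁻¹' C = V')
    {X : Scheme.{u}} (f : X ⟶ Spec (CommRingCat.of A)) [IsSeparated f] [LocallyOfFiniteType f]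
    [QuasiCompact f]
    (Z₀ : Set X) (O : Set X) (hO : IsOpen O) (hZ₀ : Z₀ = O ∩ f ⁻¹' C)
    {T : Scheme.{u}} (t : T ⟶ X) (ht : Set.range t = Z₀) [IsProper (t ≫ f)] :
    ∃ U : X.Opens, IsClosed (U : Set X) ∧ IsProper (U.ι ≫ f) ∧
      (U : Set X) ∩ f ⁻¹' C = Z₀ := by
  classical
  obtain ⟨n, X', π, j, hj, hcomm, hπ, hπs⟩ := Groth.Agent.Lib.lead.ChowR.hasChow_qcqs f
  haveI : IsProper (CohB1.ProjSpaceOver.toBase n (Spec (CommRingCat.of A))) :=
    Groth.Agent.Lib.Helper28.ProjSpaceBasic.isProper_toBase n _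
  haveI : QuasiCompact (j ≫ CohB1.ProjSpaceOver.toBase n (Spec (CommRingCat.of A))) := by
    rw [hcomm]; infer_instance
  haveI : QuasiCompact j :=
    QuasiCompact.of_comp j (CohB1.ProjSpaceOver.toBase n (Spec (CommRingCat.of A)))
  let g : X' ⟶ j.image := j.toImage
  let h : j.image ⟶ CohB1.ProjSpaceOver n (Spec (CommRingCat.of A)) := j.imageι
  have hgh : g ≫ h = j := j.toImage_imageι
  let q : j.image ⟶ Spec (CommRingCat.of A) :=
    h ≫ CohB1.ProjSpaceOver.toBase n (Spec (CommRingCat.of A))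
  haveI : IsProper q := inferInstance
  have hqg : g ≫ q = π ≫ f := by
    show g ≫ h ≫ _ = _
    rw [← Category.assoc, hgh, hcomm]
  have hqgpt : ∀ x : X', q (g x) = f (π x) := by
    intro x
    have := congrArg (fun φ : X' ⟶ Spec (CommRingCat.of A) => φ x) hqg
    simpa using this
  have hZ₀sub : Z₀ ⊆ f ⁻¹' C := by
    rw [hZ₀]; exact Set.inter_subset_right
  -- the set `V'`
  set V' : Set j.image := g '' (π ⁻¹' Z₀) with hV'
  have hV'sub : V' ⊆ q ⁻¹' C := by
    rintro _ ⟨x', hx', rfl⟩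
    rw [Set.mem_preimage, hqgpt]
    exact hZ₀sub hx'
  have hV'cl : IsClosed V' := by
    let s : pullback t π ⟶ X' := pullback.snd t π
    have hrs : Set.range s = π ⁻¹' Z₀ := by
      rw [← ht]; exact Scheme.Pullback.range_snd t π
    haveI : IsProper ((s ≫ g) ≫ q) := by
      have e : (s ≫ g) ≫ q = pullback.fst t π ≫ t ≫ f := by
        rw [Category.assoc, hqg, ← Category.assoc, ← pullback.condition, Category.assoc]
      rw [e]
      infer_instance
    haveI : IsProper (s ≫ g) := IsProper.of_comp (s ≫ g) q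
    have hrange : Set.range (s ≫ g) = V' := by
      rw [hV', ← hrs]
      ext p
      constructor
      · rintro ⟨a, rfl⟩
        exact ⟨s a, ⟨a, rfl⟩, by simp⟩
      · rintro ⟨_, ⟨a, rfl⟩, rfl⟩
        exact ⟨a, by simp⟩
    rw [← hrange]
    exact (s ≫ g).isClosedMap.isClosed_range
  have hV'' : IsClosed (q ⁻¹' C \ V') := by
    have e : q ⁻¹' C \ V' = q ⁻¹' C ∩ (g '' (π ⁻¹' O))ᶜ := by
      ext p
      constructor
      · rintro ⟨hp1, hp2⟩
        refine ⟨hp1, ?_⟩
        rintro ⟨x', hx', rfl⟩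
        apply hp2
        refine ⟨x', ?_, rfl⟩
        rw [Set.mem_preimage, hZ₀]
        refine ⟨hx', ?_⟩
        rw [Set.mem_preimage, ← hqgpt]
        exact hp1
      · rintro ⟨hp1, hp2⟩
        refine ⟨hp1, ?_⟩
        rintro ⟨x', hx', rfl⟩
        apply hp2
        refine ⟨x', ?_, rfl⟩
        have : π x' ∈ Z₀ := hx'
        rw [hZ₀] at this
        exact this.1
    rw [e]
    refine IsClosed.inter (hCcl.preimage q.continuous) ?_
    exact (g.isOpenEmbedding.isOpenMap _ (hO.preimage π.continuous)).isClosed_compl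
  obtain ⟨W, hWclopen, hWC⟩ := hmain q V' hV'sub hV'cl hV''
  obtain ⟨hUclopen, hUC, hsat, hWr⟩ :=
    Groth.Agent.Lib.Helper13.ClopenProperTop.core π π.continuous π.isClosedMap hπs.surj
      g g.isOpenEmbedding q q.isClosedMap f hqgpt C hCne Z₀ W hWclopen hWC
  let U : X.Opens := ⟨π '' (g ⁻¹' W), hUclopen.2⟩
  refine ⟨U, hUclopen.1, ?_, hUC⟩
  -- properness
  let W' : X'.Opens := ⟨g ⁻¹' W, hWclopen.2.preimage g.continuous⟩
  let φ : (W' : Scheme.{u}) ⟶ X := W'.ι ≫ π
  have hφr : Set.range φ ⊆ Set.range U.ι := by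
    rw [Scheme.Opens.range_ι]
    rintro _ ⟨x, rfl⟩
    exact ⟨W'.ι x, x.2, by simp [φ]⟩
  let r : (W' : Scheme.{u}) ⟶ (U : Scheme.{u}) := IsOpenImmersion.lift U.ι φ hφr
  have hr : r ≫ U.ι = φ := IsOpenImmersion.lift_fac _ _ _
  haveI : Surjective r := by
    refine ⟨fun u => ?_⟩
    obtain ⟨w', hw', hw'u⟩ := u.2
    let x : ↥(W' : Scheme.{u}) := ⟨w', hw'⟩
    refine ⟨x, ?_⟩
    apply U.ι.isOpenEmbedding.injective
    have h1 : (r ≫ U.ι) x = φ x := by rw [hr]
    rw [Scheme.Hom.comp_apply] at h1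
    rw [h1]
    show π (W'.ι x) = _
    exact hw'u
  haveI : IsClosedImmersion (W'.ι ≫ g) := by
    apply isClosedImmersion_of_isOpenImmersion
    have : Set.range (W'.ι ≫ g) = W := by
      ext p
      constructor
      · rintro ⟨a, rfl⟩
        exact a.2
      · intro hp
        obtain ⟨x', rfl⟩ := hWr hp
        exact ⟨⟨x', hp⟩, rfl⟩
    rw [this]
    exact hWclopen.1
  haveI : IsProper (r ≫ U.ι ≫ f) := by
    have e : r ≫ U.ι ≫ f = (W'.ι ≫ g) ≫ q := by
      rw [← Category.assoc, hr, Category.assoc, Category.assoc, hqg]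
    rw [e]
    infer_instance
  haveI : UniversallyClosed (U.ι ≫ f) := UniversallyClosed.of_comp_surjective r (U.ι ≫ f)
  exact {}


/-- **Stacks 0A0C modulo the lifting of clopen subsets**: the clopen proper part of the closed
fibre lifts -/
theorem clopen_proper_lifts (A : Type u) [CommRing A] (I : Ideal A)
    (hjac : I ≤ Ideal.jacobson ⊥)
    (hK : ∀ {Y : Scheme.{u}} (h : Y ⟶ Spec (CommRingCat.of A)) [IsProper h] (V' : Set Y),
      V' ⊆ h ⁻¹' (zeroLocus (I : Set A)) → IsClosed V' →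
      IsClosed (h ⁻¹' (zeroLocus (I : Set A)) \ V') →
        ∃ U : Set Y, IsClopen U ∧ U ∩ h ⁻¹' (zeroLocus (I : Set A)) = V')
    {X : Scheme.{u}} (f : X ⟶ Spec (CommRingCat.of A)) [IsSeparated f] [LocallyOfFiniteType f]
    [QuasiCompact f]
    (Y : (pullback f (Spec.map (CommRingCat.ofHom (Ideal.Quotient.mk I)))).Opens)
    (hYp : IsProper (Y.ι ≫ pullback.snd f (Spec.map (CommRingCat.ofHom (Ideal.Quotient.mk I))))) :
    ∃ W : X.Opens, IsClosed (W : Set ↑X) ∧ IsProper (W.ι ≫ f) ∧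
      pullback.fst f (Spec.map (CommRingCat.ofHom (Ideal.Quotient.mk I))) ⁻¹ᵁ W = Y := by
  let e : Spec (CommRingCat.of (A ⧸ I)) ⟶ Spec (CommRingCat.of A) :=
    Spec.map (CommRingCat.ofHom (Ideal.Quotient.mk I))
  let i₀ : pullback f e ⟶ X := pullback.fst f e
  let p₀ : pullback f e ⟶ Spec (CommRingCat.of (A ⧸ I)) := pullback.snd f e
  haveI : IsClosedImmersion e := IsClosedImmersion.spec_of_surjective _ Ideal.Quotient.mk_surjective
  haveI : IsClosedImmersion i₀ := inferInstanceAs (IsClosedImmersion (pullback.fst f e))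
  have hre : Set.range e = (zeroLocus (I : Set A) : Set (PrimeSpectrum A)) := by
    have := range_comap_of_surjective _ (Ideal.Quotient.mk I) Ideal.Quotient.mk_surjective
    rw [Ideal.mk_ker] at this
    exact this
  have hrange : Set.range i₀ = f ⁻¹' (zeroLocus (I : Set A)) := by
    rw [← hre]
    exact Scheme.Pullback.range_fst f e
  obtain ⟨O, hO, hOV⟩ := i₀.isEmbedding.isInducing.isOpen_iff.mp Y.2
  let t : (Y : Scheme.{u}) ⟶ X := Y.ι ≫ i₀
  haveI : IsProper (Y.ι ≫ p₀) := hYp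
  haveI : IsProper (t ≫ f) := by
    have hc : i₀ ≫ f = p₀ ≫ e := pullback.condition
    have e' : t ≫ f = (Y.ι ≫ p₀) ≫ e := by
      show (Y.ι ≫ i₀) ≫ f = _
      rw [Category.assoc, hc, Category.assoc]
    rw [e']
    infer_instance
  have ht : Set.range t = i₀ '' (Y : Set ↥(pullback f e)) := by
    ext p
    constructor
    · rintro ⟨a, rfl⟩
      exact ⟨Y.ι a, a.2, rfl⟩
    · rintro ⟨b, hb, rfl⟩
      exact ⟨⟨b, hb⟩, rfl⟩
  have hZ₀ : i₀ '' (Y : Set ↥(pullback f e)) = O ∩ f ⁻¹' (zeroLocus (I : Set A)) := by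
    have hOV' : i₀ ⁻¹' O = (Y : Set ↥(pullback f e)) := hOV
    rw [← hrange, ← hOV', Set.image_preimage_eq_inter_range]
  obtain ⟨U, hUcl, hUp, hUC⟩ := exists_clopen_proper_gen A (zeroLocus (I : Set A))
    (isClosed_zeroLocus _) (closed_meets_zeroLocus I hjac) hK f _ O hO hZ₀ t ht
  refine ⟨U, hUcl, hUp, ?_⟩
  ext x
  show i₀ x ∈ (U : Set X) ↔ x ∈ (Y : Set _)
  constructor
  · intro hx
    have : i₀ x ∈ (U : Set X) ∩ f ⁻¹' (zeroLocus (I : Set A)) :=
      ⟨hx, by rw [← hrange]; exact ⟨x, rfl⟩⟩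
    rw [hUC] at this
    obtain ⟨y, hy, hyx⟩ := this
    rw [← i₀.isEmbedding.injective hyx]
    exact hy
  · intro hx
    have : i₀ x ∈ (U : Set X) ∩ f ⁻¹' (zeroLocus (I : Set A)) := by
      rw [hUC]; exact ⟨x, hx, rfl⟩
    exact this.1

end Groth.Agent.Lib.Helper13.ClopenProperGen
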