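import Mathlib

set_option autoImplicit false
universe u
open CategoryTheory CategoryTheory.Limits AlgebraicGeometry

namespace Groth.Agent.Lib.Helper13.ClopenSec

variable (S : Scheme.{u})

/-- the fold map `S ⨿ S ⟶ S` -/
noncomputable abbrev fold : S ⨿ S ⟶ S := coprod.desc (𝟙 S) (𝟙 S)

theorem isClopen_range_inl : IsClopen (Set.range (coprod.inl : S ⟶ S ⨿ S)) := by
  constructor
  · rw [← isOpen_compl_iff, (isCompl_range_inl_inr S S).compl_eq]
    exact (coprod.inr : S ⟶ S ⨿ S).isOpenEmbedding.isOpen_range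
  · exact (coprod.inl : S ⟶ S ⨿ S).isOpenEmbedding.isOpen_range

set_option backward.isDefEq.respectTransparency.types false in
instance etale_fold : Etale (fold S) := by
  apply IsZariskiLocalAtSource.of_openCover (P := @Etale) (coprodOpenCover.{u, 0} S S)
  rintro (x | x)
  · change Etale (coprod.inl ≫ fold S)
    rw [coprod.inl_desc]
    infer_instance
  · change Etale (coprod.inr ≫ fold S)
    rw [coprod.inr_desc]
    infer_instance

theorem fold_inl (y : S) : fold S ((coprod.inl : S ⟶ S ⨿ S) y) = y := by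
  rw [← Scheme.Hom.comp_apply, coprod.inl_desc]; rfl

theorem fold_inr (y : S) : fold S ((coprod.inr : S ⟶ S ⨿ S) y) = y := by
  rw [← Scheme.Hom.comp_apply, coprod.inr_desc]; rfl

theorem mem_range_or (x : ↥(S ⨿ S)) :
    x ∈ Set.range (coprod.inl : S ⟶ S ⨿ S) ∨ x ∈ Set.range (coprod.inr : S ⟶ S ⨿ S) := by
  have hx : x ∈ (Set.range (coprod.inl : S ⟶ S ⨿ S) ⊔ Set.range (coprod.inr : S ⟶ S ⨿ S)) := by
    rw [(isCompl_range_inl_inr S S).sup_eq_top]; trivial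
  exact hx

theorem fold_preimage (U : S.Opens) :
    fold S ⁻¹ᵁ U = (coprod.inl : S ⟶ S ⨿ S) ''ᵁ U ⊔ (coprod.inr : S ⟶ S ⨿ S) ''ᵁ U := by
  ext x
  change fold S x ∈ U ↔ x ∈ ((coprod.inl : S ⟶ S ⨿ S) ''ᵁ U : Set _) ∪
    ((coprod.inr : S ⟶ S ⨿ S) ''ᵁ U : Set _)
  rcases mem_range_or S x with ⟨y, rfl⟩ | ⟨y, rfl⟩
  · rw [fold_inl]
    constructor
    · intro h
      exact Or.inl ⟨y, h, rfl⟩
    · rintro (⟨z, hz, hzy⟩ | ⟨z, hz, hzy⟩)
      · rwa [← (coprod.inl : S ⟶ S ⨿ S).isOpenEmbedding.injective hzy]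
      · exact absurd hzy (inr_ne_inl _ _ _ _)
  · rw [fold_inr]
    constructor
    · intro h
      exact Or.inr ⟨y, h, rfl⟩
    · rintro (⟨z, hz, hzy⟩ | ⟨z, hz, hzy⟩)
      · exact absurd hzy (inl_ne_inr _ _ _ _)
      · rwa [← (coprod.inr : S ⟶ S ⨿ S).isOpenEmbedding.injective hzy]

instance isAffineHom_fold : IsAffineHom (fold S) := by
  refine ⟨fun U hU => ?_⟩
  rw [fold_preimage]
  refine IsAffineOpen.sup_of_disjoint (hU.image_of_isOpenImmersion _)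
    (hU.image_of_isOpenImmersion _) ?_
  rw [disjoint_iff]
  ext x
  simp only [TopologicalSpace.Opens.coe_inf, TopologicalSpace.Opens.coe_bot, Set.mem_inter_iff,
    Set.mem_empty_iff_false, iff_false, not_and]
  rintro ⟨z, hz, hzy⟩ ⟨z', hz', hzy'⟩
  exact inl_ne_inr _ _ _ _ (hzy.trans hzy'.symm)

section sections

variable {S} {P : Scheme.{u}} (p : P ⟶ S)

theorem eq_inl (φ : P ⟶ S ⨿ S) (hφ : φ ≫ fold S = p) (U : P.Opens)
    (hU : (U : Set P) ⊆ φ ⁻¹' Set.range (coprod.inl : S ⟶ S ⨿ S)) :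
    U.ι ≫ φ = U.ι ≫ p ≫ coprod.inl := by
  have hr : Set.range (U.ι ≫ φ) ⊆ Set.range (coprod.inl : S ⟶ S ⨿ S) := by
    rintro _ ⟨x, rfl⟩
    exact hU x.2
  have h1 : IsOpenImmersion.lift coprod.inl (U.ι ≫ φ) hr ≫ coprod.inl = U.ι ≫ φ :=
    IsOpenImmersion.lift_fac _ _ _
  have h2 : IsOpenImmersion.lift coprod.inl (U.ι ≫ φ) hr = U.ι ≫ p := by
    have := congrArg (· ≫ fold S) h1
    simp only [Category.assoc, coprod.inl_desc, Category.comp_id] at this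
    rw [this, hφ]
  rw [← h1, h2, Category.assoc]

theorem eq_inr (φ : P ⟶ S ⨿ S) (hφ : φ ≫ fold S = p) (U : P.Opens)
    (hU : (U : Set P) ⊆ φ ⁻¹' Set.range (coprod.inr : S ⟶ S ⨿ S)) :
    U.ι ≫ φ = U.ι ≫ p ≫ coprod.inr := by
  have hr : Set.range (U.ι ≫ φ) ⊆ Set.range (coprod.inr : S ⟶ S ⨿ S) := by
    rintro _ ⟨x, rfl⟩
    exact hU x.2
  have h1 : IsOpenImmersion.lift coprod.inr (U.ι ≫ φ) hr ≫ coprod.inr = U.ι ≫ φ :=
    IsOpenImmersion.lift_fac _ _ _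
  have h2 : IsOpenImmersion.lift coprod.inr (U.ι ≫ φ) hr = U.ι ≫ p := by
    have := congrArg (· ≫ fold S) h1
    simp only [Category.assoc, coprod.inr_desc, Category.comp_id] at this
    rw [this, hφ]
  rw [← h1, h2, Category.assoc]

/-- the open subscheme on a clopen set -/
def opn (V : Set P) (hV : IsClopen V) : P.Opens := ⟨V, hV.isOpen⟩

/-- the open subscheme on the complement of a clopen set -/
def opc (V : Set P) (hV : IsClopen V) : P.Opens := ⟨Vᶜ, hV.compl.isOpen⟩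

theorem isCompl_opn_opc (V : Set P) (hV : IsClopen V) : IsCompl (opn V hV) (opc V hV) := by
  rw [isCompl_iff, disjoint_iff, codisjoint_iff]
  constructor
  · ext x
    change x ∈ V ∩ Vᶜ ↔ x ∈ (∅ : Set P)
    simp
  · ext x
    change x ∈ V ∪ Vᶜ ↔ x ∈ (Set.univ : Set P)
    simp

theorem nonempty_isColimit (V : Set P) (hV : IsClopen V) :
    Nonempty (IsColimit (BinaryCofan.mk (opn V hV).ι (opc V hV).ι)) := by
  apply nonempty_isColimit_binaryCofanMk_of_isCompl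
  rw [Scheme.Opens.opensRange_ι, Scheme.Opens.opensRange_ι]
  exact isCompl_opn_opc V hV

theorem sec_ext (φ ψ : P ⟶ S ⨿ S) (hφ : φ ≫ fold S = p) (hψ : ψ ≫ fold S = p)
    (h : φ ⁻¹' Set.range (coprod.inl : S ⟶ S ⨿ S) = ψ ⁻¹' Set.range (coprod.inl : S ⟶ S ⨿ S)) :
    φ = ψ := by
  have hV : IsClopen (φ ⁻¹' Set.range (coprod.inl : S ⟶ S ⨿ S)) :=
    (isClopen_range_inl S).preimage φ.continuous
  obtain ⟨hc⟩ := nonempty_isColimit _ hV
  have hcompl : ∀ (χ : P ⟶ S ⨿ S) (x : P), x ∉ χ ⁻¹' Set.range (coprod.inl : S ⟶ S ⨿ S) →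
      x ∈ χ ⁻¹' Set.range (coprod.inr : S ⟶ S ⨿ S) := by
    intro χ x hx
    rcases mem_range_or S (χ x) with h' | h'
    · exact absurd h' hx
    · exact h'
  refine BinaryCofan.IsColimit.hom_ext hc ?_ ?_
  · change (opn _ hV).ι ≫ φ = (opn _ hV).ι ≫ ψ
    rw [eq_inl p φ hφ _ (fun x hx => hx), eq_inl p ψ hψ _ (fun x hx => h ▸ hx)]
  · change (opc _ hV).ι ≫ φ = (opc _ hV).ι ≫ ψ
    rw [eq_inr p φ hφ _ (fun x hx => hcompl φ x hx),
      eq_inr p ψ hψ _ (fun x hx => hcompl ψ x (h ▸ hx))]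

theorem exists_sec (V : Set P) (hV : IsClopen V) :
    ∃ φ : P ⟶ S ⨿ S, φ ≫ fold S = p ∧ φ ⁻¹' Set.range (coprod.inl : S ⟶ S ⨿ S) = V := by
  obtain ⟨hc⟩ := nonempty_isColimit V hV
  obtain ⟨φ, h1, h2⟩ : ∃ φ : P ⟶ S ⨿ S, (opn V hV).ι ≫ φ = (opn V hV).ι ≫ p ≫ coprod.inl ∧
      (opc V hV).ι ≫ φ = (opc V hV).ι ≫ p ≫ coprod.inr :=
    ⟨hc.desc (BinaryCofan.mk ((opn V hV).ι ≫ p ≫ coprod.inl) ((opc V hV).ι ≫ p ≫ coprod.inr)),
      hc.fac _ ⟨WalkingPair.left⟩, hc.fac _ ⟨WalkingPair.right⟩⟩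
  refine ⟨φ, BinaryCofan.IsColimit.hom_ext hc ?_ ?_, ?_⟩
  · change (opn V hV).ι ≫ φ ≫ fold S = (opn V hV).ι ≫ p
    rw [reassoc_of% h1, coprod.inl_desc, Category.comp_id]
  · change (opc V hV).ι ≫ φ ≫ fold S = (opc V hV).ι ≫ p
    rw [reassoc_of% h2, coprod.inr_desc, Category.comp_id]
  · ext x
    by_cases hx : x ∈ V
    · simp only [Set.mem_preimage, hx, iff_true]
      have : φ x = ((opn V hV).ι ≫ φ) ⟨x, hx⟩ := rfl
      rw [this, h1]
      exact ⟨_, rfl⟩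
    · simp only [Set.mem_preimage, hx, iff_false]
      have : φ x = ((opc V hV).ι ≫ φ) ⟨x, hx⟩ := rfl
      rw [this, h2]
      rintro ⟨z, hz⟩
      exact inl_ne_inr _ _ _ _ hz

end sections

end Groth.Agent.Lib.Helper13.ClopenSec
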