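import Groth.Agent.Lib.Helper13.StarIhom
import Mathlib.CategoryTheory.Limits.Shapes.Pullback.IsPullback.Basic
import Mathlib.CategoryTheory.Limits.Shapes.Pullback.Iso
import Mathlib.CategoryTheory.Adjunction.Limits
import Mathlib.CategoryTheory.Sites.CartesianClosed
import Mathlib.CategoryTheory.Monoidal.Closed.FunctorToTypes
import Mathlib.CategoryTheory.Monoidal.Closed.Types

/-!
# The pushout `U ⨿_{U × Y} Y` lies in the closed complement of a subterminal `U`
-/
universe v u
open CategoryTheory CategoryTheory.Limits MonoidalCategory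

namespace Groth.Agent.Lib.Helper13.ClosedCompl

variable {E : Type u} [Category.{v} E]

theorem eq_of_subterminal [HasTerminal E] {U : E} (hU : Mono (terminal.from U)) {T : E}
    (a b : T ⟶ U) : a = b := by
  rw [← cancel_mono (terminal.from U)]
  exact Subsingleton.elim _ _

theorem isIso_fst_self [HasTerminal E] [HasBinaryProducts E] {U : E}
    (hU : Mono (terminal.from U)) : IsIso (prod.fst : U ⨯ U ⟶ U) := by
  refine ⟨prod.lift (𝟙 U) (𝟙 U), ?_, prod.lift_fst _ _⟩
  apply Limits.prod.hom_ext
  · rw [Category.assoc, prod.lift_fst, Category.comp_id, Category.id_comp]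
  · rw [Category.assoc, prod.lift_snd, Category.comp_id, Category.id_comp]
    exact eq_of_subterminal hU _ _

theorem isIso_map_snd [HasTerminal E] [HasBinaryProducts E] {U : E}
    (hU : Mono (terminal.from U)) (Y : E) :
    IsIso (prod.map (𝟙 U) (prod.snd : U ⨯ Y ⟶ Y)) := by
  have h1 : prod.map (𝟙 U) (prod.snd : U ⨯ Y ⟶ Y) = prod.snd := by
    apply Limits.prod.hom_ext
    · rw [prod.map_fst, Category.comp_id]
      exact eq_of_subterminal hU _ _
    · rw [prod.map_snd]
  refine ⟨prod.lift prod.fst (𝟙 _), ?_, ?_⟩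
  · rw [h1]
    apply Limits.prod.hom_ext
    · rw [Category.assoc, prod.lift_fst, Category.id_comp]
      exact eq_of_subterminal hU _ _
    · rw [Category.assoc, prod.lift_snd, Category.comp_id, Category.id_comp]
  · apply Limits.prod.hom_ext
    · rw [Category.assoc, prod.map_fst, Category.comp_id, prod.lift_fst, Category.id_comp]
    · rw [Category.assoc, prod.map_snd, ← Category.assoc, prod.lift_snd, Category.id_comp]

/-- `U ⨯ -` is isomorphic to `U ⊗ -` -/
noncomputable def tensorLeftIsoProdFunctor [CartesianMonoidalCategory E] [HasBinaryProducts E]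
    (U : E) : tensorLeft U ≅ prod.functor.obj U :=
  NatIso.ofComponents (fun W => StarIhom.tensorIsoProd U W) (by
    intro W W' f
    exact (StarIhom.tensorIsoProd_natural U f).symm)

theorem isIso_fst_pushout [CartesianMonoidalCategory E] [MonoidalClosed E] [HasBinaryProducts E]
    [HasPushouts E] [HasTerminal E] (U : E) (hU : Mono (terminal.from U)) (Y : E) :
    IsIso (prod.fst :
      U ⨯ pushout (prod.fst : U ⨯ Y ⟶ U) (prod.snd : U ⨯ Y ⟶ Y) ⟶ U) := by
  haveI : PreservesColimitsOfSize.{0, 0} (tensorLeft U) :=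
    (ihom.adjunction U).leftAdjoint_preservesColimits
  haveI : PreservesColimitsOfShape WalkingSpan (prod.functor.obj U) :=
    preservesColimitsOfShape_of_natIso (tensorLeftIsoProdFunctor U)
  have sq := (IsPushout.of_hasPushout (prod.fst : U ⨯ Y ⟶ U) (prod.snd : U ⨯ Y ⟶ Y)).map
    (prod.functor.obj U)
  haveI : IsIso ((prod.functor.obj U).map (prod.snd : U ⨯ Y ⟶ Y)) := isIso_map_snd hU Y
  haveI h1 : IsIso ((prod.functor.obj U).map
      (pushout.inl (prod.fst : U ⨯ Y ⟶ U) (prod.snd : U ⨯ Y ⟶ Y))) :=
    sq.isIso_inl_of_isIso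
  haveI h2 : IsIso (prod.fst : U ⨯ U ⟶ U) := isIso_fst_self hU
  haveI h1' : IsIso (prod.map (𝟙 U)
      (pushout.inl (prod.fst : U ⨯ Y ⟶ U) (prod.snd : U ⨯ Y ⟶ Y))) := h1
  have h3 : prod.map (𝟙 U)
      (pushout.inl (prod.fst : U ⨯ Y ⟶ U) (prod.snd : U ⨯ Y ⟶ Y)) ≫ prod.fst =
      (prod.fst : U ⨯ U ⟶ U) := by
    rw [prod.map_fst, Category.comp_id]
  exact IsIso.of_isIso_fac_left h3

end Groth.Agent.Lib.Helper13.ClosedCompl

namespace Groth.Agent.Lib.Helper13.ClosedCompl

open CategoryTheory CategoryTheory.Limits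

/-- the forgetful functor from the slice over a subterminal object preserves nonempty products -/
theorem preservesLimitsOfShape_discrete_forget {E : Type u} [Category.{v} E] [HasTerminal E]
    (U : E) (hU : Mono (terminal.from U)) (I : Type*) [Nonempty I] :
    PreservesLimitsOfShape (Discrete I) (Over.forget U) := by
  constructor
  intro K
  constructor
  intro c hc
  obtain ⟨i₀⟩ := ‹Nonempty I›
  refine ⟨?_⟩
  -- turn a cone over `K ⋙ forget` into a cone over `K`
  let mk : ∀ s : Cone (K ⋙ Over.forget U), Cone K := fun s =>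
    { pt := Over.mk (s.π.app ⟨i₀⟩ ≫ (K.obj ⟨i₀⟩).hom)
      π := Discrete.natTrans fun j => Over.homMk (s.π.app j) (eq_of_subterminal hU _ _) }
  refine
    { lift := fun s => (hc.lift (mk s)).left
      fac := fun s j => ?_
      uniq := fun s m hm => ?_ }
  · have := congrArg (fun k => k.left) (hc.fac (mk s) j)
    exact this
  · have h1 : Over.homMk (U := (mk s).pt) (V := c.pt) m (eq_of_subterminal hU _ _) =
        hc.lift (mk s) := by
      apply hc.uniq (mk s)
      intro j
      ext
      exact hm j
    rw [← h1]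
    rfl

end Groth.Agent.Lib.Helper13.ClosedCompl
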