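import Groth.Agent.Lib.Helper13.ClosedCoverGlue

/-!
# A scheme covered by two affine closed subschemes with `I₁ ⊓ I₂ = ⊥` is affine
-/

set_option autoImplicit false
universe u
open CategoryTheory AlgebraicGeometry TopologicalSpace Opposite

namespace Groth.Agent.Lib.Helper13.ClosedCover

open Scheme.IdealSheafData

variable {X : Scheme.{u}}

instance isClosedImmersion_inclusion {I J : X.IdealSheafData} (h : I ≤ J) :
    IsClosedImmersion (inclusion h) := by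
  haveI : IsClosedImmersion (inclusion h ≫ I.subschemeι) := by
    rw [inclusion_subschemeι]; infer_instance
  exact IsClosedImmersion.of_comp_isClosedImmersion (inclusion h) I.subschemeι

variable (I₁ I₂ : X.IdealSheafData)

/-- every point lies on one of the two closed subschemes -/
theorem mem_support_or (h : I₁ ⊓ I₂ = ⊥) (x : X) : x ∈ I₁.support ∨ x ∈ I₂.support := by
  by_contra hc
  push Not at hc
  obtain ⟨h1, h2⟩ := hc
  obtain ⟨_, ⟨U, hU, rfl⟩, hxU, -⟩ :=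
    X.isBasis_affineOpens.exists_subset_of_mem_open (Set.mem_univ x) isOpen_univ
  rw [mem_support_iff_of_mem (U := ⟨U, hU⟩) hxU, Scheme.mem_zeroLocus_iff] at h1 h2
  push Not at h1 h2
  obtain ⟨f₁, hf₁, hx₁⟩ := h1
  obtain ⟨f₂, hf₂, hx₂⟩ := h2
  have h3 : f₁ * f₂ ∈ (I₁ ⊓ I₂).ideal ⟨U, hU⟩ :=
    ⟨Ideal.mul_mem_right _ _ hf₁, Ideal.mul_mem_left _ _ hf₂⟩
  rw [h] at h3
  have h4 : f₁ * f₂ = 0 := h3
  have h5 : x ∈ X.basicOpen (f₁ * f₂) := by
    rw [Scheme.basicOpen_mul]; exact ⟨hx₁, hx₂⟩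
  rw [h4, Scheme.basicOpen_zero] at h5
  exact h5

/-- points of `X` come from one of the two subschemes -/
theorem exists_preimage (h : I₁ ⊓ I₂ = ⊥) (x : X) :
    (∃ z : I₁.subscheme, I₁.subschemeι z = x) ∨ (∃ z : I₂.subscheme, I₂.subschemeι z = x) := by
  rcases mem_support_or I₁ I₂ h x with hx | hx
  · left
    rw [← SetLike.mem_coe, ← I₁.range_subschemeι] at hx
    exact hx
  · right
    rw [← SetLike.mem_coe, ← I₂.range_subschemeι] at hx
    exact hx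

/-- a basic open inside an affine open is affine -/
theorem isAffineOpen_basicOpen_of_le {U : X.Opens} (hU : IsAffineOpen U) (r : Γ(X, ⊤))
    (hr : X.basicOpen r ≤ U) : IsAffineOpen (X.basicOpen r) := by
  have h1 := hU.basicOpen (X.presheaf.map (homOfLE (le_top : U ≤ ⊤)).op r)
  rw [Scheme.basicOpen_res, inf_eq_right.mpr hr] at h1
  exact h1

/-- the basic open of a glued section lies in `U` as soon as both restrictions do -/
theorem basicOpen_le_of_glue (h : I₁ ⊓ I₂ = ⊥) (U : X.Opens) (r : Γ(X, ⊤))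
    (h₁ : I₁.subscheme.basicOpen (I₁.subschemeι.appTop r) ≤ I₁.subschemeι ⁻¹ᵁ U)
    (h₂ : I₂.subscheme.basicOpen (I₂.subschemeι.appTop r) ≤ I₂.subschemeι ⁻¹ᵁ U) :
    X.basicOpen r ≤ U := by
  intro y hy
  rcases exists_preimage I₁ I₂ h y with ⟨z, rfl⟩ | ⟨z, rfl⟩
  · have : z ∈ I₁.subschemeι ⁻¹ᵁ X.basicOpen r := hy
    rw [Scheme.preimage_basicOpen_top] at this
    exact h₁ this
  · have : z ∈ I₂.subschemeι ⁻¹ᵁ X.basicOpen r := hy
    rw [Scheme.preimage_basicOpen_top] at this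
    exact h₂ this

/-- Case of a point of `V(I₁)` outside `V(I₂)`. -/
theorem exists_basicOpen_of_left (h : I₁ ⊓ I₂ = ⊥) [IsAffine I₁.subscheme]
    [IsAffine I₂.subscheme] (z₁ : I₁.subscheme) (hz : I₁.subschemeι z₁ ∉ I₂.support) :
    ∃ r : Γ(X, ⊤), I₁.subschemeι z₁ ∈ X.basicOpen r ∧ IsAffineOpen (X.basicOpen r) := by
  obtain ⟨_, ⟨U, hU, rfl⟩, hxU, -⟩ :=
    X.isBasis_affineOpens.exists_subset_of_mem_open (Set.mem_univ (I₁.subschemeι z₁)) isOpen_univ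
  let O2 : X.Opens := ⟨(I₂.support : Set X)ᶜ, I₂.support.isClosed.isOpen_compl⟩
  let O : I₁.subscheme.Opens := I₁.subschemeι ⁻¹ᵁ U ⊓ I₁.subschemeι ⁻¹ᵁ O2
  have hzO : z₁ ∈ O := ⟨hxU, hz⟩
  obtain ⟨_, ⟨_, ⟨a₁, rfl⟩, rfl⟩, hza, haO⟩ :=
    (isBasis_basicOpen I₁.subscheme).exists_subset_of_mem_open hzO O.isOpen
  haveI : IsAffine (I₁ ⊔ I₂).subscheme := isAffine_of_isAffineHom (q₁ I₁ I₂)
  have hnil : IsNilpotent ((q₁ I₁ I₂).appTop a₁) := by
    rw [Scheme.isNilpotent_iff_basicOpen_eq_bot, ← Scheme.preimage_basicOpen_top]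
    ext p
    simp only [Opens.coe_bot, Set.mem_empty_iff_false, iff_false]
    intro hp
    have hp' : (q₁ I₁ I₂) p ∈ O := haO hp
    have h1 : I₁.subschemeι ((q₁ I₁ I₂) p) ∉ I₂.support := hp'.2
    apply h1
    have h2 : I₁.subschemeι ((q₁ I₁ I₂) p) = I₂.subschemeι ((q₂ I₁ I₂) p) := by
      rw [← Scheme.Hom.comp_apply, ← Scheme.Hom.comp_apply, inclusion_subschemeι,
        inclusion_subschemeι]
    rw [h2, ← SetLike.mem_coe, ← I₂.range_subschemeι]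
    exact ⟨_, rfl⟩
  obtain ⟨n, hn⟩ := hnil
  have hc : (q₁ I₁ I₂).appTop (a₁ ^ (n + 1)) = (q₂ I₁ I₂).appTop 0 := by
    rw [map_pow, pow_succ, hn, zero_mul, map_zero]
  obtain ⟨r, hr₁, hr₂⟩ := exists_glue I₁ I₂ h (a₁ ^ (n + 1)) 0 hc
  have hb : I₁.subscheme.basicOpen (I₁.subschemeι.appTop r) = I₁.subscheme.basicOpen a₁ := by
    rw [hr₁, Scheme.basicOpen_pow _ a₁ (Nat.succ_pos n)]
  have hle : X.basicOpen r ≤ U := by
    apply basicOpen_le_of_glue I₁ I₂ h U r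
    · rw [hb]
      exact haO.trans inf_le_left
    · rw [hr₂, Scheme.basicOpen_zero]
      exact bot_le
  refine ⟨r, ?_, isAffineOpen_basicOpen_of_le hU r hle⟩
  have : z₁ ∈ I₁.subschemeι ⁻¹ᵁ X.basicOpen r := by
    rw [Scheme.preimage_basicOpen_top, hb]
    exact hza
  exact this

/-- Case of a point of `V(I₁ ⊔ I₂)`. -/
theorem exists_basicOpen_of_both (h : I₁ ⊓ I₂ = ⊥) [IsAffine I₁.subscheme]
    [IsAffine I₂.subscheme] (w : (I₁ ⊔ I₂).subscheme) :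
    ∃ r : Γ(X, ⊤), (I₁ ⊔ I₂).subschemeι w ∈ X.basicOpen r ∧ IsAffineOpen (X.basicOpen r) := by
  obtain ⟨_, ⟨U, hU, rfl⟩, hxU, -⟩ :=
    X.isBasis_affineOpens.exists_subset_of_mem_open
      (Set.mem_univ ((I₁ ⊔ I₂).subschemeι w)) isOpen_univ
  have e₁ : I₁.subschemeι ((q₁ I₁ I₂) w) = (I₁ ⊔ I₂).subschemeι w := by
    rw [← Scheme.Hom.comp_apply, inclusion_subschemeι]
  have e₂ : I₂.subschemeι ((q₂ I₁ I₂) w) = (I₁ ⊔ I₂).subschemeι w := by
    rw [← Scheme.Hom.comp_apply, inclusion_subschemeι]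
  have hz₁ : (q₁ I₁ I₂) w ∈ I₁.subschemeι ⁻¹ᵁ U := by
    change I₁.subschemeι ((q₁ I₁ I₂) w) ∈ U; rw [e₁]; exact hxU
  have hz₂ : (q₂ I₁ I₂) w ∈ I₂.subschemeι ⁻¹ᵁ U := by
    change I₂.subschemeι ((q₂ I₁ I₂) w) ∈ U; rw [e₂]; exact hxU
  obtain ⟨_, ⟨_, ⟨a₁, rfl⟩, rfl⟩, hza₁, ha₁⟩ :=
    (isBasis_basicOpen I₁.subscheme).exists_subset_of_mem_open hz₁ (I₁.subschemeι ⁻¹ᵁ U).isOpen
  obtain ⟨_, ⟨_, ⟨a₂, rfl⟩, rfl⟩, hza₂, ha₂⟩ :=
    (isBasis_basicOpen I₂.subscheme).exists_subset_of_mem_open hz₂ (I₂.subschemeι ⁻¹ᵁ U).isOpen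
  have hs₁ : Function.Surjective (q₁ I₁ I₂).appTop :=
    (q₁ I₁ I₂).app_surjective ⊤ (isAffineOpen_top _)
  have hs₂ : Function.Surjective (q₂ I₁ I₂).appTop :=
    (q₂ I₁ I₂).app_surjective ⊤ (isAffineOpen_top _)
  obtain ⟨a₂', ha₂'⟩ := hs₁ ((q₂ I₁ I₂).appTop a₂)
  obtain ⟨a₁', ha₁'⟩ := hs₂ ((q₁ I₁ I₂).appTop a₁)
  have hc : (q₁ I₁ I₂).appTop (a₁ * a₂') = (q₂ I₁ I₂).appTop (a₂ * a₁') := by
    rw [map_mul, map_mul, ha₂', ha₁', mul_comm]
  obtain ⟨r, hr₁, hr₂⟩ := exists_glue I₁ I₂ h (a₁ * a₂') (a₂ * a₁') hc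
  have hle : X.basicOpen r ≤ U := by
    apply basicOpen_le_of_glue I₁ I₂ h U r
    · rw [hr₁, Scheme.basicOpen_mul]
      exact inf_le_left.trans ha₁
    · rw [hr₂, Scheme.basicOpen_mul]
      exact inf_le_left.trans ha₂
  refine ⟨r, ?_, isAffineOpen_basicOpen_of_le hU r hle⟩
  -- the point lies in the basic open
  have hw₂ : w ∈ (I₁ ⊔ I₂).subscheme.basicOpen ((q₂ I₁ I₂).appTop a₂) := by
    rw [← Scheme.preimage_basicOpen_top]; exact hza₂
  have hz : (q₁ I₁ I₂) w ∈ I₁.subscheme.basicOpen a₂' := by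
    have : w ∈ (q₁ I₁ I₂) ⁻¹ᵁ I₁.subscheme.basicOpen a₂' := by
      rw [Scheme.preimage_basicOpen_top, ha₂']
      exact hw₂
    exact this
  have : (q₁ I₁ I₂) w ∈ I₁.subschemeι ⁻¹ᵁ X.basicOpen r := by
    rw [Scheme.preimage_basicOpen_top, hr₁, Scheme.basicOpen_mul]
    exact ⟨hza₁, hz⟩
  have h3 : I₁.subschemeι ((q₁ I₁ I₂) w) ∈ X.basicOpen r := this
  rwa [e₁] at h3

/-- Every point has an affine basic-open neighbourhood cut out by a global section. -/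
theorem exists_basicOpen (h : I₁ ⊓ I₂ = ⊥) [IsAffine I₁.subscheme] [IsAffine I₂.subscheme]
    (x : X) : ∃ r : Γ(X, ⊤), x ∈ X.basicOpen r ∧ IsAffineOpen (X.basicOpen r) := by
  have hboth : x ∈ I₁.support → x ∈ I₂.support →
      ∃ r : Γ(X, ⊤), x ∈ X.basicOpen r ∧ IsAffineOpen (X.basicOpen r) := by
    intro hx₁ hx₂
    have hx : x ∈ ((I₁ ⊔ I₂).support : Set X) := by
      rw [support_sup]; exact ⟨hx₁, hx₂⟩
    rw [← (I₁ ⊔ I₂).range_subschemeι] at hx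
    obtain ⟨w, rfl⟩ := hx
    exact exists_basicOpen_of_both I₁ I₂ h w
  rcases exists_preimage I₁ I₂ h x with ⟨z, rfl⟩ | ⟨z, rfl⟩
  · by_cases hx₂ : I₁.subschemeι z ∈ I₂.support
    · refine hboth ?_ hx₂
      rw [← SetLike.mem_coe, ← I₁.range_subschemeι]; exact ⟨z, rfl⟩
    · exact exists_basicOpen_of_left I₁ I₂ h z hx₂
  · by_cases hx₁ : I₂.subschemeι z ∈ I₁.support
    · refine hboth hx₁ ?_
      rw [← SetLike.mem_coe, ← I₂.range_subschemeι]; exact ⟨z, rfl⟩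
    · exact exists_basicOpen_of_left I₂ I₁ (by rwa [inf_comm]) z hx₁

/-- restriction to the first closed subscheme is surjective on global sections -/
theorem appTop_surjective_left (h : I₁ ⊓ I₂ = ⊥) [IsAffine I₁.subscheme]
    [IsAffine I₂.subscheme] : Function.Surjective I₁.subschemeι.appTop := by
  intro a₁
  have hs₂ : Function.Surjective (q₂ I₁ I₂).appTop :=
    (q₂ I₁ I₂).app_surjective ⊤ (isAffineOpen_top _)
  obtain ⟨a₂, ha₂⟩ := hs₂ ((q₁ I₁ I₂).appTop a₁)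
  obtain ⟨r, hr, -⟩ := exists_glue I₁ I₂ h a₁ a₂ ha₂.symm
  exact ⟨r, hr⟩

/-- restriction to the second closed subscheme is surjective on global sections -/
theorem appTop_surjective_right (h : I₁ ⊓ I₂ = ⊥) [IsAffine I₁.subscheme]
    [IsAffine I₂.subscheme] : Function.Surjective I₂.subschemeι.appTop := by
  intro a₂
  have hs₁ : Function.Surjective (q₁ I₁ I₂).appTop :=
    (q₁ I₁ I₂).app_surjective ⊤ (isAffineOpen_top _)
  obtain ⟨a₁, ha₁⟩ := hs₁ ((q₂ I₁ I₂).appTop a₂)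
  obtain ⟨r, -, hr⟩ := exists_glue I₁ I₂ h a₁ a₂ ha₁
  exact ⟨r, hr⟩

/-- an element of the span restricting to `1` on a closed affine subscheme, given that the basic
opens of a set of sections cover -/
theorem exists_mem_span_app_eq_one (I : X.IdealSheafData) [IsAffine I.subscheme]
    (hsurj : Function.Surjective I.subschemeι.appTop) (s : Set Γ(X, ⊤))
    (hs : ∀ x : X, ∃ r ∈ s, x ∈ X.basicOpen r) :
    ∃ r ∈ Ideal.span s, I.subschemeι.appTop r = 1 := by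
  have h1 : Ideal.span (I.subschemeι.appTop.hom '' s) = ⊤ := by
    rw [← (isAffineOpen_top I.subscheme).self_le_iSup_basicOpen_iff]
    intro z _
    obtain ⟨r, hr, hx⟩ := hs (I.subschemeι z)
    rw [Opens.mem_iSup]
    refine ⟨⟨I.subschemeι.appTop.hom r, r, hr, rfl⟩, ?_⟩
    have : z ∈ I.subschemeι ⁻¹ᵁ X.basicOpen r := hx
    rwa [Scheme.preimage_basicOpen_top] at this
  rw [← Ideal.map_span] at h1
  have h2 : (1 : Γ(I.subscheme, ⊤)) ∈ Ideal.map I.subschemeι.appTop.hom (Ideal.span s) := by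
    rw [h1]; trivial
  rw [Ideal.mem_map_iff_of_surjective _ hsurj] at h2
  exact h2

/-- **A scheme which is the union of two affine closed subschemes (with `I₁ ⊓ I₂ = ⊥`) is
affine.** -/
theorem isAffine_of_inf_eq_bot (h : I₁ ⊓ I₂ = ⊥) [IsAffine I₁.subscheme]
    [IsAffine I₂.subscheme] : IsAffine X := by
  let s : Set Γ(X, ⊤) := {r | IsAffineOpen (X.basicOpen r)}
  have hs : ∀ x : X, ∃ r ∈ s, x ∈ X.basicOpen r := by
    intro x
    obtain ⟨r, hx, hr⟩ := exists_basicOpen I₁ I₂ h x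
    exact ⟨r, hr, hx⟩
  obtain ⟨r₁, hr₁, e₁⟩ := exists_mem_span_app_eq_one I₁ (appTop_surjective_left I₁ I₂ h) s hs
  obtain ⟨r₂, hr₂, e₂⟩ := exists_mem_span_app_eq_one I₂ (appTop_surjective_right I₁ I₂ h) s hs
  have hz : (1 - r₁) * (1 - r₂) = 0 := by
    apply eq_zero_of_app_eq_zero I₁ I₂ h ⊤
    · change I₁.subschemeι.appTop ((1 - r₁) * (1 - r₂)) = 0
      rw [map_mul, map_sub, map_one, e₁, sub_self, zero_mul]
    · change I₂.subschemeι.appTop ((1 - r₁) * (1 - r₂)) = 0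
      rw [map_mul, map_sub, map_sub, map_one, e₂, sub_self, mul_zero]
  have h1 : (1 : Γ(X, ⊤)) = r₁ + r₂ - r₁ * r₂ := by
    have : (1 - r₁) * (1 - r₂) = 1 - (r₁ + r₂ - r₁ * r₂) := by ring
    rw [this, sub_eq_zero] at hz
    exact hz
  have hspan : Ideal.span s = ⊤ := by
    rw [Ideal.eq_top_iff_one, h1]
    exact Ideal.sub_mem _ (Ideal.add_mem _ hr₁ hr₂) (Ideal.mul_mem_left _ _ hr₂)
  exact isAffine_of_isAffineOpen_basicOpen s hspan (fun r hr => hr)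

end Groth.Agent.Lib.Helper13.ClosedCover
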