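import Groth.Agent.Lib.Helper13.ClosedCoverUnion

/-!
# Affine opens through finitely many points, from the irreducible components
-/

set_option autoImplicit false
universe u
open CategoryTheory AlgebraicGeometry TopologicalSpace Opposite Limits
open AlgebraicGeometry.Scheme.IdealSheafData

namespace Groth.Agent.Lib.Helper13.ClosedCover

/-- the reduced closed subscheme on `C` has an affine open containing the points of `T` on `C` -/
def HasAffineThrough {X : Scheme.{u}} (T : Finset X) (C : Closeds X) : Prop :=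
  ∃ W : (vanishingIdeal C).subscheme.Opens, IsAffineOpen W ∧
    ∀ t ∈ T, t ∈ (C : Set X) → t ∈ (vanishingIdeal C).subschemeι.base '' (W : Set _)

theorem hasAffineThrough_bot {X : Scheme.{u}} (T : Finset X) : HasAffineThrough T ⊥ :=
  ⟨⊥, isAffineOpen_bot _, fun t _ ht => (Set.notMem_empty t ht).elim⟩

theorem HasAffineThrough.sup {X : Scheme.{u}} {T : Finset X} {C₁ C₂ : Closeds X}
    (H₁ : HasAffineThrough T C₁) (H₂ : HasAffineThrough T C₂) :
    HasAffineThrough T (C₁ ⊔ C₂) := by
  classical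
  obtain ⟨W₁, h₁, hT₁⟩ := H₁
  obtain ⟨W₂, h₂, hT₂⟩ := H₂
  let I := vanishingIdeal (C₁ ⊔ C₂)
  let I₁ := vanishingIdeal C₁
  let I₂ := vanishingIdeal C₂
  have le₁ : I ≤ I₁ := vanishingIdeal_antimono le_sup_left
  have le₂ : I ≤ I₂ := vanishingIdeal_antimono le_sup_right
  let j₁ : I₁.subscheme ⟶ I.subscheme := inclusion le₁
  let j₂ : I₂.subscheme ⟶ I.subscheme := inclusion le₂
  have hι : Function.Injective I.subschemeι := I.subschemeι.isClosedEmbedding.injective
  have hι₁ : Function.Injective I₁.subschemeι := I₁.subschemeι.isClosedEmbedding.injective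
  have hι₂ : Function.Injective I₂.subschemeι := I₂.subschemeι.isClosedEmbedding.injective
  have hj₁ : ∀ y₁, I.subschemeι (j₁ y₁) = I₁.subschemeι y₁ := by
    intro y₁; rw [← Scheme.Hom.comp_apply, inclusion_subschemeι]
  have hj₂ : ∀ y₂, I.subschemeι (j₂ y₂) = I₂.subschemeι y₂ := by
    intro y₂; rw [← Scheme.Hom.comp_apply, inclusion_subschemeι]
  have hr : Set.range I.subschemeι = (C₁ : Set X) ∪ C₂ := by
    rw [Groth.Agent.Lib.Helper6.DevRed.range_subschemeι_vanishingIdeal]; rfl
  have hr₁ : Set.range I₁.subschemeι = (C₁ : Set X) :=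
    Groth.Agent.Lib.Helper6.DevRed.range_subschemeι_vanishingIdeal C₁
  have hr₂ : Set.range I₂.subschemeι = (C₂ : Set X) :=
    Groth.Agent.Lib.Helper6.DevRed.range_subschemeι_vanishingIdeal C₂
  have hcov : ∀ y, y ∈ Set.range j₁ ∨ y ∈ Set.range j₂ := by
    intro y
    have hy : I.subschemeι y ∈ (C₁ : Set X) ∪ C₂ := by rw [← hr]; exact ⟨y, rfl⟩
    rcases hy with hy | hy
    · left
      rw [← hr₁] at hy
      obtain ⟨y₁, hy₁⟩ := hy
      exact ⟨y₁, hι (by rw [hj₁, hy₁])⟩
    · right
      rw [← hr₂] at hy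
      obtain ⟨y₂, hy₂⟩ := hy
      exact ⟨y₂, hι (by rw [hj₂, hy₂])⟩
  let TY : Finset I.subscheme := T.preimage I.subschemeι hι.injOn
  obtain ⟨U, hU, hTU⟩ := exists_isAffineOpen_of_two j₁ j₂ hcov TY h₁ h₂
    (fun y₁ hy₁ => by
      rw [Finset.mem_preimage, hj₁] at hy₁
      have hC : I₁.subschemeι y₁ ∈ (C₁ : Set X) := by rw [← hr₁]; exact ⟨y₁, rfl⟩
      obtain ⟨y₁', hy₁', he⟩ := hT₁ _ hy₁ hC
      exact hι₁ he ▸ hy₁')
    (fun y₂ hy₂ => by
      rw [Finset.mem_preimage, hj₂] at hy₂
      have hC : I₂.subschemeι y₂ ∈ (C₂ : Set X) := by rw [← hr₂]; exact ⟨y₂, rfl⟩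
      obtain ⟨y₂', hy₂', he⟩ := hT₂ _ hy₂ hC
      exact hι₂ he ▸ hy₂')
  refine ⟨U, hU, fun t ht htC => ?_⟩
  have : t ∈ Set.range I.subschemeι := by rw [hr]; exact htC
  obtain ⟨y, rfl⟩ := this
  exact ⟨y, hTU y (Finset.mem_preimage.2 ht), rfl⟩

/-- **Affine opens through finitely many points, from the irreducible components**. -/
theorem exists_affineOpen_of_components (X : Scheme.{u})
    (hX : (irreducibleComponents (X : Type u)).Finite) (T : Finset X)
    (h : ∀ (Z : Set X) (hZ : Z ∈ irreducibleComponents (X : Type u)),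
      HasAffineThrough T ⟨Z, isClosed_of_mem_irreducibleComponents Z hZ⟩) :
    ∃ U : X.Opens, IsAffineOpen U ∧ ∀ t ∈ T, t ∈ U := by
  classical
  let c : {Z // Z ∈ irreducibleComponents (X : Type u)} → Closeds X :=
    fun Z => ⟨Z.1, isClosed_of_mem_irreducibleComponents Z.1 Z.2⟩
  have key : ∀ F : Finset {Z // Z ∈ irreducibleComponents (X : Type u)},
      HasAffineThrough T (F.sup c) := by
    intro F
    induction F using Finset.induction_on with
    | empty => rw [Finset.sup_empty]; exact hasAffineThrough_bot T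
    | insert Z F _ ih => rw [Finset.sup_insert]; exact (h Z.1 Z.2).sup ih
  haveI : Fintype {Z // Z ∈ irreducibleComponents (X : Type u)} := hX.fintype
  let C : Closeds X := Finset.univ.sup c
  have hC : (C : Set X) = Set.univ := by
    rw [Set.eq_univ_iff_forall]
    intro x
    have hx : irreducibleComponent x ∈ irreducibleComponents (X : Type u) :=
      irreducibleComponent_mem_irreducibleComponents x
    have hle : c ⟨_, hx⟩ ≤ C := Finset.le_sup (f := c) (Finset.mem_univ (⟨_, hx⟩ : {Z // Z ∈ irreducibleComponents (X : Type u)}))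
    exact hle mem_irreducibleComponent
  obtain ⟨W, hW, hTW⟩ := key Finset.univ
  let I := vanishingIdeal C
  have hι : Function.Injective I.subschemeι := I.subschemeι.isClosedEmbedding.injective
  have hsurj : Function.Surjective I.subschemeι := by
    rw [← Set.range_eq_univ, Groth.Agent.Lib.Helper6.DevRed.range_subschemeι_vanishingIdeal, hC]
  have hT' : ∀ y, I.subschemeι y ∈ T → y ∈ W := by
    intro y hy
    obtain ⟨y', hy', he⟩ := hTW _ hy (by rw [hC]; trivial)
    exact hι he ▸ hy'
  exact exists_isAffineOpen_of_two I.subschemeι I.subschemeι (fun y => Or.inl (hsurj y)) T hW hW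
    hT' hT'

end Groth.Agent.Lib.Helper13.ClosedCover
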