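import Mathlib

/-!
# Gluing sections along two closed subschemes whose ideals meet trivially

If `I₁ ⊓ I₂ = ⊥`, a section of `X` is determined by its restrictions to the closed subschemes
`V(I₁)`, `V(I₂)`, and a pair of sections agreeing on `V(I₁ ⊔ I₂)` glues.
-/

set_option autoImplicit false
universe u
open CategoryTheory AlgebraicGeometry TopologicalSpace Opposite

namespace Groth.Agent.Lib.Helper13.ClosedCover

open Scheme.IdealSheafData

/-- `appLE` of a composite, for a propositional factorization. -/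
theorem appLE_of_comp_eq {P Z X : Scheme.{u}} (q : P ⟶ Z) (ι : Z ⟶ X) (ι' : P ⟶ X)
    (h : q ≫ ι = ι') (U : X.Opens) (V : P.Opens) (e : V ≤ ι' ⁻¹ᵁ U) :
    ι'.appLE U V e = ι.app U ≫ q.appLE (ι ⁻¹ᵁ U) V (by subst h; exact e) := by
  subst h
  rw [Scheme.Hom.comp_appLE, Scheme.Hom.app_eq_appLE]

variable {X : Scheme.{u}} (I₁ I₂ : X.IdealSheafData)

/-- A section killed on both closed subschemes vanishes. -/
theorem eq_zero_of_app_eq_zero (h : I₁ ⊓ I₂ = ⊥) (W : X.Opens) (s : Γ(X, W))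
    (h₁ : I₁.subschemeι.app W s = 0) (h₂ : I₂.subschemeι.app W s = 0) : s = 0 := by
  refine X.sheaf.eq_of_locally_eq' (fun i : {U : X.affineOpens // U.1 ≤ W} => i.1.1) W
    (fun i => homOfLE i.2) ?_ s 0 (fun i => ?_)
  · intro x hx
    obtain ⟨_, ⟨U, hU, rfl⟩, hxU, hUW⟩ :=
      X.isBasis_affineOpens.exists_subset_of_mem_open hx W.isOpen
    exact Opens.mem_iSup.2 ⟨⟨⟨U, hU⟩, hUW⟩, hxU⟩
  · obtain ⟨U, hUW⟩ := i
    change X.presheaf.map (homOfLE hUW).op s = X.presheaf.map (homOfLE hUW).op 0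
    rw [map_zero]
    set t := X.presheaf.map (homOfLE hUW).op s with ht
    have key : ∀ I : X.IdealSheafData, I.subschemeι.app W s = 0 → t ∈ I.ideal U := by
      intro I hI
      rw [← I.ker_subschemeι_app U, RingHom.mem_ker]
      have := congr($(I.subschemeι.naturality (homOfLE hUW).op) s)
      simp only [CommRingCat.comp_apply] at this
      change I.subschemeι.app U t = 0
      rw [ht, this, hI, map_zero]
    have h3 : t ∈ (I₁ ⊓ I₂).ideal U := ⟨key I₁ h₁, key I₂ h₂⟩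
    rw [h] at h3
    exact h3

/-- Local gluing on an affine open. -/
theorem exists_section_affine (U : X.affineOpens) (s₁ s₂ : Γ(X, U))
    (hP : (I₁ ⊔ I₂).subschemeι.app U (s₁ - s₂) = 0) :
    ∃ s : Γ(X, U), I₁.subschemeι.app U s = I₁.subschemeι.app U s₁ ∧
      I₂.subschemeι.app U s = I₂.subschemeι.app U s₂ := by
  have h1 : s₁ - s₂ ∈ (I₁ ⊔ I₂).ideal U := by
    rw [← (I₁ ⊔ I₂).ker_subschemeι_app U, RingHom.mem_ker]
    exact hP
  have h2 : s₁ - s₂ ∈ I₁.ideal U ⊔ I₂.ideal U := h1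
  obtain ⟨u₁, hu₁, u₂, hu₂, hu⟩ := Submodule.mem_sup.1 h2
  have k₁ : I₁.subschemeι.app U u₁ = 0 := by
    have : u₁ ∈ RingHom.ker (I₁.subschemeι.app U).hom := by rwa [I₁.ker_subschemeι_app U]
    exact this
  have k₂ : I₂.subschemeι.app U u₂ = 0 := by
    have : u₂ ∈ RingHom.ker (I₂.subschemeι.app U).hom := by rwa [I₂.ker_subschemeι_app U]
    exact this
  refine ⟨s₁ - u₁, ?_, ?_⟩
  · rw [map_sub, k₁, sub_zero]
  · have : s₁ - u₁ = s₂ + u₂ := by
      have := hu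
      linear_combination (-1 : Γ(X, U)) * this
    rw [this, map_add, k₂, add_zero]

/-- the inclusion of `V(I₁ ⊔ I₂)` into `V(I₁)` -/
noncomputable abbrev q₁ : (I₁ ⊔ I₂).subscheme ⟶ I₁.subscheme := inclusion le_sup_left
/-- the inclusion of `V(I₁ ⊔ I₂)` into `V(I₂)` -/
noncomputable abbrev q₂ : (I₁ ⊔ I₂).subscheme ⟶ I₂.subscheme := inclusion le_sup_right

/-- restriction to `V(I₁ ⊔ I₂)` through `V(I₁)`. -/
theorem app_sup_eq_left (U : X.Opens) (s : Γ(X, U)) (a : Γ(I₁.subscheme, ⊤))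
    (hs : I₁.subschemeι.app U s = I₁.subscheme.presheaf.map (homOfLE le_top).op a) :
    (I₁ ⊔ I₂).subschemeι.app U s =
      (I₁ ⊔ I₂).subscheme.presheaf.map (homOfLE le_top).op ((q₁ I₁ I₂).appTop a) := by
  have h1 := appLE_of_comp_eq (q₁ I₁ I₂) I₁.subschemeι (I₁ ⊔ I₂).subschemeι
    (inclusion_subschemeι _) U ((I₁ ⊔ I₂).subschemeι ⁻¹ᵁ U) le_rfl
  rw [Scheme.Hom.appLE_eq_app] at h1
  rw [h1, CommRingCat.comp_apply, hs]
  have h2 := congr($((q₁ I₁ I₂).map_appLE (U := I₁.subschemeι ⁻¹ᵁ U) (U' := ⊤)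
    (V := (I₁ ⊔ I₂).subschemeι ⁻¹ᵁ U)
    (by rw [← inclusion_subschemeι (le_sup_left : I₁ ≤ I₁ ⊔ I₂)]; exact le_rfl)
    (homOfLE le_top).op) a)
  simp only [CommRingCat.comp_apply] at h2
  rw [h2]
  rfl

/-- restriction to `V(I₁ ⊔ I₂)` through `V(I₂)`. -/
theorem app_sup_eq_right (U : X.Opens) (s : Γ(X, U)) (a : Γ(I₂.subscheme, ⊤))
    (hs : I₂.subschemeι.app U s = I₂.subscheme.presheaf.map (homOfLE le_top).op a) :
    (I₁ ⊔ I₂).subschemeι.app U s =
      (I₁ ⊔ I₂).subscheme.presheaf.map (homOfLE le_top).op ((q₂ I₁ I₂).appTop a) := by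
  have h1 := appLE_of_comp_eq (q₂ I₁ I₂) I₂.subschemeι (I₁ ⊔ I₂).subschemeι
    (inclusion_subschemeι _) U ((I₁ ⊔ I₂).subschemeι ⁻¹ᵁ U) le_rfl
  rw [Scheme.Hom.appLE_eq_app] at h1
  rw [h1, CommRingCat.comp_apply, hs]
  have h2 := congr($((q₂ I₁ I₂).map_appLE (U := I₂.subschemeι ⁻¹ᵁ U) (U' := ⊤)
    (V := (I₁ ⊔ I₂).subschemeι ⁻¹ᵁ U)
    (by rw [← inclusion_subschemeι (le_sup_right : I₂ ≤ I₁ ⊔ I₂)]; exact le_rfl)
    (homOfLE le_top).op) a)
  simp only [CommRingCat.comp_apply] at h2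
  rw [h2]
  rfl

/-- naturality of `app` with respect to restriction, elementwise. -/
theorem app_res {Z : Scheme.{u}} (f : Z ⟶ X) {U U' : X.Opens} (hUU' : U' ≤ U) (s : Γ(X, U)) :
    f.app U' (X.presheaf.map (homOfLE hUU').op s) =
      Z.presheaf.map (homOfLE (show f ⁻¹ᵁ U' ≤ f ⁻¹ᵁ U from fun _ hx => hUU' hx)).op
        (f.app U s) := by
  have := congr($(f.naturality (homOfLE hUU').op) s)
  simp only [CommRingCat.comp_apply] at this
  exact this

/-- two restrictions along parallel inclusions agree -/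
theorem map_map_eq {Z : Scheme.{u}} {A B C : Z.Opens} (hAB : A ≤ B) (hBC : B ≤ C) (hAC : A ≤ C)
    (a : Γ(Z, C)) :
    Z.presheaf.map (homOfLE hAB).op (Z.presheaf.map (homOfLE hBC).op a) =
      Z.presheaf.map (homOfLE hAC).op a := by
  rw [← CommRingCat.comp_apply, ← Functor.map_comp]
  rfl

/-- **Gluing of sections along two closed subschemes** whose ideals have trivial intersection. -/
theorem exists_glue (h : I₁ ⊓ I₂ = ⊥) (a₁ : Γ(I₁.subscheme, ⊤)) (a₂ : Γ(I₂.subscheme, ⊤))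
    (hc : (q₁ I₁ I₂).appTop a₁ = (q₂ I₁ I₂).appTop a₂) :
    ∃ r : Γ(X, ⊤), I₁.subschemeι.appTop r = a₁ ∧ I₂.subschemeι.appTop r = a₂ := by
  -- local sections
  have hloc : ∀ U : X.affineOpens, ∃ s : Γ(X, U),
      I₁.subschemeι.app U s = I₁.subscheme.presheaf.map (homOfLE le_top).op a₁ ∧
      I₂.subschemeι.app U s = I₂.subscheme.presheaf.map (homOfLE le_top).op a₂ := by
    intro U
    obtain ⟨s₁, hs₁⟩ := I₁.subschemeι_app_surjective U
      (I₁.subscheme.presheaf.map (homOfLE le_top).op a₁)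
    obtain ⟨s₂, hs₂⟩ := I₂.subschemeι_app_surjective U
      (I₂.subscheme.presheaf.map (homOfLE le_top).op a₂)
    have hP : (I₁ ⊔ I₂).subschemeι.app U (s₁ - s₂) = 0 := by
      rw [map_sub, app_sup_eq_left I₁ I₂ U s₁ a₁ hs₁, app_sup_eq_right I₁ I₂ U s₂ a₂ hs₂, hc,
        sub_self]
    obtain ⟨s, h1, h2⟩ := exists_section_affine I₁ I₂ U s₁ s₂ hP
    exact ⟨s, h1.trans hs₁, h2.trans hs₂⟩
  choose sf hsf₁ hsf₂ using hloc
  -- compatibility
  have hcompat : TopCat.Presheaf.IsCompatible X.presheaf (fun U : X.affineOpens => U.1) sf := by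
    intro U U'
    rw [← sub_eq_zero]
    have hd : ∀ (I : X.IdealSheafData) (a : Γ(I.subscheme, ⊤)),
        (∀ V : X.affineOpens, I.subschemeι.app V (sf V) =
          I.subscheme.presheaf.map (homOfLE le_top).op a) →
        I.subschemeι.app (U.1 ⊓ U'.1)
          (X.presheaf.map (Opens.infLELeft U.1 U'.1).op (sf U) -
            X.presheaf.map (Opens.infLERight U.1 U'.1).op (sf U')) = 0 := by
      intro I a ha
      rw [map_sub, sub_eq_zero]
      have e1 := app_res I.subschemeι (inf_le_left : U.1 ⊓ U'.1 ≤ U.1) (sf U)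
      have e2 := app_res I.subschemeι (inf_le_right : U.1 ⊓ U'.1 ≤ U'.1) (sf U')
      change I.subschemeι.app (U.1 ⊓ U'.1) (X.presheaf.map (homOfLE inf_le_left).op (sf U)) =
        I.subschemeι.app (U.1 ⊓ U'.1) (X.presheaf.map (homOfLE inf_le_right).op (sf U'))
      rw [e1, e2, ha U, ha U', map_map_eq _ _ le_top, map_map_eq _ _ le_top]
    exact eq_zero_of_app_eq_zero I₁ I₂ h (U.1 ⊓ U'.1) _ (hd I₁ a₁ hsf₁) (hd I₂ a₂ hsf₂)
  have hcover : (⊤ : X.Opens) ≤ iSup (fun U : X.affineOpens => U.1) := by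
    intro x _
    obtain ⟨_, ⟨U, hU, rfl⟩, hxU, -⟩ :=
      X.isBasis_affineOpens.exists_subset_of_mem_open (Set.mem_univ x) isOpen_univ
    exact Opens.mem_iSup.2 ⟨⟨U, hU⟩, hxU⟩
  obtain ⟨r, hr, -⟩ := X.sheaf.existsUnique_gluing' (fun U : X.affineOpens => U.1) ⊤
    (fun U => homOfLE le_top) hcover sf hcompat
  have hfin : ∀ (I : X.IdealSheafData) (a : Γ(I.subscheme, ⊤)),
      (∀ V : X.affineOpens, I.subschemeι.app V (sf V) =
        I.subscheme.presheaf.map (homOfLE le_top).op a) → I.subschemeι.appTop r = a := by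
    intro I a ha
    refine I.subscheme.sheaf.eq_of_locally_eq'
      (fun U : X.affineOpens => I.subschemeι ⁻¹ᵁ U.1) ⊤ (fun U => homOfLE le_top) ?_ _ _
      (fun U => ?_)
    · intro z _
      obtain ⟨_, ⟨U, hU, rfl⟩, hxU, -⟩ :=
        X.isBasis_affineOpens.exists_subset_of_mem_open (Set.mem_univ (I.subschemeι z))
          isOpen_univ
      exact Opens.mem_iSup.2 ⟨⟨U, hU⟩, hxU⟩
    · change I.subscheme.presheaf.map (homOfLE le_top).op (I.subschemeι.app ⊤ r) =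
        I.subscheme.presheaf.map (homOfLE le_top).op a
      have e1 := app_res I.subschemeι (le_top : U.1 ≤ ⊤) r
      have hrU : X.presheaf.map (homOfLE (le_top : U.1 ≤ ⊤)).op r = sf U := hr U
      rw [hrU, ha U] at e1
      exact e1.symm
  exact ⟨r, hfin I₁ a₁ hsf₁, hfin I₂ a₂ hsf₂⟩

end Groth.Agent.Lib.Helper13.ClosedCover
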