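import Groth.Agent.Lib.Helper13.ClosedCoverAffine
import Groth.Agent.Lib.Helper6.DevRed
import Groth.Agent.S0440

/-!
# A scheme covered by two closed affine subschemes is affine
-/

set_option autoImplicit false
universe u
open CategoryTheory AlgebraicGeometry TopologicalSpace Opposite Limits

namespace Groth.Agent.Lib.Helper13.ClosedCover

open Scheme.IdealSheafData

/-- On a reduced scheme, two ideal sheaves whose supports cover have trivial intersection. -/
theorem inf_eq_bot_of_support {X : Scheme.{u}} [IsReduced X] (I₁ I₂ : X.IdealSheafData)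
    (h : ∀ x : X, x ∈ I₁.support ∨ x ∈ I₂.support) : I₁ ⊓ I₂ = ⊥ := by
  have h1 : I₁ ≤ vanishingIdeal I₁.support := le_support_iff_le_vanishingIdeal.mp le_rfl
  have h2 : I₂ ≤ vanishingIdeal I₂.support := le_support_iff_le_vanishingIdeal.mp le_rfl
  have h3 : I₁.support ⊔ I₂.support = ⊤ := by
    rw [eq_top_iff]
    intro x _
    exact h x
  rw [← le_bot_iff]
  calc I₁ ⊓ I₂ ≤ vanishingIdeal I₁.support ⊓ vanishingIdeal I₂.support := inf_le_inf h1 h2
    _ = vanishingIdeal (I₁.support ⊔ I₂.support) := (vanishingIdeal_sup _ _).symm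
    _ = ⊥ := by rw [h3, vanishingIdeal_top, Scheme.nilradical_eq_bot]

/-- **Reduced case**: a reduced scheme covered by two closed affine subschemes is affine. -/
theorem isAffine_of_isReduced {X Z₁ Z₂ : Scheme.{u}} [IsReduced X] (i₁ : Z₁ ⟶ X) (i₂ : Z₂ ⟶ X)
    [IsClosedImmersion i₁] [IsClosedImmersion i₂] [IsAffine Z₁] [IsAffine Z₂]
    (hcov : ∀ x : X, x ∈ Set.range i₁ ∨ x ∈ Set.range i₂) : IsAffine X := by
  haveI : IsAffine i₁.ker.subscheme := IsAffine.of_isIso (inv i₁.toImage)
  haveI : IsAffine i₂.ker.subscheme := IsAffine.of_isIso (inv i₂.toImage)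
  have hs₁ : (i₁.ker.support : Set X) = Set.range i₁ := by
    rw [Scheme.Hom.support_ker, i₁.isClosedEmbedding.isClosed_range.closure_eq]
  have hs₂ : (i₂.ker.support : Set X) = Set.range i₂ := by
    rw [Scheme.Hom.support_ker, i₂.isClosedEmbedding.isClosed_range.closure_eq]
  refine isAffine_of_inf_eq_bot i₁.ker i₂.ker (inf_eq_bot_of_support _ _ fun x => ?_)
  rcases hcov x with hx | hx
  · left; rw [← SetLike.mem_coe, hs₁]; exact hx
  · right; rw [← SetLike.mem_coe, hs₂]; exact hx

/-- **General case**: a scheme covered by two closed affine subschemes is affine. -/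
theorem isAffine_of_two {X Z₁ Z₂ : Scheme.{u}} (i₁ : Z₁ ⟶ X) (i₂ : Z₂ ⟶ X)
    [IsClosedImmersion i₁] [IsClosedImmersion i₂] [IsAffine Z₁] [IsAffine Z₂]
    (hcov : ∀ x : X, x ∈ Set.range i₁ ∨ x ∈ Set.range i₂) : IsAffine X := by
  let I := vanishingIdeal (⊤ : Closeds X)
  haveI : IsReduced I.subscheme := Groth.Agent.Lib.Helper6.DevRed.isReduced_subscheme_vanishingIdeal ⊤
  have hsurj : Function.Surjective I.subschemeι := by
    rw [← Set.range_eq_univ, Groth.Agent.Lib.Helper6.DevRed.range_subschemeι_vanishingIdeal]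
    rfl
  haveI : IsAffine (pullback I.subschemeι i₁) := isAffine_of_isAffineHom (pullback.snd I.subschemeι i₁)
  haveI : IsAffine (pullback I.subschemeι i₂) := isAffine_of_isAffineHom (pullback.snd I.subschemeι i₂)
  haveI : IsAffine I.subscheme := by
    refine isAffine_of_isReduced (pullback.fst I.subschemeι i₁) (pullback.fst I.subschemeι i₂)
      fun y => ?_
    rw [Scheme.Pullback.range_fst, Scheme.Pullback.range_fst]
    exact hcov (I.subschemeι y)
  exact Groth.Agent.S0440.result I.subschemeι hsurj

/-- **Finite covers by closed affine subschemes**: a closed subscheme whose support lies in the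
union of finitely many closed affine subschemes is affine. -/
theorem isAffine_of_finset {X : Scheme.{u}} {κ : Type*} (Z : κ → Scheme.{u}) (ι : ∀ k, Z k ⟶ X)
    [hcl : ∀ k, IsClosedImmersion (ι k)] [hZ : ∀ k, IsAffine (Z k)] (F : Finset κ) :
    ∀ (X' : Scheme.{u}) (j : X' ⟶ X) [IsClosedImmersion j],
      (∀ x' : X', ∃ k ∈ F, j x' ∈ Set.range (ι k)) → IsAffine X' := by
  classical
  induction F using Finset.induction_on with
  | empty =>
    intro X' j _ h
    haveI : IsEmpty X' := ⟨fun x' => by obtain ⟨k, hk, -⟩ := h x'; simp at hk⟩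
    infer_instance
  | insert k F hk ih =>
    intro X' j _ h
    -- the closed subset of `X'` lying over the union of the pieces in `F`
    let C : Closeds X' := ⟨j ⁻¹' (⋃ k' ∈ F, Set.range (ι k')), by
      refine IsClosed.preimage j.continuous ?_
      exact Set.Finite.isClosed_biUnion F.finite_toSet
        (fun k' _ => (ι k').isClosedEmbedding.isClosed_range)⟩
    let I := vanishingIdeal C
    haveI : IsAffine I.subscheme := by
      refine ih I.subscheme (I.subschemeι ≫ j) fun y => ?_
      have hy : I.subschemeι y ∈ (C : Set X') := by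
        rw [← Groth.Agent.Lib.Helper6.DevRed.range_subschemeι_vanishingIdeal C]
        exact ⟨y, rfl⟩
      obtain ⟨k', hk', hx⟩ := Set.mem_iUnion₂.1 hy
      exact ⟨k', hk', hx⟩
    haveI : IsAffine (Z k) := hZ k
    haveI : IsClosedImmersion (ι k) := hcl k
    haveI : IsAffine (pullback j (ι k)) := isAffine_of_isAffineHom (pullback.snd j (ι k))
    refine isAffine_of_two (pullback.fst j (ι k)) I.subschemeι fun x' => ?_
    obtain ⟨k', hk', hx⟩ := h x'
    rcases Finset.mem_insert.1 hk' with rfl | hk''
    · left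
      rw [Scheme.Pullback.range_fst]
      exact hx
    · right
      rw [Groth.Agent.Lib.Helper6.DevRed.range_subschemeι_vanishingIdeal C]
      exact Set.mem_iUnion₂.2 ⟨k', hk'', hx⟩

end Groth.Agent.Lib.Helper13.ClosedCover
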