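import Groth.Agent.Lib.Helper13.ClosedCoverMain
import Groth.Agent.Lib.Helper13.LocalIso2
import Groth.Agent.S7661

/-!
# Basic opens of affine opens containing a finite set of points
-/

set_option autoImplicit false
universe u
open CategoryTheory AlgebraicGeometry TopologicalSpace Opposite Limits

namespace Groth.Agent.Lib.Helper13.ClosedCover

/-- membership in the prime of a point of an affine open, through basic opens -/
theorem mem_primeIdealOf_iff_notMem_basicOpen {P : Scheme.{u}} {U : P.Opens}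
    (hU : IsAffineOpen U) (x : P) (hx : x ∈ U) (a : Γ(P, U)) :
    a ∈ (hU.primeIdealOf ⟨x, hx⟩).asIdeal ↔ x ∉ P.basicOpen a := by
  rw [Groth.Agent.Lib.Helper13.LocalIso.mem_primeIdealOf_iff hU x hx a,
    Scheme.mem_basicOpen _ _ x hx]

/-- the ideal of sections whose basic open lies in a given open -/
def idealOfLE {P : Scheme.{u}} (U V : P.Opens) : Ideal Γ(P, U) where
  carrier := {g | P.basicOpen g ≤ V}
  add_mem' := fun {a b} ha hb =>
    (P.basicOpen_add_le a b).trans (sup_le ha hb)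
  zero_mem' := by
    change P.basicOpen (0 : Γ(P, U)) ≤ V
    rw [Scheme.basicOpen_zero]; exact bot_le
  smul_mem' := fun c g hg => by
    change P.basicOpen (c * g) ≤ V
    rw [Scheme.basicOpen_mul]; exact inf_le_right.trans hg

theorem mem_idealOfLE {P : Scheme.{u}} (U V : P.Opens) (g : Γ(P, U)) :
    g ∈ idealOfLE U V ↔ P.basicOpen g ≤ V := Iff.rfl

/-- **Prime avoidance for basic opens**: a finite set of points of an affine open `U` lying in an
open `V` is contained in a basic open of `U` inside `V`. -/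
theorem exists_basicOpen_finset {P : Scheme.{u}} {U : P.Opens} (hU : IsAffineOpen U)
    (V : P.Opens) (F : Finset P) (hF : ∀ x ∈ F, x ∈ U ∧ x ∈ V) :
    ∃ g : Γ(P, U), P.basicOpen g ≤ V ∧ ∀ x ∈ F, x ∈ P.basicOpen g := by
  classical
  rcases F.eq_empty_or_nonempty with rfl | ⟨x₀, hx₀⟩
  · exact ⟨0, by rw [Scheme.basicOpen_zero]; exact bot_le, by simp⟩
  let f : P → Ideal Γ(P, U) := fun x =>
    if hx : x ∈ U then (hU.primeIdealOf ⟨x, hx⟩).asIdeal else ⊤
  have hf : ∀ x (hx : x ∈ U), f x = (hU.primeIdealOf ⟨x, hx⟩).asIdeal := fun x hx => dif_pos hx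
  have hnot : ¬ ((idealOfLE U V : Set Γ(P, U)) ⊆ ⋃ x ∈ (↑F : Set P), (f x : Set Γ(P, U))) := by
    rw [Ideal.subset_union_prime x₀ x₀ (fun x hx _ _ => by
      rw [hf x (hF x hx).1]; exact (hU.primeIdealOf _).isPrime)]
    rintro ⟨x, hx, hle⟩
    obtain ⟨g, hgV, hxg⟩ := hU.exists_basicOpen_le (V := V) ⟨x, (hF x hx).2⟩ (hF x hx).1
    have : g ∈ f x := hle hgV
    rw [hf x (hF x hx).1, mem_primeIdealOf_iff_notMem_basicOpen] at this
    exact this hxg
  rw [Set.not_subset] at hnot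
  obtain ⟨g, hgJ, hg⟩ := hnot
  refine ⟨g, hgJ, fun x hx => ?_⟩
  by_contra hxg
  apply hg
  refine Set.mem_biUnion (show x ∈ (↑F : Set P) from hx) ?_
  change g ∈ f x
  rw [hf x (hF x hx).1, mem_primeIdealOf_iff_notMem_basicOpen]
  exact hxg

/-- **Simultaneous basic opens**: two affine opens containing a finite set of points have a common
basic open containing it. -/
theorem exists_common_basicOpen {P : Scheme.{u}} {E₁ E₂ : P.Opens} (h₁ : IsAffineOpen E₁)
    (h₂ : IsAffineOpen E₂) (F : Finset P) (hF : ∀ x ∈ F, x ∈ E₁ ∧ x ∈ E₂) :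
    ∃ (g₁ : Γ(P, E₁)) (g₂ : Γ(P, E₂)), P.basicOpen g₁ = P.basicOpen g₂ ∧
      ∀ x ∈ F, x ∈ P.basicOpen g₁ := by
  obtain ⟨g₁, hg₁, hF₁⟩ := exists_basicOpen_finset h₁ E₂ F hF
  obtain ⟨g₂, hg₂, hF₂⟩ := exists_basicOpen_finset h₂ (P.basicOpen g₁) F
    (fun x hx => ⟨(hF x hx).2, hF₁ x hx⟩)
  -- `g₂` restricted to `D(g₁)`
  let t : Γ(P, P.basicOpen g₁) := P.presheaf.map (homOfLE hg₁).op g₂
  obtain ⟨g₁', hg₁'⟩ := h₁.basicOpen_basicOpen_is_basicOpen g₁ t
  refine ⟨g₁', g₂, ?_, ?_⟩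
  · rw [hg₁', Scheme.basicOpen_res, inf_eq_right.mpr hg₂]
  · intro x hx
    rw [hg₁', Scheme.basicOpen_res, inf_eq_right.mpr hg₂]
    exact hF₂ x hx

end Groth.Agent.Lib.Helper13.ClosedCover
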