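import Groth.Agent.Lib.Helper13.ClosedCoverShrink

/-!
# Shrinking affine opens of two closed subschemes to agree on the intersection
-/

set_option autoImplicit false
universe u
open CategoryTheory AlgebraicGeometry TopologicalSpace Opposite Limits

namespace Groth.Agent.Lib.Helper13.ClosedCover

/-- lift a section along a closed immersion, not vanishing at finitely many points outside
its range -/
theorem exists_lift_avoiding {P Y : Scheme.{u}} (p : P ⟶ Y) [IsClosedImmersion p] {W : Y.Opens}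
    (hW : IsAffineOpen W) (g : Γ(P, p ⁻¹ᵁ W)) (F : Finset Y)
    (hF : ∀ y ∈ F, y ∈ W ∧ y ∉ Set.range p) :
    ∃ a : Γ(Y, W), (p.app W).hom a = g ∧ ∀ y ∈ F, y ∈ Y.basicOpen a := by
  classical
  have hs : Function.Surjective (p.app W).hom := p.app_surjective W hW
  obtain ⟨a₀, ha₀⟩ := hs g
  let I : Ideal Γ(Y, W) := RingHom.ker (p.app W).hom
  let s : Finset (Ideal Γ(Y, W)) :=
    F.attach.image (fun y => (hW.primeIdealOf ⟨y.1, (hF y.1 y.2).1⟩).asIdeal)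
  have hs' : ∀ q ∈ s, q.IsPrime := by
    intro q hq
    obtain ⟨y, -, rfl⟩ := Finset.mem_image.1 hq
    exact (hW.primeIdealOf _).isPrime
  have hI : ∀ q ∈ s, ¬ I ≤ q := by
    intro q hq hle
    obtain ⟨y, -, rfl⟩ := Finset.mem_image.1 hq
    have hy := hF y.1 y.2
    have hsupp : y.1 ∉ p.ker.support := by
      rw [← SetLike.mem_coe, Scheme.Hom.support_ker, p.isClosedEmbedding.isClosed_range.closure_eq]
      exact hy.2
    rw [Scheme.IdealSheafData.mem_support_iff_of_mem (U := ⟨W, hW⟩) hy.1,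
      Scheme.mem_zeroLocus_iff] at hsupp
    apply hsupp
    intro f hf
    rw [SetLike.mem_coe, Scheme.Hom.ker_apply] at hf
    have := hle hf
    rwa [mem_primeIdealOf_iff_notMem_basicOpen] at this
  obtain ⟨f, hf, hfs⟩ := Groth.Agent.S7661.result Γ(Y, W) I s hs' hI (Ideal.Quotient.mk I a₀)
  refine ⟨f, ?_, fun y hy => ?_⟩
  · rw [← ha₀]
    have := Ideal.Quotient.eq.1 hf
    rw [RingHom.mem_ker, map_sub, sub_eq_zero] at this
    exact this
  · have := hfs _ (Finset.mem_image.2 ⟨⟨y, hy⟩, Finset.mem_attach _ _, rfl⟩)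
    rw [mem_primeIdealOf_iff_notMem_basicOpen] at this
    exact not_not.1 this

/-- **Shrinking**: affine opens of two closed subschemes containing the points over a finite set
can be shrunk so as to have the same trace on the intersection. -/
theorem exists_shrink {Y₁ Y₂ Y : Scheme.{u}} (j₁ : Y₁ ⟶ Y) (j₂ : Y₂ ⟶ Y)
    [IsClosedImmersion j₁] [IsClosedImmersion j₂] (T : Finset Y) {W₁ : Y₁.Opens} {W₂ : Y₂.Opens}
    (h₁ : IsAffineOpen W₁) (h₂ : IsAffineOpen W₂)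
    (hT₁ : ∀ y₁ : Y₁, j₁ y₁ ∈ T → y₁ ∈ W₁) (hT₂ : ∀ y₂ : Y₂, j₂ y₂ ∈ T → y₂ ∈ W₂) :
    ∃ (W₁' : Y₁.Opens) (W₂' : Y₂.Opens), IsAffineOpen W₁' ∧ IsAffineOpen W₂' ∧
      (pullback.fst j₁ j₂) ⁻¹ᵁ W₁' = (pullback.snd j₁ j₂) ⁻¹ᵁ W₂' ∧
      (∀ y₁ : Y₁, j₁ y₁ ∈ T → y₁ ∈ W₁') ∧ (∀ y₂ : Y₂, j₂ y₂ ∈ T → y₂ ∈ W₂') := by
  classical
  let p₁ := pullback.fst j₁ j₂
  let p₂ := pullback.snd j₁ j₂
  have hcond : ∀ x : ↑(pullback j₁ j₂), j₁ (p₁ x) = j₂ (p₂ x) := by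
    intro x
    rw [← Scheme.Hom.comp_apply, ← Scheme.Hom.comp_apply, pullback.condition]
  have hinj : Function.Injective (p₁ ≫ j₁) := (p₁ ≫ j₁).isClosedEmbedding.injective
  let TP : Finset ↑(pullback j₁ j₂) := T.preimage (p₁ ≫ j₁) hinj.injOn
  have hTP : ∀ x, x ∈ TP ↔ j₁ (p₁ x) ∈ T := by
    intro x
    rw [Finset.mem_preimage, Scheme.Hom.comp_apply]
  have hE : ∀ x ∈ TP, x ∈ p₁ ⁻¹ᵁ W₁ ∧ x ∈ p₂ ⁻¹ᵁ W₂ := by
    intro x hx
    rw [hTP] at hx
    refine ⟨hT₁ _ hx, hT₂ _ ?_⟩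
    rw [← hcond]; exact hx
  obtain ⟨g₁, g₂, hg, hgT⟩ := exists_common_basicOpen (h₁.preimage p₁) (h₂.preimage p₂) TP hE
  -- the points to avoid
  have hj₁ : Function.Injective j₁ := j₁.isClosedEmbedding.injective
  have hj₂ : Function.Injective j₂ := j₂.isClosedEmbedding.injective
  let F₁ : Finset Y₁ := (T.preimage j₁ hj₁.injOn).filter (fun y => y ∉ Set.range p₁)
  let F₂ : Finset Y₂ := (T.preimage j₂ hj₂.injOn).filter (fun y => y ∉ Set.range p₂)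
  obtain ⟨a₁, ha₁, hF₁⟩ := exists_lift_avoiding p₁ h₁ g₁ F₁ (fun y hy => by
    rw [Finset.mem_filter, Finset.mem_preimage] at hy
    exact ⟨hT₁ y hy.1, hy.2⟩)
  obtain ⟨a₂, ha₂, hF₂⟩ := exists_lift_avoiding p₂ h₂ g₂ F₂ (fun y hy => by
    rw [Finset.mem_filter, Finset.mem_preimage] at hy
    exact ⟨hT₂ y hy.1, hy.2⟩)
  have e₁ : p₁ ⁻¹ᵁ (Y₁.basicOpen a₁) = (pullback j₁ j₂).basicOpen g₁ := by
    rw [Scheme.preimage_basicOpen, ha₁]
  have e₂ : p₂ ⁻¹ᵁ (Y₂.basicOpen a₂) = (pullback j₁ j₂).basicOpen g₂ := by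
    rw [Scheme.preimage_basicOpen, ha₂]
  refine ⟨Y₁.basicOpen a₁, Y₂.basicOpen a₂, h₁.basicOpen a₁, h₂.basicOpen a₂, ?_, ?_, ?_⟩
  · rw [e₁, e₂, hg]
  · intro y₁ hy₁
    by_cases hr : y₁ ∈ Set.range p₁
    · obtain ⟨x, rfl⟩ := hr
      have hx : x ∈ TP := (hTP x).2 hy₁
      have := hgT x hx
      rw [← e₁] at this
      exact this
    · exact hF₁ y₁ (by rw [Finset.mem_filter, Finset.mem_preimage]; exact ⟨hy₁, hr⟩)
  · intro y₂ hy₂
    by_cases hr : y₂ ∈ Set.range p₂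
    · obtain ⟨x, rfl⟩ := hr
      have hx : x ∈ TP := (hTP x).2 (by rw [hcond]; exact hy₂)
      have := hgT x hx
      rw [hg, ← e₂] at this
      exact this
    · exact hF₂ y₂ (by rw [Finset.mem_filter, Finset.mem_preimage]; exact ⟨hy₂, hr⟩)

end Groth.Agent.Lib.Helper13.ClosedCover
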