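import Groth.Agent.Lib.Helper13.ClosedCoverShrink2

/-!
# Gluing affine opens of two closed subschemes covering a scheme
-/

set_option autoImplicit false
universe u
open CategoryTheory AlgebraicGeometry TopologicalSpace Opposite Limits

namespace Groth.Agent.Lib.Helper13.ClosedCover

/-- **Union**: if two closed subschemes cover `Y` and affine opens of them have the same trace on
the intersection, they are the traces of an affine open of `Y`. -/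
theorem exists_isAffineOpen_of_preimage_eq {Y₁ Y₂ Y : Scheme.{u}} (j₁ : Y₁ ⟶ Y) (j₂ : Y₂ ⟶ Y)
    [IsClosedImmersion j₁] [IsClosedImmersion j₂]
    (hcov : ∀ y : Y, y ∈ Set.range j₁ ∨ y ∈ Set.range j₂)
    {W₁ : Y₁.Opens} {W₂ : Y₂.Opens} (h₁ : IsAffineOpen W₁) (h₂ : IsAffineOpen W₂)
    (hW : (pullback.fst j₁ j₂) ⁻¹ᵁ W₁ = (pullback.snd j₁ j₂) ⁻¹ᵁ W₂) :
    ∃ U : Y.Opens, IsAffineOpen U ∧ j₁ ⁻¹ᵁ U = W₁ ∧ j₂ ⁻¹ᵁ U = W₂ := by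
  have hj₁ : Function.Injective j₁ := j₁.isClosedEmbedding.injective
  have hj₂ : Function.Injective j₂ := j₂.isClosedEmbedding.injective
  -- compatibility on points
  have hcompat : ∀ (y₁ : Y₁) (y₂ : Y₂), j₁ y₁ = j₂ y₂ → (y₁ ∈ W₁ ↔ y₂ ∈ W₂) := by
    intro y₁ y₂ hy
    obtain ⟨x, rfl, rfl⟩ := Scheme.Pullback.exists_preimage_pullback y₁ y₂ hy
    have := congr(x ∈ $hW)
    exact iff_of_eq this
  let Uset : Set Y := j₁ '' (W₁ : Set Y₁) ∪ j₂ '' (W₂ : Set Y₂)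
  have hcompl : Usetᶜ = j₁ '' ((W₁ : Set Y₁)ᶜ) ∪ j₂ '' ((W₂ : Set Y₂)ᶜ) := by
    ext y
    constructor
    · intro hy
      rcases hcov y with ⟨y₁, rfl⟩ | ⟨y₂, rfl⟩
      · left
        exact ⟨y₁, fun h => hy (Or.inl ⟨y₁, h, rfl⟩), rfl⟩
      · right
        exact ⟨y₂, fun h => hy (Or.inr ⟨y₂, h, rfl⟩), rfl⟩
    · rintro (⟨y₁, hy₁, rfl⟩ | ⟨y₂, hy₂, rfl⟩)
      · rintro (⟨y₁', hy₁', he⟩ | ⟨y₂, hy₂, he⟩)
        · exact hy₁ (hj₁ he ▸ hy₁')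
        · exact hy₁ ((hcompat y₁ y₂ he.symm).2 hy₂)
      · rintro (⟨y₁, hy₁, he⟩ | ⟨y₂', hy₂', he⟩)
        · exact hy₂ ((hcompat y₁ y₂ he).1 hy₁)
        · exact hy₂ (hj₂ he ▸ hy₂')
  have hopen : IsOpen Uset := by
    rw [← isClosed_compl_iff, hcompl]
    exact (j₁.isClosedEmbedding.isClosedMap _ W₁.isOpen.isClosed_compl).union
      (j₂.isClosedEmbedding.isClosedMap _ W₂.isOpen.isClosed_compl)
  let U : Y.Opens := ⟨Uset, hopen⟩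
  have e₁ : j₁ ⁻¹ᵁ U = W₁ := by
    ext y₁
    constructor
    · rintro (⟨y₁', hy₁', he⟩ | ⟨y₂, hy₂, he⟩)
      · exact hj₁ he ▸ hy₁'
      · exact (hcompat y₁ y₂ he.symm).2 hy₂
    · intro h
      exact Or.inl ⟨y₁, h, rfl⟩
  have e₂ : j₂ ⁻¹ᵁ U = W₂ := by
    ext y₂
    constructor
    · rintro (⟨y₁, hy₁, he⟩ | ⟨y₂', hy₂', he⟩)
      · exact (hcompat y₁ y₂ he).1 hy₁
      · exact hj₂ he ▸ hy₂'
    · intro h
      exact Or.inr ⟨y₂, h, rfl⟩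
  refine ⟨U, ?_, e₁, e₂⟩
  haveI : IsAffine ↑(j₁ ⁻¹ᵁ U) := by
    have : IsAffineOpen (j₁ ⁻¹ᵁ U) := e₁ ▸ h₁
    exact this
  haveI : IsAffine ↑(j₂ ⁻¹ᵁ U) := by
    have : IsAffineOpen (j₂ ⁻¹ᵁ U) := e₂ ▸ h₂
    exact this
  change IsAffine ↑U
  refine isAffine_of_two (j₁ ∣_ U) (j₂ ∣_ U) fun u => ?_
  rcases u.2 with ⟨y₁, hy₁, he⟩ | ⟨y₂, hy₂, he⟩
  · left
    refine ⟨⟨y₁, Or.inl ⟨y₁, hy₁, rfl⟩⟩, Subtype.ext ?_⟩
    rw [morphismRestrict_base_coe]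
    exact he
  · right
    refine ⟨⟨y₂, Or.inr ⟨y₂, hy₂, rfl⟩⟩, Subtype.ext ?_⟩
    rw [morphismRestrict_base_coe]
    exact he

/-- **Affine opens through finitely many points, two closed pieces**: if `Y` is covered by two
closed subschemes each having an affine open containing the points over a finite set `T`, then
`Y` has an affine open containing `T`. -/
theorem exists_isAffineOpen_of_two {Y₁ Y₂ Y : Scheme.{u}} (j₁ : Y₁ ⟶ Y) (j₂ : Y₂ ⟶ Y)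
    [IsClosedImmersion j₁] [IsClosedImmersion j₂]
    (hcov : ∀ y : Y, y ∈ Set.range j₁ ∨ y ∈ Set.range j₂) (T : Finset Y)
    {W₁ : Y₁.Opens} {W₂ : Y₂.Opens} (h₁ : IsAffineOpen W₁) (h₂ : IsAffineOpen W₂)
    (hT₁ : ∀ y₁ : Y₁, j₁ y₁ ∈ T → y₁ ∈ W₁) (hT₂ : ∀ y₂ : Y₂, j₂ y₂ ∈ T → y₂ ∈ W₂) :
    ∃ U : Y.Opens, IsAffineOpen U ∧ ∀ t ∈ T, t ∈ U := by
  obtain ⟨W₁', W₂', h₁', h₂', hW, hT₁', hT₂'⟩ := exists_shrink j₁ j₂ T h₁ h₂ hT₁ hT₂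
  obtain ⟨U, hU, e₁, e₂⟩ := exists_isAffineOpen_of_preimage_eq j₁ j₂ hcov h₁' h₂' hW
  refine ⟨U, hU, fun t ht => ?_⟩
  rcases hcov t with ⟨y₁, rfl⟩ | ⟨y₂, rfl⟩
  · have : y₁ ∈ j₁ ⁻¹ᵁ U := by rw [e₁]; exact hT₁' y₁ ht
    exact this
  · have : y₂ ∈ j₂ ⁻¹ᵁ U := by rw [e₂]; exact hT₂' y₂ ht
    exact this

end Groth.Agent.Lib.Helper13.ClosedCover
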