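import Mathlib.RingTheory.Jacobson.Ring
import Mathlib.RingTheory.Finiteness.Nakayama
import Mathlib.RingTheory.Localization.AtPrime.Basic
import Mathlib.RingTheory.Localization.Ideal
import Mathlib.FieldTheory.IsAlgClosed.Basic
import Mathlib.RingTheory.RingHom.Finite
import Mathlib.RingTheory.RingHom.FiniteType

/-! Ring-level criterion: a finite ring map which is injective on maximal ideals and
whose maximal ideals are generated (locally) by the ideals below is surjective, over an
algebraically closed base field. -/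

set_option autoImplicit false
universe u

namespace Groth.Agent.Lib.Helper13.ClosedImmRing

/-- A finite module `N` with `N = m N` for every maximal ideal `m` is trivial. -/
theorem subsingleton_of_forall_maximal_smul_top {B N : Type*} [CommRing B] [AddCommGroup N]
    [Module B N] [Module.Finite B N]
    (h : ∀ m : Ideal B, m.IsMaximal → (⊤ : Submodule B N) ≤ m • ⊤) : Subsingleton N := by
  by_contra hN
  rw [not_subsingleton_iff_nontrivial] at hN
  have hann : Module.annihilator B N ≠ ⊤ := by
    intro htop
    have h1 : (1 : B) ∈ Module.annihilator B N := htop ▸ Submodule.mem_top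
    rw [Module.mem_annihilator] at h1
    obtain ⟨x, y, hxy⟩ := hN
    exact hxy (by rw [← one_smul B x, ← one_smul B y, h1 x, h1 y])
  obtain ⟨m, hm, hle⟩ := Ideal.exists_le_maximal _ hann
  obtain ⟨r, hr1, hr0⟩ := Submodule.exists_sub_one_mem_and_smul_eq_zero_of_fg_of_le_smul m
    (⊤ : Submodule B N) Module.Finite.fg_top (h m hm)
  have hr : r ∈ m := hle (Module.mem_annihilator.mpr fun n => hr0 n Submodule.mem_top)
  apply hm.ne_top
  rw [Ideal.eq_top_iff_one]
  have := m.sub_mem hr hr1
  simpa using this

/-- Local generation: if `n` is the only maximal ideal above `I` and `n ≤ I` after localising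
at `n`, then `n ≤ I`. -/
theorem le_of_map_le_of_unique {A : Type*} [CommRing A] (I n : Ideal A) [n.IsMaximal]
    (huniq : ∀ P : Ideal A, P.IsMaximal → I ≤ P → P = n)
    {S : Type*} [CommRing S] [Algebra A S] [IsLocalization.AtPrime S n]
    (hloc : Ideal.map (algebraMap A S) n ≤ Ideal.map (algebraMap A S) I) : n ≤ I := by
  intro a ha
  have h1 : algebraMap A S a ∈ Ideal.map (algebraMap A S) I := hloc (Ideal.mem_map_of_mem _ ha)
  rw [IsLocalization.algebraMap_mem_map_algebraMap_iff n.primeCompl] at h1
  obtain ⟨s, hs, hsa⟩ := h1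
  -- the colon ideal
  let J : Ideal A := I.colon (Ideal.span {a})
  have hIJ : I ≤ J := by
    intro i hi
    rw [Submodule.mem_colon]
    intro p _
    exact I.mul_mem_right _ hi
  have hsJ : s ∈ J := by
    rw [Submodule.mem_colon]
    intro p hp
    obtain ⟨c, rfl⟩ := Ideal.mem_span_singleton'.mp hp
    have : s • (c * a) = c * (s * a) := by simp only [smul_eq_mul]; ring
    rw [this]
    exact I.mul_mem_left _ hsa
  by_cases hJ : J = ⊤
  · have h1 : (1 : A) ∈ J := hJ ▸ Submodule.mem_top
    rw [Submodule.mem_colon] at h1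
    simpa using h1 a (Ideal.mem_span_singleton_self a)
  · obtain ⟨P, hP, hJP⟩ := Ideal.exists_le_maximal _ hJ
    have hPn : P = n := huniq P hP (hIJ.trans hJP)
    exact absurd (hPn ▸ hJP hsJ) hs

/-- Over an algebraically closed field `k`: a finite map `φ : B → A` of `k`-algebras with `A` of
finite type, injective on maximal ideals, and such that each maximal ideal `n` of `A` is
generated, locally at `n`, by the maximal ideal below it, is surjective. -/
theorem surjective_of_finite {k B A : Type u} [Field k] [IsAlgClosed k] [CommRing B] [CommRing A]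
    (ι : k →+* B) (φ : B →+* A) (hφ : φ.Finite) (hft : (φ.comp ι).FiniteType)
    (hinj : ∀ n₁ n₂ : Ideal A, n₁.IsMaximal → n₂.IsMaximal → n₁.comap φ = n₂.comap φ → n₁ = n₂)
    (hloc : ∀ (n : Ideal A) [n.IsMaximal], ∃ (S : Type u) (_ : CommRing S) (_ : Algebra A S)
      (_ : IsLocalization.AtPrime S n),
      Ideal.map (algebraMap A S) n ≤ Ideal.map (algebraMap A S) (Ideal.map φ (n.comap φ))) :
    Function.Surjective φ := by
  letI : Algebra B A := φ.toAlgebra
  letI : Algebra k A := (φ.comp ι).toAlgebra
  haveI : Module.Finite B A := hφ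
  haveI : Algebra.FiniteType k A := hft
  have key : ∀ m : Ideal B, m.IsMaximal → ∀ a : A, ∃ b : B, a - φ b ∈ Ideal.map φ m := by
    intro m hm a
    by_cases hI : Ideal.map φ m = ⊤
    · exact ⟨0, hI ▸ Submodule.mem_top⟩
    obtain ⟨n, hn, hIn⟩ := Ideal.exists_le_maximal _ hI
    have hcomap : ∀ P : Ideal A, P.IsMaximal → Ideal.map φ m ≤ P → P.comap φ = m := by
      intro P hP hIP
      exact (hm.eq_of_le (Ideal.comap_ne_top φ hP.ne_top) (Ideal.map_le_iff_le_comap.mp hIP)).symm
    have huniq : ∀ P : Ideal A, P.IsMaximal → Ideal.map φ m ≤ P → P = n := fun P hP hIP =>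
      hinj P n hP hn (by rw [hcomap P hP hIP, hcomap n hn hIn])
    obtain ⟨S, _, _, _, hS⟩ := hloc n
    rw [hcomap n hn hIn] at hS
    have hnI : n ≤ Ideal.map φ m := le_of_map_le_of_unique _ n huniq hS
    letI : Field (A ⧸ n) := Ideal.Quotient.field n
    haveI : Module.Finite k (A ⧸ n) := finite_of_finite_type_of_isJacobsonRing k (A ⧸ n)
    have hbij := IsAlgClosed.algebraMap_bijective_of_isIntegral (k := k) (K := A ⧸ n)
    obtain ⟨c, hc⟩ := hbij.2 (Ideal.Quotient.mk n a)
    refine ⟨ι c, hnI ?_⟩
    rw [← Ideal.Quotient.eq_zero_iff_mem, map_sub, ← hc, sub_eq_zero]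
    rfl
  let R : Submodule B A := LinearMap.range (Algebra.linearMap B A)
  have hsub : Subsingleton (A ⧸ R) := by
    refine subsingleton_of_forall_maximal_smul_top (B := B) (fun m hm => ?_)
    rintro x -
    obtain ⟨a, rfl⟩ := R.mkQ_surjective x
    obtain ⟨b, hb⟩ := key m hm a
    have h0 : R.mkQ (φ b) = 0 := (Submodule.Quotient.mk_eq_zero R).mpr ⟨b, rfl⟩
    have h1 : R.mkQ a = R.mkQ (a - φ b) := by rw [map_sub, h0, sub_zero]
    have h2 : (a - φ b) ∈ (m • ⊤ : Submodule B A) := by
      rw [Ideal.smul_top_eq_map]; exact hb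
    have h3 := Submodule.mem_map_of_mem (f := R.mkQ) h2
    rw [Submodule.map_smul''] at h3
    rw [h1]
    exact Submodule.smul_mono le_rfl le_top h3
  have hR : R = ⊤ := Submodule.Quotient.subsingleton_iff.mp hsub
  intro a
  have ha : a ∈ R := hR ▸ Submodule.mem_top
  obtain ⟨b, hb⟩ := ha
  exact ⟨b, hb⟩

end Groth.Agent.Lib.Helper13.ClosedImmRing
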