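import Mathlib.AlgebraicGeometry.ZariskisMainTheorem
import Mathlib.AlgebraicGeometry.Noetherian
import Groth.Agent.Lib.Helper13.ClosedImmRing

/-! Closed immersion criterion over an algebraically closed field (scheme level). -/

set_option autoImplicit false
universe u

open CategoryTheory AlgebraicGeometry

namespace Groth.Agent.Lib.Helper13.ClosedImmCrit

variable {X Y : Scheme.{u}} (f : X ⟶ Y)

/-- In a Jacobson space, an open set containing all closed points is everything. -/
theorem eq_univ_of_closedPoints_subset {T : Type*} [TopologicalSpace T] [JacobsonSpace T]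
    {W : Set T} (hW : IsOpen W) (h : closedPoints T ⊆ W) : W = Set.univ := by
  have hZ : IsClosed Wᶜ := hW.isClosed_compl
  have h1 := JacobsonSpace.closure_inter_closedPoints hZ
  have h2 : Wᶜ ∩ closedPoints T = ∅ := by
    ext t
    simp only [Set.mem_inter_iff, Set.mem_compl_iff, Set.mem_empty_iff_false, iff_false, not_and]
    exact fun ht hc => ht (h hc)
  rw [h2, closure_empty] at h1
  exact Set.compl_empty_iff.mp h1.symm

/-- The fibre through a closed point is that point, if `f` is closed and injective on closed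
points and the source is Jacobson. -/
theorem preimage_singleton_eq [JacobsonSpace X] (hcl : IsClosedMap f)
    (hinj : Set.InjOn f {x : X | IsClosed ({x} : Set X)}) (x : X) (hx : IsClosed ({x} : Set X)) :
    f ⁻¹' {f x} = {x} := by
  have hfx : IsClosed ({f x} : Set Y) := by
    have := hcl _ hx
    rwa [Set.image_singleton] at this
  have hZ : IsClosed (f ⁻¹' {f x}) := hfx.preimage f.continuous
  have h1 := JacobsonSpace.closure_inter_closedPoints hZ
  have h2 : f ⁻¹' {f x} ∩ closedPoints X = {x} := by
    ext t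
    simp only [Set.mem_inter_iff, Set.mem_preimage, Set.mem_singleton_iff]
    constructor
    · rintro ⟨h, hc⟩
      exact hinj hc hx h
    · rintro rfl
      exact ⟨rfl, hx⟩
  rw [h2, hx.closure_eq] at h1
  exact h1.symm

/-- Quasi-finiteness at closed points with singleton fibre. -/
theorem quasiFiniteAt_of_preimage_singleton [LocallyOfFiniteType f] (x : X)
    (h : f ⁻¹' {f x} = {x}) : f.QuasiFiniteAt x := by
  rw [Scheme.Hom.quasiFiniteAt_iff_isOpen_singleton_asFiber]
  have hs : Subsingleton (f ⁻¹' {f x}) := by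
    rw [h]; infer_instance
  have hs' : Subsingleton (f.fiber (f x)) := (f.fiberHomeo (f x)).injective.subsingleton
  have : ({f.asFiber x} : Set (f.fiber (f x))) = Set.univ :=
    Set.eq_univ_of_forall fun y => Subsingleton.elim _ _
  rw [this]
  exact isOpen_univ

/-- A proper morphism which is injective on closed points, with Jacobson source, is finite. -/
theorem isFinite_of_injOn_closedPoints [JacobsonSpace X] [IsProper f]
    (hinj : Set.InjOn f {x : X | IsClosed ({x} : Set X)}) : IsFinite f := by
  have hcl : IsClosedMap f := f.isClosedMap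
  have htop : f.quasiFiniteLocus = ⊤ := by
    apply TopologicalSpace.Opens.ext
    refine eq_univ_of_closedPoints_subset f.quasiFiniteLocus.2 (fun x hx => ?_)
    exact quasiFiniteAt_of_preimage_singleton f x (preimage_singleton_eq f hcl hinj x hx)
  have : LocallyQuasiFinite f := f.quasiFiniteLocus_eq_top_iff.mp htop
  exact IsFinite.of_isProper_of_locallyQuasiFinite f

/-- Every maximal ideal of the sections over an affine open of a Jacobson scheme is the prime
ideal of a point of that open which is closed in the whole scheme. -/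
theorem exists_closed_point_of_isMaximal [JacobsonSpace X] {V : X.Opens} (hV : IsAffineOpen V)
    (n : Ideal Γ(X, V)) [hn : n.IsMaximal] :
    ∃ (x : X) (hx : x ∈ V), IsClosed ({x} : Set X) ∧ (hV.primeIdealOf ⟨x, hx⟩).asIdeal = n := by
  let p : PrimeSpectrum Γ(X, V) := ⟨n, hn.isPrime⟩
  have hmem : hV.fromSpec p ∈ (V : Set X) := by
    rw [← hV.range_fromSpec]; exact Set.mem_range_self p
  refine ⟨hV.fromSpec p, hmem, ?_, ?_⟩
  · have h1 := hV.fromSpec.isOpenEmbedding.preimage_closedPoints
    have h2 : p ∈ closedPoints (Spec Γ(X, V)) :=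
      (PrimeSpectrum.isClosed_singleton_iff_isMaximal p).mpr hn
    rw [← h1] at h2
    exact h2
  · have := hV.fromSpec.isOpenEmbedding.injective (hV.fromSpec_primeIdealOf ⟨_, hmem⟩)
    rw [this]

/-- A finite morphism of schemes of finite type over an algebraically closed field which is
injective on closed points and such that the maximal ideal at each closed point is generated by
the maximal ideal below is a closed immersion. -/
theorem isClosedImmersion_of_isFinite {k : Type u} [Field k] [IsAlgClosed k]
    (q : Y ⟶ Spec (CommRingCat.of k)) [LocallyOfFiniteType (f ≫ q)] [IsFinite f]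
    (hinj : Set.InjOn f {x : X | IsClosed ({x} : Set X)})
    (hT : ∀ x : X, IsClosed ({x} : Set X) → IsLocalRing.maximalIdeal (X.presheaf.stalk x) ≤
      Ideal.map (f.stalkMap x).hom (IsLocalRing.maximalIdeal (Y.presheaf.stalk (f x)))) :
    IsClosedImmersion f := by
  have : JacobsonSpace X := LocallyOfFiniteType.jacobsonSpace (f ≫ q)
  rw [isClosedImmersion_iff_isAffineHom]
  refine ⟨inferInstance, fun U hU => ?_⟩
  have hV : IsAffineOpen (f ⁻¹ᵁ U) := hU.preimage f
  let ι : k →+* Γ(Y, U) := ((Scheme.ΓSpecIso (.of k)).inv ≫ q.appLE ⊤ U le_top).hom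
  refine ClosedImmRing.surjective_of_finite ι (f.app U).hom (f.finite_app U hU) ?_ ?_ ?_
  · have h1 : ((f ≫ q).appLE ⊤ (f ⁻¹ᵁ U) le_top).hom.FiniteType :=
      (f ≫ q).finiteType_appLE (isAffineOpen_top _) hV le_top
    have h2 : (f.app U).hom.comp ι =
        ((f ≫ q).appLE ⊤ (f ⁻¹ᵁ U) le_top).hom.comp (Scheme.ΓSpecIso (.of k)).inv.hom := by
      rw [← CommRingCat.hom_comp, ← CommRingCat.hom_comp, Category.assoc, f.app_eq_appLE,
        Scheme.Hom.appLE_comp_appLE]
    rw [h2]
    refine h1.comp (RingHom.FiniteType.of_surjective _ ?_)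
    exact (ConcreteCategory.bijective_of_isIso (Scheme.ΓSpecIso (.of k)).inv).2
  · intro n₁ n₂ hn₁ hn₂ h
    obtain ⟨x₁, hx₁, hc₁, rfl⟩ := exists_closed_point_of_isMaximal hV n₁
    obtain ⟨x₂, hx₂, hc₂, rfl⟩ := exists_closed_point_of_isMaximal hV n₂
    have e₁ := IsAffineOpen.comap_primeIdealOf_appLE U hU _ hV le_rfl hx₁
    have e₂ := IsAffineOpen.comap_primeIdealOf_appLE U hU _ hV le_rfl hx₂
    rw [← f.app_eq_appLE] at e₁ e₂
    have h12 : hU.primeIdealOf ⟨f x₁, hx₁⟩ = hU.primeIdealOf ⟨f x₂, hx₂⟩ := by
      rw [← e₁, ← e₂]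
      exact PrimeSpectrum.ext h
    have hf12 : f x₁ = f x₂ := by
      have := congrArg hU.fromSpec h12
      rwa [hU.fromSpec_primeIdealOf, hU.fromSpec_primeIdealOf] at this
    have : x₁ = x₂ := hinj hc₁ hc₂ hf12
    subst this
    rfl
  · intro n hn
    obtain ⟨x, hx, hc, rfl⟩ := exists_closed_point_of_isMaximal hV n
    letI := X.presheaf.algebra_section_stalk ⟨x, hx⟩
    letI := Y.presheaf.algebra_section_stalk ⟨f x, hx⟩
    haveI := hV.isLocalization_stalk ⟨x, hx⟩
    haveI := hU.isLocalization_stalk ⟨f x, hx⟩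
    refine ⟨X.presheaf.stalk x, inferInstance, inferInstance, inferInstance, ?_⟩
    have e := IsAffineOpen.comap_primeIdealOf_appLE U hU _ hV le_rfl hx
    rw [← f.app_eq_appLE] at e
    have e' : Ideal.comap (f.app U).hom (hV.primeIdealOf ⟨x, hx⟩).asIdeal =
        (hU.primeIdealOf ⟨f x, hx⟩).asIdeal := congrArg PrimeSpectrum.asIdeal e
    rw [e', IsLocalization.AtPrime.map_eq_maximalIdeal, Ideal.map_map]
    have hcomm : (algebraMap Γ(X, f ⁻¹ᵁ U) (X.presheaf.stalk x)).comp (f.app U).hom =
        (f.stalkMap x).hom.comp (algebraMap Γ(Y, U) (Y.presheaf.stalk (f x))) := by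
      ext b
      exact (f.germ_stalkMap_apply U x hx b).symm
    rw [hcomm, ← Ideal.map_map, IsLocalization.AtPrime.map_eq_maximalIdeal]
    exact hT x hc

end Groth.Agent.Lib.Helper13.ClosedImmCrit
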