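import Mathlib

set_option autoImplicit false
universe u
open TensorProduct

namespace Groth.Agent.Lib.Helper13.CoeffProj

variable {R : Type u} [CommRing R] {P : Type u} [CommRing P] [Algebra R P]

/-- the ideal of `R` generated by the values of `R`-linear functionals of `P` on `I` -/
def coeffIdeal (I : Ideal P) : Ideal R :=
  Ideal.span {a | ∃ p ∈ I, ∃ φ : P →ₗ[R] R, φ p = a}

theorem mem_coeffIdeal (I : Ideal P) {p : P} (hp : p ∈ I) (φ : P →ₗ[R] R) :
    φ p ∈ coeffIdeal (R := R) I :=
  Ideal.subset_span ⟨p, hp, φ, rfl⟩

/-- `1 ⊗ p = 0` in `R' ⊗ P` for all `p ∈ I` iff `R → R'` kills the coefficient ideal. -/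
theorem tmul_eq_zero_iff [Module.Projective R P] (I : Ideal P) (R' : Type u) [CommRing R']
    [Algebra R R'] :
    (∀ p ∈ I, (1 : R') ⊗ₜ[R] p = 0) ↔
      coeffIdeal (R := R) I ≤ RingHom.ker (algebraMap R R') := by
  constructor
  · intro h
    unfold coeffIdeal
    rw [Ideal.span_le]
    rintro a ⟨p, hp, φ, rfl⟩
    have h1 := h p hp
    have h2 := congrArg (fun z => (TensorProduct.rid R R') (LinearMap.lTensor R' φ z)) h1
    simp only [LinearMap.lTensor_tmul, TensorProduct.rid_tmul, map_zero] at h2
    change algebraMap R R' (φ p) = 0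
    rw [Algebra.algebraMap_eq_smul_one]
    exact h2
  · intro h p hp
    obtain ⟨s, hs⟩ := (Module.projective_def'.mp (inferInstance : Module.Projective R P))
    have hp' : p = Finsupp.linearCombination R id (s p) := (congrArg (fun g => g p) hs).symm ▸ rfl
    rw [hp', Finsupp.linearCombination_apply, Finsupp.sum, TensorProduct.tmul_sum]
    apply Finset.sum_eq_zero
    intro b _
    rw [id, TensorProduct.tmul_smul, TensorProduct.smul_tmul', Algebra.smul_def, mul_one]
    have : (s p) b ∈ coeffIdeal (R := R) I :=
      mem_coeffIdeal I hp ((Finsupp.lapply b).comp s)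
    have h0 : algebraMap R R' ((s p) b) = 0 := h this
    rw [h0, TensorProduct.zero_tmul]

/-- the coefficient ideal of a finitely generated ideal of a module-finite projective algebra is
finitely generated. -/
theorem coeffIdeal_fg [Module.Projective R P] [Module.Finite R P] (I : Ideal P) (hI : I.FG) :
    (coeffIdeal (R := R) I).FG := by
  classical
  obtain ⟨s, hs⟩ := (Module.projective_def'.mp (inferInstance : Module.Projective R P))
  obtain ⟨F, hF⟩ := hI
  obtain ⟨G, hG⟩ := (Module.Finite.fg_top : (⊤ : Submodule R P).FG)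
  -- generators: coefficients of `b * f`
  let gens : Finset R := (G ×ˢ F).biUnion fun bf => (s (bf.1 * bf.2)).support.image fun x => s (bf.1 * bf.2) x
  refine ⟨gens, le_antisymm ?_ ?_⟩
  · rw [Ideal.span_le]
    intro a ha
    simp only [gens, Finset.coe_biUnion, Finset.coe_image, Set.mem_iUnion, Set.mem_image,
      Finset.mem_coe, Finset.mem_product] at ha
    obtain ⟨⟨b, f⟩, ⟨-, hf⟩, x, -, rfl⟩ := ha
    refine mem_coeffIdeal I (I.mul_mem_left b ?_) ((Finsupp.lapply x).comp s)
    rw [← hF]
    exact Ideal.subset_span hf
  · unfold coeffIdeal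
    rw [Ideal.span_le]
    rintro a ⟨p, hp, φ, rfl⟩
    -- `p = Σ qᵢ fᵢ`, `qᵢ = Σ r b`
    rw [← hF] at hp
    revert φ
    refine Submodule.span_induction (p := fun p _ => ∀ φ : P →ₗ[R] R, φ p ∈ Ideal.span (gens : Set R)) ?_ ?_ ?_ ?_ hp
    · intro f hf φ
      -- φ f with f ∈ F : write f = 1 * f, 1 = Σ r b
      have key : ∀ q : P, φ (q * f) ∈ Ideal.span (gens : Set R) := by
        intro q
        have hq : q ∈ Submodule.span R (G : Set P) := by rw [hG]; trivial
        refine Submodule.span_induction (p := fun q _ => φ (q * f) ∈ Ideal.span (gens : Set R))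
          ?_ ?_ ?_ ?_ hq
        · intro b hb
          have hbf : b * f = Finsupp.linearCombination R id (s (b * f)) :=
            (congrArg (fun g => g (b * f)) hs).symm ▸ rfl
          rw [hbf, Finsupp.linearCombination_apply, Finsupp.sum, map_sum]
          apply Ideal.sum_mem
          intro x hx
          rw [id, map_smul, smul_eq_mul]
          apply Ideal.mul_mem_right
          apply Ideal.subset_span
          simp only [gens, Finset.coe_biUnion, Finset.coe_image, Set.mem_iUnion, Set.mem_image,
            Finset.mem_coe, Finset.mem_product]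
          exact ⟨(b, f), ⟨hb, hf⟩, x, hx, rfl⟩
        · simp
        · intro x y _ _ hx hy
          rw [add_mul, map_add]
          exact Ideal.add_mem _ hx hy
        · intro r x _ hx
          rw [smul_mul_assoc, map_smul, smul_eq_mul]
          exact Ideal.mul_mem_left _ _ hx
      simpa using key 1
    · simp
    · intro x y _ _ hx hy φ
      rw [map_add]
      exact Ideal.add_mem _ (hx φ) (hy φ)
    · intro q x hx' hx φ
      have := hx (φ.comp (LinearMap.mulLeft R q))
      simpa using this

end Groth.Agent.Lib.Helper13.CoeffProj
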