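import Mathlib

set_option autoImplicit false
universe u
open TensorProduct

namespace Groth.Agent.Lib.Helper13.CoeffIdeal

variable {k : Type u} [Field k] {A A' B : Type u} [CommRing A] [Algebra k A] [CommRing A']
  [Algebra k A'] [CommRing B] [Algebra k B]

/-- the ideal of `A` generated by the coefficients (w.r.t. a basis of `B`) of elements of `I` -/
noncomputable def coeffIdeal (I : Ideal (A ⊗[k] B)) : Ideal A :=
  Ideal.span {a | ∃ f ∈ I, ∃ j, (Algebra.TensorProduct.basis A (Module.Free.chooseBasis k B)).repr f j = a}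

theorem repr_map (φ : A →ₐ[k] A') (x : A ⊗[k] B) (j) :
    φ ((Algebra.TensorProduct.basis A (Module.Free.chooseBasis k B)).repr x j) =
      (Algebra.TensorProduct.basis A' (Module.Free.chooseBasis k B)).repr
        (Algebra.TensorProduct.map φ (AlgHom.id k B) x) j := by
  induction x using TensorProduct.induction_on with
  | zero => simp
  | tmul a y => simp [Algebra.TensorProduct.basis_repr_tmul]
  | add x y hx hy => simp [hx, hy]

/-- `(φ ⊗ id)` kills `I` iff `φ` kills the coefficient ideal -/
theorem le_ker_map_iff (I : Ideal (A ⊗[k] B)) (φ : A →ₐ[k] A') :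
    I ≤ RingHom.ker (Algebra.TensorProduct.map φ (AlgHom.id k B)).toRingHom ↔
      coeffIdeal I ≤ RingHom.ker φ.toRingHom := by
  constructor
  · intro h
    unfold coeffIdeal
    rw [Ideal.span_le]
    rintro a ⟨f, hf, j, rfl⟩
    have h1 : Algebra.TensorProduct.map φ (AlgHom.id k B) f = 0 := h hf
    change φ _ = 0
    rw [repr_map, h1]
    simp
  · intro h f hf
    change Algebra.TensorProduct.map φ (AlgHom.id k B) f = 0
    apply (Algebra.TensorProduct.basis A' (Module.Free.chooseBasis k B)).repr.injective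
    ext j
    rw [← repr_map, map_zero, Finsupp.zero_apply]
    exact h (Ideal.subset_span ⟨f, hf, j, rfl⟩)

theorem coeffIdeal_map_le_iff (I : Ideal (A ⊗[k] B)) (φ : A →ₐ[k] A') (K : Ideal A') :
    coeffIdeal (I.map (Algebra.TensorProduct.map φ (AlgHom.id k B)).toRingHom) ≤ K ↔
      (coeffIdeal I).map φ.toRingHom ≤ K := by
  have hker : RingHom.ker (Ideal.Quotient.mkₐ k K).toRingHom = K := Ideal.mk_ker
  have hcomp : (Algebra.TensorProduct.map (Ideal.Quotient.mkₐ k K) (AlgHom.id k B)).toRingHom.comp
      (Algebra.TensorProduct.map φ (AlgHom.id k B)).toRingHom =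
      (Algebra.TensorProduct.map ((Ideal.Quotient.mkₐ k K).comp φ) (AlgHom.id k B)).toRingHom := by
    ext x
    · simp
    · simp
  calc coeffIdeal (I.map (Algebra.TensorProduct.map φ (AlgHom.id k B)).toRingHom) ≤ K
      ↔ coeffIdeal (I.map (Algebra.TensorProduct.map φ (AlgHom.id k B)).toRingHom) ≤
          RingHom.ker (Ideal.Quotient.mkₐ k K).toRingHom := by rw [hker]
    _ ↔ I.map (Algebra.TensorProduct.map φ (AlgHom.id k B)).toRingHom ≤
          RingHom.ker (Algebra.TensorProduct.map (Ideal.Quotient.mkₐ k K) (AlgHom.id k B)).toRingHom :=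
        (le_ker_map_iff _ _).symm
    _ ↔ I ≤ RingHom.ker (Algebra.TensorProduct.map ((Ideal.Quotient.mkₐ k K).comp φ)
          (AlgHom.id k B)).toRingHom := by
        rw [Ideal.map_le_iff_le_comap, RingHom.comap_ker, hcomp]
    _ ↔ coeffIdeal I ≤ RingHom.ker ((Ideal.Quotient.mkₐ k K).comp φ).toRingHom := le_ker_map_iff _ _
    _ ↔ (coeffIdeal I).map φ.toRingHom ≤ K := by
        rw [Ideal.map_le_iff_le_comap]
        have : RingHom.ker ((Ideal.Quotient.mkₐ k K).comp φ).toRingHom = K.comap φ.toRingHom := by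
          ext a
          simp only [RingHom.mem_ker, Ideal.mem_comap]
          change (Ideal.Quotient.mk K) (φ a) = 0 ↔ _
          rw [Ideal.Quotient.eq_zero_iff_mem]
          rfl
        rw [this]

/-- coefficient ideals commute with extension of scalars -/
theorem coeffIdeal_map (I : Ideal (A ⊗[k] B)) (φ : A →ₐ[k] A') :
    coeffIdeal (I.map (Algebra.TensorProduct.map φ (AlgHom.id k B)).toRingHom) =
      (coeffIdeal I).map φ.toRingHom :=
  le_antisymm ((coeffIdeal_map_le_iff I φ _).mpr le_rfl) ((coeffIdeal_map_le_iff I φ _).mp le_rfl)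

end Groth.Agent.Lib.Helper13.CoeffIdeal
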