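import Mathlib
import Groth.Agent.Lib.Helper13.CoeffIdeal

/-!
# Closedness of the functor `x ↦ (x × id_Y factors through a closed E ⊆ X ×ₖ Y)` over a field

Main result: `exists_closed`.
-/

set_option autoImplicit false
universe u
open CategoryTheory AlgebraicGeometry Limits TensorProduct

namespace Groth.Agent.Lib.Helper13.WeilClosed

open Groth.Agent.Lib.Helper13.CoeffIdeal

variable {k : Type u} [Field k] {X Y E : Scheme.{u}} (pX : X ⟶ Spec (CommRingCat.of k))
  (pY : Y ⟶ Spec (CommRingCat.of k)) (c : E ⟶ pullback pX pY)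

section charts

variable {R R' : Type u} [CommRing R] [CommRing R'] [Algebra k R] [Algebra k R']
  (f : Spec (CommRingCat.of R) ⟶ X) (hf : f ≫ pX = Spec.map (CommRingCat.ofHom (algebraMap k R)))
  (g : Spec (CommRingCat.of R') ⟶ Y) (hg : g ≫ pY = Spec.map (CommRingCat.ofHom (algebraMap k R')))

include hf hg in
theorem rho_cond : (Spec.map (CommRingCat.ofHom (Algebra.TensorProduct.includeLeftRingHom :
      R →+* R ⊗[k] R')) ≫ f) ≫ pX =
    (Spec.map (CommRingCat.ofHom (Algebra.TensorProduct.includeRight : R' →ₐ[k] R ⊗[k] R').toRingHom) ≫ g) ≫ pY := by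
  rw [Category.assoc, Category.assoc, hf, hg, ← Spec.map_comp, ← Spec.map_comp,
    ← CommRingCat.ofHom_comp, ← CommRingCat.ofHom_comp]
  congr 2
  ext a
  simp [Algebra.algebraMap_eq_smul_one, Algebra.TensorProduct.one_def, TensorProduct.smul_tmul']

/-- the chart `Spec (R ⊗ R') ⟶ X ×ₖ Y` -/
noncomputable def rho : Spec (CommRingCat.of (R ⊗[k] R')) ⟶ pullback pX pY :=
  pullback.lift _ _ (rho_cond pX pY f hf g hg)

variable [IsClosedImmersion c]

/-- the ideal of `E` in the chart -/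
noncomputable def idealOf : Ideal (R ⊗[k] R') :=
  Classical.choose (IsClosedImmersion.Spec_iff.mp
    (inferInstance : IsClosedImmersion (pullback.snd c (rho pX pY f hf g hg))))

theorem idealOf_spec : ∃ e : pullback c (rho pX pY f hf g hg) ≅
      Spec (CommRingCat.of ((R ⊗[k] R') ⧸ idealOf pX pY c f hf g hg)),
    pullback.snd c (rho pX pY f hf g hg) =
      e.hom ≫ Spec.map (CommRingCat.ofHom (Ideal.Quotient.mk (idealOf pX pY c f hf g hg))) :=
  Classical.choose_spec (IsClosedImmersion.Spec_iff.mp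
    (inferInstance : IsClosedImmersion (pullback.snd c (rho pX pY f hf g hg))))

theorem factors_iff {S' : CommRingCat.{u}} (ψ : CommRingCat.of (R ⊗[k] R') ⟶ S') :
    (∃ w : Spec S' ⟶ E, w ≫ c = Spec.map ψ ≫ rho pX pY f hf g hg) ↔
      idealOf pX pY c f hf g hg ≤ RingHom.ker ψ.hom := by
  obtain ⟨e, he⟩ := idealOf_spec pX pY c f hf g hg
  constructor
  · rintro ⟨w, hw⟩ x hx
    let l : Spec S' ⟶ pullback c (rho pX pY f hf g hg) := pullback.lift w (Spec.map ψ) hw
    let ψ' : CommRingCat.of ((R ⊗[k] R') ⧸ idealOf pX pY c f hf g hg) ⟶ S' :=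
      Spec.preimage (l ≫ e.hom)
    have h1 : CommRingCat.ofHom (Ideal.Quotient.mk (idealOf pX pY c f hf g hg)) ≫ ψ' = ψ := by
      apply Spec.map_injective
      rw [Spec.map_comp, Spec.map_preimage, Category.assoc, ← he, pullback.lift_snd]
    rw [RingHom.mem_ker, ← h1]
    simp only [CommRingCat.hom_comp, CommRingCat.hom_ofHom, RingHom.comp_apply]
    rw [Ideal.Quotient.eq_zero_iff_mem.mpr hx, map_zero]
  · intro h
    let ψ' : CommRingCat.of ((R ⊗[k] R') ⧸ idealOf pX pY c f hf g hg) ⟶ S' :=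
      CommRingCat.ofHom (Ideal.Quotient.lift _ ψ.hom (fun a ha => h ha))
    have h1 : CommRingCat.ofHom (Ideal.Quotient.mk (idealOf pX pY c f hf g hg)) ≫ ψ' = ψ := by
      refine CommRingCat.hom_ext (RingHom.ext fun a => ?_)
      simp only [ψ', CommRingCat.hom_comp, CommRingCat.hom_ofHom, RingHom.comp_apply]
      exact Ideal.Quotient.lift_mk _ _ _
    refine ⟨Spec.map ψ' ≫ e.inv ≫ pullback.fst c (rho pX pY f hf g hg), ?_⟩
    rw [Category.assoc, Category.assoc, pullback.condition, ← Category.assoc e.inv, he,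
      Iso.inv_hom_id_assoc, ← Category.assoc, ← Spec.map_comp, h1]

end charts

section chartChange

variable {R R₁ R' : Type u} [CommRing R] [CommRing R₁] [CommRing R'] [Algebra k R] [Algebra k R₁]
  [Algebra k R']
  (f : Spec (CommRingCat.of R) ⟶ X) (hf : f ≫ pX = Spec.map (CommRingCat.ofHom (algebraMap k R)))
  (f₁ : Spec (CommRingCat.of R₁) ⟶ X)
  (hf₁ : f₁ ≫ pX = Spec.map (CommRingCat.ofHom (algebraMap k R₁)))
  (g : Spec (CommRingCat.of R') ⟶ Y) (hg : g ≫ pY = Spec.map (CommRingCat.ofHom (algebraMap k R')))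
  (r : R →ₐ[k] R₁) (hr : f₁ = Spec.map (CommRingCat.ofHom r.toRingHom) ≫ f)

include hr in
theorem rho_comp : rho pX pY f₁ hf₁ g hg =
    Spec.map (CommRingCat.ofHom (Algebra.TensorProduct.map r (AlgHom.id k R')).toRingHom) ≫
      rho pX pY f hf g hg := by
  apply pullback.hom_ext
  · simp only [rho, pullback.lift_fst, Category.assoc]
    rw [hr, ← Spec.map_comp_assoc, ← Spec.map_comp_assoc, ← CommRingCat.ofHom_comp,
      ← CommRingCat.ofHom_comp]
    congr 3
  · simp only [rho, pullback.lift_snd, Category.assoc]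
    rw [← Spec.map_comp_assoc, ← CommRingCat.ofHom_comp]
    congr 3
    first | done | (ext a; simp)

variable [IsClosedImmersion c]

include hr in
theorem idealOf_map : idealOf pX pY c f₁ hf₁ g hg =
    (idealOf pX pY c f hf g hg).map (Algebra.TensorProduct.map r (AlgHom.id k R')).toRingHom := by
  set Φ := (Algebra.TensorProduct.map r (AlgHom.id k R')).toRingHom with hΦ
  have hrho := rho_comp pX pY f hf f₁ hf₁ g hg r hr
  apply le_antisymm
  · set L := (idealOf pX pY c f hf g hg).map Φ with hL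
    have h1 : idealOf pX pY c f hf g hg ≤
        RingHom.ker (CommRingCat.ofHom Φ ≫ CommRingCat.ofHom (Ideal.Quotient.mk L)).hom := by
      rw [CommRingCat.hom_comp, CommRingCat.hom_ofHom, CommRingCat.hom_ofHom, ← RingHom.comap_ker,
        Ideal.mk_ker]
      exact Ideal.le_comap_map
    obtain ⟨w, hw⟩ := (factors_iff pX pY c f hf g hg _).mpr h1
    have h2 := (factors_iff pX pY c f₁ hf₁ g hg (CommRingCat.ofHom (Ideal.Quotient.mk L))).mp
      ⟨w, by rw [hw, hrho, Spec.map_comp, Category.assoc]⟩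
    rwa [CommRingCat.hom_ofHom, Ideal.mk_ker] at h2
  · set L₁ := idealOf pX pY c f₁ hf₁ g hg with hL₁
    rw [Ideal.map_le_iff_le_comap]
    obtain ⟨w, hw⟩ := (factors_iff pX pY c f₁ hf₁ g hg (CommRingCat.ofHom (Ideal.Quotient.mk L₁))).mpr
      (by rw [CommRingCat.hom_ofHom, Ideal.mk_ker])
    have h2 := (factors_iff pX pY c f hf g hg
      (CommRingCat.ofHom Φ ≫ CommRingCat.ofHom (Ideal.Quotient.mk L₁))).mp
      ⟨w, by rw [hw, hrho, Spec.map_comp, Category.assoc]⟩
    rwa [CommRingCat.hom_comp, CommRingCat.hom_ofHom, CommRingCat.hom_ofHom, ← RingHom.comap_ker,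
      Ideal.mk_ker] at h2

end chartChange

/-- factoring through a closed immersion is local on the source -/
theorem exists_factor_of_openCover {S P E : Scheme.{u}} (c : E ⟶ P) [IsClosedImmersion c]
    (φ : S ⟶ P) (𝒲 : S.OpenCover) (h : ∀ i, ∃ w : 𝒲.X i ⟶ E, w ≫ c = 𝒲.f i ≫ φ) :
    ∃ w : S ⟶ E, w ≫ c = φ := by
  have hiso : IsIso (pullback.snd c φ) := by
    rw [← MorphismProperty.isomorphisms.iff,
      IsZariskiLocalAtTarget.iff_of_openCover (P := MorphismProperty.isomorphisms Scheme) 𝒲]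
    intro i
    rw [MorphismProperty.isomorphisms.iff]
    change IsIso (pullback.snd (pullback.snd c φ) (𝒲.f i))
    obtain ⟨wi, hwi⟩ := h i
    let l : 𝒲.X i ⟶ pullback c φ := pullback.lift wi (𝒲.f i) hwi
    let σ : 𝒲.X i ⟶ pullback (pullback.snd c φ) (𝒲.f i) :=
      pullback.lift l (𝟙 _) (by rw [pullback.lift_snd, Category.id_comp])
    haveI : IsSplitEpi (pullback.snd (pullback.snd c φ) (𝒲.f i)) :=
      IsSplitEpi.mk' ⟨σ, pullback.lift_snd _ _ _⟩
    exact isIso_of_mono_of_isSplitEpi _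
  refine ⟨inv (pullback.snd c φ) ≫ pullback.fst c φ, ?_⟩
  rw [Category.assoc, pullback.condition, IsIso.inv_hom_id_assoc]


section sheaf

/-- algebra structure on a chart -/
@[reducible] noncomputable def chartAlg {W : Scheme.{u}} (pW : W ⟶ Spec (CommRingCat.of k))
    {R : CommRingCat.{u}} (f : Spec R ⟶ W) : Algebra k R :=
  (Spec.preimage (f ≫ pW)).hom.toAlgebra

theorem chartAlg_spec {W : Scheme.{u}} (pW : W ⟶ Spec (CommRingCat.of k))
    {R : CommRingCat.{u}} (f : Spec R ⟶ W) :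
    f ≫ pW = Spec.map (CommRingCat.ofHom (@algebraMap k R _ _ (chartAlg pW f))) :=
  (Spec.map_preimage _).symm

/-- a ring map between charts compatible with the maps to `W` is a `k`-algebra map -/
noncomputable def chartHom {W : Scheme.{u}} (pW : W ⟶ Spec (CommRingCat.of k))
    {R R₁ : CommRingCat.{u}} (f : Spec R ⟶ W) (f₁ : Spec R₁ ⟶ W) (r : R ⟶ R₁)
    (hr : f₁ = Spec.map r ≫ f) :
    letI := chartAlg pW f
    letI := chartAlg pW f₁
    R →ₐ[k] R₁ :=
  letI := chartAlg pW f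
  letI := chartAlg pW f₁
  { r.hom with
    commutes' := by
      intro a
      have h1 : CommRingCat.ofHom (algebraMap k R) ≫ r = CommRingCat.ofHom (algebraMap k R₁) := by
        apply Spec.map_injective
        rw [Spec.map_comp, ← chartAlg_spec pW f, ← chartAlg_spec pW f₁, hr, Category.assoc]
      exact congrArg (fun φ => φ.hom a) h1 }

variable [IsClosedImmersion c] (𝒱 : Y.AffineOpenCover)

/-- the coefficient ideals -/
noncomputable def J (U : X.affineOpens) : Ideal Γ(X, U) :=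
  letI := chartAlg pX U.2.fromSpec
  ⨆ b : 𝒱.I₀,
    (letI := chartAlg pY (𝒱.f b)
     coeffIdeal (idealOf pX pY c U.2.fromSpec (chartAlg_spec pX U.2.fromSpec)
      (𝒱.f b) (chartAlg_spec pY (𝒱.f b))))

theorem J_map (U : X.affineOpens) (h : Γ(X, U)) :
    (J pX pY c 𝒱 U).map (X.presheaf.map (homOfLE <| X.basicOpen_le h).op).hom =
      J pX pY c 𝒱 (X.affineBasicOpen h) := by
  letI := chartAlg pX U.2.fromSpec
  letI := chartAlg pX (X.affineBasicOpen h).2.fromSpec
  have hr : (X.affineBasicOpen h).2.fromSpec =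
      Spec.map (X.presheaf.map (homOfLE <| X.basicOpen_le h).op) ≫ U.2.fromSpec :=
    (U.2.map_fromSpec (X.affineBasicOpen h).2 (homOfLE <| X.basicOpen_le h).op).symm
  let r := chartHom pX U.2.fromSpec (X.affineBasicOpen h).2.fromSpec _ hr
  unfold J
  rw [Ideal.map_iSup]
  congr 1
  funext b
  letI := chartAlg pY (𝒱.f b)
  rw [idealOf_map pX pY c U.2.fromSpec (chartAlg_spec pX U.2.fromSpec)
    (X.affineBasicOpen h).2.fromSpec (chartAlg_spec pX _) (𝒱.f b)
    (chartAlg_spec pY _) r hr, coeffIdeal_map]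
  rfl

/-- the ideal sheaf of the universal closed subscheme -/
noncomputable def idealSheaf : X.IdealSheafData where
  ideal := J pX pY c 𝒱
  map_ideal_basicOpen := J_map pX pY c 𝒱

/-- points in the functor factor through the closed subscheme -/
theorem idealSheaf_le_ker {T : Scheme.{u}} (x : T ⟶ X)
    (w : pullback (x ≫ pX) pY ⟶ E)
    (hw : w ≫ c = pullback.map (x ≫ pX) pY pX pY x (𝟙 Y) (𝟙 _) (by simp) (by simp)) :
    idealSheaf pX pY c 𝒱 ≤ x.ker := by
  rw [Scheme.Hom.ker, Scheme.IdealSheafData.le_ofIdeals_iff]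
  intro U
  change J pX pY c 𝒱 U ≤ RingHom.ker (x.app U).hom
  letI algU := chartAlg pX U.2.fromSpec
  unfold J
  rw [iSup_le_iff]
  intro b
  letI algb := chartAlg pY (𝒱.f b)
  intro a ha
  rw [RingHom.mem_ker]
  apply T.IsSheaf.section_ext
  intro t ht
  obtain ⟨W, hW, htW, hWU⟩ := exists_isAffineOpen_mem_and_subset (x := t) (U := x ⁻¹ᵁ U.1) ht
  refine ⟨W, hWU, htW, ?_⟩
  rw [map_zero]
  change (x.appLE U.1 W hWU).hom a = 0
  -- the chart of X through W
  let f₁ : Spec Γ(T, W) ⟶ X := hW.fromSpec ≫ x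
  have hr : f₁ = Spec.map (x.appLE U.1 W hWU) ≫ U.2.fromSpec :=
    (IsAffineOpen.SpecMap_appLE_fromSpec x U.2 hW hWU).symm
  letI algW := chartAlg pX f₁
  let r := chartHom pX U.2.fromSpec f₁ _ hr
  have hmap := idealOf_map pX pY c U.2.fromSpec (chartAlg_spec pX U.2.fromSpec)
    f₁ (chartAlg_spec pX f₁) (𝒱.f b) (chartAlg_spec pY _) r hr
  -- the chart factors through `E`
  have hfac : ∃ w' : Spec (CommRingCat.of (Γ(T, W) ⊗[k] (𝒱.X b))) ⟶ E,
      w' ≫ c = rho pX pY f₁ (chartAlg_spec pX f₁) (𝒱.f b) (chartAlg_spec pY _) := by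
    have hcond := rho_cond pX pY f₁ (chartAlg_spec pX f₁) (𝒱.f b) (chartAlg_spec pY _)
    let tW : Spec (CommRingCat.of (Γ(T, W) ⊗[k] (𝒱.X b))) ⟶ pullback (x ≫ pX) pY :=
      pullback.lift (Spec.map (CommRingCat.ofHom (Algebra.TensorProduct.includeLeftRingHom :
        Γ(T, W) →+* Γ(T, W) ⊗[k] (𝒱.X b))) ≫ hW.fromSpec)
        (Spec.map (CommRingCat.ofHom (Algebra.TensorProduct.includeRight :
          (𝒱.X b) →ₐ[k] Γ(T, W) ⊗[k] (𝒱.X b)).toRingHom) ≫ 𝒱.f b)
        (by simpa only [f₁, Category.assoc] using hcond)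
    refine ⟨tW ≫ w, ?_⟩
    rw [Category.assoc, hw]
    apply pullback.hom_ext
    · simp only [tW, rho, f₁, Category.assoc, pullback.lift_fst, pullback.lift_fst_assoc]
    · simp only [tW, rho, Category.assoc, pullback.lift_snd, Category.comp_id]
  obtain ⟨w', hw'⟩ := hfac
  have h1 := (factors_iff pX pY c f₁ (chartAlg_spec pX f₁) (𝒱.f b) (chartAlg_spec pY _) (𝟙 _)).mp
    ⟨w', by rw [hw', Spec.map_id, Category.id_comp]⟩
  rw [hmap, Ideal.map_le_iff_le_comap, RingHom.comap_ker] at h1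
  have h2 : idealOf pX pY c U.2.fromSpec (chartAlg_spec pX U.2.fromSpec) (𝒱.f b)
      (chartAlg_spec pY _) ≤
      RingHom.ker (Algebra.TensorProduct.map r (AlgHom.id k (𝒱.X b))).toRingHom := by
    intro y hy
    have := h1 hy
    simpa using this
  exact (le_ker_map_iff _ r).mp h2 ha

/-- the chart pieces of `Z × Y` factor through `E` -/
theorem piece_factors {Z : Scheme.{u}} (j : Z ⟶ X) (U : X.affineOpens) {W : Z.Opens}
    (hW : IsAffineOpen W) (hWU : W ≤ j ⁻¹ᵁ U.1)
    (hJ : J pX pY c 𝒱 U ≤ RingHom.ker (j.appLE U.1 W hWU).hom) (b : 𝒱.I₀) :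
    ∃ w : pullback (hW.fromSpec ≫ j ≫ pX) (𝒱.f b ≫ pY) ⟶ E,
      w ≫ c = pullback.map _ _ pX pY (hW.fromSpec ≫ j) (𝒱.f b) (𝟙 _)
        (by rw [Category.comp_id, Category.assoc]) (Category.comp_id _) := by
  let f₁ : Spec Γ(Z, W) ⟶ X := hW.fromSpec ≫ j
  have hr : f₁ = Spec.map (j.appLE U.1 W hWU) ≫ U.2.fromSpec :=
    (IsAffineOpen.SpecMap_appLE_fromSpec j U.2 hW hWU).symm
  letI algU := chartAlg pX U.2.fromSpec
  letI algb := chartAlg pY (𝒱.f b)
  letI algW := chartAlg pX f₁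
  let r := chartHom pX U.2.fromSpec f₁ _ hr
  have hmap := idealOf_map pX pY c U.2.fromSpec (chartAlg_spec pX U.2.fromSpec)
    f₁ (chartAlg_spec pX f₁) (𝒱.f b) (chartAlg_spec pY _) r hr
  have hle : idealOf pX pY c U.2.fromSpec (chartAlg_spec pX U.2.fromSpec) (𝒱.f b)
      (chartAlg_spec pY _) ≤
      RingHom.ker (Algebra.TensorProduct.map r (AlgHom.id k (𝒱.X b))).toRingHom := by
    rw [le_ker_map_iff]
    refine le_trans ?_ hJ
    unfold J
    exact le_iSup (fun b : 𝒱.I₀ => (letI := chartAlg pY (𝒱.f b)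
      coeffIdeal (idealOf pX pY c U.2.fromSpec (chartAlg_spec pX U.2.fromSpec)
        (𝒱.f b) (chartAlg_spec pY (𝒱.f b))))) b
  have hbot : idealOf pX pY c f₁ (chartAlg_spec pX f₁) (𝒱.f b) (chartAlg_spec pY _) ≤
      RingHom.ker (CommRingCat.Hom.hom (𝟙 (CommRingCat.of
        (Γ(Z, W) ⊗[k] (𝒱.X b))))) := by
    rw [hmap, Ideal.map_le_iff_le_comap, RingHom.comap_ker]
    intro y hy
    have := hle hy
    simpa using this
  obtain ⟨wρ, hwρ⟩ := (factors_iff pX pY c f₁ (chartAlg_spec pX f₁) (𝒱.f b)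
    (chartAlg_spec pY _) (𝟙 _)).mpr hbot
  rw [Spec.map_id, Category.id_comp] at hwρ
  have h2 : 𝒱.f b ≫ pY = Spec.map (CommRingCat.ofHom (algebraMap k (𝒱.X b))) :=
    chartAlg_spec pY (𝒱.f b)
  have h1 : hW.fromSpec ≫ j ≫ pX =
      Spec.map (CommRingCat.ofHom (algebraMap k Γ(Z, W))) := by
    rw [← Category.assoc]
    exact chartAlg_spec pX f₁
  have key : rho pX pY f₁ (chartAlg_spec pX f₁) (𝒱.f b) (chartAlg_spec pY _) =
      (pullbackSpecIso k Γ(Z, W) (𝒱.X b)).inv ≫ (pullback.congrHom h1 h2).inv ≫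
        pullback.map (hW.fromSpec ≫ j ≫ pX) (𝒱.f b ≫ pY) pX pY
        (hW.fromSpec ≫ j) (𝒱.f b) (𝟙 _)
        (by rw [Category.comp_id, Category.assoc]) (Category.comp_id _) := by
    apply pullback.hom_ext
    · rw [rho, pullback.lift_fst]
      simp only [Category.assoc, pullback.lift_fst, pullback.lift_fst_assoc,
        pullback.congrHom_inv, pullbackSpecIso_inv_fst_assoc, Category.id_comp]
      rfl
    · rw [rho, pullback.lift_snd]
      simp only [Category.assoc, pullback.lift_snd, pullback.lift_snd_assoc,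
        pullback.congrHom_inv, pullbackSpecIso_inv_snd_assoc, Category.comp_id]
      rfl
  refine ⟨(pullback.congrHom h1 h2).hom ≫
    (pullbackSpecIso k Γ(Z, W) (𝒱.X b)).hom ≫ wρ, ?_⟩
  rw [Category.assoc, Category.assoc, hwρ, key, Iso.hom_inv_id_assoc, Iso.hom_inv_id_assoc]

/-- index type for charts of `T` adapted to `x : T ⟶ X` -/
structure ChartIdx {T : Scheme.{u}} (x : T ⟶ X) where
  U : X.Opens
  hU : IsAffineOpen U
  W : T.Opens
  hW : IsAffineOpen W
  le : W ≤ x ⁻¹ᵁ U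

/-- points whose kernel contains the ideal sheaf lie in the functor -/
theorem factors_of_le_ker {T : Scheme.{u}} (x : T ⟶ X) (h : idealSheaf pX pY c 𝒱 ≤ x.ker) :
    ∃ w : pullback (x ≫ pX) pY ⟶ E,
      w ≫ c = pullback.map (x ≫ pX) pY pX pY x (𝟙 Y) (𝟙 _)
        (by rw [Category.comp_id]) (by rw [Category.comp_id, Category.id_comp]) := by
  have hex : ∀ t : T, ∃ i : ChartIdx x, t ∈ i.W := by
    intro t
    obtain ⟨U, hU, hxU, -⟩ := exists_isAffineOpen_mem_and_subset (x := x t) (U := ⊤) trivial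
    obtain ⟨W, hW, htW, hWU⟩ := exists_isAffineOpen_mem_and_subset (x := t) (U := x ⁻¹ᵁ U) hxU
    exact ⟨⟨U, hU, W, hW, hWU⟩, htW⟩
  let 𝒯 : T.AffineOpenCover :=
    { I₀ := ChartIdx x
      X := fun i => Γ(T, i.W)
      f := fun i => i.hW.fromSpec
      idx := fun t => Classical.choose (hex t)
      covers := fun t => by
        rw [IsAffineOpen.range_fromSpec]
        exact Classical.choose_spec (hex t) }
  let 𝒲 := Scheme.Pullback.openCoverOfLeftRight 𝒯.openCover 𝒱.openCover (x ≫ pX) pY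
  apply exists_factor_of_openCover c _ 𝒲
  rintro ⟨⟨U, hU, W, hW, hWU⟩, b⟩
  have hJ : J pX pY c 𝒱 ⟨U, hU⟩ ≤ RingHom.ker (x.appLE U W hWU).hom := by
    have h1 : J pX pY c 𝒱 ⟨U, hU⟩ ≤ RingHom.ker (x.app U).hom := by
      rw [Scheme.Hom.ker, Scheme.IdealSheafData.le_ofIdeals_iff] at h
      exact h ⟨U, hU⟩
    intro a ha
    have ha' := h1 ha
    rw [RingHom.mem_ker] at ha' ⊢
    rw [Scheme.Hom.appLE, CommRingCat.hom_comp, RingHom.comp_apply, ha', map_zero]
  obtain ⟨w, hw⟩ := piece_factors pX pY c 𝒱 x ⟨U, hU⟩ hW hWU hJ b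
  show ∃ w : pullback (hW.fromSpec ≫ x ≫ pX) (𝒱.f b ≫ pY) ⟶ E, w ≫ c =
    pullback.map (hW.fromSpec ≫ x ≫ pX) (𝒱.f b ≫ pY) (x ≫ pX) pY hW.fromSpec (𝒱.f b) (𝟙 _)
      (Category.comp_id _) (Category.comp_id _) ≫
    pullback.map (x ≫ pX) pY pX pY x (𝟙 Y) (𝟙 _)
      (by rw [Category.comp_id]) (by rw [Category.comp_id, Category.id_comp])
  refine ⟨w, hw.trans ?_⟩
  apply pullback.hom_ext
  · simp only [Category.assoc, pullback.lift_fst, pullback.lift_fst_assoc, pullback.map]
  · simp only [Category.assoc, pullback.lift_snd, pullback.map, Category.comp_id]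

end sheaf

variable [IsClosedImmersion c]

/-- **Representability of the "Weil restriction" of a closed subscheme of a product over a
field.** -/
theorem exists_closed (pX : X ⟶ Spec (CommRingCat.of k))
    (pY : Y ⟶ Spec (CommRingCat.of k)) (c : E ⟶ pullback pX pY) [IsClosedImmersion c] :
    ∃ (Z : Scheme.{u}) (j : Z ⟶ X), IsClosedImmersion j ∧
      ∀ {T : Scheme.{u}} (x : T ⟶ X), (∃ z : T ⟶ Z, z ≫ j = x) ↔
        ∃ w : pullback (x ≫ pX) pY ⟶ E,
          w ≫ c = pullback.map (x ≫ pX) pY pX pY x (𝟙 Y) (𝟙 _)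
            (by rw [Category.comp_id]) (by rw [Category.comp_id, Category.id_comp]) := by
  set 𝒥 := idealSheaf pX pY c Y.affineOpenCover with h𝒥
  refine ⟨𝒥.subscheme, 𝒥.subschemeι, inferInstance, ?_⟩
  intro T x
  constructor
  · rintro ⟨z, rfl⟩
    apply factors_of_le_ker pX pY c Y.affineOpenCover
    refine le_trans ?_ (Scheme.Hom.le_ker_comp z 𝒥.subschemeι)
    rw [Scheme.IdealSheafData.ker_subschemeι]
  · rintro ⟨w, hw⟩
    have hle := idealSheaf_le_ker pX pY c Y.affineOpenCover x w hw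
    refine ⟨IsClosedImmersion.lift 𝒥.subschemeι x ?_, IsClosedImmersion.lift_fac _ _ _⟩
    rw [Scheme.IdealSheafData.ker_subschemeι]
    exact hle

/-- variant of `exists_closed` with a free structure morphism of `T` -/
theorem exists_closed' (pX : X ⟶ Spec (CommRingCat.of k))
    (pY : Y ⟶ Spec (CommRingCat.of k)) (c : E ⟶ pullback pX pY) [IsClosedImmersion c] :
    ∃ (Z : Scheme.{u}) (j : Z ⟶ X), IsClosedImmersion j ∧
      ∀ {T : Scheme.{u}} (pT : T ⟶ Spec (CommRingCat.of k)) (x : T ⟶ X) (hx : x ≫ pX = pT),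
        (∃ z : T ⟶ Z, z ≫ j = x) ↔
        ∃ w : pullback pT pY ⟶ E,
          w ≫ c = pullback.map pT pY pX pY x (𝟙 Y) (𝟙 _)
            (by rw [Category.comp_id, hx]) (by rw [Category.comp_id, Category.id_comp]) := by
  obtain ⟨Z, j, hj, h⟩ := exists_closed pX pY c
  refine ⟨Z, j, hj, ?_⟩
  intro T pT x hx
  subst hx
  exact h x

end Groth.Agent.Lib.Helper13.WeilClosed
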