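import Mathlib
import Groth.Agent.Lib.Helper13.CoeffProj
import Groth.Agent.Lib.Helper13.WeilClosed

/-!
# Weil restriction of a closed subscheme along an affine morphism with projective charts

For an affine morphism `f : B ⟶ A` such that `Γ(B, f⁻¹U)` is a projective `Γ(A, U)`-module for
every affine open `U` of `A` (e.g. `f` finite locally free), and a closed immersion `c : E ⟶ B`,
the functor `x ↦ (B ×_A T ⟶ B factors through E)` is represented by a closed subscheme of `A`.
-/

set_option autoImplicit false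
universe u
open CategoryTheory AlgebraicGeometry Limits TensorProduct

namespace Groth.Agent.Lib.Helper13.WeilProj

open Groth.Agent.Lib.Helper13.CoeffProj

variable {A B E : Scheme.{u}} (f : B ⟶ A) (c : E ⟶ B)

section charts

variable [IsClosedImmersion c] {P : Type u} [CommRing P] (ρ : Spec (CommRingCat.of P) ⟶ B)

/-- the ideal of `E` in the chart `ρ` -/
noncomputable def idealOf : Ideal P :=
  Classical.choose (IsClosedImmersion.Spec_iff.mp
    (inferInstance : IsClosedImmersion (pullback.snd c ρ)))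

theorem idealOf_spec : ∃ e : pullback c ρ ≅ Spec (CommRingCat.of (P ⧸ idealOf c ρ)),
    pullback.snd c ρ = e.hom ≫ Spec.map (CommRingCat.ofHom (Ideal.Quotient.mk (idealOf c ρ))) :=
  Classical.choose_spec (IsClosedImmersion.Spec_iff.mp
    (inferInstance : IsClosedImmersion (pullback.snd c ρ)))

theorem factors_iff {S' : CommRingCat.{u}} (ψ : CommRingCat.of P ⟶ S') :
    (∃ w : Spec S' ⟶ E, w ≫ c = Spec.map ψ ≫ ρ) ↔ idealOf c ρ ≤ RingHom.ker ψ.hom := by
  obtain ⟨e, he⟩ := idealOf_spec c ρ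
  constructor
  · rintro ⟨w, hw⟩ x hx
    let l : Spec S' ⟶ pullback c ρ := pullback.lift w (Spec.map ψ) hw
    let ψ' : CommRingCat.of (P ⧸ idealOf c ρ) ⟶ S' := Spec.preimage (l ≫ e.hom)
    have h1 : CommRingCat.ofHom (Ideal.Quotient.mk (idealOf c ρ)) ≫ ψ' = ψ := by
      apply Spec.map_injective
      rw [Spec.map_comp, Spec.map_preimage, Category.assoc, ← he, pullback.lift_snd]
    rw [RingHom.mem_ker, ← h1]
    simp only [CommRingCat.hom_comp, CommRingCat.hom_ofHom, RingHom.comp_apply]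
    rw [Ideal.Quotient.eq_zero_iff_mem.mpr hx, map_zero]
  · intro h
    let ψ' : CommRingCat.of (P ⧸ idealOf c ρ) ⟶ S' :=
      CommRingCat.ofHom (Ideal.Quotient.lift _ ψ.hom (fun a ha => h ha))
    have h1 : CommRingCat.ofHom (Ideal.Quotient.mk (idealOf c ρ)) ≫ ψ' = ψ := by
      refine CommRingCat.hom_ext (RingHom.ext fun a => ?_)
      simp only [ψ', CommRingCat.hom_comp, CommRingCat.hom_ofHom, RingHom.comp_apply]
      exact Ideal.Quotient.lift_mk _ _ _
    refine ⟨Spec.map ψ' ≫ e.inv ≫ pullback.fst c ρ, ?_⟩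
    rw [Category.assoc, Category.assoc, pullback.condition, ← Category.assoc e.inv, he,
      Iso.inv_hom_id_assoc, ← Category.assoc, ← Spec.map_comp, h1]

end charts

section squares

variable [IsAffineHom f]

/-- the chart of `B` over the affine open `U` of `A` -/
noncomputable def chart {U : A.Opens} (hU : IsAffineOpen U) : Spec Γ(B, f ⁻¹ᵁ U) ⟶ B :=
  (hU.preimage f).fromSpec

instance {U : A.Opens} (hU : IsAffineOpen U) : IsOpenImmersion (chart f hU) := by
  unfold chart; exact (hU.preimage f).isOpenImmersion_fromSpec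

theorem isPullback_chart {U : A.Opens} (hU : IsAffineOpen U) :
    IsPullback (chart f hU) (Spec.map (f.app U)) f hU.fromSpec := by
  haveI : IsOpenImmersion hU.fromSpec := hU.isOpenImmersion_fromSpec
  refine (IsOpenImmersion.isPullback (Spec.map (f.app U)) (chart f hU) hU.fromSpec f ?_ ?_).flip
  · unfold chart
    have := IsAffineOpen.SpecMap_appLE_fromSpec f hU (hU.preimage f) le_rfl
    rw [Scheme.Hom.appLE] at this
    simpa using this.symm
  · unfold chart
    rw [IsAffineOpen.opensRange_fromSpec, IsAffineOpen.opensRange_fromSpec]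

variable {U : A.Opens} (hU : IsAffineOpen U) {R' : CommRingCat.{u}} (ψ : Γ(A, U) ⟶ R')

/-- the tensor product chart `Spec (R' ⊗ Γ(B, f⁻¹U))` -/
theorem isPullback_tensor :
    letI := (f.app U).hom.toAlgebra
    letI := ψ.hom.toAlgebra
    IsPullback
      (Spec.map (CommRingCat.ofHom (Algebra.TensorProduct.includeRight :
        Γ(B, f ⁻¹ᵁ U) →ₐ[Γ(A, U)] R' ⊗[Γ(A, U)] Γ(B, f ⁻¹ᵁ U)).toRingHom) ≫ chart f hU)
      (Spec.map (CommRingCat.ofHom (Algebra.TensorProduct.includeLeftRingHom :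
        R' →+* R' ⊗[Γ(A, U)] Γ(B, f ⁻¹ᵁ U))))
      f (Spec.map ψ ≫ hU.fromSpec) := by
  letI := (f.app U).hom.toAlgebra
  letI := ψ.hom.toAlgebra
  have h1 := CommRingCat.isPushout_tensorProduct Γ(A, U) R' Γ(B, f ⁻¹ᵁ U)
  have h2 := (isPullback_SpecMap_of_isPushout _ _ _ _ h1).flip
  have e1 : CommRingCat.ofHom (algebraMap Γ(A, U) R') = ψ := rfl
  have e2 : CommRingCat.ofHom (algebraMap Γ(A, U) Γ(B, f ⁻¹ᵁ U)) = f.app U := rfl
  rw [e1, e2] at h2
  exact h2.paste_horiz (isPullback_chart f hU)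

end squares

section main

variable [IsAffineHom f] [IsClosedImmersion c]

/-- the coefficient ideals -/
noncomputable def J {U : A.Opens} (hU : IsAffineOpen U) : Ideal Γ(A, U) :=
  letI := (f.app U).hom.toAlgebra
  coeffIdeal (idealOf c (chart f hU))

variable (hproj : ∀ {U : A.Opens} (_ : IsAffineOpen U),
  letI := (f.app U).hom.toAlgebra
  Module.Projective Γ(A, U) Γ(B, f ⁻¹ᵁ U))

include hproj in
/-- the key characterization on affine charts -/
theorem factor_iff {U : A.Opens} (hU : IsAffineOpen U) {R' : CommRingCat.{u}} (ψ : Γ(A, U) ⟶ R')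
    {Q : Scheme.{u}} (p₁ : Q ⟶ B) (p₂ : Q ⟶ Spec R')
    (hQ : IsPullback p₁ p₂ f (Spec.map ψ ≫ hU.fromSpec)) :
    (∃ w : Q ⟶ E, w ≫ c = p₁) ↔ J f c hU ≤ RingHom.ker ψ.hom := by
  letI := (f.app U).hom.toAlgebra
  letI := ψ.hom.toAlgebra
  haveI := hproj hU
  have hT := isPullback_tensor f hU ψ
  let e := hQ.isoIsPullback _ _ hT
  have he : e.hom ≫ (Spec.map (CommRingCat.ofHom (Algebra.TensorProduct.includeRight :
        Γ(B, f ⁻¹ᵁ U) →ₐ[Γ(A, U)] R' ⊗[Γ(A, U)] Γ(B, f ⁻¹ᵁ U)).toRingHom) ≫ chart f hU) = p₁ :=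
    IsPullback.isoIsPullback_hom_fst _ _ hQ hT
  have h1 : (∃ w : Q ⟶ E, w ≫ c = p₁) ↔
      ∃ w : Spec (CommRingCat.of (R' ⊗[Γ(A, U)] Γ(B, f ⁻¹ᵁ U))) ⟶ E,
        w ≫ c = Spec.map (CommRingCat.ofHom (Algebra.TensorProduct.includeRight :
        Γ(B, f ⁻¹ᵁ U) →ₐ[Γ(A, U)] R' ⊗[Γ(A, U)] Γ(B, f ⁻¹ᵁ U)).toRingHom) ≫ chart f hU := by
    constructor
    · rintro ⟨w, hw⟩
      exact ⟨e.inv ≫ w, by rw [Category.assoc, hw, ← he, Iso.inv_hom_id_assoc]⟩
    · rintro ⟨w, hw⟩
      exact ⟨e.hom ≫ w, by rw [Category.assoc, hw, he]⟩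
  rw [h1, factors_iff c (chart f hU)]
  unfold J
  have h2 := tmul_eq_zero_iff (R := Γ(A, U)) (idealOf c (chart f hU)) R'
  have h3 : RingHom.ker (algebraMap Γ(A, U) R') = RingHom.ker ψ.hom := rfl
  rw [h3] at h2
  rw [← h2]
  constructor
  · intro h p hp
    have := h hp
    simpa using this
  · intro h p hp
    have := h p hp
    simpa using this

include hproj in
theorem J_map {U : A.Opens} (hU : IsAffineOpen U) (h : Γ(A, U)) :
    (J f c hU).map (A.presheaf.map (homOfLE <| A.basicOpen_le h).op).hom =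
      J f c (hU.basicOpen h) := by
  set r := A.presheaf.map (homOfLE <| A.basicOpen_le h).op with hr
  have hfs : (hU.basicOpen h).fromSpec = Spec.map r ≫ hU.fromSpec :=
    (hU.map_fromSpec (hU.basicOpen h) (homOfLE <| A.basicOpen_le h).op).symm
  have key : ∀ K : Ideal Γ(A, A.basicOpen h),
      J f c (hU.basicOpen h) ≤ K ↔ (J f c hU).map r.hom ≤ K := by
    intro K
    let ψK : Γ(A, A.basicOpen h) ⟶ CommRingCat.of (Γ(A, A.basicOpen h) ⧸ K) :=
      CommRingCat.ofHom (Ideal.Quotient.mk K)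
    let y := Spec.map ψK ≫ (hU.basicOpen h).fromSpec
    have hy : y = Spec.map (r ≫ ψK) ≫ hU.fromSpec := by
      rw [Spec.map_comp, Category.assoc, ← hfs]
    have h1 := factor_iff f c hproj (hU.basicOpen h) ψK (pullback.fst f y) (pullback.snd f y)
      (IsPullback.of_hasPullback f y)
    have h2 := factor_iff f c hproj hU (r ≫ ψK) (pullback.fst f y) (pullback.snd f y)
      (hy ▸ IsPullback.of_hasPullback f y)
    have e1 : RingHom.ker ψK.hom = K := by
      simp only [ψK, CommRingCat.hom_ofHom]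
      exact Ideal.mk_ker
    have e2 : RingHom.ker (r ≫ ψK).hom = K.comap r.hom := by
      rw [CommRingCat.hom_comp, ← RingHom.comap_ker, e1]
    rw [e1] at h1
    rw [e2] at h2
    rw [← h1, h2, Ideal.map_le_iff_le_comap]
  exact le_antisymm ((key _).mp le_rfl) ((key _).mpr le_rfl)

/-- the ideal sheaf of the universal closed subscheme -/
noncomputable def idealSheaf : A.IdealSheafData where
  ideal U := J f c (show IsAffineOpen U.1 from U.2)
  map_ideal_basicOpen U h := J_map f c hproj (show IsAffineOpen U.1 from U.2) h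

omit [IsAffineHom f] [IsClosedImmersion c] in
/-- the functor is stable under base change -/
theorem factor_comp {T T' : Scheme.{u}} (x : T ⟶ A) (t : T' ⟶ T)
    (h : ∃ w : pullback f x ⟶ E, w ≫ c = pullback.fst f x) :
    ∃ w : pullback f (t ≫ x) ⟶ E, w ≫ c = pullback.fst f (t ≫ x) := by
  obtain ⟨w, hw⟩ := h
  refine ⟨pullback.map f (t ≫ x) f x (𝟙 _) t (𝟙 _) (by simp) (by simp) ≫ w, ?_⟩
  rw [Category.assoc, hw, pullback.lift_fst, Category.comp_id]

include hproj in
theorem le_ker_of_factor {T : Scheme.{u}} (x : T ⟶ A)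
    (h : ∃ w : pullback f x ⟶ E, w ≫ c = pullback.fst f x) :
    idealSheaf f c hproj ≤ x.ker := by
  rw [Scheme.Hom.ker, Scheme.IdealSheafData.le_ofIdeals_iff]
  intro U
  change J f c (show IsAffineOpen U.1 from U.2) ≤ RingHom.ker (x.app U).hom
  have hU : IsAffineOpen U.1 := U.2
  intro a ha
  rw [RingHom.mem_ker]
  apply T.IsSheaf.section_ext
  intro t ht
  obtain ⟨W, hW, htW, hWU⟩ := exists_isAffineOpen_mem_and_subset (x := t) (U := x ⁻¹ᵁ U.1) ht
  refine ⟨W, hWU, htW, ?_⟩
  rw [map_zero]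
  change (x.appLE U.1 W hWU).hom a = 0
  have hr : hW.fromSpec ≫ x = Spec.map (x.appLE U.1 W hWU) ≫ hU.fromSpec :=
    (IsAffineOpen.SpecMap_appLE_fromSpec x hU hW hWU).symm
  have h1 := factor_comp f c x hW.fromSpec h
  have h2 := (factor_iff f c hproj hU (x.appLE U.1 W hWU) (pullback.fst f (hW.fromSpec ≫ x))
    (pullback.snd f (hW.fromSpec ≫ x)) (hr ▸ IsPullback.of_hasPullback f (hW.fromSpec ≫ x))).mp h1
  exact h2 ha

/-- index type for charts of `T` adapted to `x : T ⟶ A` -/
structure ChartIdx {T : Scheme.{u}} (x : T ⟶ A) where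
  U : A.Opens
  hU : IsAffineOpen U
  W : T.Opens
  hW : IsAffineOpen W
  le : W ≤ x ⁻¹ᵁ U

include hproj in
theorem factor_of_le_ker {T : Scheme.{u}} (x : T ⟶ A) (h : idealSheaf f c hproj ≤ x.ker) :
    ∃ w : pullback f x ⟶ E, w ≫ c = pullback.fst f x := by
  have hex : ∀ t : T, ∃ i : ChartIdx x, t ∈ i.W := by
    intro t
    obtain ⟨U, hU, hxU, -⟩ := exists_isAffineOpen_mem_and_subset (x := x t) (U := ⊤) trivial
    obtain ⟨W, hW, htW, hWU⟩ := exists_isAffineOpen_mem_and_subset (x := t) (U := x ⁻¹ᵁ U) hxU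
    exact ⟨⟨U, hU, W, hW, hWU⟩, htW⟩
  let 𝒯 : T.AffineOpenCover :=
    { I₀ := ChartIdx x
      X := fun i => Γ(T, i.W)
      f := fun i => i.hW.fromSpec
      idx := fun t => Classical.choose (hex t)
      covers := fun t => by
        rw [IsAffineOpen.range_fromSpec]
        exact Classical.choose_spec (hex t) }
  let 𝒲 := Scheme.Pullback.openCoverOfRight 𝒯.openCover f x
  apply Groth.Agent.Lib.Helper13.WeilClosed.exists_factor_of_openCover c _ 𝒲
  rintro ⟨U, hU, W, hW, hWU⟩
  have hJ : J f c hU ≤ RingHom.ker (x.appLE U W hWU).hom := by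
    have h1 : J f c hU ≤ RingHom.ker (x.app U).hom := by
      rw [Scheme.Hom.ker, Scheme.IdealSheafData.le_ofIdeals_iff] at h
      exact h ⟨U, hU⟩
    intro a ha
    have ha' := h1 ha
    rw [RingHom.mem_ker] at ha' ⊢
    rw [Scheme.Hom.appLE, CommRingCat.hom_comp, RingHom.comp_apply, ha', map_zero]
  have hr : hW.fromSpec ≫ x = Spec.map (x.appLE U W hWU) ≫ hU.fromSpec :=
    (IsAffineOpen.SpecMap_appLE_fromSpec x hU hW hWU).symm
  obtain ⟨w, hw⟩ := (factor_iff f c hproj hU (x.appLE U W hWU) (pullback.fst f (hW.fromSpec ≫ x))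
    (pullback.snd f (hW.fromSpec ≫ x)) (hr ▸ IsPullback.of_hasPullback f (hW.fromSpec ≫ x))).mpr hJ
  refine ⟨w, hw.trans ?_⟩
  change pullback.fst f (hW.fromSpec ≫ x) = pullback.map f (hW.fromSpec ≫ x) f x (𝟙 _) hW.fromSpec (𝟙 _)
    (by simp) (by simp) ≫ pullback.fst f x
  rw [pullback.lift_fst, Category.comp_id]

include hproj in
/-- **Representability of the Weil restriction of a closed subscheme** along an affine morphism
with projective charts. -/
theorem exists_closed :
    ∃ (Z : Scheme.{u}) (j : Z ⟶ A), IsClosedImmersion j ∧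
      ∀ {T : Scheme.{u}} (x : T ⟶ A), (∃ z : T ⟶ Z, z ≫ j = x) ↔
        ∃ w : pullback f x ⟶ E, w ≫ c = pullback.fst f x := by
  set 𝒥 := idealSheaf f c hproj with h𝒥
  refine ⟨𝒥.subscheme, 𝒥.subschemeι, inferInstance, ?_⟩
  intro T x
  constructor
  · rintro ⟨z, rfl⟩
    apply factor_of_le_ker f c hproj
    refine le_trans ?_ (Scheme.Hom.le_ker_comp z 𝒥.subschemeι)
    rw [Scheme.IdealSheafData.ker_subschemeι]
  · intro h
    have hle := le_ker_of_factor f c hproj x h
    refine ⟨IsClosedImmersion.lift 𝒥.subschemeι x ?_, IsClosedImmersion.lift_fac _ _ _⟩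
    rw [Scheme.IdealSheafData.ker_subschemeι]
    exact hle

end main

section fp

variable [IsClosedImmersion c]

/-- the chart ideal of a closed immersion of finite presentation is finitely generated -/
theorem idealOf_fg [LocallyOfFinitePresentation c] {P : Type u} [CommRing P]
    (ρ : Spec (CommRingCat.of P) ⟶ B) : (idealOf c ρ).FG := by
  obtain ⟨e, he⟩ := idealOf_spec c ρ
  have h1 : LocallyOfFinitePresentation (pullback.snd c ρ) := inferInstance
  have h2 : LocallyOfFinitePresentation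
      (Spec.map (CommRingCat.ofHom (Ideal.Quotient.mk (idealOf c ρ)))) := by
    have h0 : Spec.map (CommRingCat.ofHom (Ideal.Quotient.mk (idealOf c ρ))) =
        e.inv ≫ pullback.snd c ρ := by rw [he, Iso.inv_hom_id_assoc]
    rw [h0]
    infer_instance
  have h3 : (Ideal.Quotient.mk (idealOf c ρ)).FinitePresentation := by
    have := (HasRingHomProperty.Spec_iff (P := @LocallyOfFinitePresentation)).mp h2
    simpa using this
  have h4 := @Algebra.FinitePresentation.ker_fG_of_surjective P P (P ⧸ idealOf c ρ) _ _ _ _ _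
    (Ideal.Quotient.mkₐ P (idealOf c ρ)) (Ideal.Quotient.mkₐ_surjective P _) inferInstance h3
  have h5 : RingHom.ker (Ideal.Quotient.mkₐ P (idealOf c ρ)).toRingHom = idealOf c ρ :=
    Ideal.mk_ker
  rwa [h5] at h4

variable [IsAffineHom f]

theorem J_fg [LocallyOfFinitePresentation c] {U : A.Opens} (hU : IsAffineOpen U)
    (hproj : letI := (f.app U).hom.toAlgebra; Module.Projective Γ(A, U) Γ(B, f ⁻¹ᵁ U))
    (hfin : letI := (f.app U).hom.toAlgebra; Module.Finite Γ(A, U) Γ(B, f ⁻¹ᵁ U)) :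
    (J f c hU).FG := by
  letI := (f.app U).hom.toAlgebra
  haveI := hproj
  haveI := hfin
  exact coeffIdeal_fg _ (idealOf_fg c _)

/-- a closed subscheme with finitely generated ideals is of finite presentation -/
theorem lfp_subschemeι (𝒥 : A.IdealSheafData) (h : ∀ U : A.affineOpens, (𝒥.ideal U).FG) :
    LocallyOfFinitePresentation 𝒥.subschemeι := by
  have hst : RingHom.StableUnderCompositionWithLocalizationAwaySource
      @RingHom.FinitePresentation := by
    intro R S T _ _ _ _ r _ g hg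
    exact hg.comp (RingHom.finitePresentation_holdsForLocalizationAway S r)
  rw [HasRingHomProperty.iff_exists_appLE (P := @LocallyOfFinitePresentation) hst]
  intro z
  obtain ⟨U, hU, hzU, -⟩ := exists_isAffineOpen_mem_and_subset (x := 𝒥.subschemeι z) (U := ⊤) trivial
  refine ⟨⟨U, hU⟩, ⟨𝒥.subschemeι ⁻¹ᵁ U, hU.preimage 𝒥.subschemeι⟩, hzU, le_rfl, ?_⟩
  have h1 : 𝒥.subschemeι.appLE U (𝒥.subschemeι ⁻¹ᵁ U) le_rfl = 𝒥.subschemeι.app U := by
    simp [Scheme.Hom.appLE]
  rw [h1]
  apply RingHom.FinitePresentation.of_surjective _ (𝒥.subschemeι_app_surjective ⟨U, hU⟩)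
  rw [𝒥.ker_subschemeι_app ⟨U, hU⟩]
  exact h ⟨U, hU⟩

end fp

section finite

/-- a finite, flat, finitely presented morphism has finite projective charts -/
theorem projective_of_finite_flat [IsFinite f] [Flat f] [LocallyOfFinitePresentation f]
    {U : A.Opens} (hU : IsAffineOpen U) :
    letI := (f.app U).hom.toAlgebra
    Module.Projective Γ(A, U) Γ(B, f ⁻¹ᵁ U) ∧ Module.Finite Γ(A, U) Γ(B, f ⁻¹ᵁ U) := by
  letI := (f.app U).hom.toAlgebra
  have hfin : (f.app U).hom.Finite := IsFinite.finite_app f U hU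
  have hle : f.appLE U (f ⁻¹ᵁ U) le_rfl = f.app U := by simp [Scheme.Hom.appLE]
  have hflat : (f.app U).hom.Flat := by
    have := HasRingHomProperty.appLE (P := @Flat) f inferInstance ⟨U, hU⟩
      ⟨f ⁻¹ᵁ U, hU.preimage f⟩ le_rfl
    rwa [hle] at this
  have hfp : (f.app U).hom.FinitePresentation := by
    have := HasRingHomProperty.appLE (P := @LocallyOfFinitePresentation) f inferInstance ⟨U, hU⟩
      ⟨f ⁻¹ᵁ U, hU.preimage f⟩ le_rfl
    rwa [hle] at this
  haveI : Module.Finite Γ(A, U) Γ(B, f ⁻¹ᵁ U) := hfin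
  haveI : Module.Flat Γ(A, U) Γ(B, f ⁻¹ᵁ U) := hflat
  haveI : Algebra.FinitePresentation Γ(A, U) Γ(B, f ⁻¹ᵁ U) := hfp
  haveI : Module.FinitePresentation Γ(A, U) Γ(B, f ⁻¹ᵁ U) :=
    Module.FinitePresentation.of_finite_of_finitePresentation _ _
  exact ⟨Module.Flat.projective_of_finitePresentation, hfin⟩

end finite

/-- **Main theorem (finite locally free case).** For `f : B ⟶ A` finite, flat and of finite
presentation and a closed immersion `c : E ⟶ B`, the condition "the base change of `f` along `x`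
maps into `E`" is represented by a closed subscheme of `A`, of finite presentation if `c` is. -/
theorem exists_closed_of_finite_flat [IsFinite f] [Flat f] [LocallyOfFinitePresentation f]
    [IsClosedImmersion c] :
    ∃ (Z : Scheme.{u}) (j : Z ⟶ A), IsClosedImmersion j ∧
      (LocallyOfFinitePresentation c → LocallyOfFinitePresentation j) ∧
      ∀ {T : Scheme.{u}} (x : T ⟶ A) {Q : Scheme.{u}} (p₁ : Q ⟶ B) (p₂ : Q ⟶ T),
        IsPullback p₁ p₂ f x → ((∃ z : T ⟶ Z, z ≫ j = x) ↔ ∃ w : Q ⟶ E, w ≫ c = p₁) := by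
  have hproj : ∀ {U : A.Opens} (_ : IsAffineOpen U),
      letI := (f.app U).hom.toAlgebra
      Module.Projective Γ(A, U) Γ(B, f ⁻¹ᵁ U) := fun hU => (projective_of_finite_flat f hU).1
  set 𝒥 := idealSheaf f c hproj with h𝒥
  refine ⟨𝒥.subscheme, 𝒥.subschemeι, inferInstance, ?_, ?_⟩
  · intro hc
    apply lfp_subschemeι
    intro U
    exact J_fg f c (show IsAffineOpen U.1 from U.2) (projective_of_finite_flat f U.2).1
      (projective_of_finite_flat f U.2).2
  · intro T x Q p₁ p₂ hQ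
    let e := hQ.isoPullback
    have he : e.hom ≫ pullback.fst f x = p₁ := hQ.isoPullback_hom_fst
    have h1 : (∃ w : Q ⟶ E, w ≫ c = p₁) ↔ ∃ w : pullback f x ⟶ E, w ≫ c = pullback.fst f x := by
      constructor
      · rintro ⟨w, hw⟩
        exact ⟨e.inv ≫ w, by rw [Category.assoc, hw, ← he, Iso.inv_hom_id_assoc]⟩
      · rintro ⟨w, hw⟩
        exact ⟨e.hom ≫ w, by rw [Category.assoc, hw, he]⟩
    rw [h1]
    constructor
    · rintro ⟨z, rfl⟩
      apply factor_of_le_ker f c hproj
      refine le_trans ?_ (Scheme.Hom.le_ker_comp z 𝒥.subschemeι)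
      rw [Scheme.IdealSheafData.ker_subschemeι]
    · intro h
      have hle := le_ker_of_factor f c hproj x h
      refine ⟨IsClosedImmersion.lift 𝒥.subschemeι x ?_, IsClosedImmersion.lift_fac _ _ _⟩
      rw [Scheme.IdealSheafData.ker_subschemeι]
      exact hle

end Groth.Agent.Lib.Helper13.WeilProj
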