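import Mathlib

/-!
# Morphisms from the spectrum of a local ring factor through affine opens
-/

set_option autoImplicit false
universe u
open CategoryTheory AlgebraicGeometry TopologicalSpace Opposite Limits

namespace Groth.Agent.Lib.Helper13.LocalSpecFactor

/-- a morphism from the spectrum of a local ring factors through any affine open containing the
image of the closed point -/
theorem exists_factor {Y : Scheme.{u}} {R : CommRingCat.{u}} [IsLocalRing R] (a : Spec R ⟶ Y)
    {V : Y.Opens} (hV : IsAffineOpen V) (h : a (IsLocalRing.closedPoint R) ∈ V) :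
    ∃ α : Γ(Y, V) ⟶ R, a = Spec.map α ≫ hV.fromSpec := by
  have htop : a ⁻¹ᵁ V = ⊤ := Scheme.preimage_eq_top_of_closedPoint_mem a h
  have hr : Set.range a ⊆ Set.range hV.fromSpec := by
    rw [hV.range_fromSpec]
    rintro _ ⟨z, rfl⟩
    have : z ∈ a ⁻¹ᵁ V := by rw [htop]; trivial
    exact this
  refine ⟨Spec.preimage (IsOpenImmersion.lift hV.fromSpec a hr), ?_⟩
  rw [Spec.map_preimage, IsOpenImmersion.lift_fac]

/-- the factorization through an affine open is unique -/
theorem factor_unique {Y : Scheme.{u}} {R : CommRingCat.{u}} {V : Y.Opens} (hV : IsAffineOpen V)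
    (α₁ α₂ : Γ(Y, V) ⟶ R) (h : Spec.map α₁ ≫ hV.fromSpec = Spec.map α₂ ≫ hV.fromSpec) :
    α₁ = α₂ := by
  rw [cancel_mono] at h
  exact Spec.map_injective h

/-- two morphisms from the spectrum of a local ring which agree at the closed point and after an
injective base change are equal -/
theorem eq_of_comp_eq {Y : Scheme.{u}} {R K : CommRingCat.{u}} [IsLocalRing R] (j : R ⟶ K)
    (hj : Function.Injective j.hom) (a b : Spec R ⟶ Y)
    (hcl : a (IsLocalRing.closedPoint R) = b (IsLocalRing.closedPoint R))
    (hab : Spec.map j ≫ a = Spec.map j ≫ b) : a = b := by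
  obtain ⟨_, ⟨V, hV, rfl⟩, hyV, -⟩ := Y.isBasis_affineOpens.exists_subset_of_mem_open
    (Set.mem_univ (a (IsLocalRing.closedPoint R))) isOpen_univ
  obtain ⟨α, rfl⟩ := exists_factor a hV hyV
  obtain ⟨β, rfl⟩ := exists_factor b hV (hcl ▸ hyV)
  have : α ≫ j = β ≫ j := by
    apply factor_unique hV
    rw [Spec.map_comp, Spec.map_comp, Category.assoc, Category.assoc]
    exact hab
  have hαβ : α = β := by
    ext x
    apply hj
    exact congr($this x)
  rw [hαβ]

end Groth.Agent.Lib.Helper13.LocalSpecFactor
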