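import Mathlib
import Groth.Agent.Lib.Helper13.LocalSpecFactor

/-!
# Lifting along a composite valuation ring
-/

set_option autoImplicit false
universe u
open CategoryTheory AlgebraicGeometry TopologicalSpace Opposite Limits

namespace Groth.Agent.Lib.Helper13.CompositeValLift

open Groth.Agent.Lib.Helper13.LocalSpecFactor

/-- the maximal ideal of a bigger valuation ring lies in the smaller one -/
theorem mem_of_mem_maximalIdeal {K : Type*} [Field K] (R R' : ValuationSubring K) (hRR' : R ≤ R')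
    (x : ↥R') (hx : x ∈ IsLocalRing.maximalIdeal ↥R') : (x : K) ∈ R := by
  by_cases h0 : (x : K) = 0
  · rw [h0]; exact R.zero_mem
  rcases R.mem_or_inv_mem (x : K) with h | h
  · exact h
  · exfalso
    have h' : (x : K)⁻¹ ∈ R' := hRR' h
    have hu : IsUnit x := by
      refine IsUnit.of_mul_eq_one ⟨(x : K)⁻¹, h'⟩ ?_
      apply Subtype.ext
      change (x : K) * (x : K)⁻¹ = 1
      exact mul_inv_cancel₀ h0
    exact (IsLocalRing.mem_maximalIdeal x).1 hx hu

theorem existsUnique_lift {X Y : Scheme.{u}} (f : Y ⟶ X)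
    (K : Type u) [Field K] (R R' : ValuationSubring K) (hRR' : R ≤ R')
    (ι : ↥R →+* ↥R') (hι : ∀ x : ↥R, ((ι x : ↥R') : K) = (x : K))
    (i : Spec (CommRingCat.of K) ⟶ Y) (φ : Spec (CommRingCat.of ↥R) ⟶ X)
    (w : Spec.map (CommRingCat.ofHom R.subtype) ≫ φ = i ≫ f)
    (g : Spec (CommRingCat.of ↥R') ⟶ Y) (hg₁ : Spec.map (CommRingCat.ofHom R'.subtype) ≫ g = i)
    (Rt : ValuationSubring (IsLocalRing.ResidueField ↥R')) (σ : ↥R →+* ↥Rt)
    (hσs : Function.Surjective σ)
    (hσ : ∀ x : ↥R, ((σ x : ↥Rt) : IsLocalRing.ResidueField ↥R') = IsLocalRing.residue ↥R' (ι x))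
    (ht : Spec (CommRingCat.of ↥Rt) ⟶ Y)
    (hht₁ : Spec.map (CommRingCat.ofHom Rt.subtype) ≫ ht =
      Spec.map (CommRingCat.ofHom (IsLocalRing.residue ↥R')) ≫ g)
    (hht₂ : ht ≫ f = Spec.map (CommRingCat.ofHom σ) ≫ φ) :
    ∃! h : Spec (CommRingCat.of ↥R) ⟶ Y, Spec.map (CommRingCat.ofHom R.subtype) ≫ h = i ∧
      h ≫ f = φ ∧ Spec.map (CommRingCat.ofHom ι) ≫ h = g ∧
      Spec.map (CommRingCat.ofHom σ) ≫ h = ht := by
  classical
  haveI hσl : IsLocalHom σ := IsLocalHom.of_surjective σ hσs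
  haveI : IsLocalHom (CommRingCat.ofHom σ).hom := hσl
  haveI : IsLocalHom (CommRingCat.ofHom (IsLocalRing.residue ↥R')).hom :=
    inferInstanceAs (IsLocalHom (IsLocalRing.residue ↥R'))
  have hclR : Spec.map (CommRingCat.ofHom σ) (IsLocalRing.closedPoint ↥Rt) =
      IsLocalRing.closedPoint ↥R := Spec_closedPoint (f := CommRingCat.ofHom σ)
  obtain ⟨_, ⟨V, hV, rfl⟩, hyV, -⟩ := Y.isBasis_affineOpens.exists_subset_of_mem_open
    (Set.mem_univ (ht (IsLocalRing.closedPoint ↥Rt))) isOpen_univ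
  obtain ⟨βt, hβt⟩ := exists_factor ht hV hyV
  -- the closed point of `Spec R'` lands in `V`
  have hgV : g (IsLocalRing.closedPoint ↥R') ∈ V := by
    have h1 := congr(($hht₁) (IsLocalRing.closedPoint (IsLocalRing.ResidueField ↥R')))
    rw [Scheme.Hom.comp_apply, Scheme.Hom.comp_apply,
      Spec_closedPoint (f := CommRingCat.ofHom (IsLocalRing.residue ↥R'))] at h1
    rw [← h1]
    have htop : ht ⁻¹ᵁ V = ⊤ := Scheme.preimage_eq_top_of_closedPoint_mem ht hyV
    have : Spec.map (CommRingCat.ofHom Rt.subtype)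
        (IsLocalRing.closedPoint (IsLocalRing.ResidueField ↥R')) ∈ ht ⁻¹ᵁ V := by
      rw [htop]; trivial
    exact this
  obtain ⟨β', hβ'⟩ := exists_factor g hV hgV
  have hcomp : βt ≫ CommRingCat.ofHom Rt.subtype =
      β' ≫ CommRingCat.ofHom (IsLocalRing.residue ↥R') := by
    apply factor_unique hV
    rw [Spec.map_comp, Spec.map_comp, Category.assoc, Category.assoc, ← hβt, ← hβ']
    exact hht₁
  have hcomp' : ∀ b, ((βt b : ↥Rt) : IsLocalRing.ResidueField ↥R') =
      IsLocalRing.residue ↥R' (β' b) := fun b => congr($hcomp b)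
  have hmem : ∀ b : Γ(Y, V), ((β' b : ↥R') : K) ∈ R := by
    intro b
    obtain ⟨r, hr⟩ := hσs (βt b)
    have h1 : IsLocalRing.residue ↥R' (ι r) = IsLocalRing.residue ↥R' (β' b) := by
      rw [← hσ, hr, hcomp']
    have h2 : β' b - ι r ∈ IsLocalRing.maximalIdeal ↥R' := by
      rw [← IsLocalRing.residue_eq_zero_iff, map_sub, h1, sub_self]
    have h3 : ((β' b - ι r : ↥R') : K) ∈ R := mem_of_mem_maximalIdeal R R' hRR' _ h2
    have h4 : ((β' b : ↥R') : K) = ((β' b - ι r : ↥R') : K) + (r : K) := by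
      rw [← hι]; push_cast; ring
    rw [h4]
    exact R.add_mem _ _ h3 r.2
  let β : Γ(Y, V) →+* ↥R :=
    { toFun := fun b => ⟨((β' b : ↥R') : K), hmem b⟩
      map_one' := Subtype.ext (by simp)
      map_mul' := fun a b => Subtype.ext (by simp)
      map_zero' := Subtype.ext (by simp)
      map_add' := fun a b => Subtype.ext (by simp) }
  have e1 : CommRingCat.ofHom β ≫ CommRingCat.ofHom R.subtype =
      β' ≫ CommRingCat.ofHom R'.subtype := by
    ext b; rfl
  have e2 : CommRingCat.ofHom β ≫ CommRingCat.ofHom ι = β' := by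
    ext b
    change ((ι (β b) : ↥R') : K) = _
    rw [hι]
    rfl
  have e3 : CommRingCat.ofHom β ≫ CommRingCat.ofHom σ = βt := by
    ext b
    change ((σ (β b) : ↥Rt) : IsLocalRing.ResidueField ↥R') = _
    rw [hσ, hcomp']
    congr 1
    exact congr($e2 b)
  have ha : Spec.map (CommRingCat.ofHom R.subtype) ≫ Spec.map (CommRingCat.ofHom β) ≫ hV.fromSpec
      = i := by
    rw [← Spec.map_comp_assoc, e1, Spec.map_comp_assoc, ← hβ', hg₁]
  have hc : Spec.map (CommRingCat.ofHom ι) ≫ Spec.map (CommRingCat.ofHom β) ≫ hV.fromSpec = g := by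
    rw [← Spec.map_comp_assoc, e2, ← hβ']
  have hd : Spec.map (CommRingCat.ofHom σ) ≫ Spec.map (CommRingCat.ofHom β) ≫ hV.fromSpec = ht := by
    rw [← Spec.map_comp_assoc, e3, ← hβt]
  refine ⟨Spec.map (CommRingCat.ofHom β) ≫ hV.fromSpec, ⟨ha, ?_, hc, hd⟩, ?_⟩
  · refine eq_of_comp_eq (CommRingCat.ofHom R.subtype) Subtype.val_injective _ _ ?_ ?_
    · rw [← hclR, ← Scheme.Hom.comp_apply, ← Scheme.Hom.comp_apply, ← Category.assoc,
        ← Category.assoc, Category.assoc _ _ hV.fromSpec, hd, hht₂]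
    · rw [← Category.assoc, ← Category.assoc, Category.assoc _ _ hV.fromSpec, ha, w]
  · rintro h' ⟨ha', -, -, hd'⟩
    have hV' : h' (IsLocalRing.closedPoint ↥R) ∈ V := by
      rw [← hclR, ← Scheme.Hom.comp_apply, hd']
      exact hyV
    obtain ⟨β'', rfl⟩ := exists_factor h' hV hV'
    have : β'' ≫ CommRingCat.ofHom R.subtype =
        CommRingCat.ofHom β ≫ CommRingCat.ofHom R.subtype := by
      apply factor_unique hV
      rw [Spec.map_comp, Spec.map_comp, Category.assoc, Category.assoc, ha, ha']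
    have hβ'' : β'' = CommRingCat.ofHom β := by
      ext b
      exact congr(($this b : K))
    rw [hβ'']

end Groth.Agent.Lib.Helper13.CompositeValLift
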