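import Mathlib

/-! Sections of an integral scheme as intersections of stalks in the function field, and integral
closedness of rings of sections of a normal integral scheme (helper13; the open-set version of
helper22's `exists_section_of_forall_mem_stalk`). -/

open CategoryTheory AlgebraicGeometry TopologicalSpace Opposite

universe u

namespace Groth.Agent.Lib.Helper13.NormalSections

/-- On an integral scheme, an element of the function field lying in the stalk at every point of
a nonempty open `W` is a section over `W`. -/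
theorem exists_section_of_forall_mem_stalk (X : Scheme.{u}) [IsIntegral X] (W : X.Opens)
    [Nonempty W] (k : X.functionField)
    (hk : ∀ p ∈ W, ∃ g : X.presheaf.stalk p,
      algebraMap (X.presheaf.stalk p) X.functionField g = k) :
    ∃ s : Γ(X, W), X.germToFunctionField W s = k := by
  classical
  have hloc : ∀ p : W, ∃ (U : X.Opens) (_ : U ≤ W) (hp : p.1 ∈ U) (s : Γ(X, U)),
      algebraMap (X.presheaf.stalk p.1) X.functionField (X.presheaf.germ U p.1 hp s) = k := by
    rintro ⟨p, hpW⟩
    obtain ⟨g, hg⟩ := hk p hpW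
    obtain ⟨U, hp, s, hs⟩ := X.presheaf.exists_germ_eq g
    refine ⟨U ⊓ W, inf_le_right, ⟨hp, hpW⟩, X.presheaf.map (homOfLE inf_le_left).op s, ?_⟩
    rw [← hg, ← hs]
    congr 1
    exact X.presheaf.germ_res_apply (homOfLE (inf_le_left : U ⊓ W ≤ U)) p ⟨hp, hpW⟩ s
  choose U hUW hpU sf hsf using hloc
  have hne : ∀ p, Nonempty (U p) := fun p => ⟨⟨p.1, hpU p⟩⟩
  have hsf' : ∀ p, X.germToFunctionField (U p) (sf p) = k := by
    intro p
    rw [← Scheme.algebraMap_germ_eq_germToFunctionField X (hpU p) (sf p)]
    exact hsf p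
  have hgen : ∀ V : X.Opens, Nonempty V → genericPoint X ∈ V := by
    intro V hV
    exact ((genericPoint_spec X).mem_open_set_iff V.isOpen).mpr (by simpa using hV)
  have hcompat : TopCat.Presheaf.IsCompatible X.presheaf U sf := by
    intro p q
    have hne' : Nonempty (U p ⊓ U q : X.Opens) :=
      ⟨⟨genericPoint X, hgen _ (hne p), hgen _ (hne q)⟩⟩
    apply X.germToFunctionField_injective (U p ⊓ U q)
    have h1 : X.germToFunctionField (U p ⊓ U q)
        (X.presheaf.map (Opens.infLELeft (U p) (U q)).op (sf p)) =
        X.germToFunctionField (U p) (sf p) :=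
      X.presheaf.germ_res_apply (Opens.infLELeft (U p) (U q)) (genericPoint X) _ (sf p)
    have h2 : X.germToFunctionField (U p ⊓ U q)
        (X.presheaf.map (Opens.infLERight (U p) (U q)).op (sf q)) =
        X.germToFunctionField (U q) (sf q) :=
      X.presheaf.germ_res_apply (Opens.infLERight (U p) (U q)) (genericPoint X) _ (sf q)
    rw [h1, h2, hsf', hsf']
  have hcover : W ≤ iSup U := by
    intro p hp
    exact Opens.mem_iSup.2 ⟨⟨p, hp⟩, hpU ⟨p, hp⟩⟩
  obtain ⟨s, hs, -⟩ := X.sheaf.existsUnique_gluing' U W (fun p => homOfLE (hUW p)) hcover sf hcompat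
  refine ⟨s, ?_⟩
  obtain ⟨⟨p0, hp0⟩⟩ : Nonempty W := inferInstance
  obtain ⟨p, rfl⟩ : ∃ p : W, p.1 = p0 := ⟨⟨p0, hp0⟩, rfl⟩
  have hnep : Nonempty (U p) := hne p
  have h3 : X.germToFunctionField (U p) (X.presheaf.map (homOfLE (hUW p)).op s) =
      X.germToFunctionField W s :=
    X.presheaf.germ_res_apply (homOfLE (hUW p)) (genericPoint X) _ s
  rw [← h3]
  have := hs p
  change X.presheaf.map (homOfLE (hUW p)).op s = sf p at this
  rw [this, hsf']

/-- On a normal integral scheme, an element of the function field integral over `Γ(X, W)` is a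
section over `W`. -/
theorem exists_section_of_isIntegral (X : Scheme.{u}) [IsIntegral X]
    (hX : ∀ x : X, IsIntegrallyClosed (X.presheaf.stalk x)) (W : X.Opens)
    [Nonempty W] (k : X.functionField) (hk : IsIntegral Γ(X, W) k) :
    ∃ s : Γ(X, W), X.germToFunctionField W s = k := by
  apply exists_section_of_forall_mem_stalk
  intro p hp
  have := hX p
  let _ := TopCat.Presheaf.algebra_section_stalk X.presheaf (⟨p, hp⟩ : W)
  have : IsScalarTower Γ(X, W) (X.presheaf.stalk p) X.functionField :=
    functionField_isScalarTower X W ⟨p, hp⟩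
  have h1 : IsIntegral (X.presheaf.stalk p) k := hk.tower_top
  exact IsIntegrallyClosed.isIntegral_iff.mp h1

end Groth.Agent.Lib.Helper13.NormalSections
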