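import Groth.Agent.Lib.Helper13.NormIso
import Groth.Agent.Lib.Helper13.BranchGeom
import Groth.Agent.Lib.Helper13.NormalSections
import Groth.Agent.Lib.Helper17.StalkExact
import Groth.Prelude.Def_ClSub2
import Groth.Prelude.Def_Curv2

set_option autoImplicit false
set_option linter.style.haveILetI false
universe u
open CategoryTheory CategoryTheory.Limits AlgebraicGeometry TopologicalSpace Opposite

namespace Groth.Agent.Lib.Helper13.DeltaStalk
open Groth.Agent.Lib.Helper13.BranchGeom Groth.Agent.Lib.Helper17.StalkExact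
open Groth.Agent.Lib.Helper13.NormDimOne Groth.Agent.Lib.Helper13

variable (X : Scheme.{u}) [IsIntegral X]
  [QuasiCompact (X.fromSpecStalk (genericPoint X))] [QuasiSeparated (X.fromSpecStalk (genericPoint X))]

/-- the pushforward module `ν_* O_{X'}` -/
noncomputable abbrev M : X.Modules :=
  (Scheme.Modules.pushforward (nu X)).obj (Coh.structureModule (Xn X))

/-- the unit `O_X ⟶ ν_* O_{X'}` -/
noncomputable abbrev φ : Coh.structureModule X ⟶ M X := ClSub.unitToPush (nu X)

instance : IsIntegral (Xn X) := isIntegral_normalization X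

/-- the function field of the normalization -/
noncomputable abbrev K' : Type u := (Xn X).functionField

theorem genericPoint_mem (V : X.Opens) (x : X) (hx : x ∈ V) :
    genericPoint (Xn X) ∈ nu X ⁻¹ᵁ V := by
  change nu X (genericPoint (Xn X)) ∈ V
  rw [NormIso.fromNormalization_genericPoint' X]
  exact ((genericPoint_spec X).mem_open_set_iff V.isOpen).mpr ⟨x, trivial, hx⟩

/-- the cocone defining the map from the stalk of `ν_* O` to the function field -/
noncomputable def thetaCocone (x : X) :
    Cocone ((OpenNhds.inclusion x).op ⋙ (M X).presheaf) where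
  pt := AddCommGrpCat.of (K' X)
  ι :=
    { app := fun V => AddCommGrpCat.ofHom
        (((Xn X).presheaf.germ (nu X ⁻¹ᵁ V.unop.1) (genericPoint (Xn X))
          (genericPoint_mem X V.unop.1 x V.unop.2)).hom.toAddMonoidHom)
      naturality := fun V W i => by
        ext s
        exact (Xn X).presheaf.germ_res_apply
          (homOfLE ((nu X).preimage_mono (show W.unop.1 ≤ V.unop.1 from i.unop.le)))
          (genericPoint (Xn X)) (genericPoint_mem X W.unop.1 x W.unop.2) s }

/-- the map from the stalk of `ν_* O` at `x` to the function field of the normalization -/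
noncomputable def theta (x : X) : (M X).presheaf.stalk x →+ K' X :=
  (colimit.desc _ (thetaCocone X x)).hom

theorem theta_germ (x : X) (V : X.Opens) (hx : x ∈ V) (s : Γ(Xn X, nu X ⁻¹ᵁ V)) :
    theta X x ((M X).presheaf.germ V x hx (show Γ(M X, V) from s)) =
      (Xn X).presheaf.germ (nu X ⁻¹ᵁ V) (genericPoint (Xn X)) (genericPoint_mem X V x hx) s := by
  have := colimit.ι_desc (thetaCocone X x) (op (⟨V, hx⟩ : OpenNhds x))
  have h2 := congr($(this) s)
  exact h2


theorem theta_injective (x : X) : Function.Injective (theta X x) := by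
  rw [injective_iff_map_eq_zero]
  intro m hm
  obtain ⟨V, hxV, s, rfl⟩ := TopCat.Presheaf.exists_germ_eq (M X).presheaf m
  have h1 := theta_germ X x V hxV s
  have h2 : (Xn X).presheaf.germ (nu X ⁻¹ᵁ V) (genericPoint (Xn X)) (genericPoint_mem X V x hxV) s = 0 := by
    rw [← h1]; exact hm
  have h3 : (s : Γ(Xn X, nu X ⁻¹ᵁ V)) = 0 := by
    apply germ_injective_of_isIntegral (Xn X) (genericPoint (Xn X)) (genericPoint_mem X V x hxV)
    exact h2.trans (map_zero ((Xn X).presheaf.germ (nu X ⁻¹ᵁ V) (genericPoint (Xn X))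
      (genericPoint_mem X V x hxV)).hom).symm
  have h4 : (s : Γ(M X, V)) = 0 := h3
  rw [h4, map_zero]

/-- the cocone defining the map from the local ring at `x` to the function field of `X'` -/
noncomputable def rhoCocone (x : X) :
    Cocone ((OpenNhds.inclusion x).op ⋙ X.presheaf) where
  pt := CommRingCat.of (K' X)
  ι :=
    { app := fun V => (nu X).app V.unop.1 ≫
        (Xn X).presheaf.germ (nu X ⁻¹ᵁ V.unop.1) (genericPoint (Xn X))
          (genericPoint_mem X V.unop.1 x V.unop.2)
      naturality := fun V W i => by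
        have hle : W.unop.1 ≤ V.unop.1 := i.unop.le
        have h1 : X.presheaf.map (homOfLE hle).op ≫ (nu X).app W.unop.1 =
            (nu X).app V.unop.1 ≫ (Xn X).presheaf.map (homOfLE ((nu X).preimage_mono hle)).op :=
          (nu X).naturality (homOfLE hle).op
        have h2 := (Xn X).presheaf.germ_res (homOfLE ((nu X).preimage_mono hle))
          (genericPoint (Xn X)) (genericPoint_mem X W.unop.1 x W.unop.2)
        change X.presheaf.map (homOfLE hle).op ≫ (nu X).app W.unop.1 ≫ _ = (_ ≫ _) ≫ 𝟙 _
        rw [Category.comp_id, reassoc_of% h1, h2] }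

/-- the map from the local ring at `x` to the function field of the normalization -/
noncomputable def rho (x : X) : X.presheaf.stalk x →+* K' X :=
  (colimit.desc _ (rhoCocone X x)).hom

theorem rho_germ (x : X) (V : X.Opens) (hx : x ∈ V) (r : Γ(X, V)) :
    rho X x (X.presheaf.germ V x hx r) =
      (Xn X).presheaf.germ (nu X ⁻¹ᵁ V) (genericPoint (Xn X)) (genericPoint_mem X V x hx)
        ((nu X).app V r) := by
  have := colimit.ι_desc (rhoCocone X x) (op (⟨V, hx⟩ : OpenNhds x))
  have h2 := congr($(this) r)
  exact h2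


theorem theta_smul (x : X) (a : X.presheaf.stalk x) (m : (M X).presheaf.stalk x) :
    theta X x (a • m) = rho X x a * theta X x m := by
  obtain ⟨U, hxU, r, rfl⟩ := TopCat.Presheaf.exists_germ_eq X.presheaf a
  obtain ⟨V, hxV, s, rfl⟩ := TopCat.Presheaf.exists_germ_eq (M X).presheaf m
  have hW : x ∈ U ⊓ V := ⟨hxU, hxV⟩
  have h1 : X.presheaf.germ U x hxU r =
      X.presheaf.germ (U ⊓ V) x hW (X.presheaf.map (homOfLE inf_le_left).op r) :=
    (TopCat.Presheaf.germ_res_apply X.presheaf (homOfLE inf_le_left) x hW r).symm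
  have h2 : (M X).presheaf.germ V x hxV s =
      (M X).presheaf.germ (U ⊓ V) x hW ((M X).presheaf.map (homOfLE inf_le_right).op s) :=
    (TopCat.Presheaf.germ_res_apply (M X).presheaf (homOfLE inf_le_right) x hW s).symm
  rw [h1, h2, ← germ_smul']
  set r' : Γ(X, U ⊓ V) := X.presheaf.map (homOfLE inf_le_left).op r with hr'
  set s' : Γ(Xn X, nu X ⁻¹ᵁ (U ⊓ V)) := (M X).presheaf.map (homOfLE inf_le_right).op s with hs'
  have h3 : (r' • (show Γ(M X, U ⊓ V) from s') : Γ(M X, U ⊓ V)) =
      (show Γ(M X, U ⊓ V) from ((nu X).app (U ⊓ V) r' * s')) := rfl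
  rw [h3]
  rw [theta_germ X x (U ⊓ V) hW ((nu X).app (U ⊓ V) r' * s'), theta_germ X x (U ⊓ V) hW s',
    rho_germ X x (U ⊓ V) hW r', map_mul]

theorem theta_stalkHom_germ (x : X) (V : X.Opens) (hx : x ∈ V) (r : Γ(X, V)) :
    theta X x (stalkHom (φ X) x ((Coh.structureModule X).presheaf.germ V x hx
      (show Γ(Coh.structureModule X, V) from r))) = rho X x (X.presheaf.germ V x hx r) := by
  rw [stalkHom_germ, rho_germ]
  exact theta_germ X x V hx ((nu X).app V r)

end Groth.Agent.Lib.Helper13.DeltaStalk
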