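import Groth.Agent.Lib.Helper13.DeltaStalk

set_option autoImplicit false
set_option linter.style.haveILetI false
universe u
open CategoryTheory CategoryTheory.Limits AlgebraicGeometry TopologicalSpace Opposite

namespace Groth.Agent.Lib.Helper13.DeltaStalk
open Groth.Agent.Lib.Helper13.BranchGeom Groth.Agent.Lib.Helper17.StalkExact
open Groth.Agent.Lib.Helper13.NormDimOne Groth.Agent.Lib.Helper13

variable (X : Scheme.{u}) [IsIntegral X]
  [QuasiCompact (X.fromSpecStalk (genericPoint X))] [QuasiSeparated (X.fromSpecStalk (genericPoint X))]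

section affine
variable {U : X.Opens} (hU : IsAffineOpen U) (x : X) (hxU : x ∈ U)

/-- the map `Γ(X, U) → K(X')` -/
noncomputable def rhoU : Γ(X, U) →+* K' X :=
  (rho X x).comp (X.presheaf.germ U x hxU).hom

theorem rhoU_apply (r : Γ(X, U)) : rhoU X x hxU r =
    (Xn X).presheaf.germ (nu X ⁻¹ᵁ U) (genericPoint (Xn X)) (genericPoint_mem X U x hxU)
      ((nu X).app U r) := rho_germ X x U hxU r

include hU in
/-- `K(X')` is a fraction field of `Γ(X, U)` for `U` affine -/
theorem isFractionRing_rhoU :
    letI := (rhoU X x hxU).toAlgebra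
    IsFractionRing Γ(X, U) (K' X) := by
  letI := (rhoU X x hxU).toAlgebra
  haveI : Nonempty U := ⟨⟨x, hxU⟩⟩
  haveI : Nonempty (nu X ⁻¹ᵁ U) := ⟨⟨genericPoint (Xn X), genericPoint_mem X U x hxU⟩⟩
  haveI : IsDomain Γ(X, U) := IsIntegral.component_integral U
  haveI hfr := functionField_isFractionRing_of_isAffineOpen X U hU
  haveI hfr' := functionField_isFractionRing_of_isAffineOpen (Xn X) (nu X ⁻¹ᵁ U) (hU.preimage (nu X))
  obtain ⟨e, he⟩ := exists_sectionsEquiv X hU
  haveI : IsFractionRing (integralClosure Γ(X, U) X.functionField) X.functionField :=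
    integralClosure.isFractionRing_of_finite_extension X.functionField X.functionField
  let σ : X.functionField ≃+* K' X := IsFractionRing.ringEquivOfRingEquiv e.symm
  have hσ : ∀ r : Γ(X, U), σ (algebraMap Γ(X, U) X.functionField r) =
      algebraMap Γ(X, U) (K' X) r := by
    intro r
    have h1 : algebraMap Γ(X, U) X.functionField r =
        algebraMap (integralClosure Γ(X, U) X.functionField) X.functionField
          (algebraMap Γ(X, U) (integralClosure Γ(X, U) X.functionField) r) := rfl
    rw [h1, IsFractionRing.ringEquivOfRingEquiv_algebraMap, ← he r, e.symm_apply_apply]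
    exact (rhoU_apply X x hxU r).symm
  let σ' : X.functionField ≃ₐ[Γ(X, U)] K' X := { σ with commutes' := hσ }
  exact IsLocalization.isLocalization_of_algEquiv _ σ'


include hU hxU in
/-- `K(X')` is a fraction field of `O_{X,x}` -/
theorem isFractionRing_rho :
    letI := (rho X x).toAlgebra
    IsFractionRing (X.presheaf.stalk x) (K' X) := by
  letI := (rho X x).toAlgebra
  letI := (rhoU X x hxU).toAlgebra
  haveI := isFractionRing_rhoU X hU x hxU
  letI := X.presheaf.algebra_section_stalk ⟨x, hxU⟩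
  haveI := hU.isLocalization_stalk ⟨x, hxU⟩
  haveI : IsScalarTower Γ(X, U) (X.presheaf.stalk x) (K' X) := .of_algebraMap_eq' rfl
  haveI : Nonempty U := ⟨⟨x, hxU⟩⟩
  haveI : IsDomain Γ(X, U) := IsIntegral.component_integral U
  exact IsFractionRing.isFractionRing_of_isDomain_of_isLocalization
    (hU.primeIdealOf ⟨x, hxU⟩).asIdeal.primeCompl (X.presheaf.stalk x) (K' X)

/-- the image of `theta` consists of integral elements -/
theorem isIntegral_theta (m : (M X).presheaf.stalk x) :
    letI := (rho X x).toAlgebra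
    IsIntegral (X.presheaf.stalk x) (theta X x m) := by
  letI := (rho X x).toAlgebra
  obtain ⟨V, hxV, s, rfl⟩ := TopCat.Presheaf.exists_germ_eq (M X).presheaf m
  obtain ⟨_, ⟨V', hV', rfl⟩, hxV', hle⟩ := X.isBasis_affineOpens.exists_subset_of_mem_open
    hxV V.isOpen
  have hle' : V' ≤ V := hle
  have h1 : (M X).presheaf.germ V x hxV s =
      (M X).presheaf.germ V' x hxV' ((M X).presheaf.map (homOfLE hle').op s) :=
    (TopCat.Presheaf.germ_res_apply (M X).presheaf (homOfLE hle') x hxV' s).symm
  rw [h1]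
  set s' : Γ(Xn X, nu X ⁻¹ᵁ V') := (M X).presheaf.map (homOfLE hle').op s with hs'
  rw [theta_germ X x V' hxV' s']
  obtain ⟨p, hp, hps⟩ := (nu X).isIntegral_app V' hV' s'
  refine ⟨p.map (X.presheaf.germ V' x hxV').hom, hp.map _, ?_⟩
  rw [Polynomial.eval₂_map]
  have h2 : (algebraMap (X.presheaf.stalk x) (K' X)).comp (X.presheaf.germ V' x hxV').hom =
      ((Xn X).presheaf.germ (nu X ⁻¹ᵁ V') (genericPoint (Xn X))
        (genericPoint_mem X V' x hxV')).hom.comp ((nu X).app V').hom := by
    ext r
    exact rho_germ X x V' hxV' r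
  rw [h2, ← Polynomial.hom_eval₂, hps, map_zero]


include hU hxU in
/-- every integral element is in the image of `theta` -/
theorem exists_theta_eq_of_isIntegral (t : K' X)
    (ht : letI := (rho X x).toAlgebra; IsIntegral (X.presheaf.stalk x) t) :
    ∃ m : (M X).presheaf.stalk x, theta X x m = t := by
  letI := (rho X x).toAlgebra
  letI := (rhoU X x hxU).toAlgebra
  letI := X.presheaf.algebra_section_stalk ⟨x, hxU⟩
  haveI := hU.isLocalization_stalk ⟨x, hxU⟩
  haveI : IsScalarTower Γ(X, U) (X.presheaf.stalk x) (K' X) := .of_algebraMap_eq' rfl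
  haveI : Nonempty (nu X ⁻¹ᵁ U) := ⟨⟨genericPoint (Xn X), genericPoint_mem X U x hxU⟩⟩
  obtain ⟨c, hc⟩ := IsIntegral.exists_multiple_integral_of_isLocalization
    (hU.primeIdealOf ⟨x, hxU⟩).asIdeal.primeCompl t ht
  -- integrality over sections of the normalization
  letI : Algebra Γ(X, U) Γ(Xn X, nu X ⁻¹ᵁ U) := ((nu X).app U).hom.toAlgebra
  haveI : IsScalarTower Γ(X, U) Γ(Xn X, nu X ⁻¹ᵁ U) (K' X) := .of_algebraMap_eq' (by
    ext r
    exact rhoU_apply X x hxU r)
  have hc' : IsIntegral Γ(Xn X, nu X ⁻¹ᵁ U) (c • t) := hc.tower_top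
  obtain ⟨b, hb⟩ := NormalSections.exists_section_of_isIntegral (Xn X)
    (fun x' => (NormIso.isNormal_normalization X x').2) (nu X ⁻¹ᵁ U) (c • t) hc'
  -- the inverse of `c` in the local ring
  obtain ⟨a', ha'⟩ := (IsLocalization.map_units (X.presheaf.stalk x) c).exists_left_inv
  refine ⟨a' • (M X).presheaf.germ U x hxU (show Γ(M X, U) from b), ?_⟩
  rw [theta_smul, theta_germ X x U hxU b]
  have h1 : (Xn X).presheaf.germ (nu X ⁻¹ᵁ U) (genericPoint (Xn X))
      (genericPoint_mem X U x hxU) b = c • t := hb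
  rw [h1]
  have h2 : c • t = rho X x (algebraMap Γ(X, U) (X.presheaf.stalk x) c) * t := by
    rw [Submonoid.smul_def, Algebra.smul_def]
    rfl
  rw [h2, ← mul_assoc, ← map_mul, ha', map_one, one_mul]

end affine

end Groth.Agent.Lib.Helper13.DeltaStalk
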