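import Groth.Agent.Lib.Helper13.DeltaStalk2

set_option autoImplicit false
set_option linter.style.haveILetI false
universe u
open CategoryTheory CategoryTheory.Limits AlgebraicGeometry TopologicalSpace Opposite

namespace Groth.Agent.Lib.Helper13.DeltaStalk
open Groth.Agent.Lib.Helper13.BranchGeom Groth.Agent.Lib.Helper17.StalkExact
open Groth.Agent.Lib.Helper13.NormDimOne Groth.Agent.Lib.Helper13

variable (X : Scheme.{u}) [IsIntegral X]
  [QuasiCompact (X.fromSpecStalk (genericPoint X))] [QuasiSeparated (X.fromSpecStalk (genericPoint X))]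

variable (x : X)

/-- the stalk of `ν_* O` is the integral closure of `O_{X,x}` in `K(X')` -/
noncomputable def thetaEquiv :
    letI := (rho X x).toAlgebra
    (M X).presheaf.stalk x ≃ₗ[X.presheaf.stalk x] integralClosure (X.presheaf.stalk x) (K' X) := by
  letI := (rho X x).toAlgebra
  obtain hex := X.isBasis_affineOpens.exists_subset_of_mem_open (Set.mem_univ x) isOpen_univ
  let f : (M X).presheaf.stalk x →ₗ[X.presheaf.stalk x]
      integralClosure (X.presheaf.stalk x) (K' X) :=
    { toFun := fun m => ⟨theta X x m, isIntegral_theta X x m⟩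
      map_add' := fun m n => Subtype.ext (map_add (theta X x) m n)
      map_smul' := fun a m => Subtype.ext (by
        change theta X x (a • m) = a • theta X x m
        rw [theta_smul, Algebra.smul_def]
        rfl) }
  refine LinearEquiv.ofBijective f ⟨?_, ?_⟩
  · intro m n h
    exact theta_injective X x (congrArg Subtype.val h)
  · rintro ⟨t, ht⟩
    obtain ⟨_, ⟨U, hU, rfl⟩, hxU, -⟩ := hex
    obtain ⟨m, hm⟩ := exists_theta_eq_of_isIntegral X hU x hxU t ht
    exact ⟨m, Subtype.ext hm⟩

theorem thetaEquiv_apply (m : (M X).presheaf.stalk x) :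
    letI := (rho X x).toAlgebra
    ((thetaEquiv X x m : integralClosure (X.presheaf.stalk x) (K' X)) : K' X) = theta X x m := rfl


theorem isFractionRing_rho' :
    letI := (rho X x).toAlgebra
    IsFractionRing (X.presheaf.stalk x) (K' X) := by
  obtain ⟨_, ⟨U, hU, rfl⟩, hxU, -⟩ := X.isBasis_affineOpens.exists_subset_of_mem_open
    (Set.mem_univ x) isOpen_univ
  exact isFractionRing_rho X hU x hxU

/-- the stalk of `ν_* O` is the integral closure of `O_{X,x}` in its fraction ring -/
noncomputable def deltaEquiv :
    (M X).presheaf.stalk x ≃ₗ[X.presheaf.stalk x]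
      integralClosure (X.presheaf.stalk x) (FractionRing (X.presheaf.stalk x)) :=
  letI := (rho X x).toAlgebra
  haveI := isFractionRing_rho' X x
  (thetaEquiv X x).trans (AlgEquiv.mapIntegralClosure
    (FractionRing.algEquiv (X.presheaf.stalk x) (K' X)).symm).toLinearEquiv

theorem deltaEquiv_stalkHom_germ (V : X.Opens) (hx : x ∈ V) (r : Γ(X, V)) :
    deltaEquiv X x (stalkHom (φ X) x ((Coh.structureModule X).presheaf.germ V x hx
      (show Γ(Coh.structureModule X, V) from r))) =
    algebraMap (X.presheaf.stalk x)
      (integralClosure (X.presheaf.stalk x) (FractionRing (X.presheaf.stalk x)))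
      (X.presheaf.germ V x hx r) := by
  letI := (rho X x).toAlgebra
  haveI := isFractionRing_rho' X x
  apply Subtype.ext
  change (FractionRing.algEquiv (X.presheaf.stalk x) (K' X)).symm
    (theta X x (stalkHom (φ X) x ((Coh.structureModule X).presheaf.germ V x hx
      (show Γ(Coh.structureModule X, V) from r)))) = _
  rw [theta_stalkHom_germ]
  exact (FractionRing.algEquiv (X.presheaf.stalk x) (K' X)).symm.commutes _

theorem map_range_deltaEquiv :
    Submodule.map (deltaEquiv X x : (M X).presheaf.stalk x →ₗ[X.presheaf.stalk x]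
      integralClosure (X.presheaf.stalk x) (FractionRing (X.presheaf.stalk x)))
      (LinearMap.range (stalkLinearMap (φ X) x)) =
    LinearMap.range (Algebra.linearMap (X.presheaf.stalk x)
      (integralClosure (X.presheaf.stalk x) (FractionRing (X.presheaf.stalk x)))) := by
  apply le_antisymm
  · rintro _ ⟨_, ⟨n, rfl⟩, rfl⟩
    obtain ⟨V, hxV, r, rfl⟩ := TopCat.Presheaf.exists_germ_eq (Coh.structureModule X).presheaf n
    exact ⟨X.presheaf.germ V x hxV (show Γ(X, V) from r),
      (deltaEquiv_stalkHom_germ X x V hxV r).symm⟩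
  · rintro _ ⟨a, rfl⟩
    obtain ⟨V, hxV, r, rfl⟩ := TopCat.Presheaf.exists_germ_eq X.presheaf a
    exact ⟨_, ⟨(Coh.structureModule X).presheaf.germ V x hxV
      (show Γ(Coh.structureModule X, V) from r), rfl⟩, deltaEquiv_stalkHom_germ X x V hxV r⟩

/-- the stalk of the cokernel of `O_X ⟶ ν_* O_{X'}` is the δ-quotient -/
noncomputable def cokernelStalkEquiv :
    (cokernel (φ X)).presheaf.stalk x ≃ₗ[X.presheaf.stalk x]
      (integralClosure (X.presheaf.stalk x) (FractionRing (X.presheaf.stalk x)) ⧸
        LinearMap.range (Algebra.linearMap (X.presheaf.stalk x)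
          (integralClosure (X.presheaf.stalk x) (FractionRing (X.presheaf.stalk x))))) := by
  have hsurj : Function.Surjective (stalkLinearMap (cokernel.π (φ X)) x) :=
    stalkHom_surjective_of_epi (cokernel.π (φ X)) x
  have hex : Function.Exact (stalkHom (φ X) x) (stalkHom (cokernel.π (φ X)) x) :=
    stalkHom_exact_of_exact (ShortComplex.mk (φ X) (cokernel.π (φ X)) (cokernel.condition _))
      (ShortComplex.exact_cokernel (φ X)) x
  have hker : LinearMap.ker (stalkLinearMap (cokernel.π (φ X)) x) =
      LinearMap.range (stalkLinearMap (φ X) x) := by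
    ext m
    exact hex m
  exact ((LinearMap.quotKerEquivOfSurjective _ hsurj).symm.trans
    (Submodule.quotEquivOfEq _ _ hker)).trans
    (Submodule.Quotient.equiv _ _ (deltaEquiv X x) (map_range_deltaEquiv X x))

theorem length_stalk_cokernel :
    Module.length (X.presheaf.stalk x) ((cokernel (φ X)).presheaf.stalk x) =
      Curv2.deltaInv (X.presheaf.stalk x) :=
  (cokernelStalkEquiv X x).length_eq


omit x in
theorem app_injective (V : X.Opens) : Function.Injective ((nu X).app V) := by
  rw [injective_iff_map_eq_zero]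
  intro r hr
  by_cases hV : (V : Set X).Nonempty
  · obtain ⟨x, hxV⟩ := hV
    letI := (rho X x).toAlgebra
    haveI := isFractionRing_rho' X x
    have h1 : rho X x (X.presheaf.germ V x hxV r) = 0 := by
      rw [rho_germ, hr, map_zero]
    have h2 : X.presheaf.germ V x hxV r = 0 :=
      (injective_iff_map_eq_zero (rho X x)).mp
        (IsFractionRing.injective (X.presheaf.stalk x) (K' X)) _ h1
    apply germ_injective_of_isIntegral X x hxV
    rw [h2, map_zero]
  · have hbot : V = ⊥ := by
      ext y
      simp only [Opens.coe_bot, Set.mem_empty_iff_false, iff_false]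
      exact fun hy => hV ⟨y, hy⟩
    subst hbot
    exact Subsingleton.elim _ _

omit x in
theorem mono_phi : Mono (φ X) := by
  apply Preadditive.mono_of_cancel_zero
  intro N g hg
  apply Scheme.Modules.hom_ext
  intro V
  ext n
  have h1 : (g ≫ φ X).app V n = 0 := by rw [hg]; rfl
  have h2 : (nu X).app V (show Γ(X, V) from g.app V n) = 0 := h1
  have h3 := (injective_iff_map_eq_zero ((nu X).app V).hom).mp (app_injective X V) _ h2
  exact h3


theorem subsingleton_stalk_cokernel_of_isField (h : IsField (X.presheaf.stalk x)) :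
    Subsingleton ((cokernel (φ X)).presheaf.stalk x) := by
  have hsurj : Function.Surjective (Algebra.linearMap (X.presheaf.stalk x)
      (integralClosure (X.presheaf.stalk x) (FractionRing (X.presheaf.stalk x)))) := by
    rintro ⟨a', ha'⟩
    obtain ⟨a, rfl⟩ := (IsFractionRing.surjective_iff_isField (R := X.presheaf.stalk x)
      (K := FractionRing (X.presheaf.stalk x))).mpr h a'
    exact ⟨a, Subtype.ext rfl⟩
  have htop := LinearMap.range_eq_top.mpr hsurj
  haveI : Subsingleton (integralClosure (X.presheaf.stalk x) (FractionRing (X.presheaf.stalk x)) ⧸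
      LinearMap.range (Algebra.linearMap (X.presheaf.stalk x)
        (integralClosure (X.presheaf.stalk x) (FractionRing (X.presheaf.stalk x))))) :=
    Submodule.Quotient.subsingleton_iff.mpr htop
  exact (cokernelStalkEquiv X x).toEquiv.subsingleton

/-- in dimension one, a non-closed point is the generic point -/
theorem eq_genericPoint_of_not_isClosed (hdim : topologicalKrullDim X ≤ 1)
    (hx : ¬ IsClosed ({x} : Set X)) : x = genericPoint X := by
  have hne : closure ({x} : Set X) ≠ {x} := fun h => hx (h ▸ isClosed_closure)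
  obtain ⟨y, hy, hyx⟩ : ∃ y ∈ closure ({x} : Set X), y ≠ x := by
    by_contra hcon
    push Not at hcon
    apply hne
    apply Set.Subset.antisymm
    · intro y hy
      exact hcon y hy
    · exact subset_closure
  have hsp : x ⤳ y := specializes_iff_mem_closure.mpr hy
  obtain ⟨_, ⟨U, hU, rfl⟩, hyU, -⟩ := X.isBasis_affineOpens.exists_subset_of_mem_open
    (Set.mem_univ y) isOpen_univ
  have hxU : x ∈ U := hsp.mem_open U.isOpen hyU
  replace hU : IsAffineOpen U := hU
  haveI : Nonempty U := ⟨⟨x, hxU⟩⟩
  haveI : IsDomain Γ(X, U) := IsIntegral.component_integral U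
  haveI : Ring.KrullDimLE 1 Γ(X, U) := krullDimLE_one_sections X hdim hU
  by_contra hxη
  have hpx : (hU.primeIdealOf ⟨x, hxU⟩).asIdeal ≠ ⊥ := fun h =>
    hxη (eq_genericPoint_of_primeIdealOf_eq_bot hU x hxU h)
  have hle : (hU.primeIdealOf ⟨x, hxU⟩).asIdeal ≤ (hU.primeIdealOf ⟨y, hyU⟩).asIdeal := by
    intro s hs
    rw [LocalIso.mem_primeIdealOf_iff] at hs ⊢
    intro hu
    apply hs
    have h1 : y ∈ X.basicOpen s := (Scheme.mem_basicOpen X s y hyU).mpr hu
    have h2 : x ∈ X.basicOpen s := hsp.mem_open (X.basicOpen s).isOpen h1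
    exact (Scheme.mem_basicOpen X s x hxU).mp h2
  have hmax : (hU.primeIdealOf ⟨x, hxU⟩).asIdeal.IsMaximal :=
    (hU.primeIdealOf ⟨x, hxU⟩).2.isMaximal_of_ne_bot hpx
  have heq := hmax.eq_of_le (hU.primeIdealOf ⟨y, hyU⟩).2.ne_top hle
  exact hyx (primeIdealOf_injective hU hyU hxU (PrimeSpectrum.ext heq.symm))

end Groth.Agent.Lib.Helper13.DeltaStalk
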