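import Groth.Agent.Lib.Helper13.NormDimOne
import Groth.Agent.Lib.Helper13.IntBirational
set_option autoImplicit false
universe u
open CategoryTheory AlgebraicGeometry
open Groth.Agent.Lib.Helper13.Normalization Groth.Agent.Lib.Helper13.NormDimOne

namespace Groth.Agent.Lib.Helper13.NormIso

section
variable (X : Scheme.{u}) [IsIntegral X]
  [QuasiCompact (X.fromSpecStalk (genericPoint X))] [QuasiSeparated (X.fromSpecStalk (genericPoint X))]

set_option quotPrecheck false in
local notation "X'" => (Scheme.Hom.normalization (X.fromSpecStalk (genericPoint X)))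
set_option quotPrecheck false in
local notation "ν" => (Scheme.Hom.fromNormalization (X.fromSpecStalk (genericPoint X)))

theorem isNormal_normalization (x' : X') :
    IsDomain ((X').presheaf.stalk x') ∧ IsIntegrallyClosed ((X').presheaf.stalk x') :=
  isNormal (Field.toIsField X.functionField) _ (hgη_fromSpecStalk X) x'

theorem fromNormalization_genericPoint' :
    haveI := isIntegral_normalization X
    ν (genericPoint X') = genericPoint X := by
  haveI := isIntegral_normalization X
  exact fromNormalization_genericPoint (Field.toIsField X.functionField) _ (hgη_fromSpecStalk X)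

/-- forward direction: a scheme isomorphic to the normalization over `X` has its properties -/
theorem props_of_iso {Y : Scheme.{u}} (f : Y ⟶ X) (e : Y ≅ X') (he : e.hom ≫ ν = f) :
    (∀ y : Y, IsDomain (Y.presheaf.stalk y) ∧ IsIntegrallyClosed (Y.presheaf.stalk y)) ∧
      IsIntegralHom f ∧
      ∃ _ : IrreducibleSpace Y, f.base ⁻¹' {genericPoint X} = {genericPoint Y} ∧
        IsIso (f.stalkMap (genericPoint Y)) := by
  haveI := isIntegral_normalization X
  haveI : Nonempty Y := ⟨e.inv (genericPoint X')⟩
  haveI : IsIntegral Y := isIntegral_of_isOpenImmersion e.hom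
  have heη : e.hom (genericPoint Y) = genericPoint X' := genericPoint_eq_of_isOpenImmersion e.hom
  refine ⟨fun y => ?_, he ▸ inferInstance, inferInstance, ?_, ?_⟩
  · obtain ⟨hd, hic⟩ := isNormal_normalization X (e.hom y)
    let eq := (asIso (e.hom.stalkMap y)).commRingCatIsoToRingEquiv
    exact ⟨eq.symm.toMulEquiv.isDomain _, IsIntegrallyClosed.of_equiv eq⟩
  · subst he
    ext y
    simp only [Set.mem_preimage, Set.mem_singleton_iff]
    constructor
    · intro h
      have h1 : ν (e.hom y) = genericPoint X := h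
      have h2 := eq_genericPoint_of_isIntegralHom ν _ h1
      rw [← heη] at h2
      exact e.hom.isOpenEmbedding.injective h2
    · rintro rfl
      show ν (e.hom (genericPoint Y)) = genericPoint X
      rw [heη]
      exact fromNormalization_genericPoint' X
  · subst he
    rw [Scheme.Hom.stalkMap_comp]
    have h1 := stalkMap_fromNormalization_bijective X (e.hom (genericPoint Y)) heη
    have h2 : Function.Bijective (e.hom.stalkMap (genericPoint Y)).hom :=
      ConcreteCategory.bijective_of_isIso _
    refine (ConcreteCategory.isIso_iff_bijective _).mpr ?_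
    show Function.Bijective ((e.hom.stalkMap (genericPoint Y)).hom ∘
      ((ν).stalkMap (e.hom (genericPoint Y))).hom)
    exact h2.comp h1

/-- backward direction: a normal integral scheme, integral and birational over `X`, is the
normalization -/
theorem exists_iso_of_birational {Y : Scheme.{u}} (f : Y ⟶ X)
    (hn : ∀ y : Y, IsDomain (Y.presheaf.stalk y) ∧ IsIntegrallyClosed (Y.presheaf.stalk y))
    [IsIntegralHom f] [IrreducibleSpace Y]
    (hfib : f.base ⁻¹' {genericPoint X} = {genericPoint Y})
    (hst : IsIso (f.stalkMap (genericPoint Y))) :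
    ∃ e : Y ≅ X', e.hom ≫ ν = f := by
  haveI := isIntegral_normalization X
  haveI : IsReduced Y := by
    haveI : ∀ y : Y, _root_.IsReduced (Y.presheaf.stalk y) := fun y => by
      haveI := (hn y).1; infer_instance
    exact isReduced_of_isReduced_stalk Y
  haveI : IsIntegral Y := isIntegral_of_irreducibleSpace_of_isReduced Y
  have hfη : f (genericPoint Y) = genericPoint X := by
    have : genericPoint Y ∈ f.base ⁻¹' {genericPoint X} := by rw [hfib]; rfl
    exact this
  let φ : Y.presheaf.stalk (genericPoint Y) ⟶ X.presheaf.stalk (genericPoint X) :=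
    inv (f.stalkMap (genericPoint Y)) ≫ X.presheaf.stalkSpecializes (specializes_of_eq hfη.symm)
  let f₁ : Spec (X.presheaf.stalk (genericPoint X)) ⟶ Y := Spec.map φ ≫ Y.fromSpecStalk (genericPoint Y)
  have H : X.fromSpecStalk (genericPoint X) = f₁ ≫ f := by
    simp only [f₁, φ, Category.assoc]
    rw [← Scheme.SpecMap_stalkMap_fromSpecStalk, ← Spec.map_comp_assoc, IsIso.hom_inv_id_assoc,
      Scheme.SpecMap_stalkSpecializes_fromSpecStalk]
  let d : X' ⟶ Y := (X.fromSpecStalk (genericPoint X)).normalizationDesc f₁ f H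
  have hd : d ≫ f = ν := (X.fromSpecStalk (genericPoint X)).normalizationDesc_comp f₁ f H
  have hdη : d (genericPoint X') = genericPoint Y := by
    have : d (genericPoint X') ∈ f.base ⁻¹' {genericPoint X} := by
      show f (d (genericPoint X')) = genericPoint X
      rw [← Scheme.Hom.comp_apply, hd]
      exact fromNormalization_genericPoint' X
    rw [hfib] at this
    exact this
  have hdst : Function.Surjective (d.stalkMap (genericPoint X')).hom := by
    have key : ∀ (h : X' ⟶ X), h = d ≫ f →
        Function.Surjective (h.stalkMap (genericPoint X')).hom →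
        Function.Surjective (d.stalkMap (genericPoint X')).hom := by
      rintro _ rfl hs
      rw [Scheme.Hom.stalkMap_comp] at hs
      have hs' : Function.Surjective ((d.stalkMap (genericPoint X')).hom ∘
        (f.stalkMap (d (genericPoint X'))).hom) := hs
      exact Function.Surjective.of_comp hs'
    exact key ν hd.symm (stalkMap_fromNormalization_bijective X _ rfl).2
  haveI : IsIntegralHom d := by
    show IsIntegralHom ((X.fromSpecStalk (genericPoint X)).normalizationDesc f₁ f H)
    infer_instance
  haveI : IsIso d := IntBirational.isIso_of_isIntegralHom_of_birational d (fun y => (hn y).2) hdη hdst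
  refine ⟨(asIso d).symm, ?_⟩
  show inv d ≫ ν = f
  rw [← hd, IsIso.inv_hom_id_assoc]
/-- the normalization is an isomorphism over a normal open subset -/
theorem isIso_morphismRestrict_normalization (V : X.Opens)
    (hV : ∀ x ∈ V, IsIntegrallyClosed (X.presheaf.stalk x)) : IsIso (ν ∣_ V) := by
  haveI := isIntegral_normalization X
  exact IntBirational.isIso_morphismRestrict_of_birational ν (fromNormalization_genericPoint' X)
    (stalkMap_fromNormalization_bijective X _ rfl).2 V hV

theorem exists_dense_open_iso (V : X.Opens) (hVne : (V : Set X).Nonempty)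
    (hV : ∀ x ∈ V, IsIntegrallyClosed (X.presheaf.stalk x))
    {Y : Scheme.{u}} (f : Y ⟶ X) (e : Y ≅ X') (he : e.hom ≫ ν = f) :
    ∃ U : X.Opens, Dense (U : Set X) ∧ Dense ((f ⁻¹ᵁ U : Y.Opens) : Set Y) ∧ IsIso (f ∣_ U) := by
  haveI := isIntegral_normalization X
  haveI : Nonempty Y := ⟨e.inv (genericPoint X')⟩
  haveI : IsIntegral Y := isIntegral_of_isOpenImmersion e.hom
  have heη : e.hom (genericPoint Y) = genericPoint X' := genericPoint_eq_of_isOpenImmersion e.hom
  have hfη : f (genericPoint Y) = genericPoint X := by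
    rw [← he, Scheme.Hom.comp_apply, heη]
    exact fromNormalization_genericPoint' X
  have hηV : genericPoint X ∈ V :=
    ((genericPoint_spec X).mem_open_set_iff V.isOpen).mpr
      (by obtain ⟨x, hx⟩ := hVne; exact ⟨x, Set.mem_univ _, hx⟩)
  refine ⟨V, V.isOpen.dense hVne, (f ⁻¹ᵁ V).isOpen.dense ⟨genericPoint Y, ?_⟩, ?_⟩
  · show f (genericPoint Y) ∈ V
    rw [hfη]; exact hηV
  · haveI := isIso_morphismRestrict_normalization X V hV
    subst he
    rw [morphismRestrict_comp]
    haveI h0 : IsIso e.hom := inferInstance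
    exact @IsIso.comp_isIso _ _ _ _ _ _ _ (instIsIsoSchemeMorphismRestrict e.hom _) this

theorem exists_iso_of_dense_open_iso {Y : Scheme.{u}} (f : Y ⟶ X)
    (hn : ∀ y : Y, IsDomain (Y.presheaf.stalk y) ∧ IsIntegrallyClosed (Y.presheaf.stalk y))
    [IsIntegralHom f] (U : X.Opens) (hU : Dense (U : Set X))
    (hfU : Dense ((f ⁻¹ᵁ U : Y.Opens) : Set Y)) (hiso : IsIso (f ∣_ U)) :
    ∃ e : Y ≅ X', e.hom ≫ ν = f := by
  obtain ⟨x₀, hx₀⟩ := hU.nonempty
  haveI : Nonempty U.toScheme := ⟨⟨x₀, hx₀⟩⟩
  haveI : IsIntegral U.toScheme := isIntegral_of_isOpenImmersion U.ι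
  haveI : Nonempty (f ⁻¹ᵁ U).toScheme := ⟨(inv (f ∣_ U)) ⟨x₀, hx₀⟩⟩
  haveI : IsIntegral (f ⁻¹ᵁ U).toScheme := isIntegral_of_isOpenImmersion (f ∣_ U)
  haveI : IrreducibleSpace Y := by
    haveI : IrreducibleSpace ↥((f ⁻¹ᵁ U : Y.Opens) : Set Y) :=
      inferInstanceAs (IrreducibleSpace (f ⁻¹ᵁ U).toScheme)
    have h1 : IsIrreducible ((f ⁻¹ᵁ U : Y.Opens) : Set Y) :=
      IsIrreducible.of_subtype (s := ((f ⁻¹ᵁ U : Y.Opens) : Set Y))
    have h2 := h1.closure
    rw [hfU.closure_eq] at h2
    exact (irreducibleSpace_def Y).mpr h2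
  haveI : IsReduced Y := by
    haveI : ∀ y : Y, _root_.IsReduced (Y.presheaf.stalk y) := fun y => by
      haveI := (hn y).1; infer_instance
    exact isReduced_of_isReduced_stalk Y
  haveI : IsIntegral Y := isIntegral_of_irreducibleSpace_of_isReduced Y
  have hg1 : (f ⁻¹ᵁ U).ι (genericPoint (f ⁻¹ᵁ U).toScheme) = genericPoint Y :=
    genericPoint_eq_of_isOpenImmersion (f ⁻¹ᵁ U).ι
  have hg2 : (f ∣_ U) (genericPoint (f ⁻¹ᵁ U).toScheme) = genericPoint U.toScheme :=
    genericPoint_eq_of_isOpenImmersion (f ∣_ U)
  have hg3 : U.ι (genericPoint U.toScheme) = genericPoint X := genericPoint_eq_of_isOpenImmersion U.ι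
  have hι : ∀ y' : (f ⁻¹ᵁ U).toScheme, U.ι ((f ∣_ U) y') = f ((f ⁻¹ᵁ U).ι y') := fun y' => by
    rw [← Scheme.Hom.comp_apply, ← Scheme.Hom.comp_apply, morphismRestrict_ι]
  have hfη : f (genericPoint Y) = genericPoint X := by
    rw [← hg1, ← hι, hg2, hg3]
  have hηU : genericPoint X ∈ U := by rw [← hg3]; exact (genericPoint U.toScheme).2
  have hfib : f.base ⁻¹' {genericPoint X} = {genericPoint Y} := by
    ext y
    simp only [Set.mem_preimage, Set.mem_singleton_iff]
    constructor
    · intro hy
      have hyU : y ∈ f ⁻¹ᵁ U := by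
        show f y ∈ U
        rw [show f y = genericPoint X from hy]; exact hηU
      let y' : (f ⁻¹ᵁ U).toScheme := ⟨y, hyU⟩
      have hy' : (f ⁻¹ᵁ U).ι y' = y := rfl
      have h1 : U.ι ((f ∣_ U) y') = U.ι (genericPoint U.toScheme) := by
        rw [hι, hg3, hy']; exact hy
      have h2 := U.ι.isOpenEmbedding.injective h1
      rw [← hg2] at h2
      have h3 := (f ∣_ U).isOpenEmbedding.injective h2
      rw [← hg1, ← h3, hy']
    · rintro rfl
      exact hfη
  have hst : IsIso (f.stalkMap (genericPoint Y)) := by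
    have h1 : IsIso ((f ∣_ U).stalkMap (genericPoint (f ⁻¹ᵁ U).toScheme)) := inferInstance
    have h2 : IsIso (f.stalkMap (genericPoint (f ⁻¹ᵁ U).toScheme).1) :=
      ((MorphismProperty.isomorphisms CommRingCat).arrow_mk_iso_iff
        (morphismRestrictStalkMap f U (genericPoint (f ⁻¹ᵁ U).toScheme))).mp h1
    have key : ∀ y : Y, y = genericPoint Y → IsIso (f.stalkMap (genericPoint (f ⁻¹ᵁ U).toScheme).1) →
        (genericPoint (f ⁻¹ᵁ U).toScheme).1 = y → IsIso (f.stalkMap y) := by
      rintro _ _ h rfl
      exact h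
    exact key _ rfl h2 hg1
  exact exists_iso_of_birational X f hn hfib hst
end
end Groth.Agent.Lib.Helper13.NormIso
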