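import Groth.Agent.Lib.Helper13.Japanese3
import Groth.Agent.Lib.Helper13.NormalLocus
import Groth.Agent.Lib.Helper13.NormIso
import Groth.Agent.Lib.Helper13.LocalIso2

/-!
# Integral schemes locally of finite type over a field: Japanese, nonempty normal locus
-/

set_option autoImplicit false
set_option linter.style.haveILetI false
universe u
noncomputable section

open CategoryTheory AlgebraicGeometry

namespace Groth.Agent.Lib.Helper13.NormFT

/-- sections over an affine open of a scheme locally of finite type over a field form a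
finite type algebra -/
theorem exists_algebra_finiteType (k : Type u) [Field k] {X : Scheme.{u}}
    (s : X ⟶ Spec (CommRingCat.of k)) [LocallyOfFiniteType s] {U : X.Opens} (hU : IsAffineOpen U) :
    ∃ _ : Algebra k Γ(X, U), Algebra.FiniteType k Γ(X, U) := by
  have e : U ≤ s ⁻¹ᵁ ⊤ := le_top
  have h1 : (s.appLE ⊤ U e).hom.FiniteType := s.finiteType_appLE (isAffineOpen_top _) hU e
  have h2 : ((Scheme.ΓSpecIso (CommRingCat.of k)).inv.hom).FiniteType :=
    RingHom.FiniteType.of_surjective _
      (ConcreteCategory.bijective_of_isIso (Scheme.ΓSpecIso (CommRingCat.of k)).inv).2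
  have h3 := h1.comp h2
  letI := ((s.appLE ⊤ U e).hom.comp (Scheme.ΓSpecIso (CommRingCat.of k)).inv.hom).toAlgebra
  exact ⟨inferInstance, RingHom.finiteType_algebraMap.mp h3⟩

/-- the coordinate rings of an integral scheme locally of finite type over a field are N-2 -/
theorem isN2_sections (k : Type u) [Field k] {X : Scheme.{u}} [IsIntegral X]
    (s : X ⟶ Spec (CommRingCat.of k)) [LocallyOfFiniteType s] {U : X.Opens} (hU : IsAffineOpen U)
    (hne : Nonempty U) :
    @CAlg.IsN2 Γ(X, U) _ (@IsIntegral.component_integral X _ U hne) := by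
  haveI : IsDomain Γ(X, U) := IsIntegral.component_integral U
  obtain ⟨_, hft⟩ := exists_algebra_finiteType k s hU
  intro L _ _ _ _ hfd
  exact Japanese.finite_integralClosure_of_finiteType k Γ(X, U) (FractionRing Γ(X, U)) L

/-- an integral scheme locally of finite type over a field has a nonempty normal open subset -/
theorem exists_normal_open (k : Type u) [Field k] {X : Scheme.{u}} [IsIntegral X]
    (s : X ⟶ Spec (CommRingCat.of k)) [LocallyOfFiniteType s] :
    ∃ V : X.Opens, (V : Set X).Nonempty ∧ ∀ x ∈ V, IsIntegrallyClosed (X.presheaf.stalk x) := by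
  obtain ⟨_, ⟨U, hU, rfl⟩, hxU, -⟩ := X.isBasis_affineOpens.exists_subset_of_mem_open
    (Set.mem_univ (genericPoint X)) isOpen_univ
  haveI hne : Nonempty U := ⟨⟨genericPoint X, hxU⟩⟩
  haveI : IsDomain Γ(X, U) := IsIntegral.component_integral U
  obtain ⟨_, hft⟩ := exists_algebra_finiteType k s hU
  haveI hfr := functionField_isFractionRing_of_isAffineOpen X U hU
  have hfin : Module.Finite Γ(X, U) (integralClosure Γ(X, U) X.functionField) :=
    Japanese.finite_integralClosure_of_finiteType k Γ(X, U) X.functionField X.functionField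
  obtain ⟨f, hf0, hf⟩ :=
    NormalLocus.exists_ne_zero_forall_isIntegrallyClosed Γ(X, U) X.functionField hfin
  refine ⟨X.basicOpen f, ?_, fun x hx => ?_⟩
  · by_contra hempty
    rw [Set.not_nonempty_iff_eq_empty] at hempty
    have h0 : X.basicOpen f = ⊥ := TopologicalSpace.Opens.ext hempty
    rw [AlgebraicGeometry.basicOpen_eq_bot_iff] at h0
    exact hf0 h0
  · have hxU' : x ∈ U := X.basicOpen_le f hx
    letI := X.presheaf.algebra_section_stalk ⟨x, hxU'⟩
    haveI := hU.isLocalization_stalk ⟨x, hxU'⟩
    refine hf (hU.primeIdealOf ⟨x, hxU'⟩).asIdeal ?_ (X.presheaf.stalk x)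
    rw [LocalIso.mem_primeIdealOf_iff hU x hxU' f, not_not]
    exact (X.mem_basicOpen f x hxU').mp hx

end Groth.Agent.Lib.Helper13.NormFT
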