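import Groth.Agent.Lib.Helper13.DeltaStalk3
import Groth.Agent.Lib.Helper13.NagataFT
import Groth.Agent.Lib.Helper13.NormalLocus
import Groth.Agent.Lib.Helper13.NormFT
import Groth.Prelude.Def_Found

/-! Normalization of an integral Nagata scheme: finiteness and birationality (helper13). -/

set_option autoImplicit false
set_option linter.style.haveILetI false
universe u
open CategoryTheory CategoryTheory.Limits AlgebraicGeometry TopologicalSpace Opposite

namespace Groth.Agent.Lib.Helper13.DeltaStalk
open Groth.Agent.Lib.Helper13.BranchGeom Groth.Agent.Lib.Helper13.NormDimOne Groth.Agent.Lib.Helper13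

/-- the integral closure of a Nagata domain in its fraction field is finite -/
theorem finite_integralClosure_of_isNagata_fractionRing (R : Type u) [CommRing R] [IsDomain R]
    (hR : CAlg.IsNagata R) (K : Type u) [Field K] [Algebra R K] [IsFractionRing R K] :
    Module.Finite R (integralClosure R K) := by
  haveI : (⊥ : Ideal R).IsPrime := Ideal.isPrime_bot
  letI : Algebra (R ⧸ (⊥ : Ideal R)) K :=
    (Ideal.Quotient.lift ⊥ (algebraMap R K) (by simp)).toAlgebra
  haveI : IsScalarTower R (R ⧸ (⊥ : Ideal R)) K := .of_algebraMap_eq (fun r => rfl)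
  have hinj : Function.Injective (algebraMap (R ⧸ (⊥ : Ideal R)) K) := by
    rw [injective_iff_map_eq_zero]
    intro a ha
    obtain ⟨r, rfl⟩ := Ideal.Quotient.mk_surjective a
    have h1 : algebraMap R K r = 0 := ha
    have h2 : r = 0 := (injective_iff_map_eq_zero (algebraMap R K)).mp
      (IsFractionRing.injective R K) r h1
    rw [h2, map_zero]
  haveI : FaithfulSMul (R ⧸ (⊥ : Ideal R)) K := (faithfulSMul_iff_algebraMap_injective _ _).mpr hinj
  letI := FractionRing.liftAlgebra (R ⧸ (⊥ : Ideal R)) K
  haveI := FractionRing.isScalarTower_liftAlgebra (R ⧸ (⊥ : Ideal R)) K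
  have hfd : FiniteDimensional (FractionRing (R ⧸ (⊥ : Ideal R))) K := by
    refine Module.Finite.of_surjective
      (Algebra.linearMap (FractionRing (R ⧸ (⊥ : Ideal R))) K) ?_
    intro z
    obtain ⟨p, q, hq, rfl⟩ := IsFractionRing.div_surjective (A := R) z
    refine ⟨algebraMap (R ⧸ (⊥ : Ideal R)) _ (Ideal.Quotient.mk ⊥ p) /
      algebraMap (R ⧸ (⊥ : Ideal R)) _ (Ideal.Quotient.mk ⊥ q), ?_⟩
    rw [Algebra.linearMap_apply, map_div₀, ← IsScalarTower.algebraMap_apply,
      ← IsScalarTower.algebraMap_apply]
    rfl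
  have h := hR.2 ⊥ K hfd
  exact NagataFT.finite_integralClosure_of_surjective R (R ⧸ (⊥ : Ideal R)) K
    Ideal.Quotient.mk_surjective h

variable (X : Scheme.{u}) [IsIntegral X]
  [QuasiCompact (X.fromSpecStalk (genericPoint X))] [QuasiSeparated (X.fromSpecStalk (genericPoint X))]

/-- the normalization of an integral scheme with finite integral closures is finite -/
theorem isFinite_nu (hfin : ∀ (U : X.Opens), IsAffineOpen U → ∀ (_ : Nonempty U),
    Module.Finite Γ(X, U) (integralClosure Γ(X, U) X.functionField)) :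
    IsFinite (nu X) := by
  haveI : IsIntegralHom (nu X) :=
    inferInstanceAs (IsIntegralHom (X.fromSpecStalk (genericPoint X)).fromNormalization)
  refine { finite_app := fun U hU => ?_ }
  by_cases hne : Nonempty U
  · haveI := hne
    obtain ⟨e, he⟩ := exists_sectionsEquiv X hU
    have h1 : (e.symm.toRingHom.comp (algebraMap Γ(X, U)
        (integralClosure Γ(X, U) X.functionField))).Finite :=
      RingHom.Finite.comp (RingHom.Finite.of_surjective _ e.symm.surjective)
        (RingHom.finite_algebraMap.mpr (hfin U hU hne))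
    have h2 : e.symm.toRingHom.comp (algebraMap Γ(X, U)
        (integralClosure Γ(X, U) X.functionField)) = ((nu X).app U).hom := by
      ext a
      rw [RingHom.comp_apply, ← he a]
      exact e.symm_apply_apply _
    rw [h2] at h1
    exact h1
  · have hU0 : U = ⊥ := by
      ext x
      simp only [TopologicalSpace.Opens.coe_bot, Set.mem_empty_iff_false, iff_false]
      exact fun hx => hne ⟨⟨x, hx⟩⟩
    subst hU0
    letI := ((nu X).app ⊥).hom.toAlgebra
    haveI : Subsingleton Γ(Xn X, (nu X) ⁻¹ᵁ ⊥) := by
      rw [Scheme.Hom.preimage_bot]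
      infer_instance
    show Module.Finite _ _
    infer_instance

/-- a nonempty open of normal points -/
theorem exists_normal_open (hfin : ∀ (U : X.Opens), IsAffineOpen U → ∀ (_ : Nonempty U),
    Module.Finite Γ(X, U) (integralClosure Γ(X, U) X.functionField)) :
    ∃ V : X.Opens, (V : Set X).Nonempty ∧ ∀ x ∈ V, IsIntegrallyClosed (X.presheaf.stalk x) := by
  obtain ⟨_, ⟨U, hU, rfl⟩, hxU, -⟩ := X.isBasis_affineOpens.exists_subset_of_mem_open
    (Set.mem_univ (genericPoint X)) isOpen_univ
  haveI hne : Nonempty U := ⟨⟨genericPoint X, hxU⟩⟩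
  haveI : IsDomain Γ(X, U) := IsIntegral.component_integral U
  haveI hfr := functionField_isFractionRing_of_isAffineOpen X U hU
  obtain ⟨f, hf0, hf⟩ :=
    NormalLocus.exists_ne_zero_forall_isIntegrallyClosed Γ(X, U) X.functionField (hfin U hU hne)
  refine ⟨X.basicOpen f, ?_, fun x hx => ?_⟩
  · by_contra hempty
    rw [Set.not_nonempty_iff_eq_empty] at hempty
    have h0 : X.basicOpen f = ⊥ := TopologicalSpace.Opens.ext hempty
    rw [AlgebraicGeometry.basicOpen_eq_bot_iff] at h0
    exact hf0 h0
  · have hxU' : x ∈ U := X.basicOpen_le f hx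
    letI := X.presheaf.algebra_section_stalk ⟨x, hxU'⟩
    haveI := hU.isLocalization_stalk ⟨x, hxU'⟩
    refine hf (hU.primeIdealOf ⟨x, hxU'⟩).asIdeal ?_ (X.presheaf.stalk x)
    rw [LocalIso.mem_primeIdealOf_iff hU x hxU' f, not_not]
    exact (X.mem_basicOpen f x hxU').mp hx

end Groth.Agent.Lib.Helper13.DeltaStalk
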