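import Groth.Agent.Lib.Helper5.DivAlg
import Mathlib.LinearAlgebra.Dimension.Free
import Mathlib.LinearAlgebra.Dimension.FreeAndStrongRankCondition
import Mathlib.LinearAlgebra.FiniteDimensional.Basic
import Mathlib.Algebra.Algebra.Subalgebra.Centralizer
import Mathlib.Tactic

/-! # Dimensions of subalgebras of a central division algebra of prime degree (helper13) -/

set_option autoImplicit false

namespace Groth.Agent.Lib.Helper13.DivDim

open Module

variable {K : Type*} [Field K] {A : Type*} [DivisionRing A] [Algebra K A] [FiniteDimensional K A]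

/-- The dimension of a subalgebra of a finite-dimensional division algebra divides the dimension. -/
theorem finrank_subalgebra_dvd (B : Subalgebra K A) : finrank K B ∣ finrank K A := by
  let _ : DivisionRing B := divisionRingOfFiniteDimensional K B
  exact ⟨finrank B A, (finrank_mul_finrank K B A).symm⟩

theorem subalgebra_eq_top_of_finrank_eq {B : Subalgebra K A} (h : finrank K B = finrank K A) :
    B = ⊤ := by
  apply Algebra.toSubmodule_eq_top.mp
  exact Submodule.eq_top_of_finrank_eq h

variable {p : ℕ} (hp : p.Prime) (hA : finrank K A = p ^ 2)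

include hp hA

theorem finrank_subalgebra_cases (B : Subalgebra K A) :
    B = ⊥ ∨ finrank K B = p ∨ B = ⊤ := by
  have hdvd : finrank K B ∣ p ^ 2 := hA ▸ finrank_subalgebra_dvd B
  obtain ⟨k, hk, hk'⟩ := (Nat.dvd_prime_pow hp).mp hdvd
  interval_cases k
  · left
    rw [pow_zero] at hk'
    exact Subalgebra.finrank_eq_one_iff.mp hk'
  · right; left; simpa using hk'
  · right; right
    exact subalgebra_eq_top_of_finrank_eq (by rw [hk', hA])

variable [Algebra.IsCentral K A]

omit hp hA [FiniteDimensional K A] in
theorem mem_range_of_forall_commute {x : A} (h : ∀ y : A, y * x = x * y) :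
    x ∈ (algebraMap K A).range := by
  have hc : x ∈ Subalgebra.center K A := Subalgebra.mem_center_iff.2 h
  obtain ⟨k, hk⟩ := Algebra.mem_bot.1 (Algebra.IsCentral.out hc)
  exact ⟨k, hk⟩

omit hp hA [FiniteDimensional K A] [Algebra.IsCentral K A] in
theorem commute_of_mem_adjoin_singleton {x b : A} (hb : b ∈ Algebra.adjoin K {x}) : b * x = x * b := by
  have h1 : Algebra.adjoin K {x} ≤ Subalgebra.centralizer K {x} := by
    refine Algebra.adjoin_le ?_
    intro y hy
    rw [Set.mem_singleton_iff] at hy
    subst hy
    rw [SetLike.mem_coe, Subalgebra.mem_centralizer_iff]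
    intro g hg
    rw [Set.mem_singleton_iff] at hg
    subst hg
    rfl
  have := (Subalgebra.mem_centralizer_iff K).1 (h1 hb) x rfl
  exact this.symm

theorem finrank_adjoin_singleton {x : A} (hx : x ∉ (algebraMap K A).range) :
    finrank K (Algebra.adjoin K {x}) = p := by
  rcases finrank_subalgebra_cases hp hA (Algebra.adjoin K {x}) with h | h | h
  · exfalso
    have : x ∈ (⊥ : Subalgebra K A) := h ▸ Algebra.subset_adjoin (Set.mem_singleton x)
    obtain ⟨k, hk⟩ := Algebra.mem_bot.1 this
    exact hx ⟨k, hk⟩
  · exact h
  · exfalso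
    apply hx
    apply mem_range_of_forall_commute
    intro y
    exact commute_of_mem_adjoin_singleton (h ▸ Algebra.mem_top)

theorem centralizer_singleton_eq {x : A} (hx : x ∉ (algebraMap K A).range) :
    Subalgebra.centralizer K {x} = Algebra.adjoin K {x} := by
  have hle : Algebra.adjoin K {x} ≤ Subalgebra.centralizer K {x} := by
    intro b hb
    rw [Subalgebra.mem_centralizer_iff]
    intro g hg
    rw [Set.mem_singleton_iff] at hg
    subst hg
    exact (commute_of_mem_adjoin_singleton hb).symm
  have hB := finrank_adjoin_singleton hp hA hx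
  rcases finrank_subalgebra_cases hp hA (Subalgebra.centralizer K {x}) with h | h | h
  · exfalso
    have : x ∈ (⊥ : Subalgebra K A) := h ▸ hle (Algebra.subset_adjoin (Set.mem_singleton x))
    obtain ⟨k, hk⟩ := Algebra.mem_bot.1 this
    exact hx ⟨k, hk⟩
  · symm
    apply Subalgebra.toSubmodule_injective
    exact Submodule.eq_of_le_of_finrank_eq hle (by
      change finrank K (Algebra.adjoin K {x}) = finrank K (Subalgebra.centralizer K {x})
      rw [hB, h])
  · exfalso
    apply hx
    apply mem_range_of_forall_commute
    intro y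
    have : y ∈ Subalgebra.centralizer K {x} := h ▸ Algebra.mem_top
    exact ((Subalgebra.mem_centralizer_iff K).1 this x rfl).symm

theorem adjoin_pair_eq_top {x y : A} (hxy : x * y ≠ y * x) : Algebra.adjoin K {x, y} = ⊤ := by
  have hx : x ∉ (algebraMap K A).range := by
    rintro ⟨k, rfl⟩
    exact hxy (Algebra.commutes k y)
  have hle : Algebra.adjoin K {x} ≤ Algebra.adjoin K {x, y} :=
    Algebra.adjoin_mono (by simp)
  have hy : y ∈ Algebra.adjoin K {x, y} := Algebra.subset_adjoin (by simp)
  rcases finrank_subalgebra_cases hp hA (Algebra.adjoin K {x, y}) with h | h | h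
  · exfalso
    have : x ∈ (⊥ : Subalgebra K A) := h ▸ hle (Algebra.subset_adjoin (Set.mem_singleton x))
    obtain ⟨k, hk⟩ := Algebra.mem_bot.1 this
    exact hx ⟨k, hk⟩
  · exfalso
    have heq : Algebra.adjoin K {x} = Algebra.adjoin K {x, y} := by
      apply Subalgebra.toSubmodule_injective
      exact Submodule.eq_of_le_of_finrank_eq hle (by
        change finrank K (Algebra.adjoin K {x}) = finrank K (Algebra.adjoin K {x, y})
        rw [finrank_adjoin_singleton hp hA hx, h])
    exact hxy (commute_of_mem_adjoin_singleton (heq ▸ hy)).symm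
  · exact h

/-- An element commuting with two non-commuting elements is a scalar. -/
theorem mem_range_of_commute_pair {x y z : A} (hxy : x * y ≠ y * x) (hzx : z * x = x * z)
    (hzy : z * y = y * z) : z ∈ (algebraMap K A).range := by
  apply mem_range_of_forall_commute
  have htop := adjoin_pair_eq_top hp hA hxy
  have hle : Algebra.adjoin K {x, y} ≤ Subalgebra.centralizer K {z} := by
    refine Algebra.adjoin_le ?_
    intro g hg
    rw [SetLike.mem_coe, Subalgebra.mem_centralizer_iff]
    intro w hw
    rw [Set.mem_singleton_iff] at hw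
    subst hw
    rcases hg with rfl | hg
    · exact hzx
    · rw [Set.mem_singleton_iff] at hg
      subst hg
      exact hzy
  intro w
  have : w ∈ Subalgebra.centralizer K {z} := hle (htop ▸ Algebra.mem_top)
  exact ((Subalgebra.mem_centralizer_iff K).1 this z rfl).symm

omit hp hA [FiniteDimensional K A] [Algebra.IsCentral K A] in
/-- A non-scalar element whose `p`-th power is a scalar is inseparable (characteristic `p`). -/
theorem not_isSeparable_of_pow_mem [ExpChar K p] {z : A} (hz : z ∉ (algebraMap K A).range)
    (hzp : z ^ p ∈ (algebraMap K A).range) : ¬ IsSeparable K z := by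
  intro hsep
  have hmem := Groth.Agent.Lib.Helper5.DivAlg.mem_adjoin_pow_of_isSeparable p z hsep
  obtain ⟨k, hk⟩ := hzp
  rw [← hk] at hmem
  have hbot : Algebra.adjoin K {algebraMap K A k} = ⊥ := by
    rw [eq_bot_iff]
    refine Algebra.adjoin_le ?_
    intro g hg
    rw [Set.mem_singleton_iff] at hg
    subst hg
    exact Subalgebra.algebraMap_mem _ k
  rw [hbot] at hmem
  obtain ⟨k', hk'⟩ := Algebra.mem_bot.1 hmem
  exact hz ⟨k', hk'⟩

end Groth.Agent.Lib.Helper13.DivDim
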