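import Mathlib

/-!
# Finite subalgebras of an integral algebra with prescribed localizations
-/

universe u

namespace Groth.Agent.Lib.Helper13.ZMTFin

open scoped Classical in
/-- Let `A` be an integral `R`-algebra and `a i ∈ A` finitely many elements such that each
`A[1/a i]` is of finite type over `R`. Then there is a finite `R`-subalgebra `B ⊆ A` containing the
`a i` with `B[1/a i] = A[1/a i]`. -/
theorem exists_finite_subalgebra {R A : Type u} [CommRing R] [CommRing A] [Algebra R A]
    [Algebra.IsIntegral R A] {ι : Type*} [Finite ι] (a : ι → A)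
    (hft : ∀ i, Algebra.FiniteType R (Localization.Away (a i))) :
    ∃ B : Subalgebra R A, Module.Finite R B ∧ ∀ i, ∃ hb : a i ∈ B,
      letI : Algebra B (Localization.Away (a i)) :=
        ((algebraMap A (Localization.Away (a i))).comp B.val.toRingHom).toAlgebra
      IsLocalization.Away (⟨a i, hb⟩ : B) (Localization.Away (a i)) := by
  haveI := Fintype.ofFinite ι
  -- generators of the localizations
  have hgen : ∀ i, ∃ t : Finset A, ∀ B : Subalgebra R A, a i ∈ B → (↑t : Set A) ⊆ B →
      ∀ z : Localization.Away (a i), ∃ (b : A) (n : ℕ), b ∈ B ∧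
        z * algebraMap A _ (a i ^ n) = algebraMap A _ b := by
    intro i
    obtain ⟨s, hs⟩ := (hft i).out
    -- numerators
    have hnum : ∀ z : Localization.Away (a i), ∃ (x : A) (n : ℕ),
        z * algebraMap A _ (a i ^ n) = algebraMap A _ x := by
      intro z
      obtain ⟨n, x, hx⟩ := IsLocalization.Away.surj (a i) z
      exact ⟨x, n, by rw [map_pow]; exact hx⟩
    choose num ex hnum using hnum
    refine ⟨s.image num, fun B haB htB z => ?_⟩
    have hz : z ∈ Algebra.adjoin R (↑s : Set (Localization.Away (a i))) := by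
      rw [hs]; trivial
    induction hz using Algebra.adjoin_induction with
    | mem z hz =>
      refine ⟨num z, ex z, htB ?_, hnum z⟩
      simp only [Finset.coe_image]
      exact ⟨z, hz, rfl⟩
    | algebraMap r =>
      refine ⟨algebraMap R A r, 0, B.algebraMap_mem r, ?_⟩
      simp [IsScalarTower.algebraMap_apply R A (Localization.Away (a i))]
    | add z₁ z₂ _ _ h₁ h₂ =>
      obtain ⟨b₁, n₁, hb₁, e₁⟩ := h₁
      obtain ⟨b₂, n₂, hb₂, e₂⟩ := h₂
      refine ⟨b₁ * a i ^ n₂ + b₂ * a i ^ n₁, n₁ + n₂,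
        B.add_mem (B.mul_mem hb₁ (B.pow_mem haB _)) (B.mul_mem hb₂ (B.pow_mem haB _)), ?_⟩
      rw [map_add, map_mul, map_mul, ← e₁, ← e₂, pow_add, map_mul]
      ring
    | mul z₁ z₂ _ _ h₁ h₂ =>
      obtain ⟨b₁, n₁, hb₁, e₁⟩ := h₁
      obtain ⟨b₂, n₂, hb₂, e₂⟩ := h₂
      refine ⟨b₁ * b₂, n₁ + n₂, B.mul_mem hb₁ hb₂, ?_⟩
      rw [map_mul, ← e₁, ← e₂, pow_add, map_mul]
      ring
  choose t ht using hgen
  let T : Finset A := Finset.univ.image a ∪ Finset.univ.biUnion t
  let B : Subalgebra R A := Algebra.adjoin R (↑T : Set A)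
  have haB : ∀ i, a i ∈ B := fun i => Algebra.subset_adjoin (by
    simp only [T, Finset.coe_union, Finset.coe_image, Finset.coe_univ, Set.image_univ]
    exact Or.inl ⟨i, rfl⟩)
  have htB : ∀ i, (↑(t i) : Set A) ⊆ B := fun i x hx => Algebra.subset_adjoin (by
    simp only [T, Finset.coe_union, Finset.coe_biUnion]
    refine Or.inr ?_
    simp only [Finset.coe_univ, Set.mem_univ, Set.iUnion_true, Set.mem_iUnion]
    exact ⟨i, hx⟩)
  have hBfg : B.FG := ⟨T, rfl⟩
  haveI : Algebra.FiniteType R B := (Subalgebra.fg_iff_finiteType B).mp hBfg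
  haveI : Algebra.IsIntegral R B :=
    Algebra.IsIntegral.of_injective B.val Subtype.val_injective
  refine ⟨B, Algebra.IsIntegral.finite, fun i => ⟨haB i, ?_⟩⟩
  letI : Algebra B (Localization.Away (a i)) :=
    ((algebraMap A (Localization.Away (a i))).comp B.val.toRingHom).toAlgebra
  have halg : ∀ b : B, algebraMap B (Localization.Away (a i)) b = algebraMap A _ (b : A) :=
    fun b => rfl
  refine IsLocalization.Away.mk _ ?_ ?_ ?_
  · rw [halg]
    exact IsLocalization.Away.algebraMap_isUnit (a i)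
  · intro z
    obtain ⟨b, n, hb, e⟩ := ht i B (haB i) (htB i) z
    refine ⟨n, ⟨b, hb⟩, ?_⟩
    rw [halg, halg, ← e, map_pow]
  · intro b₁ b₂ h
    rw [halg, halg] at h
    obtain ⟨n, hn⟩ := (IsLocalization.Away.exists_of_eq (a i) h)
    exact ⟨n, Subtype.ext hn⟩

end Groth.Agent.Lib.Helper13.ZMTFin
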