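import Mathlib
import Groth.Agent.Lib.Helper13.ZMTFinAlg

/-!
# Zariski's main theorem, finite form, over an affine base
-/

universe u

open CategoryTheory CategoryTheory.Limits AlgebraicGeometry TopologicalSpace

namespace Groth.Agent.Lib.Helper13.ZMTFin

theorem mem_compl_zeroLocus_finset {A : Type*} [CommRing A] (t : Finset A)
    (p : PrimeSpectrum A) :
    p ∈ (PrimeSpectrum.zeroLocus (↑t : Set A))ᶜ ↔ ∃ a ∈ t, a ∉ p.asIdeal := by
  simp only [Set.mem_compl_iff, PrimeSpectrum.mem_zeroLocus, Set.not_subset, Finset.mem_coe,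
    SetLike.mem_coe]

set_option maxHeartbeats 800000 in
/-- If a compact scheme `X` is open in `Spec A` with `A` integral over `R` and `X` locally of
finite type over `R`, then `X` is already open in `Spec B` for a finite `R`-subalgebra `B ⊆ A`. -/
theorem exists_finite_factor_of_openImmersion_Spec {R A : CommRingCat.{u}} (φ : R ⟶ A)
    (hφ : φ.hom.IsIntegral) {X : Scheme.{u}} [CompactSpace X] (j₀ : X ⟶ Spec A)
    [IsOpenImmersion j₀] [LocallyOfFiniteType (j₀ ≫ Spec.map φ)] :
    ∃ (B : CommRingCat.{u}) (ψ₁ : R ⟶ B) (ψ₂ : B ⟶ A), ψ₁ ≫ ψ₂ = φ ∧ ψ₁.hom.Finite ∧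
      Function.Injective ψ₂.hom ∧ IsOpenImmersion (j₀ ≫ Spec.map ψ₂) := by
  letI : Algebra R A := φ.hom.toAlgebra
  haveI : Algebra.IsIntegral R A := ⟨hφ⟩
  -- cover the range of `j₀` by finitely many basic opens
  have hco : IsCompact (Set.range j₀) ∧ IsOpen (Set.range j₀) :=
    ⟨isCompact_range j₀.continuous, j₀.isOpenEmbedding.isOpen_range⟩
  obtain ⟨t, ht⟩ := PrimeSpectrum.isCompact_isOpen_iff.mp hco
  have hmem : ∀ p : PrimeSpectrum A, p ∈ Set.range j₀ ↔ ∃ a ∈ t, a ∉ p.asIdeal := by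
    intro p
    rw [← ht]
    exact mem_compl_zeroLocus_finset t p
  -- the pieces
  let D : A → (Spec A).Opens := fun a => PrimeSpectrum.basicOpen a
  have hD : ∀ a ∈ t, (D a : Set (Spec A)) ⊆ Set.range j₀ := by
    intro a ha p hp
    exact (hmem p).mpr ⟨a, ha, hp⟩
  let Xa : A → X.Opens := fun a => j₀ ⁻¹ᵁ D a
  let la : ∀ a : A, A ⟶ CommRingCat.of (Localization.Away a) := fun a =>
    CommRingCat.ofHom (algebraMap A (Localization.Away a))
  haveI : ∀ a : A, IsOpenImmersion (Spec.map (la a)) := fun a =>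
    IsOpenImmersion.of_isLocalization a
  have hrange : ∀ a ∈ t, Set.range ((Xa a).ι ≫ j₀) = Set.range (Spec.map (la a)) := by
    intro a ha
    have h1 : Set.range (Spec.map (la a)) = (D a : Set (Spec A)) :=
      PrimeSpectrum.localization_away_comap_range _ a
    rw [h1, Scheme.Hom.comp_base, TopCat.coe_comp, Set.range_comp, Scheme.Opens.range_ι]
    change j₀ '' (j₀ ⁻¹' (D a : Set (Spec A))) = _
    rw [Set.image_preimage_eq_inter_range, Set.inter_eq_left]
    exact hD a ha
  let e : ∀ a ∈ t, (Xa a).toScheme ≅ Spec (CommRingCat.of (Localization.Away a)) := fun a ha =>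
    IsOpenImmersion.isoOfRangeEq ((Xa a).ι ≫ j₀) (Spec.map (la a)) (hrange a ha)
  have he : ∀ a (ha : a ∈ t), (e a ha).hom ≫ Spec.map (la a) = (Xa a).ι ≫ j₀ := fun a ha =>
    IsOpenImmersion.isoOfRangeEq_hom_fac _ _ _
  -- finite type of the localizations
  have hft : ∀ i : t, Algebra.FiniteType R (Localization.Away (i : A)) := by
    rintro ⟨a, ha⟩
    have h1 : LocallyOfFiniteType ((Xa a).ι ≫ j₀ ≫ Spec.map φ) := inferInstance
    rw [← Category.assoc, ← he a ha, Category.assoc, ← Spec.map_comp] at h1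
    have h2 : LocallyOfFiniteType (Spec.map (φ ≫ la a)) :=
      (MorphismProperty.cancel_left_of_respectsIso @LocallyOfFiniteType (e a ha).hom _).mp h1
    have h3 := (HasRingHomProperty.Spec_iff (P := @LocallyOfFiniteType)).mp h2
    have h4 : (φ ≫ la a).hom = algebraMap R (Localization.Away a) := by
      rw [IsScalarTower.algebraMap_eq R A (Localization.Away a)]
      rfl
    rw [h4] at h3
    exact RingHom.finiteType_algebraMap.mp h3
  obtain ⟨B, hBfin, hB⟩ := exists_finite_subalgebra (R := R) (A := A) (fun i : t => (i : A)) hft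
  let ψ₁ : R ⟶ CommRingCat.of B := CommRingCat.ofHom (algebraMap R B)
  let ψ₂ : CommRingCat.of B ⟶ A := CommRingCat.ofHom B.val.toRingHom
  have hpiece : ∀ a ∈ t, IsOpenImmersion ((Xa a).ι ≫ j₀ ≫ Spec.map ψ₂) := by
    intro a ha
    obtain ⟨hb, hloc⟩ := hB ⟨a, ha⟩
    letI : Algebra B (Localization.Away a) :=
      ((algebraMap A (Localization.Away a)).comp B.val.toRingHom).toAlgebra
    haveI : IsLocalization.Away (⟨a, hb⟩ : B) (Localization.Away a) := hloc
    have h1 : IsOpenImmersion (Spec.map (CommRingCat.ofHom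
        (algebraMap B (Localization.Away a)))) :=
      IsOpenImmersion.of_isLocalization (⟨a, hb⟩ : B)
    have h2 : CommRingCat.ofHom (algebraMap B (Localization.Away a)) = ψ₂ ≫ la a := rfl
    rw [h2, Spec.map_comp] at h1
    rw [← Category.assoc, ← he a ha, Category.assoc]
    infer_instance
  have hcomap : ∀ (p : Spec A) (b : B), b ∈ (Spec.map ψ₂ p).asIdeal ↔ (b : A) ∈ p.asIdeal :=
    fun p b => Iff.rfl
  refine ⟨CommRingCat.of B, ψ₁, ψ₂, ?_, ?_, Subtype.val_injective, ?_⟩
  · ext r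
    rfl
  · exact RingHom.finite_algebraMap.mpr hBfin
  · apply IsOpenImmersion.of_forall_source_exists
    · intro x y hxy
      obtain ⟨a, ha, hax⟩ := (hmem (j₀ x)).mp ⟨x, rfl⟩
      obtain ⟨hb, -⟩ := hB ⟨a, ha⟩
      have hay : a ∉ (j₀ y).asIdeal := by
        intro hay
        apply hax
        have h1 : (⟨a, hb⟩ : B) ∈ (Spec.map ψ₂ (j₀ y)).asIdeal := (hcomap _ _).mpr hay
        have h2 : Spec.map ψ₂ (j₀ x) = Spec.map ψ₂ (j₀ y) := by
          simpa [Scheme.Hom.comp_apply] using hxy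
        rw [← h2] at h1
        exact (hcomap _ _).mp h1
      haveI := hpiece a ha
      have hinj := ((Xa a).ι ≫ j₀ ≫ Spec.map ψ₂).isOpenEmbedding.injective
      have hx' : x ∈ Xa a := hax
      have hy' : y ∈ Xa a := hay
      have := @hinj ⟨x, hx'⟩ ⟨y, hy'⟩ (by simpa [Scheme.Hom.comp_apply] using hxy)
      exact congrArg Subtype.val this
    · intro x
      obtain ⟨a, ha, hax⟩ := (hmem (j₀ x)).mp ⟨x, rfl⟩
      refine ⟨(Xa a).toScheme, (Xa a).ι, inferInstance, ?_, hpiece a ha⟩
      rw [Scheme.Opens.opensRange_ι]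
      exact hax

end Groth.Agent.Lib.Helper13.ZMTFin

namespace Groth.Agent.Lib.Helper13.ZMTFin

theorem isDominant_SpecMap_of_injective {B A : CommRingCat.{u}} (ψ : B ⟶ A)
    (h : Function.Injective ψ.hom) : IsDominant (Spec.map ψ) := by
  refine ⟨?_⟩
  have : DenseRange (PrimeSpectrum.comap ψ.hom) := by
    rw [PrimeSpectrum.denseRange_comap_iff_ker_le_nilRadical,
      (RingHom.injective_iff_ker_eq_bot _).mp h]
    exact bot_le
  exact this

/-- **Zariski's main theorem, finite form, over an affine base.** -/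
theorem exists_finite_factorization_of_isAffine {X S : Scheme.{u}} [IsAffine S] (f : X ⟶ S)
    [LocallyQuasiFinite f] [LocallyOfFiniteType f] [QuasiCompact f] [IsSeparated f] :
    ∃ (T : Scheme.{u}) (j : X ⟶ T) (π : T ⟶ S), IsOpenImmersion j ∧ IsDominant j ∧ IsFinite π ∧
      j ≫ π = f := by
  haveI : CompactSpace X := QuasiCompact.compactSpace_of_compactSpace f
  haveI : IsAffine f.normalization := isAffine_of_isAffineHom f.fromNormalization
  let N := f.normalization
  let φ : Γ(S, ⊤) ⟶ Γ(N, ⊤) := f.fromNormalization.appTop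
  have hφ : φ.hom.IsIntegral := f.fromNormalization.isIntegral_app ⊤ (isAffineOpen_top S)
  let j₀ : X ⟶ Spec Γ(N, ⊤) := f.toNormalization ≫ N.isoSpec.hom
  have hj₀ : j₀ ≫ Spec.map φ = f ≫ S.isoSpec.hom := by
    simp only [j₀, φ, Category.assoc]
    rw [Scheme.isoSpec_hom_naturality, ← Category.assoc, f.toNormalization_fromNormalization]
  haveI : LocallyOfFiniteType (j₀ ≫ Spec.map φ) := by
    rw [hj₀]
    infer_instance
  obtain ⟨B, ψ₁, ψ₂, hψ, hfin, hinj, hopen⟩ := exists_finite_factor_of_openImmersion_Spec φ hφ j₀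
  haveI := isDominant_SpecMap_of_injective ψ₂ hinj
  haveI : IsFinite (Spec.map ψ₁) := (IsFinite.SpecMap_iff ψ₁).mpr hfin
  refine ⟨Spec B, j₀ ≫ Spec.map ψ₂, Spec.map ψ₁ ≫ S.isoSpec.inv, hopen, ?_, inferInstance, ?_⟩
  · dsimp only [j₀]
    infer_instance
  · rw [Category.assoc, ← Spec.map_comp_assoc, hψ, ← Category.assoc, hj₀, Category.assoc,
      Iso.hom_inv_id, Category.comp_id]

end Groth.Agent.Lib.Helper13.ZMTFin
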