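import Groth.Agent.Lib.Helper13.LimDescendCore
import Groth.Agent.S9200

/-! Core descent statement for affine morphisms. -/

set_option autoImplicit false
universe u

open CategoryTheory CategoryTheory.Limits AlgebraicGeometry

namespace Groth.Agent.Lib.Helper13.LimDescend

open Groth.Agent.Lib.Helper22

section
variable {J : Type u} [SmallCategory J] (E : J ⥤ Scheme.{u}) (e : Cone E)

instance bcDiag_quasiSeparatedSpace [∀ (i j : J) (f : i ⟶ j), IsAffineHom (E.map f)]
    (j₀ : J) {T : Scheme.{u}} (a : T ⟶ E.obj j₀) [QuasiSeparatedSpace T] (k : Over j₀) :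
    QuasiSeparatedSpace ((bcDiag E j₀ a).obj k) := by
  rw [bcDiag_obj]
  have : IsAffineHom (pullback.snd (E.map k.hom) a) :=
    MorphismProperty.pullback_snd (P := @IsAffineHom) _ _ inferInstance
  exact quasiSeparatedSpace_of_quasiSeparated (pullback.snd (E.map k.hom) a)

/-- The structure maps of the base-changed diagram to the fixed stage. -/
noncomputable def bcStr (j₀ : J) {T : Scheme.{u}} (a : T ⟶ E.obj j₀) :
    bcDiag E j₀ a ⟶ (Functor.const (Over j₀)).obj (E.obj j₀) where
  app k := pullback.snd (E.map k.hom) a ≫ a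
  naturality k₁ k₂ f := by
    simp only [Functor.const_obj_obj, Functor.const_obj_map, Category.comp_id]
    rw [← Category.assoc, bcDiag_map_snd]

lemma bcStr_app (j₀ : J) {T : Scheme.{u}} (a : T ⟶ E.obj j₀) (k : Over j₀) :
    (bcStr E j₀ a).app k = pullback.fst (E.map k.hom) a ≫ E.map k.hom :=
  pullback.condition.symm

end

variable {J : Type u} [SmallCategory J] [IsCofiltered J] (E : J ⥤ Scheme.{u}) (e : Cone E)
  (he : IsLimit e)

include he in
theorem core_isAffineHom [∀ (i j : J) (f : i ⟶ j), IsAffineHom (E.map f)] (j₀ : J)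
    [CompactSpace (E.obj j₀)] [QuasiSeparatedSpace (E.obj j₀)]
    {X₀ : Scheme.{u}} [CompactSpace X₀] [QuasiSeparatedSpace X₀] (a : X₀ ⟶ E.obj j₀)
    (h : IsAffineHom (pullback.fst (e.π.app j₀) a)) :
    ∃ (j : J) (ψ : j ⟶ j₀), IsAffineHom (pullback.fst (E.map ψ) a) := by
  haveI : ∀ {i j : J} (f : i ⟶ j), IsAffineHom (E.map f) := fun f => inferInstance
  have hπ : IsAffineHom (e.π.app j₀) := isAffineHom_π_app E e he j₀
  have hcomp : IsAffineHom ((bcCone E e j₀ a).π.app (top j₀) ≫ (bcStr E j₀ a).app (top j₀)) := by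
    have : (bcCone E e j₀ a).π.app (top j₀) ≫ (bcStr E j₀ a).app (top j₀) =
        pullback.fst (e.π.app j₀) a ≫ e.π.app j₀ := by
      change (bcCone E e j₀ a).π.app (top j₀) ≫ pullback.snd (E.map (top j₀).hom) a ≫ a = _
      rw [← Category.assoc, bcCone_π_snd]
      exact pullback.condition.symm
    rw [this]
    exact @instIsAffineHomCompScheme _ _ _ _ _ h hπ
  obtain ⟨k₁, hk₁⟩ := Groth.Agent.S9200.result (E.obj j₀) (bcDiag E j₀ a) (bcStr E j₀ a)
    (bcCone E e j₀ a) (bcIsLimit E he j₀ a) (top j₀)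
  have h1 := hk₁ k₁ (𝟙 _)
  rw [bcStr_app] at h1
  have hsep : IsSeparated (E.map k₁.hom) := inferInstance
  exact ⟨k₁.left, k₁.hom, @IsAffineHom.of_comp _ _ _ (pullback.fst (E.map k₁.hom) a) (E.map k₁.hom) h1 hsep⟩

end Groth.Agent.Lib.Helper13.LimDescend
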