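import Groth.Agent.Lib.Helper13.LimDescendIso2

/-! Descent of closed immersions along cofiltered limits with affine transition maps. -/

set_option autoImplicit false
universe u v

open CategoryTheory CategoryTheory.Limits AlgebraicGeometry

namespace Groth.Agent.Lib.Helper13.LimDescend

open Groth.Agent.Lib.Helper22

section appTop

theorem appTop_comp_apply {X Y Z : Scheme.{u}} (f : X ⟶ Y) (g : Y ⟶ Z) (x : Γ(Z, ⊤)) :
    f.appTop.hom (g.appTop.hom x) = (f ≫ g).appTop.hom x := by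
  rw [Scheme.Hom.comp_appTop]; rfl

theorem appTop_congr {X Y : Scheme.{u}} {f g : X ⟶ Y} (h : f = g) (x : Γ(Y, ⊤)) :
    f.appTop.hom x = g.appTop.hom x := by rw [h]

theorem appTop_sub_apply {P Q A B : Scheme.{u}} (π : P ⟶ Q) (f₁ : Q ⟶ A) (s₁ : Q ⟶ B)
    (F : P ⟶ A) (S : P ⟶ B) (h1 : π ≫ f₁ = F) (h2 : π ≫ s₁ = S) (r : Γ(A, ⊤)) (b : Γ(B, ⊤)) :
    π.appTop.hom (f₁.appTop.hom r - s₁.appTop.hom b) = F.appTop.hom r - S.appTop.hom b := by
  subst h1 h2
  rw [map_sub, appTop_comp_apply, appTop_comp_apply]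

theorem appTop_mem_range_of_comp {P Q A A' B : Scheme.{u}} (π : P ⟶ Q) (f₁ : Q ⟶ A)
    (s₁ : Q ⟶ B) (F : P ⟶ A') (t : A' ⟶ A) (S : P ⟶ B) (h1 : π ≫ f₁ = F ≫ t) (h2 : π ≫ s₁ = S)
    (b : Γ(B, ⊤)) (hb : s₁.appTop.hom b ∈ Set.range f₁.appTop.hom) :
    S.appTop.hom b ∈ Set.range F.appTop.hom := by
  obtain ⟨r, hr⟩ := hb
  refine ⟨t.appTop.hom r, ?_⟩
  rw [appTop_comp_apply, ← h1, ← appTop_comp_apply, hr, appTop_comp_apply, h2]

end appTop

section affinecase

variable {J : Type u} [SmallCategory J] [IsCofiltered J] (E : J ⥤ Scheme.{u}) (e : Cone E)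
  (he : IsLimit e)

include he in
/-- One section: if `R∞ → B∞` is surjective, the pullback of a section `b` of `X₀` to some stage
comes from the base. -/
theorem exists_appTop_mem_range [∀ (i j : J) (f : i ⟶ j), IsAffineHom (E.map f)] (j₀ : J)
    [IsAffine (E.obj j₀)] {X₀ : Scheme.{u}} [IsAffine X₀] (a : X₀ ⟶ E.obj j₀)
    (hs : Function.Surjective (pullback.fst (e.π.app j₀) a).appTop.hom) (b : Γ(X₀, ⊤)) :
    ∃ k : Over j₀, (pullback.snd (E.map k.hom) a).appTop.hom b ∈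
      Set.range (pullback.fst (E.map k.hom) a).appTop.hom := by
  haveI : ∀ {i j : J} (f : i ⟶ j), IsAffineHom (E.map f) := fun f => inferInstance
  let 𝒴 : Over j₀ ⥤ Scheme.{u} := Over.forget j₀ ⋙ E
  let cY : Cone 𝒴 := e.whisker (Over.forget j₀)
  have hcY : IsLimit cY := (Functor.Initial.isLimitWhiskerEquiv (Over.forget j₀) e).symm he
  haveI : ∀ k : Over j₀, IsAffine (𝒴.obj k) := fun k => by
    change IsAffine (E.obj k.left)
    exact isAffine_of_isAffineHom (E.map k.hom)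
  haveI : ∀ k : Over j₀, IsAffine ((bcDiag E j₀ a).obj k) := fun k => by
    change IsAffine (pullback (E.map k.hom) a)
    infer_instance
  obtain ⟨r', hr'⟩ := hs ((pullback.snd (e.π.app j₀) a).appTop.hom b)
  obtain ⟨k₁, r, hr⟩ := exists_appTop_π_eq_of_isAffine_of_isLimit 𝒴 cY hcY r'
  replace hr : (e.π.app k₁.left).appTop.hom r = r' := hr
  let fst₁ : (bcDiag E j₀ a).obj k₁ ⟶ E.obj k₁.left := pullback.fst (E.map k₁.hom) a
  let snd₁ : (bcDiag E j₀ a).obj k₁ ⟶ X₀ := pullback.snd (E.map k₁.hom) a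
  let y : Γ((bcDiag E j₀ a).obj k₁, ⊤) := fst₁.appTop.hom r - snd₁.appTop.hom b
  have hy : ((bcCone E e j₀ a).π.app k₁).appTop.hom y = 0 := by
    have h0 := appTop_sub_apply ((bcCone E e j₀ a).π.app k₁) fst₁ snd₁
      (pullback.fst (e.π.app j₀) a ≫ e.π.app k₁.left) (pullback.snd (e.π.app j₀) a)
      (bcCone_π_fst E e j₀ a k₁) (bcCone_π_snd E e j₀ a k₁) r b
    have h6 : (pullback.fst (e.π.app j₀) a ≫ e.π.app k₁.left).appTop.hom r =
        (pullback.snd (e.π.app j₀) a).appTop.hom b := by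
      rw [← appTop_comp_apply, hr, hr']
    exact h0.trans (sub_eq_zero.mpr h6)
  obtain ⟨k₂, φ, hφ⟩ := exists_appTop_map_eq_zero_of_isAffine_of_isLimit (bcDiag E j₀ a)
    (bcCone E e j₀ a) (bcIsLimit E he j₀ a) k₁ y hy
  replace hφ : ((bcDiag E j₀ a).map φ).appTop.hom y = 0 := hφ
  refine ⟨k₂, (E.map φ.left).appTop.hom r, ?_⟩
  have h0 := appTop_sub_apply ((bcDiag E j₀ a).map φ) fst₁ snd₁
    (pullback.fst (E.map k₂.hom) a ≫ E.map φ.left) (pullback.snd (E.map k₂.hom) a)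
    (bcDiag_map_fst E j₀ a φ) (bcDiag_map_snd E j₀ a φ) r b
  have h5 : (pullback.fst (E.map k₂.hom) a ≫ E.map φ.left).appTop.hom r -
      (pullback.snd (E.map k₂.hom) a).appTop.hom b = 0 := h0.symm.trans hφ
  rw [sub_eq_zero, ← appTop_comp_apply] at h5
  exact h5

include he in
/-- Descent of closed immersions, affine case. -/
theorem core_isClosedImmersion_affine [∀ (i j : J) (f : i ⟶ j), IsAffineHom (E.map f)] (j₀ : J)
    [IsAffine (E.obj j₀)] {X₀ : Scheme.{u}} [IsAffine X₀] (a : X₀ ⟶ E.obj j₀)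
    [LocallyOfFiniteType a] (h : IsClosedImmersion (pullback.fst (e.π.app j₀) a)) :
    ∃ (j : J) (ψ : j ⟶ j₀), IsClosedImmersion (pullback.fst (E.map ψ) a) := by
  classical
  haveI : ∀ {i j : J} (f : i ⟶ j), IsAffineHom (E.map f) := fun f => inferInstance
  haveI hπ : IsAffineHom (e.π.app j₀) := isAffineHom_π_app E e he j₀
  haveI hept : IsAffine e.pt := isAffine_of_isAffineHom (e.π.app j₀)
  haveI : IsAffine (((Functor.const J).obj e.pt).obj j₀) := hept
  haveI : IsAffine (pullback (e.π.app j₀) a) := inferInstance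
  have hs : Function.Surjective (pullback.fst (e.π.app j₀) a).appTop.hom :=
    ((HasAffineProperty.iff_of_isAffine (P := @IsClosedImmersion)).mp h).2
  have hft : RingHom.FiniteType a.appTop.hom :=
    (HasRingHomProperty.iff_of_isAffine (P := @LocallyOfFiniteType)).mp inferInstance
  algebraize [a.appTop.hom]
  obtain ⟨s, hs'⟩ := (Algebra.FiniteType.out : (⊤ : Subalgebra Γ(E.obj j₀, ⊤) Γ(X₀, ⊤)).FG)
  choose kb hkb using fun b : Γ(X₀, ⊤) => exists_appTop_mem_range E e he j₀ a hs b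
  obtain ⟨k, hk⟩ := IsCofiltered.inf_objs_exists (s.image kb)
  haveI : IsAffine (E.obj k.left) := isAffine_of_isAffineHom (E.map k.hom)
  have hmem : ∀ b ∈ s, (pullback.snd (E.map k.hom) a).appTop.hom b ∈
      (pullback.fst (E.map k.hom) a).appTop.hom.range := by
    intro b hb
    obtain ⟨φ⟩ := hk (Finset.mem_image_of_mem kb hb)
    exact appTop_mem_range_of_comp ((bcDiag E j₀ a).map φ) (pullback.fst (E.map (kb b).hom) a)
      (pullback.snd (E.map (kb b).hom) a) (pullback.fst (E.map k.hom) a) (E.map φ.left)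
      (pullback.snd (E.map k.hom) a) (bcDiag_map_fst E j₀ a φ) (bcDiag_map_snd E j₀ a φ) b (hkb b)
  have hall : ∀ x : Γ(X₀, ⊤), (pullback.snd (E.map k.hom) a).appTop.hom x ∈
      (pullback.fst (E.map k.hom) a).appTop.hom.range := by
    intro x
    have hx : x ∈ Algebra.adjoin Γ(E.obj j₀, ⊤) (s : Set Γ(X₀, ⊤)) := by rw [hs']; trivial
    induction hx using Algebra.adjoin_induction with
    | mem x hx => exact hmem x hx
    | algebraMap r =>
      refine ⟨(E.map k.hom).appTop.hom r, ?_⟩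
      change _ = (pullback.snd (E.map k.hom) a).appTop.hom (a.appTop.hom r)
      rw [appTop_comp_apply, appTop_comp_apply, pullback.condition]
    | add x y _ _ hx hy => rw [map_add]; exact add_mem hx hy
    | mul x y _ _ hx hy => rw [map_mul]; exact mul_mem hx hy
  have hpush := isPushout_appTop_of_isPullback (IsPullback.of_hasPullback (E.map k.hom) a)
  have hcl := CommRingCat.closure_range_union_range_eq_top_of_isPushout hpush
  have htop : (pullback.fst (E.map k.hom) a).appTop.hom.range = ⊤ := by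
    rw [eq_top_iff, ← hcl, Subring.closure_le]
    rintro x (⟨r, rfl⟩ | ⟨b, rfl⟩)
    · exact ⟨r, rfl⟩
    · exact hall b
  exact ⟨k.left, k.hom, IsClosedImmersion.of_surjective_of_isAffine _
    (RingHom.range_eq_top.mp htop)⟩

end affinecase

section general

variable {J : Type u} [SmallCategory J] [IsCofiltered J] (E : J ⥤ Scheme.{u}) (e : Cone E)
  (he : IsLimit e)

include he in
/-- Descent of closed immersions for an affine morphism `a` into a quasi-compact stage. -/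
theorem core_isClosedImmersion_of_isAffineHom [∀ (i j : J) (f : i ⟶ j), IsAffineHom (E.map f)]
    (j₀ : J) [CompactSpace (E.obj j₀)] {X₀ : Scheme.{u}} (a : X₀ ⟶ E.obj j₀) [IsAffineHom a]
    [LocallyOfFiniteType a] (h : IsClosedImmersion (pullback.fst (e.π.app j₀) a)) :
    ∃ (j : J) (ψ : j ⟶ j₀), IsClosedImmersion (pullback.fst (E.map ψ) a) := by
  let 𝒰 := (E.obj j₀).affineCover.finiteSubcover
  haveI : ∀ t, IsAffine (𝒰.X t) := fun t => by
    change IsAffine ((E.obj j₀).affineCover.X _)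
    infer_instance
  suffices H : ∀ t, ∃ m : Over j₀, IsClosedImmersion
      (pullback.fst (pullback.fst (E.map m.hom) (𝒰.f t) ≫ E.map m.hom) a) by
    obtain ⟨m, hm⟩ := exists_of_openCover E @IsClosedImmersion j₀ a 𝒰 H
    exact ⟨m.left, m.hom, hm⟩
  intro t
  refine piece_of_core E e @IsClosedImmersion j₀ a (𝒰.f t) h ?_
  intro h'
  haveI : ∀ (k k' : Over j₀) (φ : k ⟶ k'), IsAffineHom ((bcDiag E j₀ (𝒰.f t)).map φ) :=
    fun _ _ φ => inferInstance
  haveI : IsAffine ((bcDiag E j₀ (𝒰.f t)).obj (top j₀)) := isAffine_bcDiag_top E j₀ (𝒰.f t)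
  let a' : pullback (pullback.snd (E.map (top j₀).hom) (𝒰.f t) ≫ 𝒰.f t) a ⟶
      (bcDiag E j₀ (𝒰.f t)).obj (top j₀) :=
    pullback.fst (pullback.snd (E.map (top j₀).hom) (𝒰.f t) ≫ 𝒰.f t) a
  haveI : IsAffineHom a' := MorphismProperty.pullback_fst (P := @IsAffineHom) _ _ inferInstance
  haveI : LocallyOfFiniteType a' :=
    MorphismProperty.pullback_fst (P := @LocallyOfFiniteType) _ _ inferInstance
  haveI : IsAffine (pullback (pullback.snd (E.map (top j₀).hom) (𝒰.f t) ≫ 𝒰.f t) a) :=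
    isAffine_of_isAffineHom a'
  exact core_isClosedImmersion_affine (bcDiag E j₀ (𝒰.f t)) (bcCone E e j₀ (𝒰.f t))
    (bcIsLimit E he j₀ (𝒰.f t)) (top j₀) a' h'

include he in
/-- Core descent statement for closed immersions. -/
theorem core_isClosedImmersion [∀ (i j : J) (f : i ⟶ j), IsAffineHom (E.map f)] (j₀ : J)
    [CompactSpace (E.obj j₀)] [QuasiSeparatedSpace (E.obj j₀)]
    {X₀ : Scheme.{u}} [CompactSpace X₀] [QuasiSeparatedSpace X₀] (a : X₀ ⟶ E.obj j₀)
    [LocallyOfFiniteType a] (h : IsClosedImmersion (pullback.fst (e.π.app j₀) a)) :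
    ∃ (j : J) (ψ : j ⟶ j₀), IsClosedImmersion (pullback.fst (E.map ψ) a) := by
  obtain ⟨j₁, ψ₁, h₁⟩ := core_isAffineHom E e he j₀ a inferInstance
  let a₁ : pullback (E.map ψ₁) a ⟶ E.obj j₁ := pullback.fst (E.map ψ₁) a
  haveI : IsAffineHom a₁ := h₁
  haveI : LocallyOfFiniteType a₁ :=
    MorphismProperty.pullback_fst (P := @LocallyOfFiniteType) _ _ inferInstance
  haveI : CompactSpace (E.obj j₁) := QuasiCompact.compactSpace_of_compactSpace (E.map ψ₁)
  have h' : IsClosedImmersion (pullback.fst (e.π.app j₁) a₁) :=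
    (fst_fst_iff' @IsClosedImmersion (e.π.app j₁) (E.map ψ₁) a (e.π.app j₀) (e.w ψ₁)).mpr h
  obtain ⟨j, ψ, hj⟩ := core_isClosedImmersion_of_isAffineHom E e he j₁ a₁ h'
  exact ⟨j, ψ ≫ ψ₁, (fst_fst_iff' @IsClosedImmersion (E.map ψ) (E.map ψ₁) a
    (E.map (ψ ≫ ψ₁)) (E.map_comp _ _).symm).mp hj⟩

end general

end Groth.Agent.Lib.Helper13.LimDescend
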