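import Groth.Agent.Lib.Helper22.LimBaseChange

/-! Generic reduction for "descent of a property to a finite stage" statements
(EGA IV 8.10.5 shape) to a core statement about the base-changed diagram. -/

set_option autoImplicit false
universe u

open CategoryTheory CategoryTheory.Limits AlgebraicGeometry

namespace Groth.Agent.Lib.Helper13.LimDescend

open Groth.Agent.Lib.Helper22

variable {I : Type u} [SmallCategory I] (D : I ⥤ Scheme.{u}) (c : Cone D)

/-- The terminal index of `Over i₀`. -/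
abbrev top (i₀ : I) : Over i₀ := Over.mk (𝟙 i₀)

instance isIso_snd_top (i₀ : I) {Y₀ : Scheme.{u}} (g₀ : Y₀ ⟶ D.obj i₀) :
    IsIso (pullback.snd (D.map (top i₀).hom) g₀) := by
  have : IsIso (D.map (top i₀).hom) := by
    change IsIso (D.map (𝟙 i₀)); infer_instance
  infer_instance

/-- Generic reduction: the statement for the property `P` follows from the core statement for
the base-changed diagram `bcDiag D i₀ g₀` over `Over i₀`. -/
theorem descend_of_core (P : MorphismProperty Scheme.{u}) [P.RespectsIso]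
    (i₀ : I) {X₀ Y₀ : Scheme.{u}} (f₀ : X₀ ⟶ Y₀) (g₀ : Y₀ ⟶ D.obj i₀)
    (core : ∀ (a : X₀ ⟶ (bcDiag D i₀ g₀).obj (top i₀)),
      a ≫ pullback.snd (D.map (top i₀).hom) g₀ = f₀ →
      P (pullback.fst ((bcCone D c i₀ g₀).π.app (top i₀)) a) →
      ∃ (j : Over i₀) (ψ : j ⟶ top i₀), P (pullback.fst ((bcDiag D i₀ g₀).map ψ) a))
    {X Y : Scheme.{u}} (f : X ⟶ Y) (g : Y ⟶ c.pt) (qY : Y ⟶ Y₀) (qX : X ⟶ X₀)
    (hY : IsPullback qY g g₀ (c.π.app i₀)) (hX : IsPullback qX f f₀ qY) (hf : P f) :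
    ∃ (i : I) (φ : i ⟶ i₀) (Xi Yi : Scheme.{u}) (fi : Xi ⟶ Yi) (gi : Yi ⟶ D.obj i) (pY : Yi ⟶ Y₀)
      (pX : Xi ⟶ X₀), IsPullback pY gi g₀ (D.map φ) ∧ IsPullback pX fi f₀ pY ∧ P fi := by
  let σ : (bcDiag D i₀ g₀).obj (top i₀) ⟶ Y₀ := pullback.snd (D.map (top i₀).hom) g₀
  haveI hσiso : IsIso σ := isIso_snd_top D i₀ g₀
  let a : X₀ ⟶ (bcDiag D i₀ g₀).obj (top i₀) := f₀ ≫ inv σ
  have haσ : a ≫ σ = f₀ := by simp [a]
  let ιY : Y ≅ pullback (c.π.app i₀) g₀ := hY.flip.isoPullback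
  have hιY : ιY.hom ≫ pullback.snd (c.π.app i₀) g₀ = qY := hY.flip.isoPullback_hom_snd
  let π₀ : pullback (c.π.app i₀) g₀ ⟶ (bcDiag D i₀ g₀).obj (top i₀) :=
    (bcCone D c i₀ g₀).π.app (top i₀)
  have hπ₀ : π₀ ≫ σ = pullback.snd (c.π.app i₀) g₀ := bcCone_π_snd D c i₀ g₀ (top i₀)
  have pb1 : IsPullback qX (f ≫ ιY.hom) a π₀ := by
    refine IsPullback.of_iso hX (Iso.refl _) (Iso.refl _) ιY (asIso σ).symm (by simp) (by simp)
      (by simp [a]) ?_
    change qY ≫ inv σ = ιY.hom ≫ π₀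
    rw [IsIso.comp_inv_eq, Category.assoc, hπ₀, hιY]
  have hP1 : P (pullback.fst π₀ a) := by
    have e1 : pb1.flip.isoPullback.hom ≫ pullback.fst _ _ = f ≫ ιY.hom :=
      pb1.flip.isoPullback_hom_fst
    have e2 : pullback.fst π₀ a = pb1.flip.isoPullback.inv ≫ f ≫ ιY.hom :=
      (Iso.inv_comp_eq _).mpr e1.symm |>.symm
    rw [e2, P.cancel_left_of_respectsIso, P.cancel_right_of_respectsIso]
    exact hf
  obtain ⟨j, ψ, hP2⟩ := core a haσ hP1
  refine ⟨j.left, j.hom, pullback ((bcDiag D i₀ g₀).map ψ) a, (bcDiag D i₀ g₀).obj j,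
    pullback.fst ((bcDiag D i₀ g₀).map ψ) a, pullback.fst (D.map j.hom) g₀,
    pullback.snd (D.map j.hom) g₀, pullback.snd ((bcDiag D i₀ g₀).map ψ) a, ?_, ?_, hP2⟩
  · exact (IsPullback.of_hasPullback (D.map j.hom) g₀).flip
  · refine IsPullback.of_iso (IsPullback.of_hasPullback ((bcDiag D i₀ g₀).map ψ) a).flip
      (Iso.refl _) (Iso.refl _) (Iso.refl _) (asIso σ) (by simp) (by simp) ?_ ?_
    · simpa using haσ
    · simp only [asIso_hom, Iso.refl_hom, Category.id_comp]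
      exact bcDiag_map_snd D i₀ g₀ ψ

end Groth.Agent.Lib.Helper13.LimDescend
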