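import Mathlib
import Groth.Agent.Lib.Helper25.ConsPairLim
import Groth.Agent.Lib.lead.LimProper

/-!
# Spreading out a property from `Spec 𝒪_{S,s}` to a neighbourhood of `s` (helper13)

`S` locally Noetherian, `X ⟶ Y ⟶ S` of finite presentation, `P` a property of morphisms that is
stable under base change and descends along cofiltered limits (`Descends P`, helper25's shape).
If the base change of `f : X ⟶ Y` to `Spec 𝒪_{S,s}` has `P`, then `f` has `P` over an open
neighbourhood of `s`.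
-/

set_option autoImplicit false
set_option linter.unusedSectionVars false
set_option linter.unusedVariables false
set_option linter.style.haveILetI false
universe u

open CategoryTheory CategoryTheory.Limits AlgebraicGeometry

namespace Groth.Agent.Lib.Helper13.StalkSpread

open Groth.Agent.Lib.Helper25.ConsPair

/-- a restriction of `f` that factors through a base change with `P` has `P` -/
theorem morphismRestrict_of_isPullback (P : MorphismProperty Scheme.{u}) [P.IsStableUnderBaseChange]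
    {X Y Xi Yi : Scheme.{u}} (f : X ⟶ Y) (fi : Xi ⟶ Yi) (hX' : Xi ⟶ X) (hY' : Yi ⟶ Y)
    (sq : IsPullback hX' fi f hY') (V : Y.Opens) (a : V.toScheme ⟶ Yi) (ha : a ≫ hY' = V.ι)
    (hfi : P fi) : P (f ∣_ V) := by
  have big : IsPullback (f ⁻¹ᵁ V).ι (f ∣_ V) f V.ι := (isPullback_morphismRestrict f V).flip
  have w : (f ⁻¹ᵁ V).ι ≫ f = ((f ∣_ V) ≫ a) ≫ hY' := by
    rw [Category.assoc, ha]; exact big.w
  let l : (f ⁻¹ᵁ V).toScheme ⟶ Xi := sq.lift (f ⁻¹ᵁ V).ι ((f ∣_ V) ≫ a) w
  have hl1 : l ≫ hX' = (f ⁻¹ᵁ V).ι := sq.lift_fst _ _ _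
  have hl2 : l ≫ fi = (f ∣_ V) ≫ a := sq.lift_snd _ _ _
  have big' : IsPullback (l ≫ hX') (f ∣_ V) f (a ≫ hY') := by rw [hl1, ha]; exact big
  have left : IsPullback l (f ∣_ V) fi a := IsPullback.of_right big' hl2 sq
  exact MorphismProperty.of_isPullback left hfi

/-- proper morphisms descend, in helper25's shape -/
theorem descends_isProper : Descends.{u} @IsProper.{u} := by
  intro I _ _ D c hc _ i₀ _ X₀ Y₀ f₀ g₀ _ _ _ _ _ _ _ _ _ _ _ X Y f g qY qX hY hX hf
  haveI : IsProper f := hf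
  exact Groth.Agent.Lib.lead.LimProper.descend_isProper D c hc i₀ f₀ g₀ f g qY qX hY hX

section setup

variable {S : Scheme.{u}} (s : S) {U : S.Opens} (hU : IsAffineOpen U) (hsU : s ∈ U)

/-- the stalk as an algebra over the sections on an affine neighbourhood -/
@[reducible] noncomputable def germAlg : Algebra Γ(S, U) (S.presheaf.stalk s) :=
  (S.presheaf.germ U s hsU).hom.toAlgebra

/-- structure map of a stage to `S` -/
noncomputable def stageStr (t : (Finset (S.presheaf.stalk s))ᵒᵖ) :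
    letI := germAlg s hsU
    (specDiag Γ(S, U) (S.presheaf.stalk s)).obj t ⟶ S :=
  letI := germAlg s hsU
  specStr Γ(S, U) (S.presheaf.stalk s) t ≫ hU.fromSpec

lemma stageStr_map {t t' : (Finset (S.presheaf.stalk s))ᵒᵖ} (φ : t ⟶ t') :
    letI := germAlg s hsU
    (specDiag Γ(S, U) (S.presheaf.stalk s)).map φ ≫ stageStr s hU hsU t' = stageStr s hU hsU t := by
  letI := germAlg s hsU
  unfold stageStr
  rw [← Category.assoc, specDiag_map_str]

/-- the cone legs, with source written as `Spec` of the stalk -/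
noncomputable def leg (t : (Finset (S.presheaf.stalk s))ᵒᵖ) :
    letI := germAlg s hsU
    Spec (S.presheaf.stalk s) ⟶ (specDiag Γ(S, U) (S.presheaf.stalk s)).obj t :=
  letI := germAlg s hsU
  (specCone Γ(S, U) (S.presheaf.stalk s)).π.app t

lemma leg_stageStr (t : (Finset (S.presheaf.stalk s))ᵒᵖ) :
    leg s hsU t ≫ stageStr s hU hsU t = S.fromSpecStalk s := by
  letI := germAlg s hsU
  have h1 : leg s hsU t ≫ specStr Γ(S, U) (S.presheaf.stalk s) t =
      Spec.map (S.presheaf.germ U s hsU) :=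
    specCone_π_str Γ(S, U) (S.presheaf.stalk s) t
  calc leg s hsU t ≫ stageStr s hU hsU t
      = (leg s hsU t ≫ specStr Γ(S, U) (S.presheaf.stalk s) t) ≫ hU.fromSpec :=
        (Category.assoc _ _ _).symm
    _ = Spec.map (S.presheaf.germ U s hsU) ≫ hU.fromSpec := by rw [h1]
    _ = S.fromSpecStalk s := hU.fromSpecStalk_eq_fromSpecStalk hsU

instance (t : (Finset (S.presheaf.stalk s))ᵒᵖ) : LocallyOfFiniteType (stageStr s hU hsU t) := by
  letI := germAlg s hsU
  unfold stageStr
  infer_instance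

end setup

set_option maxHeartbeats 1600000 in
theorem exists_nhd_of_stalk (P : MorphismProperty Scheme.{u}) [P.IsStableUnderBaseChange]
    (hP : Descends P) (S : Scheme.{u}) [IsLocallyNoetherian S] {X Y : Scheme.{u}} (f : X ⟶ Y)
    (g : Y ⟶ S) [QuasiCompact g] [QuasiSeparated g] [LocallyOfFinitePresentation g]
    [QuasiCompact (f ≫ g)] [QuasiSeparated (f ≫ g)] [LocallyOfFinitePresentation (f ≫ g)]
    (s : S) (h : P (pullback.snd f (pullback.fst g (S.fromSpecStalk s)))) :
    ∃ W : S.Opens, s ∈ W ∧ P (f ∣_ (g ⁻¹ᵁ W)) := by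
  obtain ⟨_, ⟨U, hU : IsAffineOpen U, rfl⟩, hsU, -⟩ :=
    S.isBasis_affineOpens.exists_subset_of_mem_open (Set.mem_univ s) isOpen_univ
  letI := germAlg s hsU
  let i₀ : (Finset (S.presheaf.stalk s))ᵒᵖ := Opposite.op ∅
  let b₀ : (specDiag Γ(S, U) (S.presheaf.stalk s)).obj i₀ ⟶ S := stageStr s hU hsU i₀
  let rY := pullback.fst g b₀
  let g₀ := pullback.snd g b₀
  let rX := pullback.fst f rY
  let f₀ := pullback.snd f rY
  have hfg : IsPullback rX (f₀ ≫ g₀) (f ≫ g) b₀ :=
    (IsPullback.of_hasPullback f rY).paste_vert (IsPullback.of_hasPullback g b₀)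
  haveI : QuasiCompact (f₀ ≫ g₀) :=
    MorphismProperty.of_isPullback (P := @QuasiCompact) hfg inferInstance
  haveI : QuasiSeparated (f₀ ≫ g₀) :=
    MorphismProperty.of_isPullback (P := @QuasiSeparated) hfg inferInstance
  haveI : LocallyOfFinitePresentation (f₀ ≫ g₀) :=
    MorphismProperty.of_isPullback (P := @LocallyOfFinitePresentation) hfg inferInstance
  haveI : LocallyOfFiniteType f := locallyOfFiniteType_of_comp f g
  haveI : CompactSpace ↥(pullback g b₀) := QuasiCompact.compactSpace_of_compactSpace g₀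
  haveI : QuasiSeparatedSpace ↥(pullback g b₀) := quasiSeparatedSpace_of_quasiSeparated g₀
  haveI : CompactSpace ↥(pullback f rY) := QuasiCompact.compactSpace_of_compactSpace (f₀ ≫ g₀)
  haveI : QuasiSeparatedSpace ↥(pullback f rY) := quasiSeparatedSpace_of_quasiSeparated (f₀ ≫ g₀)
  -- the limit side
  let c := specCone Γ(S, U) (S.presheaf.stalk s)
  let π₀ : Spec (S.presheaf.stalk s) ⟶ (specDiag Γ(S, U) (S.presheaf.stalk s)).obj i₀ :=
    leg s hsU i₀
  have heq : π₀ ≫ b₀ = S.fromSpecStalk s := leg_stageStr s hU hsU i₀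
  let rK := pullback.fst g (S.fromSpecStalk s)
  let gK := pullback.snd g (S.fromSpecStalk s)
  let qY : pullback g (S.fromSpecStalk s) ⟶ pullback g b₀ :=
    pullback.lift rK (gK ≫ π₀) (by rw [Category.assoc, heq]; exact pullback.condition)
  have hqY1 : qY ≫ rY = rK := pullback.lift_fst _ _ _
  have hqY2 : qY ≫ g₀ = gK ≫ π₀ := pullback.lift_snd _ _ _
  have hY : IsPullback qY gK g₀ π₀ := by
    have big : IsPullback (qY ≫ rY) gK g (π₀ ≫ b₀) := by
      rw [hqY1, heq]; exact IsPullback.of_hasPullback g (S.fromSpecStalk s)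
    exact IsPullback.of_right big hqY2 (IsPullback.of_hasPullback g b₀)
  let fK := pullback.snd f rK
  let qX : pullback f rK ⟶ pullback f rY :=
    pullback.lift (pullback.fst f rK) (fK ≫ qY) (by rw [Category.assoc, hqY1]; exact pullback.condition)
  have hqX1 : qX ≫ rX = pullback.fst f rK := pullback.lift_fst _ _ _
  have hqX2 : qX ≫ f₀ = fK ≫ qY := pullback.lift_snd _ _ _
  have hX : IsPullback qX fK f₀ qY := by
    have big : IsPullback (qX ≫ rX) fK f (qY ≫ rY) := by
      rw [hqX1, hqY1]; exact IsPullback.of_hasPullback f rK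
    exact IsPullback.of_right big hqX2 (IsPullback.of_hasPullback f rY)
  obtain ⟨i, φ, Xi, Yi, fi, gi, pY, pX, hpY, hpX, hfi⟩ :=
    hP (specDiag Γ(S, U) (S.presheaf.stalk s)) c (specIsLimit Γ(S, U) (S.presheaf.stalk s)) i₀
      f₀ g₀ fK gK qY qX hY hX h
  -- spreading out the cone leg
  obtain ⟨W, hsW, m, hm1, hm2⟩ := spread_out_of_isGermInjective' (𝟙 S) (stageStr s hU hsU i)
    (leg s hsU i) (by rw [Category.comp_id]; exact leg_stageStr s hU hsU i)
  rw [Category.comp_id] at hm2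
  refine ⟨W, hsW, ?_⟩
  have hbi : (specDiag Γ(S, U) (S.presheaf.stalk s)).map φ ≫ b₀ = stageStr s hU hsU i :=
    stageStr_map s hU hsU φ
  let a₀ : (g ⁻¹ᵁ W).toScheme ⟶ pullback g b₀ :=
    pullback.lift (g ⁻¹ᵁ W).ι ((g ∣_ W) ≫ m ≫ (specDiag Γ(S, U) (S.presheaf.stalk s)).map φ) (by
      rw [Category.assoc, Category.assoc, hbi, hm2, morphismRestrict_ι])
  have ha₀1 : a₀ ≫ rY = (g ⁻¹ᵁ W).ι := pullback.lift_fst _ _ _
  have ha₀2 : a₀ ≫ g₀ = (g ∣_ W) ≫ m ≫ (specDiag Γ(S, U) (S.presheaf.stalk s)).map φ :=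
    pullback.lift_snd _ _ _
  let a : (g ⁻¹ᵁ W).toScheme ⟶ Yi := hpY.lift a₀ ((g ∣_ W) ≫ m) (by rw [ha₀2, Category.assoc])
  have ha : a ≫ pY ≫ rY = (g ⁻¹ᵁ W).ι := by
    rw [← Category.assoc, hpY.lift_fst, ha₀1]
  have sq : IsPullback (pX ≫ rX) fi f (pY ≫ rY) :=
    hpX.paste_horiz (IsPullback.of_hasPullback f rY)
  exact morphismRestrict_of_isPullback P f fi (pX ≫ rX) (pY ≫ rY) sq (g ⁻¹ᵁ W) a ha hfi


end Groth.Agent.Lib.Helper13.StalkSpread
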