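import Mathlib
import Groth.Agent.Lib.Helper13.BCPaste
import Groth.Agent.Lib.Helper13.StalkSpread
import Groth.Agent.Lib.Helper13.ClopenProper
import Groth.Agent.Lib.helper19.CompletionNoetherian

set_option autoImplicit false
set_option linter.unusedSectionVars false
set_option linter.unusedVariables false
set_option linter.style.haveILetI false
universe u

open CategoryTheory CategoryTheory.Limits AlgebraicGeometry TopologicalSpace PrimeSpectrum IsLocalRing

namespace Groth.Agent.Lib.Helper13.ProperNhd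

open Groth.Agent.Lib.Helper13.BCPaste

/-- the completion of the local ring at `y` -/
abbrev Rhat (Y : Scheme.{u}) (y : Y) : Type u :=
  AdicCompletion (maximalIdeal (Y.presheaf.stalk y)) (Y.presheaf.stalk y)

/-- `O_{Y,y} ⟶ R̂` -/
noncomputable abbrev cR (Y : Scheme.{u}) (y : Y) :
    Y.presheaf.stalk y ⟶ CommRingCat.of (Rhat Y y) :=
  CommRingCat.ofHom (algebraMap (Y.presheaf.stalk y) (Rhat Y y))

/-- `Spec R̂ ⟶ Spec O_{Y,y}` -/
noncomputable abbrev cmap (Y : Scheme.{u}) (y : Y) :
    Spec (CommRingCat.of (Rhat Y y)) ⟶ Spec (Y.presheaf.stalk y) :=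
  Spec.map (cR Y y)

section

variable {X Y : Scheme.{u}} [IsLocallyNoetherian Y] (f : X ⟶ Y) (y : Y)

instance : IsNoetherianRing (Rhat Y y) :=
  Groth.Agent.Lib.helper19.isNoetherianRing_adicCompletion _ _

theorem faithfullyFlat_cmap : Flat (cmap Y y) ∧ Surjective (cmap Y y) := by
  refine (flat_and_surjective_SpecMap_iff (cR Y y)).mpr ?_
  show Module.FaithfullyFlat (Y.presheaf.stalk y) (Rhat Y y)
  exact Module.FaithfullyFlat.of_flat_of_isLocalHom

instance : Flat (cmap Y y) := (faithfullyFlat_cmap y).1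
instance : Surjective (cmap Y y) := (faithfullyFlat_cmap y).2

/-- **reduction to the completion of the local ring** -/
theorem exists_nhd_isProper_of_completion [IsSeparated f] [LocallyOfFiniteType f] [QuasiCompact f]
    (h : IsProper (pullback.snd (pullback.snd f (Y.fromSpecStalk y)) (cmap Y y))) :
    ∃ U : Y.Opens, y ∈ U ∧ IsProper (f ∣_ U) := by
  -- descent to the local ring
  haveI : UniversallyClosed (pullback.snd f (Y.fromSpecStalk y)) :=
    MorphismProperty.of_pullback_snd_of_descendsAlong (P := @UniversallyClosed)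
      (Q := @Surjective ⊓ @Flat ⊓ @QuasiCompact)
      (f := pullback.snd f (Y.fromSpecStalk y)) (g := cmap Y y)
      ⟨⟨inferInstance, inferInstance⟩, inferInstance⟩ h.toUniversallyClosed
  have h1 : IsProper (pullback.snd f (Y.fromSpecStalk y)) := {}
  -- spreading out
  haveI : QuasiCompact (f ≫ 𝟙 Y) := by rw [Category.comp_id]; infer_instance
  haveI : QuasiSeparated (f ≫ 𝟙 Y) := by rw [Category.comp_id]; infer_instance
  haveI : LocallyOfFinitePresentation (f ≫ 𝟙 Y) := by rw [Category.comp_id]; infer_instance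
  have h2 : IsProper (pullback.snd f (pullback.fst (𝟙 Y) (Y.fromSpecStalk y))) := by
    have e : pullback.snd (𝟙 Y) (Y.fromSpecStalk y) ≫ Y.fromSpecStalk y =
        pullback.fst (𝟙 Y) (Y.fromSpecStalk y) := by
      rw [← pullback.condition, Category.comp_id]
    exact snd_congr @IsProper f e (snd_comp @IsProper f _ _ h1)
  obtain ⟨W, hyW, hW⟩ := Groth.Agent.Lib.Helper13.StalkSpread.exists_nhd_of_stalk @IsProper
    Groth.Agent.Lib.Helper13.StalkSpread.descends_isProper Y f (𝟙 Y) y h2
  refine ⟨W, hyW, ?_⟩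
  have e : (𝟙 Y) ⁻¹ᵁ W = W := rfl
  rw [e] at hW
  exact hW

end

/-- the closed point of `Spec R̂` as a morphism -/
noncomputable abbrev emap (Y : Scheme.{u}) [IsLocallyNoetherian Y] (y : Y) :
    Spec (CommRingCat.of (Rhat Y y ⧸ maximalIdeal (Rhat Y y))) ⟶ Spec (CommRingCat.of (Rhat Y y)) :=
  Spec.map (CommRingCat.ofHom (Ideal.Quotient.mk (maximalIdeal (Rhat Y y))))

section

variable {X Y : Scheme.{u}} [IsLocallyNoetherian Y] (f : X ⟶ Y) (y : Y)

/-- the base change of `f` to the completion -/
noncomputable abbrev fhat : pullback (pullback.snd f (Y.fromSpecStalk y)) (cmap Y y) ⟶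
    Spec (CommRingCat.of (Rhat Y y)) :=
  pullback.snd (pullback.snd f (Y.fromSpecStalk y)) (cmap Y y)

/-- the map on residue fields -/
noncomputable abbrev θ (Y : Scheme.{u}) [IsLocallyNoetherian Y] (y : Y) :
    Y.residueField y ⟶ CommRingCat.of (Rhat Y y ⧸ maximalIdeal (Rhat Y y)) :=
  CommRingCat.ofHom (IsLocalRing.ResidueField.map
    (algebraMap (Y.presheaf.stalk y) (Rhat Y y)))

theorem emap_comp : (emap Y y ≫ cmap Y y) ≫ Y.fromSpecStalk y =
    Spec.map (θ Y y) ≫ Y.fromSpecResidueField y := by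
  have h1 : emap Y y ≫ cmap Y y = Spec.map (θ Y y) ≫ Spec.map (Y.residue y) := by
    rw [← Spec.map_comp, ← Spec.map_comp]
    congr 1
  rw [h1, Category.assoc]
  rfl

theorem isProper_closedFibre (hy : IsProper (f.fiberToSpecResidueField y)) :
    IsProper (pullback.snd (fhat f y) (emap Y y)) := by
  show IsProper (pullback.snd (pullback.snd (pullback.snd f (Y.fromSpecStalk y)) (cmap Y y))
    (emap Y y))
  rw [snd_snd_iff @IsProper, snd_snd_iff @IsProper]
  refine snd_congr @IsProper f (emap_comp y).symm ?_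
  exact snd_comp @IsProper f _ _ hy

theorem range_emap : Set.range (emap Y y) =
    (zeroLocus (maximalIdeal (Rhat Y y) : Set (Rhat Y y)) : Set (PrimeSpectrum (Rhat Y y))) := by
  have := range_comap_of_surjective _ (Ideal.Quotient.mk (maximalIdeal (Rhat Y y)))
    Ideal.Quotient.mk_surjective
  rw [Ideal.mk_ker] at this
  exact this

/-- **the clopen proper part containing the closed fibre, over the completion** -/
theorem exists_clopen_of_closedFibre [IsSeparated f] [LocallyOfFiniteType f] [QuasiCompact f]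
    (hy : IsProper (f.fiberToSpecResidueField y)) :
    ∃ U : (pullback (pullback.snd f (Y.fromSpecStalk y)) (cmap Y y)).Opens,
      IsClosed (U : Set ↥(pullback (pullback.snd f (Y.fromSpecStalk y)) (cmap Y y))) ∧
      IsProper (U.ι ≫ fhat f y) ∧
      (fhat f y) ⁻¹' (zeroLocus (maximalIdeal (Rhat Y y) : Set (Rhat Y y))) ⊆ (U : Set _) := by
  haveI : HenselianRing (Rhat Y y) (maximalIdeal (Rhat Y y)) := inferInstance
  haveI := isProper_closedFibre f y hy
  haveI : IsClosedImmersion (emap Y y) :=
    IsClosedImmersion.spec_of_surjective _ Ideal.Quotient.mk_surjective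
  let t := pullback.fst (fhat f y) (emap Y y)
  haveI : IsProper (t ≫ fhat f y) := by
    show IsProper (pullback.fst (fhat f y) (emap Y y) ≫ fhat f y)
    rw [pullback.condition]
    infer_instance
  have ht : Set.range t =
      (fhat f y) ⁻¹' (zeroLocus (maximalIdeal (Rhat Y y) : Set (Rhat Y y))) := by
    rw [← range_emap y]
    exact Scheme.Pullback.range_fst (fhat f y) (emap Y y)
  have hZ₀ : (fhat f y) ⁻¹' (zeroLocus (maximalIdeal (Rhat Y y) : Set (Rhat Y y))) =
      Set.univ ∩ (fhat f y) ⁻¹' (zeroLocus (maximalIdeal (Rhat Y y) : Set (Rhat Y y))) := by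
    rw [Set.univ_inter]
  obtain ⟨U, hUcl, hUp, hUC⟩ := Groth.Agent.Lib.Helper13.ClopenProper.exists_clopen_proper
    (Rhat Y y) (maximalIdeal (Rhat Y y)) (fhat f y) _ Set.univ isOpen_univ hZ₀ t ht
  refine ⟨U, hUcl, hUp, ?_⟩
  intro x hx
  have : x ∈ (U : Set _) ∩
      (fhat f y) ⁻¹' (zeroLocus (maximalIdeal (Rhat Y y) : Set (Rhat Y y))) := by
    rw [hUC]; exact hx
  exact this.1

/-- if the clopen part is everything, `f` is proper near `y` -/
theorem exists_nhd_of_clopen_eq_top [IsSeparated f] [LocallyOfFiniteType f] [QuasiCompact f]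
    (U : (pullback (pullback.snd f (Y.fromSpecStalk y)) (cmap Y y)).Opens)
    (hU : IsProper (U.ι ≫ fhat f y)) (htop : U = ⊤) :
    ∃ W : Y.Opens, y ∈ W ∧ IsProper (f ∣_ W) := by
  subst htop
  apply exists_nhd_isProper_of_completion f y
  haveI : IsIso (⊤ : (pullback (pullback.snd f (Y.fromSpecStalk y)) (cmap Y y)).Opens).ι :=
    inferInstanceAs (IsIso (Scheme.topIso _).hom)
  exact (MorphismProperty.cancel_left_of_respectsIso @IsProper
    (⊤ : (pullback (pullback.snd f (Y.fromSpecStalk y)) (cmap Y y)).Opens).ι (fhat f y)).mp hU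

end

end Groth.Agent.Lib.Helper13.ProperNhd
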