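import Mathlib
import Groth.Agent.Lib.Helper13.ProperNhd

set_option autoImplicit false
set_option linter.unusedSectionVars false
set_option linter.unusedVariables false
set_option linter.style.haveILetI false
universe u

open CategoryTheory CategoryTheory.Limits AlgebraicGeometry TopologicalSpace PrimeSpectrum IsLocalRing

namespace Groth.Agent.Lib.Helper13.GeomConnFibre

set_option backward.isDefEq.respectTransparency false in
/-- a base change to a field is connected as soon as the fibre at the image point is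
geometrically connected -/
theorem connectedSpace_of_isPullback {X Y Z : Scheme.{u}} (f : X ⟶ Y) {K : Type u} [Field K]
    (g : Spec (.of K) ⟶ Y) (fst : Z ⟶ X) (snd : Z ⟶ Spec (.of K)) (h : IsPullback fst snd f g)
    (H : ∀ y ∈ Set.range g, GeometricallyConnected (f.fiberToSpecResidueField y)) :
    ConnectedSpace Z := by
  obtain ⟨⟨y, φ⟩, rfl⟩ := (Scheme.SpecToEquivOfField _ _).symm.surjective g
  have hy : GeometricallyConnected (f.fiberToSpecResidueField y) :=
    H y ⟨closedPoint K, by simp [Scheme.SpecToEquivOfField]⟩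
  let p : Z ⟶ f.fiber y :=
    pullback.lift fst (snd ≫ Spec.map φ) (by simp [h.w, Scheme.SpecToEquivOfField])
  apply hy.geometrically_connectedSpace (Spec.map φ) p snd
  simp only [Scheme.SpecToEquivOfField, Equiv.coe_fn_symm_mk] at h
  refine .flip (.of_bot (.flip ?_) ?_ (IsPullback.of_hasPullback f (Y.fromSpecResidueField y)).flip)
  · convert! h
    simp [p]
  · simp [p, Scheme.Hom.fiberToSpecResidueField]

/-- fibres of a base change over points whose image has geometrically connected fibre -/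
theorem isPreconnected_fibre_of_isPullback {X S X' T : Scheme.{u}} (f : X ⟶ S) (g : T ⟶ S)
    (f' : X' ⟶ T) (g' : X' ⟶ X) (h : IsPullback g' f' f g) (t : T)
    (H : GeometricallyConnected (f.fiberToSpecResidueField (g t))) :
    _root_.IsPreconnected (f' ⁻¹' {t}) := by
  let gg : Spec (T.residueField t) ⟶ S := T.fromSpecResidueField t ≫ g
  have hpb : IsPullback (f'.fiberι t ≫ g') (f'.fiberToSpecResidueField t) f gg :=
    (IsPullback.of_hasPullback f' (T.fromSpecResidueField t)).paste_horiz h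
  have hrange : ∀ y ∈ Set.range gg, y = g t := by
    rintro _ ⟨z, rfl⟩
    simp [gg]
  haveI : ConnectedSpace ↥(f'.fiber t) :=
    connectedSpace_of_isPullback f gg _ _ hpb (fun y hy => by rw [hrange y hy]; exact H)
  rw [← f'.range_fiberι]
  exact isPreconnected_range (f'.fiberι t).continuous

/-- images of minimal primes under a flat map to the local scheme at `s` are maximal points -/
theorem maximal_of_minimal {S : Scheme.{u}} (s : S) {R : CommRingCat.{u}}
    (h : Spec R ⟶ Spec (S.presheaf.stalk s)) (hgm : GeneralizingMap h) (η' : Spec R)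
    (hη' : η'.asIdeal ∈ minimalPrimes R) (η'' : S)
    (hspec : η'' ⤳ S.fromSpecStalk s (h η')) : η'' = S.fromSpecStalk s (h η') := by
  set k := S.fromSpecStalk s
  have hks : k (h η') ⤳ s := by
    have : k (h η') ∈ Set.range k := ⟨_, rfl⟩
    rw [Scheme.range_fromSpecStalk] at this
    exact this
  have hη''s : η'' ⤳ s := hspec.trans hks
  obtain ⟨p'', hp''⟩ : η'' ∈ Set.range k := by
    rw [Scheme.range_fromSpecStalk]; exact hη''s
  have hpp : p'' ⤳ h η' := by
    have hind : Topology.IsInducing k := k.isEmbedding.isInducing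
    rw [← hind.specializes_iff, hp'']
    exact hspec
  obtain ⟨q', hq'η', hq'⟩ := hgm hpp
  have hqq : q' = η' := by
    apply PrimeSpectrum.ext
    have hle : q'.asIdeal ≤ η'.asIdeal := (PrimeSpectrum.le_iff_specializes q' η').mpr hq'η'
    exact le_antisymm hle (hη'.2 ⟨q'.isPrime, bot_le⟩ hle)
  rw [← hp'', ← hq', hqq]

/-- over a henselian noetherian local base, a proper flat scheme whose fibres over the minimal
primes are preconnected has preconnected closed fibre -/
theorem isPreconnected_closedFibre (R : Type u) [CommRing R] [IsNoetherianRing R] [IsLocalRing R]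
    [HenselianRing R (maximalIdeal R)]
    {Y : Scheme.{u}} (h : Y ⟶ Spec (CommRingCat.of R)) [IsProper h] [Flat h]
    (H : ∀ q : ↥(Spec (CommRingCat.of R)), q.asIdeal ∈ minimalPrimes R →
      _root_.IsPreconnected (h ⁻¹' {q})) :
    _root_.IsPreconnected (h ⁻¹' (zeroLocus (maximalIdeal R : Set R))) := by
  have hgm : GeneralizingMap h := Flat.generalizingMap h
  have hcl : IsClosed (h ⁻¹' (zeroLocus (maximalIdeal R : Set R))) :=
    (isClosed_zeroLocus _).preimage h.continuous
  rw [isPreconnected_iff_subset_of_fully_disjoint_closed hcl]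
  intro u v hu hv huv hdisj
  set Y₀ : Set Y := h ⁻¹' (zeroLocus (maximalIdeal R : Set R)) with hY₀
  have hdiff : Y₀ \ (Y₀ ∩ u) = Y₀ ∩ v := by
    ext x
    constructor
    · rintro ⟨hx, hnx⟩
      refine ⟨hx, ?_⟩
      rcases huv hx with hxu | hxv
      · exact absurd ⟨hx, hxu⟩ hnx
      · exact hxv
    · rintro ⟨hx, hxv⟩
      exact ⟨hx, fun hxu => Set.disjoint_left.mp hdisj hxu.2 hxv⟩
  obtain ⟨U, ⟨hUclopen, hUY₀⟩, -⟩ := Groth.Agent.Lib.lead.HensClopen.main R (maximalIdeal R) h
    (Y₀ ∩ u) Set.inter_subset_left (hcl.inter hu) (by rw [hdiff]; exact hcl.inter hv)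
  by_contra hcon
  rw [not_or] at hcon
  obtain ⟨hnu, hnv⟩ := hcon
  obtain ⟨x₂, hx₂Y, hx₂u⟩ := Set.not_subset.mp hnu
  obtain ⟨x₁, hx₁Y, hx₁v⟩ := Set.not_subset.mp hnv
  have hx₁u : x₁ ∈ u := by
    rcases huv hx₁Y with h1 | h1
    · exact h1
    · exact absurd h1 hx₁v
  have hx₁U : x₁ ∈ U := by
    have : x₁ ∈ U ∩ Y₀ := by rw [hUY₀]; exact ⟨hx₁Y, hx₁u⟩
    exact this.1
  have hx₂U : x₂ ∉ U := by
    intro hx
    have : x₂ ∈ U ∩ Y₀ := ⟨hx, hx₂Y⟩
    rw [hUY₀] at this
    exact hx₂u this.2
  -- a minimal prime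
  haveI : (maximalIdeal R).IsPrime := (maximalIdeal.isMaximal R).isPrime
  obtain ⟨q, hq, hqle⟩ := Ideal.exists_minimalPrimes_le (J := maximalIdeal R) bot_le
  let η : ↥(Spec (CommRingCat.of R)) := ⟨q, hq.1.1⟩
  have hspec : ∀ x ∈ Y₀, η ⤳ h x := by
    intro x hx
    refine (PrimeSpectrum.le_iff_specializes η (h x)).mp ?_
    have : (maximalIdeal R : Set R) ⊆ (h x).asIdeal := hx
    have hmax : (h x).asIdeal = maximalIdeal R :=
      ((maximalIdeal.isMaximal R).eq_of_le (h x).isPrime.ne_top this).symm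
    show q ≤ (h x).asIdeal
    rw [hmax]; exact hqle
  obtain ⟨x₁', hx₁'x, hx₁'⟩ := hgm (hspec x₁ hx₁Y)
  obtain ⟨x₂', hx₂'x, hx₂'⟩ := hgm (hspec x₂ hx₂Y)
  have hx₁'U : x₁' ∈ U := hx₁'x.mem_open hUclopen.2 hx₁U
  have hx₂'U : x₂' ∉ U := fun hx => hx₂U (hx₂'x.mem_closed hUclopen.1 hx)
  have hsub := (H η hq).subset_isClopen hUclopen ⟨x₁', hx₁', hx₁'U⟩
  exact hx₂'U (hsub hx₂')

end Groth.Agent.Lib.Helper13.GeomConnFibre
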