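import Mathlib
import Groth.Agent.Lib.Helper13.GeomConnFibre
import Groth.Agent.Lib.Helper12.GonfH

set_option autoImplicit false
set_option linter.unusedSectionVars false
set_option linter.unusedVariables false
set_option linter.style.haveILetI false
universe u

open CategoryTheory CategoryTheory.Limits AlgebraicGeometry TopologicalSpace PrimeSpectrum IsLocalRing

namespace Groth.Agent.Lib.Helper13.GeomConnAll

open Groth.Agent.Lib.Helper13.GeomConnFibre Groth.Agent.Lib.Helper13.ProperNhd Groth.Agent.Lib.Helper13.BCPaste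

theorem range_of_isPullback {X Y S Z : Scheme.{u}} {f : X ⟶ S} {g : Y ⟶ S} {fst : Z ⟶ X}
    {snd : Z ⟶ Y} (h : IsPullback fst snd f g) : Set.range fst = f ⁻¹' Set.range g := by
  rw [← Scheme.Pullback.range_fst f g, ← h.isoPullback_hom_fst]
  rw [Scheme.Hom.comp_base]
  simp only [TopCat.hom_comp, ContinuousMap.coe_comp]
  rw [Set.range_comp]
  have : Set.range ⇑(TopCat.Hom.hom h.isoPullback.hom.base) = Set.univ :=
    Set.range_eq_univ.mpr h.isoPullback.hom.homeomorph.surjective
  rw [this, Set.image_univ]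

section

variable (B : Type u) [CommRing B] [IsNoetherianRing B] [IsLocalRing B]

/-- completion of a noetherian local ring -/
abbrev Bhat : Type u := AdicCompletion (maximalIdeal B) B

instance : IsNoetherianRing (Bhat B) :=
  Groth.Agent.Lib.helper19.isNoetherianRing_adicCompletion _ _

variable {B} {K : Type u} [Field K] (ρ : B →+* K) (hρ : Function.Surjective ρ)
include hρ

theorem ker_eq_maximalIdeal : RingHom.ker ρ = maximalIdeal B := by
  haveI : (RingHom.ker ρ).IsMaximal := RingHom.ker_isMaximal_of_surjective ρ hρ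
  exact IsLocalRing.eq_maximalIdeal this

/-- the extension of a surjection onto a field to the completion -/
noncomputable def rhoHat : Bhat B →+* K :=
  (Ideal.Quotient.lift (maximalIdeal B) ρ (fun a ha => by
    rw [← ker_eq_maximalIdeal ρ hρ] at ha; exact (RingHom.mem_ker).mp ha)).comp
    (AdicCompletion.evalOneₐ (maximalIdeal B)).toRingHom

theorem rhoHat_algebraMap (b : B) : rhoHat ρ hρ (algebraMap B (Bhat B) b) = ρ b := by
  have := AdicCompletion.evalOneₐ_comp_algebraMap_eq_mk (maximalIdeal B)
  have h2 := congrArg (fun φ => φ b) this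
  simp only [RingHom.comp_apply] at h2
  simp only [rhoHat, RingHom.comp_apply]
  rw [h2]
  exact Ideal.Quotient.lift_mk _ _ _

theorem rhoHat_surjective : Function.Surjective (rhoHat ρ hρ) := by
  intro k
  obtain ⟨b, rfl⟩ := hρ k
  exact ⟨algebraMap B (Bhat B) b, rhoHat_algebraMap ρ hρ b⟩

end

/-- the key step: the fibre at `s`, base changed to `K`, is connected as soon as `K` is the
residue field of a flat local noetherian `O_{S,s}`-algebra -/
theorem connectedSpace_of_flat_local {X S : Scheme.{u}} [IsLocallyNoetherian S] (f : X ⟶ S)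
    [IsProper f] [Flat f]
    (hgen : ∀ η : S, (∀ η' : S, η' ⤳ η → η' = η) → Nonempty ↥(f.fiber η) →
      GeometricallyConnected (f.fiberToSpecResidueField η))
    (s : S) [Nonempty ↥(f.fiber s)]
    (K : Type u) [Field K] (φ : S.residueField s ⟶ CommRingCat.of K)
    (B : Type u) [CommRing B] [Algebra (S.presheaf.stalk s) B] [IsNoetherianRing B] [IsLocalRing B]
    [Module.Flat (S.presheaf.stalk s) B]
    (ρ : B →+* K) (hρ : Function.Surjective ρ)
    (hcomp : ∀ a : S.presheaf.stalk s, ρ (algebraMap (S.presheaf.stalk s) B a) =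
      φ.hom ((S.residue s).hom a))
    {Z : Scheme.{u}} (fst : Z ⟶ f.fiber s) (snd : Z ⟶ Spec (CommRingCat.of K))
    (hZ : IsPullback fst snd (f.fiberToSpecResidueField s) (Spec.map φ)) : ConnectedSpace Z := by
  let ρ' : Bhat B →+* K := rhoHat ρ hρ
  have hρ' : Function.Surjective ρ' := rhoHat_surjective ρ hρ
  let ψ : Spec (CommRingCat.of K) ⟶ Spec (CommRingCat.of (Bhat B)) :=
    Spec.map (CommRingCat.ofHom ρ')
  let a : S.presheaf.stalk s ⟶ CommRingCat.of (Bhat B) :=
    CommRingCat.ofHom ((algebraMap B (Bhat B)).comp (algebraMap (S.presheaf.stalk s) B))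
  let g : Spec (CommRingCat.of (Bhat B)) ⟶ S := Spec.map a ≫ S.fromSpecStalk s
  -- the key compatibility
  have hkey : ψ ≫ g = Spec.map φ ≫ S.fromSpecResidueField s := by
    have h1 : ψ ≫ Spec.map a = Spec.map φ ≫ Spec.map (S.residue s) := by
      rw [← Spec.map_comp, ← Spec.map_comp]
      congr 1
      ext x
      show ρ' (algebraMap B (Bhat B) (algebraMap (S.presheaf.stalk s) B x)) =
        φ.hom ((S.residue s).hom x)
      exact (rhoHat_algebraMap ρ hρ _).trans (hcomp x)
    show ψ ≫ (Spec.map a ≫ S.fromSpecStalk s) = _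
    rw [← Category.assoc, h1, Category.assoc]
    rfl
  -- the base change to the completion
  let fT : pullback f g ⟶ Spec (CommRingCat.of (Bhat B)) := pullback.snd f g
  haveI : IsProper fT := inferInstanceAs (IsProper (pullback.snd f g))
  haveI : Flat fT := inferInstanceAs (Flat (pullback.snd f g))
  haveI : Flat (Spec.map a) := by
    rw [Flat.SpecMap_iff]
    show ((algebraMap B (Bhat B)).comp (algebraMap (S.presheaf.stalk s) B)).Flat
    exact RingHom.Flat.comp ((RingHom.flat_algebraMap_iff).mpr inferInstance)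
      ((RingHom.flat_algebraMap_iff).mpr inferInstance)
  have hgma : GeneralizingMap (Spec.map a) := Flat.generalizingMap (Spec.map a)
  have hpre : _root_.IsPreconnected (fT ⁻¹' (zeroLocus (maximalIdeal (Bhat B) : Set (Bhat B)))) := by
    refine isPreconnected_closedFibre (Bhat B) fT (fun q hq => ?_)
    by_cases hne : (fT ⁻¹' {q}).Nonempty
    · obtain ⟨x', hx'⟩ := hne
      have hx'q : fT x' = q := hx'
      have hgq : g q = S.fromSpecStalk s (Spec.map a q) := rfl
      have hmax : ∀ η' : S, η' ⤳ g q → η' = g q := by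
        intro η' hη'
        rw [hgq] at hη' ⊢
        exact maximal_of_minimal s (Spec.map a) hgma q hq η' hη'
      have hne' : Nonempty ↥(f.fiber (g q)) := by
        have hfx : f (pullback.fst f g x') = g q := by
          have e := congrArg (fun φ : pullback f g ⟶ S => φ x') (pullback.condition (f := f) (g := g))
          simp only [Scheme.Hom.comp_apply] at e
          rw [e, hx'q]
        have : pullback.fst f g x' ∈ Set.range (f.fiberι (g q)) := by
          rw [f.range_fiberι]; exact hfx
        obtain ⟨z, _⟩ := this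
        exact ⟨z⟩
      exact isPreconnected_fibre_of_isPullback f g fT (pullback.fst f g)
        (IsPullback.of_hasPullback f g) q (hgen (g q) hmax hne')
    · rw [Set.not_nonempty_iff_eq_empty.mp hne]
      exact isPreconnected_empty
  -- `Z` as a closed subscheme of the base change
  have hZ1 : IsPullback (fst ≫ f.fiberι s) snd f (ψ ≫ g) := by
    rw [hkey]
    exact hZ.paste_horiz (IsPullback.of_hasPullback f (S.fromSpecResidueField s))
  let l : Z ⟶ pullback f g := pullback.lift (fst ≫ f.fiberι s) (snd ≫ ψ)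
    (by rw [Category.assoc (snd) ψ g]; exact hZ1.w)
  have hl1 : l ≫ pullback.fst f g = fst ≫ f.fiberι s := pullback.lift_fst _ _ _
  have hl2 : l ≫ fT = snd ≫ ψ := pullback.lift_snd _ _ _
  have hZ2 : IsPullback l snd fT ψ :=
    IsPullback.of_right (by rw [hl1]; exact hZ1) hl2 (IsPullback.of_hasPullback f g)
  haveI : IsClosedImmersion ψ := IsClosedImmersion.spec_of_surjective _ hρ'
  haveI : IsClosedImmersion l :=
    MorphismProperty.of_isPullback (P := @IsClosedImmersion) hZ2.flip inferInstance
  have hrψ : Set.range ψ = (zeroLocus (maximalIdeal (Bhat B) : Set (Bhat B)) :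
      Set (PrimeSpectrum (Bhat B))) := by
    have := range_comap_of_surjective _ ρ' hρ'
    rw [ker_eq_maximalIdeal ρ' hρ'] at this
    exact this
  have hrl : Set.range l = fT ⁻¹' (zeroLocus (maximalIdeal (Bhat B) : Set (Bhat B))) := by
    rw [range_of_isPullback hZ2, hrψ]
  haveI : PreconnectedSpace Z := by
    refine ⟨?_⟩
    rw [← l.isEmbedding.isInducing.isPreconnected_image, Set.image_univ, hrl]
    exact hpre
  haveI : Nonempty Z := by
    haveI : Nonempty ↥(pullback (f.fiberToSpecResidueField s) (Spec.map φ)) := inferInstance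
    obtain ⟨z⟩ := this
    exact ⟨hZ.isoPullback.inv z⟩
  exact ConnectedSpace.mk ‹_›

/-- **all fibres are geometrically connected** as soon as those over the maximal points are,
for proper flat morphisms to locally noetherian schemes -/
theorem geometricallyConnected_fibre {X S : Scheme.{u}} [IsLocallyNoetherian S] (f : X ⟶ S)
    [IsProper f] [Flat f]
    (hgen : ∀ η : S, (∀ η' : S, η' ⤳ η → η' = η) → Nonempty ↥(f.fiber η) →
      GeometricallyConnected (f.fiberToSpecResidueField η))
    (s : S) [Nonempty ↥(f.fiber s)] :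
    GeometricallyConnected (f.fiberToSpecResidueField s) := by
  refine ⟨fun K _ y Z fst snd hZ => ?_⟩
  obtain ⟨φ, rfl⟩ := Spec.map_surjective y
  letI : Algebra (IsLocalRing.ResidueField (S.presheaf.stalk s)) K := φ.hom.toAlgebra
  obtain ⟨B, iB, iAB, hBn, hBl, hloc, hflat, e, he⟩ :=
    Groth.Agent.Lib.Helper12.Gonf.exists_noetherian_flat_local_algebra (S.presheaf.stalk s) K
  let ρ : B →+* K := e.toRingHom.comp (Ideal.Quotient.mk _)
  exact connectedSpace_of_flat_local f hgen s K φ B ρ
    (e.surjective.comp Ideal.Quotient.mk_surjective) (fun a => he a) fst snd hZ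

/-- EGA III 5.5.1 with geometrically connected fibres over the maximal points -/
theorem exists_nhd_isProper {X S : Scheme.{u}} [IsLocallyNoetherian S] (f : X ⟶ S)
    [Flat f] [IsSeparated f] [LocallyOfFiniteType f] [QuasiCompact f]
    (hgen : ∀ η : S, (∀ η' : S, η' ⤳ η → η' = η) → Nonempty ↥(f.fiber η) →
      GeometricallyConnected (f.fiberToSpecResidueField η))
    (s : S) [Nonempty ↥(f.fiber s)] (hs : IsProper (f.fiberToSpecResidueField s)) :
    ∃ U : S.Opens, s ∈ U ∧ IsProper (f ∣_ U) := by
  obtain ⟨U, hUcl, hUp, hUsub⟩ := exists_clopen_of_closedFibre f s hs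
  refine exists_nhd_of_clopen_eq_top f s U hUp ?_
  let k := S.fromSpecStalk s
  let c := cmap S s
  let f₁ := pullback.snd f k
  let f₂ := fhat f s
  haveI : Flat f₂ := inferInstanceAs (Flat (pullback.snd f₁ c))
  have hgm : GeneralizingMap f₂ := Flat.generalizingMap f₂
  -- a point of the closed fibre
  obtain ⟨x₀, hx₀⟩ : ∃ x₀ : ↥(pullback f₁ c), f₂ x₀ = closedPoint (Rhat S s) := by
    obtain ⟨z⟩ := ‹Nonempty ↥(f.fiber s)›
    have hz : f (f.fiberι s z) = s := by
      have : f.fiberι s z ∈ Set.range (f.fiberι s) := ⟨z, rfl⟩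
      rw [f.range_fiberι] at this
      exact this
    have hk0 : k (closedPoint (S.presheaf.stalk s)) = s := Scheme.fromSpecStalk_closedPoint
    obtain ⟨z₁, hz₁a, hz₁b⟩ := Scheme.Pullback.exists_preimage_pullback (f := f) (g := k)
      (f.fiberι s z) (closedPoint (S.presheaf.stalk s)) (by rw [hz, hk0])
    have hc0 : c (closedPoint (Rhat S s)) = closedPoint (S.presheaf.stalk s) :=
      IsLocalRing.comap_closedPoint (algebraMap (S.presheaf.stalk s) (Rhat S s))
    obtain ⟨z₂, hz₂a, hz₂b⟩ := Scheme.Pullback.exists_preimage_pullback (f := f₁) (g := c)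
      z₁ (closedPoint (Rhat S s)) (by rw [hc0]; exact hz₁b)
    exact ⟨z₂, hz₂b⟩
  by_contra hne
  obtain ⟨x, hx⟩ : ∃ x : ↥(pullback f₁ c), x ∉ U := by
    by_contra hall
    apply hne
    ext x
    constructor
    · intro _; trivial
    · intro _
      by_contra hxU
      exact hall ⟨x, hxU⟩
  -- a minimal prime below `f₂ x`
  haveI : (f₂ x).asIdeal.IsPrime := (f₂ x).isPrime
  obtain ⟨q, hq, hqle⟩ := Ideal.exists_minimalPrimes_le (J := (f₂ x).asIdeal) bot_le
  let η' : ↥(Spec (CommRingCat.of (Rhat S s))) := ⟨q, hq.1.1⟩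
  have h1 : η' ⤳ f₂ x := (PrimeSpectrum.le_iff_specializes η' (f₂ x)).mp hqle
  obtain ⟨x', hx'x, hx'⟩ := hgm h1
  have hx'U : x' ∉ U := fun h => hx (hx'x.mem_closed hUcl h)
  have h2 : η' ⤳ f₂ x₀ := by rw [hx₀]; exact specializes_closedPoint η'
  obtain ⟨x₀', hx₀'x, hx₀'⟩ := hgm h2
  have hx₀U : x₀ ∈ U := by
    apply hUsub
    show f₂ x₀ ∈ zeroLocus _
    rw [hx₀]
    intro a ha
    exact ha
  have hx₀'U : x₀' ∈ U := hx₀'x.mem_open U.2 hx₀U
  -- the fibre over `η'` is connected
  let g : Spec ((Spec (CommRingCat.of (Rhat S s))).residueField η') ⟶ S :=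
    (Spec (CommRingCat.of (Rhat S s))).fromSpecResidueField η' ≫ c ≫ k
  have hpb : IsPullback (f₂.fiberι η' ≫ (pullback.fst f₁ c ≫ pullback.fst f k))
      (f₂.fiberToSpecResidueField η') f g :=
    (IsPullback.of_hasPullback f₂
      ((Spec (CommRingCat.of (Rhat S s))).fromSpecResidueField η')).paste_horiz
      (isPullback_snd_snd f k c).flip
  let η : S := k (c η')
  have hrange : ∀ y ∈ Set.range g, y = η := by
    rintro _ ⟨z, rfl⟩
    simp [g, η]
  have hηmax : ∀ η'' : S, η'' ⤳ η → η'' = η := by
    intro η'' hspec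
    have hks : η ⤳ s := by
      have : η ∈ Set.range k := ⟨_, rfl⟩
      rw [Scheme.range_fromSpecStalk] at this
      exact this
    have hη''s : η'' ⤳ s := hspec.trans hks
    obtain ⟨p'', hp''⟩ : η'' ∈ Set.range k := by
      rw [Scheme.range_fromSpecStalk]; exact hη''s
    have hpp : p'' ⤳ c η' := by
      have hind : Topology.IsInducing k := k.isEmbedding.isInducing
      rw [← hind.specializes_iff, hp'']
      exact hspec
    obtain ⟨q', hq'η', hq'⟩ := (Flat.generalizingMap c) hpp
    have hqq : q' = η' := by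
      apply PrimeSpectrum.ext
      have hle : q'.asIdeal ≤ η'.asIdeal := (PrimeSpectrum.le_iff_specializes q' η').mpr hq'η'
      exact le_antisymm hle (hq.2 ⟨q'.isPrime, bot_le⟩ hle)
    rw [← hp'', ← hq', hqq]
  have hηne : Nonempty ↥(f.fiber η) := by
    have hfx : f ((pullback.fst f₁ c ≫ pullback.fst f k) x') = η := by
      have e : (pullback.fst f₁ c ≫ pullback.fst f k) ≫ f = f₂ ≫ (c ≫ k) :=
        (isPullback_snd_snd f k c).w.symm
      have h3 := congrArg (fun φ : pullback f₁ c ⟶ S => φ x') e
      simp only [Scheme.Hom.comp_apply] at h3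
      rw [Scheme.Hom.comp_apply, h3, hx']
    have : (pullback.fst f₁ c ≫ pullback.fst f k) x' ∈ Set.range (f.fiberι η) := by
      rw [f.range_fiberι]; exact hfx
    obtain ⟨z, _⟩ := this
    exact ⟨z⟩
  have hgc := hgen η hηmax hηne
  haveI : ConnectedSpace ↥(f₂.fiber η') :=
    connectedSpace_of_isPullback f g _ _ hpb (fun y hy => by rw [hrange y hy]; exact hgc)
  have hfibconn : _root_.IsPreconnected (f₂ ⁻¹' {η'}) := by
    rw [← f₂.range_fiberι]
    exact isPreconnected_range (f₂.fiberι η').continuous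
  have hsub := hfibconn.subset_isClopen ⟨hUcl, U.2⟩ ⟨x₀', hx₀', hx₀'U⟩
  exact hx'U (hsub hx')

end Groth.Agent.Lib.Helper13.GeomConnAll
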