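import Mathlib
import Groth.Agent.Lib.Helper13.GeomConnAll

set_option autoImplicit false
set_option linter.unusedSectionVars false
set_option linter.unusedVariables false
set_option linter.style.haveILetI false
universe u

open CategoryTheory CategoryTheory.Limits AlgebraicGeometry TopologicalSpace PrimeSpectrum IsLocalRing

namespace Groth.Agent.Lib.Helper13.DvrFlatProper

open Groth.Agent.Lib.Helper13.GeomConnAll Groth.Agent.Lib.Helper13.BCPaste

/-- EGA IV 15.7.10 over a discrete valuation ring -/
theorem isProper_of_dvr (R : Type u) [CommRing R] [IsDomain R] [IsDiscreteValuationRing R]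
    {X : Scheme.{u}} (f : X ⟶ Spec (CommRingCat.of R))
    [Flat f] [IsSeparated f] [LocallyOfFiniteType f] [QuasiCompact f]
    (hcp : IsProper (f.fiberToSpecResidueField (IsLocalRing.closedPoint R)))
    (hcn : Nonempty ↥(f.fiber (IsLocalRing.closedPoint R)))
    (hgc : ∀ η : ↥(Spec (CommRingCat.of R)), η.asIdeal = ⊥ →
      GeometricallyConnected (f.fiberToSpecResidueField η)) :
    IsProper f := by
  have hgen : ∀ η : ↥(Spec (CommRingCat.of R)),
      (∀ η' : ↥(Spec (CommRingCat.of R)), η' ⤳ η → η' = η) → Nonempty ↥(f.fiber η) →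
      GeometricallyConnected (f.fiberToSpecResidueField η) := by
    intro η hmax _
    let η₀ : ↥(Spec (CommRingCat.of R)) := ⟨⊥, Ideal.isPrime_bot⟩
    have h1 : η₀ = η := hmax η₀ ((PrimeSpectrum.le_iff_specializes η₀ η).mp bot_le)
    exact hgc η (by rw [← h1])
  obtain ⟨U, hU, hUp⟩ := exists_nhd_isProper f hgen (IsLocalRing.closedPoint R) hcp
  have hall : ∀ x : ↥(Spec (CommRingCat.of R)), x ∈ U := by
    intro x
    have hx : x ⤳ (IsLocalRing.closedPoint R : PrimeSpectrum R) :=
      IsLocalRing.specializes_closedPoint x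
    exact hx.mem_open U.2 hU
  exact IsZariskiLocalAtTarget.of_forall_exists_morphismRestrict (P := @IsProper)
    (fun x => ⟨U, hall x, hUp⟩)

/-- properness of a fibre can be checked after any field extension -/
theorem isProper_fibre_of_field {X Y : Scheme.{u}} (f : X ⟶ Y) [IsSeparated f]
    [LocallyOfFiniteType f] [QuasiCompact f] {L : Type u} [Field L]
    (r : Spec (CommRingCat.of L) ⟶ Y) (y : Y) (hy : ∀ z, r z = y)
    (h : IsProper (pullback.snd f r)) : IsProper (f.fiberToSpecResidueField y) := by
  obtain ⟨⟨y', φ⟩, rfl⟩ := (Scheme.SpecToEquivOfField _ _).symm.surjective r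
  have hy' : y' = y := by
    let z₀ : ↥(Spec (CommRingCat.of L)) := closedPoint L
    have h0 : (Spec.map φ ≫ Y.fromSpecResidueField y') z₀ = y' := by
      rw [Scheme.Hom.comp_apply]
      exact Scheme.fromSpecResidueField_apply _ _
    exact h0.symm.trans (hy z₀)
  subst hy'
  simp only [Scheme.SpecToEquivOfField, Equiv.coe_fn_symm_mk] at h
  have h1 : IsProper (pullback.snd (pullback.snd f (Y.fromSpecResidueField y')) (Spec.map φ)) := by
    rw [snd_snd_iff @IsProper]
    exact h
  have hff : Flat (Spec.map φ) ∧ Surjective (Spec.map φ) := by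
    refine (flat_and_surjective_SpecMap_iff φ).mpr ?_
    letI : Algebra (Y.residueField y') L := φ.hom.toAlgebra
    show Module.FaithfullyFlat (Y.residueField y') L
    infer_instance
  haveI := hff.1
  haveI := hff.2
  haveI : UniversallyClosed (pullback.snd f (Y.fromSpecResidueField y')) :=
    MorphismProperty.of_pullback_snd_of_descendsAlong (P := @UniversallyClosed)
      (Q := @Surjective ⊓ @Flat ⊓ @QuasiCompact)
      (f := pullback.snd f (Y.fromSpecResidueField y')) (g := Spec.map φ)
      ⟨⟨inferInstance, inferInstance⟩, inferInstance⟩ h1.toUniversallyClosed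
  have h2 : IsProper (pullback.snd f (Y.fromSpecResidueField y')) := {}
  exact h2

/-- fibre over a point with zero ideal of a scheme over a domain `R`, whose base change to the
fraction field is geometrically connected -/
theorem geomConn_fibre_of_bot (R K : Type u) [CommRing R] [IsDomain R] [Field K] [Algebra R K]
    [IsFractionRing R K] {C X : Scheme.{u}}
    (f : C ⟶ Spec (CommRingCat.of K)) (p : X ⟶ Spec (CommRingCat.of R))
    [GeometricallyConnected f] (g : C ⟶ X)
    (hpb : IsPullback g f p (Spec.map (CommRingCat.ofHom (algebraMap R K))))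
    (η : ↥(Spec (CommRingCat.of R))) (hη : η.asIdeal = ⊥) :
    GeometricallyConnected (p.fiberToSpecResidueField η) := by
  refine ⟨fun L _ y Z fst snd hZ => ?_⟩
  have hZ1 : IsPullback (fst ≫ p.fiberι η) snd p
      (y ≫ (Spec (CommRingCat.of R)).fromSpecResidueField η) :=
    hZ.paste_horiz (IsPullback.of_hasPullback p _)
  obtain ⟨ψ, hψ⟩ := Spec.map_surjective (y ≫ (Spec (CommRingCat.of R)).fromSpecResidueField η)
  have hinj : Function.Injective ψ.hom := by
    rw [RingHom.injective_iff_ker_eq_bot]
    let x : ↥(Spec (CommRingCat.of L)) := ⟨⊥, Ideal.isPrime_bot⟩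
    have h1 : (Spec.map ψ) x = η := by
      rw [hψ, Scheme.Hom.comp_apply]
      exact Scheme.fromSpecResidueField_apply _ _
    have h2 : ((Spec.map ψ) x).asIdeal = RingHom.ker ψ.hom := rfl
    rw [← h2, h1, hη]
  let ψ' : K →+* L := IsFractionRing.lift (g := ψ.hom) hinj
  have hψ' : ψ'.comp (algebraMap R K) = ψ.hom := by
    ext r
    exact IsFractionRing.lift_algebraMap hinj r
  have hfac : Spec.map (CommRingCat.ofHom ψ') ≫
      Spec.map (CommRingCat.ofHom (algebraMap R K)) =
      y ≫ (Spec (CommRingCat.of R)).fromSpecResidueField η := by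
    rw [← hψ, ← Spec.map_comp]
    congr 1
    ext r
    exact congrArg (fun φ => φ r) hψ'
  rw [← hfac] at hZ1
  let l : Z ⟶ C := hpb.lift (fst ≫ p.fiberι η) (snd ≫ Spec.map (CommRingCat.ofHom ψ'))
    (by rw [Category.assoc snd]; exact hZ1.w)
  have hl1 : l ≫ g = fst ≫ p.fiberι η := hpb.lift_fst _ _ _
  have hl2 : l ≫ f = snd ≫ Spec.map (CommRingCat.ofHom ψ') := hpb.lift_snd _ _ _
  have hZ2 : IsPullback l snd f (Spec.map (CommRingCat.ofHom ψ')) :=
    IsPullback.of_right (by rw [hl1]; exact hZ1) hl2 hpb
  exact GeometricallyConnected.geometrically_connectedSpace _ l snd hZ2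

/-- geometrically irreducible morphisms are geometrically connected -/
theorem geometricallyConnected_of_geometricallyIrreducible {X Y : Scheme.{u}} (f : X ⟶ Y)
    [GeometricallyIrreducible f] : GeometricallyConnected f := by
  refine ⟨fun K _ y Z fst snd h => ?_⟩
  haveI : IrreducibleSpace ↥Z :=
    GeometricallyIrreducible.geometrically_irreducibleSpace _ fst snd h
  infer_instance

end Groth.Agent.Lib.Helper13.DvrFlatProper
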