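import Mathlib

set_option autoImplicit false
universe u
open CategoryTheory AlgebraicGeometry Limits

namespace Groth.Agent.Lib.Helper13.EqualizerStable

/-- pullback of an equalizer along `ι`, when both composites factor through a mono `m` -/
theorem isPullback_equalizer {C : Type*} [Category C] [HasEqualizers C] {P X V U : C} (f g : P ⟶ X)
    (ιV : V ⟶ P) (m : U ⟶ X) [Mono m] (f' g' : V ⟶ U) (hf : ιV ≫ f = f' ≫ m)
    (hg : ιV ≫ g = g' ≫ m) :
    IsPullback (equalizer.lift (f := f) (g := g) (equalizer.ι f' g' ≫ ιV)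
      (by rw [Category.assoc, Category.assoc, hf, hg, equalizer.condition_assoc]))
      (equalizer.ι f' g') (equalizer.ι f g) ιV := by
  refine ⟨⟨by rw [equalizer.lift_ι]⟩, ⟨PullbackCone.IsLimit.mk _ ?_ ?_ ?_ ?_⟩⟩
  · intro s
    refine equalizer.lift s.snd ?_
    rw [← cancel_mono m, Category.assoc, Category.assoc, ← hf, ← hg, ← s.condition_assoc,
      ← s.condition_assoc, equalizer.condition]
  · intro s
    apply equalizer.hom_ext
    rw [Category.assoc, equalizer.lift_ι, equalizer.lift_ι_assoc, s.condition]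
  · intro s
    rw [equalizer.lift_ι]
  · intro s l _ h2
    apply equalizer.hom_ext
    rw [equalizer.lift_ι, h2]

theorem isClosedImmersion_equalizer_of_stable {P X : Scheme.{u}} (f g : P ⟶ X)
    (hstab : ∀ U : X.Opens, g ⁻¹ᵁ U ≤ f ⁻¹ᵁ U) : IsClosedImmersion (equalizer.ι f g) := by
  let 𝒰 := X.affineCover.pullback₁ g
  rw [IsZariskiLocalAtTarget.iff_of_openCover (P := @IsClosedImmersion) 𝒰]
  intro i
  change IsClosedImmersion (pullback.snd (equalizer.ι f g) (pullback.fst g (X.affineCover.f i)))
  set ιU := X.affineCover.f i with hιU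
  haveI : IsOpenImmersion ιU := X.affineCover.map_prop i
  haveI : IsAffine (X.affineCover.X i) := by dsimp [Scheme.affineCover]; infer_instance
  set ιV := pullback.fst g ιU with hιV
  set g' := pullback.snd g ιU with hg'
  have hg : ιV ≫ g = g' ≫ ιU := pullback.condition
  have hrange : Set.range (ιV ≫ f) ⊆ Set.range ιU := by
    rintro _ ⟨v, rfl⟩
    have h1 : ιV v ∈ g ⁻¹ᵁ ιU.opensRange := by
      change g (ιV v) ∈ Set.range ιU
      rw [← Scheme.Hom.comp_apply, hg, Scheme.Hom.comp_apply]
      exact ⟨_, rfl⟩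
    have h2 := hstab _ h1
    rw [Scheme.Hom.comp_apply]
    exact h2
  let f' := IsOpenImmersion.lift ιU (ιV ≫ f) hrange
  have hf : ιV ≫ f = f' ≫ ιU := (IsOpenImmersion.lift_fac _ _ _).symm
  have hpb := isPullback_equalizer f g ιV ιU f' g' hf hg
  have : pullback.snd (equalizer.ι f g) ιV = hpb.isoPullback.inv ≫ equalizer.ι f' g' := by
    rw [Iso.eq_inv_comp, IsPullback.isoPullback_hom_snd]
  rw [this]
  haveI : IsClosedImmersion (equalizer.ι f' g') := inferInstance
  infer_instance

end Groth.Agent.Lib.Helper13.EqualizerStable
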