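import Mathlib
import Groth.Agent.Lib.Helper13.IntBirational

/-!
# Quasi-finite birational morphisms onto normal schemes are open immersions

Consequences of Zariski's main theorem (from Mathlib) and the fact that an integral birational
morphism onto a normal integral scheme is an isomorphism.
-/

universe u

open CategoryTheory CategoryTheory.Limits AlgebraicGeometry TopologicalSpace

namespace Groth.Agent.Lib.Helper13.ZMTBirational

/-- A separated quasi-finite birational morphism of integral schemes with normal target is an
open immersion. -/
theorem isOpenImmersion_of_birational {X Y : Scheme.{u}} [IsIntegral X] [IsIntegral Y]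
    (f : X ⟶ Y) [IsSeparated f] [LocallyOfFiniteType f] [QuasiCompact f] [LocallyQuasiFinite f]
    (hnorm : ∀ y : Y, IsIntegrallyClosed (Y.presheaf.stalk y))
    (x : X) (hx : x = genericPoint X) (hfx : f x = genericPoint Y)
    (hst : Function.Surjective (f.stalkMap x).hom) : IsOpenImmersion f := by
  subst hx
  haveI : IsOpenImmersion f.toNormalization := inferInstance
  haveI : IsIntegral f.normalization := inferInstance
  have hjη : f.toNormalization (genericPoint X) = genericPoint f.normalization :=
    genericPoint_eq_of_isOpenImmersion f.toNormalization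
  have hπη : f.fromNormalization (genericPoint f.normalization) = genericPoint Y := by
    rw [← hjη, ← Scheme.Hom.comp_apply, f.toNormalization_fromNormalization]
    exact hfx
  have hcomp : ∀ g : X ⟶ Y, g = f →
      Function.Surjective (g.stalkMap (genericPoint X)).hom := by
    rintro g rfl
    exact hst
  have h1 := hcomp _ f.toNormalization_fromNormalization
  rw [Scheme.Hom.stalkMap_comp] at h1
  have hjb : Function.Bijective (f.toNormalization.stalkMap (genericPoint X)).hom :=
    ConcreteCategory.bijective_of_isIso _
  have hsurj : Function.Surjective (f.fromNormalization.stalkMap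
      (f.toNormalization (genericPoint X))).hom := by
    intro z
    obtain ⟨a, ha⟩ := h1 ((f.toNormalization.stalkMap (genericPoint X)).hom z)
    exact ⟨a, hjb.1 ha⟩
  have key : ∀ x' : f.normalization, f.toNormalization (genericPoint X) = x' →
      Function.Surjective (f.fromNormalization.stalkMap x').hom := by
    rintro _ rfl
    exact hsurj
  haveI : IsIso f.fromNormalization :=
    IntBirational.isIso_of_isIntegralHom_of_birational
      f.fromNormalization hnorm hπη (key _ hjη)
  rw [← f.toNormalization_fromNormalization]
  infer_instance

/-- restriction of a quasi-finite birational morphism to a quasi-compact open of the source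
mapping into an affine open of a normal target -/
theorem isOpenImmersion_resLE {X Y : Scheme.{u}} [IsIntegral X] [IsIntegral Y]
    (f : X ⟶ Y) [LocallyOfFiniteType f] [LocallyQuasiFinite f]
    (hnorm : ∀ y : Y, IsIntegrallyClosed (Y.presheaf.stalk y))
    (hgen : f (genericPoint X) = genericPoint Y)
    (hbir : IsIso (f.stalkMap (genericPoint X)))
    (U : X.Opens) (V : Y.Opens) (e : U ≤ f ⁻¹ᵁ V) (hU : IsCompact (U : Set X))
    (hUne : (U : Set X).Nonempty) (hV : IsAffineOpen V) [IsSeparated (f.resLE V U e)] :
    IsOpenImmersion (f.resLE V U e) := by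
  have hηU : genericPoint X ∈ U :=
    ((genericPoint_spec X).mem_open_set_iff U.isOpen).mpr
      (by obtain ⟨x, hx⟩ := hUne; exact ⟨x, Set.mem_univ _, hx⟩)
  have hηV : genericPoint Y ∈ V := by
    have := e hηU
    rwa [Scheme.Hom.mem_preimage, hgen] at this
  haveI : Nonempty U.toScheme := ⟨⟨_, hηU⟩⟩
  haveI : Nonempty V.toScheme := ⟨⟨_, hηV⟩⟩
  haveI : IsIntegral U.toScheme := isIntegral_of_isOpenImmersion U.ι
  haveI : IsIntegral V.toScheme := isIntegral_of_isOpenImmersion V.ι
  haveI : IsAffine V.toScheme := hV
  haveI : CompactSpace U.toScheme := isCompact_iff_compactSpace.mp hU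
  haveI : LocallyOfFiniteType (f.resLE V U e ≫ V.ι) := by
    rw [Scheme.Hom.resLE_comp_ι]; infer_instance
  haveI : LocallyOfFiniteType (f.resLE V U e) := locallyOfFiniteType_of_comp _ V.ι
  haveI : LocallyQuasiFinite (f.resLE V U e ≫ V.ι) := by
    rw [Scheme.Hom.resLE_comp_ι]; infer_instance
  haveI : LocallyQuasiFinite (f.resLE V U e) := LocallyQuasiFinite.of_comp _ V.ι
  let x : U.toScheme := ⟨genericPoint X, hηU⟩
  have hx : x = genericPoint U.toScheme := by
    apply U.ι.isOpenEmbedding.injective
    rw [genericPoint_eq_of_isOpenImmersion U.ι]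
    rfl
  have hfx : f.resLE V U e x = genericPoint V.toScheme := by
    apply V.ι.isOpenEmbedding.injective
    rw [genericPoint_eq_of_isOpenImmersion V.ι]
    show ((f.resLE V U e) x).1 = _
    rw [Scheme.Hom.coe_resLE_apply]
    exact hgen
  have hst : IsIso ((f.resLE V U e).stalkMap x) :=
    ((MorphismProperty.isomorphisms CommRingCat).arrow_mk_iso_iff
      (Scheme.Hom.resLEStalkMap f e x)).mpr hbir
  refine isOpenImmersion_of_birational (f.resLE V U e) (fun y => ?_) x hx hfx
    (ConcreteCategory.bijective_of_isIso _).2
  haveI := hnorm y.1
  exact IsIntegrallyClosed.of_equiv (V.stalkIso y).commRingCatIsoToRingEquiv.symm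

end Groth.Agent.Lib.Helper13.ZMTBirational
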