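import Mathlib
import Groth.Agent.S4809
import Groth.Agent.S0246

/-!
# Étale separated schemes over a normal integral scheme with separably closed function field

Such a scheme is a disjoint union of open subschemes of the base.
-/

universe u

open CategoryTheory CategoryTheory.Limits AlgebraicGeometry TopologicalSpace

namespace Groth.Agent.Lib.Helper13.EtSepClosed

/-- An essentially finite type, formally unramified local algebra over a separably closed field
is trivial. -/
theorem bijective_algebraMap_of_isSepClosed (K A : Type*) [Field K] [IsSepClosed K] [CommRing A]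
    [Algebra K A] [Algebra.FormallyUnramified K A] [Algebra.EssFiniteType K A] [IsLocalRing A] :
    Function.Bijective (algebraMap K A) := by
  have := Algebra.FormallyUnramified.finite_of_free (R := K) (S := A)
  have : IsArtinianRing A := isArtinian_of_tower K inferInstance
  have : IsReduced A := Algebra.FormallyUnramified.isReduced_of_field K A
  have hF : IsField A := IsArtinianRing.isField_of_isReduced_of_isLocalRing A
  have hm : IsLocalRing.maximalIdeal A = ⊥ := IsLocalRing.isField_iff_maximalIdeal_eq.mp hF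
  have : Algebra.EssFiniteType A (IsLocalRing.ResidueField A) :=
    Algebra.EssFiniteType.of_surjective (Algebra.ofId A (IsLocalRing.ResidueField A))
      Ideal.Quotient.mk_surjective
  have : Algebra.EssFiniteType K (IsLocalRing.ResidueField A) :=
    Algebra.EssFiniteType.comp K A (IsLocalRing.ResidueField A)
  have : Algebra.FormallyUnramified K (IsLocalRing.ResidueField A) :=
    inferInstanceAs (Algebra.FormallyUnramified K (A ⧸ IsLocalRing.maximalIdeal A))
  have : Algebra.IsSeparable K (IsLocalRing.ResidueField A) :=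
    Algebra.FormallyUnramified.isSeparable K (IsLocalRing.ResidueField A)
  have hsurj := IsSepClosed.algebraMap_surjective K (IsLocalRing.ResidueField A)
  refine ⟨(algebraMap K A).injective, fun a => ?_⟩
  obtain ⟨k, hk⟩ := hsurj (IsLocalRing.residue A a)
  refine ⟨k, ?_⟩
  have h1 : IsLocalRing.residue A (algebraMap K A k - a) = 0 := by
    rw [map_sub, sub_eq_zero, ← hk]
    rfl
  have h2 : algebraMap K A k - a ∈ IsLocalRing.maximalIdeal A :=
    (IsLocalRing.residue_eq_zero_iff _).mp h1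
  rw [hm] at h2
  exact sub_eq_zero.mp h2

/-- stalk maps of unramified morphisms at points over the generic point are bijective when the
function field of the base is separably closed -/
theorem stalkMap_bijective {Y X : Scheme.{u}} [IsIntegral X] [IsSepClosed X.functionField]
    (f : Y ⟶ X) [FormallyUnramified f] [LocallyOfFiniteType f] (y : Y)
    (hy : f y = genericPoint X) : Function.Bijective (f.stalkMap y).hom := by
  have key : ∀ x : X, x = genericPoint X → ∀ φ : X.presheaf.stalk x ⟶ Y.presheaf.stalk y,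
      φ.hom.FormallyUnramified → φ.hom.EssFiniteType → Function.Bijective φ.hom := by
    rintro _ rfl φ h1 h2
    letI : Field (X.presheaf.stalk (genericPoint X)) := inferInstanceAs (Field X.functionField)
    haveI : IsSepClosed (X.presheaf.stalk (genericPoint X)) :=
      inferInstanceAs (IsSepClosed X.functionField)
    algebraize [φ.hom]
    exact bijective_algebraMap_of_isSepClosed (X.presheaf.stalk (genericPoint X))
      (Y.presheaf.stalk y)
  exact key (f y) hy (f.stalkMap y) (FormallyUnramified.stalkMap f y)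
    (LocallyOfFiniteType.stalkMap f y)

/-- the set of specializations of a point of the generic fibre is open -/
theorem isOpen_setOf_specializes {U X : Scheme.{u}} [IsIntegral X] (g : U ⟶ X) [Flat g]
    [LocallyQuasiFinite g] (hdom : ∀ u : U, IsDomain (U.presheaf.stalk u))
    (ξ : U) (hξ : g ξ = genericPoint X) : IsOpen {u : U | ξ ⤳ u} := by
  classical
  have hgen : GeneralizingMap g := Flat.generalizingMap g
  have huniq : ∀ (n ξ₁ ξ₂ : U), ξ₁ ⤳ n → ξ₂ ⤳ n → g ξ₁ = genericPoint X →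
      g ξ₂ = genericPoint X → ξ₁ = ξ₂ := by
    intro n ξ₁ ξ₂ h1 h2 h3 h4
    haveI := hdom n
    exact Groth.Agent.Lib.Helper17.UnibranchScheme.eq_of_specializes_of_isDomain_stalk g n h1 h2
      h3 h4
  rw [isOpen_iff_forall_mem_open]
  intro u hu
  obtain ⟨X₀, hX₀, huX₀⟩ : ∃ X₀ : X.Opens, IsAffineOpen X₀ ∧ g u ∈ X₀ := by
    obtain ⟨_, ⟨V, hV, rfl⟩, hxV, -⟩ := X.isBasis_affineOpens.exists_subset_of_mem_open
      (Set.mem_univ (g u)) isOpen_univ
    exact ⟨V, hV, hxV⟩
  obtain ⟨W₀, hW₀, huW₀, hle⟩ : ∃ W₀ : U.Opens, IsAffineOpen W₀ ∧ u ∈ W₀ ∧ W₀ ≤ g ⁻¹ᵁ X₀ := by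
    obtain ⟨_, ⟨V, hV, rfl⟩, hxV, hVW⟩ := U.isBasis_affineOpens.exists_subset_of_mem_open
      (show u ∈ ((g ⁻¹ᵁ X₀ : U.Opens) : Set U) from huX₀) (g ⁻¹ᵁ X₀).isOpen
    exact ⟨V, hV, hxV, hVW⟩
  have hηX₀ : genericPoint X ∈ X₀ :=
    ((genericPoint_spec X).mem_open_set_iff X₀.isOpen).mpr ⟨_, Set.mem_univ _, huX₀⟩
  haveI : IsAffine (X₀ : Scheme.{u}) := hX₀
  haveI : IsAffine (W₀ : Scheme.{u}) := hW₀
  haveI : QuasiCompact (g.resLE X₀ W₀ hle) := inferInstance
  have hfin0 : ((g.resLE X₀ W₀ hle) ⁻¹' {⟨genericPoint X, hηX₀⟩}).Finite :=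
    (g.resLE X₀ W₀ hle).finite_preimage_singleton _
  have hfin : {ξ' : U | ξ' ∈ W₀ ∧ g ξ' = genericPoint X}.Finite := by
    refine (hfin0.image W₀.ι).subset ?_
    rintro ξ' ⟨h1, h2⟩
    refine ⟨⟨ξ', h1⟩, ?_, rfl⟩
    change g.resLE X₀ W₀ hle ⟨ξ', h1⟩ = ⟨genericPoint X, hηX₀⟩
    apply Subtype.ext
    change (X₀.ι (g.resLE X₀ W₀ hle ⟨ξ', h1⟩) : X) = genericPoint X
    rw [← Scheme.Hom.comp_apply, Scheme.Hom.resLE_comp_ι, Scheme.Hom.comp_apply]
    exact h2
  let Z : Set U := ⋃ ξ' ∈ {ξ' : U | (ξ' ∈ W₀ ∧ g ξ' = genericPoint X) ∧ ξ' ≠ ξ}, closure {ξ'}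
  have hZcl : IsClosed Z :=
    Set.Finite.isClosed_biUnion (hfin.subset fun _ h => h.1) (fun _ _ => isClosed_closure)
  refine ⟨(W₀ : Set U) \ Z, ?_, W₀.isOpen.sdiff hZcl, ⟨huW₀, ?_⟩⟩
  · rintro n ⟨hnW, hnZ⟩
    obtain ⟨ξ'', h1, h2⟩ := hgen (genericPoint_specializes (g n))
    by_cases h : ξ'' = ξ
    · rw [← h]; exact h1
    · exfalso
      apply hnZ
      exact Set.mem_iUnion₂.mpr ⟨ξ'', ⟨⟨h1.mem_open W₀.isOpen hnW, h2⟩, h⟩,
        specializes_iff_mem_closure.mp h1⟩
  · intro huZ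
    obtain ⟨ξ', hξ', hcl⟩ := Set.mem_iUnion₂.mp huZ
    exact hξ'.2 (huniq u ξ' ξ (specializes_iff_mem_closure.mpr hcl) hu hξ'.1.2 hξ)

/-- unramified morphisms are locally quasi-finite -/
theorem locallyQuasiFinite_of_unramified {X Y : Scheme.{u}} (f : X ⟶ Y) [FormallyUnramified f]
    [LocallyOfFiniteType f] : LocallyQuasiFinite f := by
  rw [HasRingHomProperty.iff_appLE (P := @LocallyQuasiFinite)]
  intro U V e
  have h1 := HasRingHomProperty.appLE (P := @FormallyUnramified) f inferInstance U V e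
  have h2 := HasRingHomProperty.appLE (P := @LocallyOfFiniteType) f inferInstance U V e
  algebraize [(f.appLE U.1 V.1 e).hom]
  exact RingHom.quasiFinite_algebraMap.mpr inferInstance

open scoped Function in
/-- A separated étale scheme over a normal integral scheme with separably closed function field
is a disjoint union of opens of the base. -/
theorem exists_coprod_opens {U X : Scheme.{u}} [IsIntegral X]
    (hN : ∀ x : X, IsIntegrallyClosed (X.presheaf.stalk x)) [IsSepClosed X.functionField]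
    (g : U ⟶ X) [Etale g] [IsSeparated g] :
    ∃ (ι : Type u) (V : ι → X.Opens) (e : (∐ fun i => (V i : Scheme.{u})) ≅ U),
      ∀ i, Sigma.ι (fun i => (V i : Scheme.{u})) i ≫ e.hom ≫ g = (V i).ι := by
  classical
  have hstalk := fun u : U => Groth.Agent.S0246.normal_stalk_of_etale g hN u
  haveI : ∀ u : U, _root_.IsReduced (U.presheaf.stalk u) := fun u => by
    haveI := (hstalk u).1
    infer_instance
  haveI : IsReduced U := isReduced_of_isReduced_stalk U
  haveI : Flat g := inferInstance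
  haveI : LocallyQuasiFinite g := locallyQuasiFinite_of_unramified g
  have hgen : GeneralizingMap g := Flat.generalizingMap g
  have huniq : ∀ (n ξ₁ ξ₂ : U), ξ₁ ⤳ n → ξ₂ ⤳ n → g ξ₁ = genericPoint X →
      g ξ₂ = genericPoint X → ξ₁ = ξ₂ := by
    intro n ξ₁ ξ₂ h1 h2 h3 h4
    haveI := (hstalk n).1
    exact Groth.Agent.Lib.Helper17.UnibranchScheme.eq_of_specializes_of_isDomain_stalk g n h1 h2
      h3 h4
  let F : Set U := g ⁻¹' {genericPoint X}
  let C : F → U.Opens := fun ξ =>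
    ⟨{u | ξ.1 ⤳ u}, isOpen_setOf_specializes g (fun u => (hstalk u).1) ξ.1 ξ.2⟩
  have hξC : ∀ ξ : F, ξ.1 ∈ C ξ := fun ξ => specializes_rfl
  have hCint : ∀ ξ : F, IsIntegral (C ξ : Scheme.{u}) := by
    intro ξ
    have hirr : IsIrreducible ((C ξ : U.Opens) : Set U) :=
      ⟨⟨ξ.1, hξC ξ⟩, fun A B hA hB ⟨a, haC, haA⟩ ⟨b, hbC, hbB⟩ =>
        ⟨ξ.1, hξC ξ, Specializes.mem_open haC hA haA, Specializes.mem_open hbC hB hbB⟩⟩
    haveI : IrreducibleSpace ↥(C ξ : Scheme.{u}) := Subtype.irreducibleSpace hirr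
    haveI : IsReduced (C ξ : Scheme.{u}) := isReduced_of_isOpenImmersion (C ξ).ι
    exact isIntegral_of_irreducibleSpace_of_isReduced _
  have hopen : ∀ ξ : F, IsOpenImmersion ((C ξ).ι ≫ g) := by
    intro ξ
    haveI := hCint ξ
    haveI : LocallyQuasiFinite ((C ξ).ι ≫ g) := inferInstance
    have hgen' : ((C ξ).ι ≫ g) (genericPoint (C ξ : Scheme.{u})) = genericPoint X := by
      have h1 : genericPoint (C ξ : Scheme.{u}) ⤳ (⟨ξ.1, hξC ξ⟩ : (C ξ : Scheme.{u})) :=
        genericPoint_specializes _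
      have h2 := h1.map ((C ξ).ι ≫ g).continuous
      have h3 : ((C ξ).ι ≫ g) (⟨ξ.1, hξC ξ⟩ : (C ξ : Scheme.{u})) = genericPoint X := ξ.2
      rw [h3] at h2
      exact (h2.antisymm (genericPoint_specializes _)).eq
    have hbij := stalkMap_bijective ((C ξ).ι ≫ g) (genericPoint (C ξ : Scheme.{u})) hgen'
    have hbir : IsIso (((C ξ).ι ≫ g).stalkMap (genericPoint (C ξ : Scheme.{u}))) :=
      (ConcreteCategory.isIso_iff_bijective _).mpr hbij
    exact (Groth.Agent.S4809.result hN ((C ξ).ι ≫ g) hgen' hbir).2 inferInstance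
  let V : F → X.Opens := fun ξ => haveI := hopen ξ; ((C ξ).ι ≫ g).opensRange
  let j : ∀ ξ : F, ((V ξ : X.Opens) : Scheme.{u}) ⟶ U := fun ξ =>
    haveI := hopen ξ; (((C ξ).ι ≫ g).isoOpensRange).inv ≫ (C ξ).ι
  have hj : ∀ ξ : F, j ξ ≫ g = (V ξ).ι := by
    intro ξ
    haveI := hopen ξ
    change ((((C ξ).ι ≫ g).isoOpensRange).inv ≫ (C ξ).ι) ≫ g = _
    rw [Category.assoc, Scheme.Hom.isoOpensRange_inv_comp]
  haveI : ∀ ξ : F, IsOpenImmersion (j ξ) := fun ξ => by
    haveI := hopen ξ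
    change IsOpenImmersion ((((C ξ).ι ≫ g).isoOpensRange).inv ≫ (C ξ).ι)
    infer_instance
  have hrange : ∀ ξ : F, (j ξ).opensRange = C ξ := by
    intro ξ
    haveI := hopen ξ
    change ((((C ξ).ι ≫ g).isoOpensRange).inv ≫ (C ξ).ι).opensRange = C ξ
    rw [Scheme.Hom.opensRange_comp_of_isIso, Scheme.Opens.opensRange_ι]
  have hcov : ⨆ ξ : F, (j ξ).opensRange = ⊤ := by
    rw [eq_top_iff]
    intro u _
    obtain ⟨ξ, h1, h2⟩ := hgen (genericPoint_specializes (g u))
    refine TopologicalSpace.Opens.mem_iSup.mpr ⟨⟨ξ, h2⟩, ?_⟩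
    rw [hrange]
    exact h1
  have hdisj : Pairwise (Disjoint on fun ξ : F => (j ξ).opensRange) := by
    intro ξ₁ ξ₂ hne
    change Disjoint (j ξ₁).opensRange (j ξ₂).opensRange
    rw [hrange, hrange, disjoint_iff, eq_bot_iff]
    rintro n ⟨h1, h2⟩
    exact hne (Subtype.ext (huniq n ξ₁.1 ξ₂.1 h1 h2 ξ₁.2 ξ₂.2))
  obtain ⟨hcolim⟩ := nonempty_isColimit_cofanMk_of j hcov hdisj
  let e : (∐ fun ξ : F => ((V ξ : X.Opens) : Scheme.{u})) ≅ U :=
    (colimit.isColimit (Discrete.functor fun ξ : F => ((V ξ : X.Opens) : Scheme.{u}))).coconePointUniqueUpToIso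
      hcolim
  refine ⟨F, V, e, fun ξ => ?_⟩
  have h1 : Sigma.ι (fun ξ : F => ((V ξ : X.Opens) : Scheme.{u})) ξ ≫ e.hom = j ξ :=
    (colimit.isColimit _).comp_coconePointUniqueUpToIso_hom hcolim ⟨ξ⟩
  rw [← Category.assoc, h1, hj]

end Groth.Agent.Lib.Helper13.EtSepClosed
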