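import Mathlib

/-!
# Morphisms into a separated scheme with open diagonal agreeing on a dense subset
-/

universe u

open CategoryTheory CategoryTheory.Limits AlgebraicGeometry TopologicalSpace

namespace Groth.Agent.Lib.Helper13.FEtFaithful

set_option backward.isDefEq.respectTransparency false in
theorem isOpenImmersion_equalizer_ι_left {S : Scheme.{u}} {X Y : Over S}
    [IsOpenImmersion (pullback.diagonal Y.hom)]
    (f g : X ⟶ Y) : IsOpenImmersion (equalizer.ι f g).left := by
  refine MorphismProperty.of_isPullback
    ((Limits.isPullback_equalizer_prod f g).map (Over.forget _)).flip ?_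
  rw [← MorphismProperty.cancel_right_of_respectsIso @IsOpenImmersion _
    (Over.prodLeftIsoPullback Y Y).hom]
  convert! (inferInstance : IsOpenImmersion (pullback.diagonal Y.hom))
  ext1 <;> simp [← Over.comp_left]

set_option backward.isDefEq.respectTransparency false in
/-- Two morphisms over a separated morphism with open diagonal agreeing on a dense subset are
equal. -/
theorem ext_of_denseRange_of_isOpenImmersion_diagonal {W X Y Z : Scheme.{u}} {f g : X ⟶ Y}
    (s : Y ⟶ Z) [IsSeparated s] [IsOpenImmersion (pullback.diagonal s)] (h : f ≫ s = g ≫ s)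
    (ι : W ⟶ X) (hι : DenseRange ι.base) (hU : ι ≫ f = ι ≫ g) : f = g := by
  let X' : Over Z := Over.mk (f ≫ s)
  let Y' : Over Z := Over.mk s
  let U' : Over Z := Over.mk (ι ≫ f ≫ s)
  let f' : X' ⟶ Y' := Over.homMk f
  let g' : X' ⟶ Y' := Over.homMk g
  let ι' : U' ⟶ X' := Over.homMk ι
  have : IsSeparated Y'.hom := ‹_›
  have : IsOpenImmersion (pullback.diagonal Y'.hom) := ‹_›
  haveI : IsDominant ι := ⟨hι⟩
  have : IsDominant (equalizer.ι f' g').left := by
    apply +allowSynthFailures IsDominant.of_comp (equalizer.lift ι' ?_).left
    · rwa [← Over.comp_left, equalizer.lift_ι]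
    · ext1; exact hU
  have : Surjective (equalizer.ι f' g').left :=
    surjective_of_isDominant_of_isClosed_range _ (Scheme.Hom.isClosedEmbedding _).isClosed_range
  have : IsOpenImmersion (equalizer.ι f' g').left := isOpenImmersion_equalizer_ι_left f' g'
  have : IsIso (equalizer.ι f' g').left :=
    (isIso_iff_isOpenImmersion_and_surjective _).mpr ⟨inferInstance, inferInstance⟩
  rw [← cancel_epi (equalizer.ι f' g').left]
  exact congr($(equalizer.condition f' g').left)

end Groth.Agent.Lib.Helper13.FEtFaithful
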