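import Mathlib
import Groth.Agent.Lib.Helper13.SectionExt3
import Groth.Agent.Lib.Helper13.GlueExt2

/-!
# Extending sections of finite morphisms over normal, locally integral schemes

`exists_section_extension`: `T` reduced, locally integral with integrally closed local rings,
`q : P ⟶ T` finite, `h` a section of `q` over a dense open `W`.  Then `h` extends to a section
of `q` over all of `T`.  (No Noetherian hypothesis.)
-/

universe u

open CategoryTheory CategoryTheory.Limits AlgebraicGeometry TopologicalSpace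

namespace Groth.Agent.Lib.Helper13.SectionNormal

/-- a point of the closure of the rational section over any point of the base -/
theorem exists_point_over {T P : Scheme.{u}} (q : P ⟶ T) (hq : IsClosedMap q)
    (W : T.Opens) (hW : Dense (W : Set T)) (h : (W : Scheme.{u}) ⟶ P) (hh : h ≫ q = W.ι)
    (t : T) (N : T.Opens) (htN : t ∈ N) [IsIntegral (N : Scheme.{u})] :
    ∃ y₀ : P, q y₀ = t ∧ y₀ ∈ closure (Set.range h) := by
  obtain ⟨ξ, hξ⟩ : ∃ ξ : T, ξ = N.ι (genericPoint (N : Scheme.{u})) := ⟨_, rfl⟩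
  have hξN : ξ ∈ N := by rw [hξ]; exact (genericPoint (N : Scheme.{u})).2
  have hξt : ξ ⤳ t := by
    have h1 : genericPoint (N : Scheme.{u}) ⤳ (⟨t, htN⟩ : N) :=
      genericPoint_specializes _
    have h2 := h1.map N.ι.continuous
    rw [hξ]
    exact h2
  have hξW : ξ ∈ W := by
    obtain ⟨v, hvN, hvW⟩ := hW.inter_open_nonempty N N.isOpen ⟨t, htN⟩
    have h1 : genericPoint (N : Scheme.{u}) ⤳ (⟨v, hvN⟩ : N) := genericPoint_specializes _
    have h2 : ξ ⤳ v := by
      rw [hξ]
      exact h1.map N.ι.continuous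
    exact h2.mem_open W.isOpen hvW
  let z₁ : P := h ⟨ξ, hξW⟩
  have hqz₁ : q z₁ = ξ := by
    change q (h ⟨ξ, hξW⟩) = ξ
    rw [← Scheme.Hom.comp_apply, hh]
    rfl
  have hsm : SpecializingMap q := hq.specializingMap
  obtain ⟨y₀, hy₀, hqy₀⟩ := hsm (show q z₁ ⤳ t by rw [hqz₁]; exact hξt)
  refine ⟨y₀, hqy₀, ?_⟩
  have : y₀ ∈ closure ({z₁} : Set P) := specializes_iff_mem_closure.mp hy₀
  exact closure_mono (by rintro _ rfl; exact ⟨_, rfl⟩) this

theorem exists_section_extension {T P : Scheme.{u}} [IsReduced T] (q : P ⟶ T) [IsFinite q]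
    (hint : ∀ t : T, ∃ N : T.Opens, t ∈ N ∧ IsIntegral (N : Scheme.{u}))
    (hnorm : ∀ t : T, IsIntegrallyClosed (T.presheaf.stalk t))
    (W : T.Opens) (hW : Dense (W : Set T)) (h : (W : Scheme.{u}) ⟶ P) (hh : h ≫ q = W.ι) :
    ∃ w : T ⟶ P, w ≫ q = 𝟙 T ∧ W.ι ≫ w = h := by
  classical
  have key : ∀ t : T, ∃ (V : T.Opens) (g : (V : Scheme.{u}) ⟶ P), t ∈ V ∧ g ≫ q = V.ι ∧
      pullback.fst W.ι V.ι ≫ h = pullback.snd W.ι V.ι ≫ g := by
    intro t
    obtain ⟨N, htN, hN⟩ := hint t
    haveI := hN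
    obtain ⟨y₀, hy₀t, hy₀⟩ := exists_point_over q q.isClosedMap W hW h hh t N htN
    have hdisc : _root_.IsDiscrete (q ⁻¹' {t}) := q.isDiscrete_preimage_singleton t
    have hy₀mem : y₀ ∈ q ⁻¹' {t} := hy₀t
    have : DiscreteTopology ↥(q ⁻¹' {t}) := hdisc.to_subtype
    have hop : IsOpen ({⟨y₀, hy₀mem⟩} : Set ↥(q ⁻¹' {t})) := isOpen_discrete _
    obtain ⟨O, hO, hOeq⟩ := isOpen_induced_iff.mp hop
    have hy₀O : y₀ ∈ O := by
      have : (⟨y₀, hy₀mem⟩ : ↥(q ⁻¹' {t})) ∈ Subtype.val ⁻¹' O := by rw [hOeq]; rfl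
      exact this
    exact Groth.Agent.Lib.Helper13.SectionExt.exists_extension_of_isolated q W h hh t
      ⟨N, htN, hN⟩ (hnorm t) y₀ hy₀t hy₀ O hO hy₀O (fun y hyO _ hqy => by
        have : (⟨y, hqy⟩ : ↥(q ⁻¹' {t})) ∈ Subtype.val ⁻¹' O := hyO
        rw [hOeq] at this
        exact congrArg Subtype.val this)
  choose V g htV hg hagree using key
  let Uf : Option T → T.Opens := fun o => o.elim W V
  have hcov : TopologicalSpace.IsOpenCover Uf := by
    rw [TopologicalSpace.IsOpenCover, eq_top_iff]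
    intro x _
    exact TopologicalSpace.Opens.mem_iSup.mpr ⟨some x, htV x⟩
  let 𝒰 : T.OpenCover := T.openCoverOfIsOpenCover Uf hcov
  let gf : ∀ o : Option T, ((Uf o : T.Opens) : Scheme.{u}) ⟶ P := fun o =>
    match o with
    | none => h
    | some t => g t
  obtain ⟨g', hg'q, hg'⟩ := Groth.Agent.Lib.Helper13.GlueExt.exists_glue_cover (𝟙 T) q W hW h 𝒰
    gf (fun o => by
      rw [Category.comp_id]
      match o with
      | none => exact hh
      | some t => exact hg t) (fun o => by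
      match o with
      | none =>
        have h1 : pullback.fst W.ι (𝒰.f none ≫ 𝟙 T) = pullback.snd W.ι (𝒰.f none ≫ 𝟙 T) := by
          rw [← cancel_mono W.ι, pullback.condition, Category.comp_id]
          rfl
        rw [h1]
        rfl
      | some t =>
        have h1 := hagree t
        have h2 : ∀ (a : (V t : Scheme.{u}) ⟶ T), a = (V t).ι →
            pullback.fst W.ι a ≫ h = pullback.snd W.ι a ≫ g t := by
          rintro a rfl
          exact h1
        exact h2 _ (Category.comp_id _))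
  exact ⟨g', hg'q, hg' none⟩

end Groth.Agent.Lib.Helper13.SectionNormal
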