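import Mathlib
import Groth.Agent.S0246
import Groth.Agent.Lib.Helper13.SectionNormal

/-!
# Finite étale covers of normal integral schemes: extension of morphisms

* `exists_integral_nhd`: a flat, finite scheme over an integral scheme whose local rings are
  domains is locally integral.
* `exists_hom_extension`: morphisms between finite étale covers of a normal integral scheme
  defined on a dense open of the source extend.
-/

universe u

open CategoryTheory CategoryTheory.Limits AlgebraicGeometry TopologicalSpace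

namespace Groth.Agent.Lib.Helper13.FEtNormal

theorem exists_integral_nhd {Y X : Scheme.{u}} [IsIntegral X] (p : Y ⟶ X) [Flat p] [IsFinite p]
    [IsReduced Y] (hdom : ∀ y : Y, IsDomain (Y.presheaf.stalk y)) (y : Y) :
    ∃ N : Y.Opens, y ∈ N ∧ IsIntegral (N : Scheme.{u}) := by
  classical
  have hgen : GeneralizingMap p := Flat.generalizingMap p
  have hfin : (p ⁻¹' {genericPoint X}).Finite := p.finite_preimage_singleton _
  have hlift : ∀ n : Y, ∃ ξ : Y, ξ ⤳ n ∧ p ξ = genericPoint X :=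
    fun n => hgen (genericPoint_specializes (p n))
  have huniq : ∀ (n : Y) (ξ ξ' : Y), ξ ⤳ n → ξ' ⤳ n → p ξ = genericPoint X →
      p ξ' = genericPoint X → ξ = ξ' := by
    intro n ξ ξ' h1 h2 h3 h4
    haveI := hdom n
    exact Groth.Agent.Lib.Helper17.UnibranchScheme.eq_of_specializes_of_isDomain_stalk p n h1 h2
      h3 h4
  obtain ⟨ξ₀, hξ₀y, hξ₀⟩ := hlift y
  let Z : Set Y := ⋃ ξ ∈ {ξ : Y | p ξ = genericPoint X ∧ ¬ ξ ⤳ y}, closure {ξ}
  have hZcl : IsClosed Z := by
    refine Set.Finite.isClosed_biUnion (hfin.subset ?_) (fun _ _ => isClosed_closure)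
    intro ξ hξ
    exact hξ.1
  have hyZ : y ∉ Z := by
    intro hy
    obtain ⟨ξ, hξ, hyξ⟩ := Set.mem_iUnion₂.mp hy
    exact hξ.2 (specializes_iff_mem_closure.mpr hyξ)
  let N : Y.Opens := ⟨Zᶜ, hZcl.isOpen_compl⟩
  have hN : ∀ n ∈ N, ξ₀ ⤳ n := by
    intro n hn
    obtain ⟨ξ, hξn, hξ⟩ := hlift n
    by_cases hξy : ξ ⤳ y
    · rw [huniq y ξ₀ ξ hξ₀y hξy hξ₀ hξ]
      exact hξn
    · exfalso
      apply hn
      exact Set.mem_iUnion₂.mpr ⟨ξ, ⟨hξ, hξy⟩, specializes_iff_mem_closure.mp hξn⟩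
  have hξ₀N : ξ₀ ∈ N := by
    intro hmem
    obtain ⟨ξ, hξ, hξ₀ξ⟩ := Set.mem_iUnion₂.mp hmem
    have h1 : ξ ⤳ ξ₀ := specializes_iff_mem_closure.mpr hξ₀ξ
    have h2 : ξ = ξ₀ := huniq ξ₀ ξ ξ₀ h1 specializes_rfl hξ.1 hξ₀
    exact hξ.2 (h2 ▸ hξ₀y)
  refine ⟨N, hyZ, ?_⟩
  have hirr : IsIrreducible (N : Set Y) := by
    refine ⟨⟨ξ₀, hξ₀N⟩, ?_⟩
    intro A B hA hB ⟨a, haN, haA⟩ ⟨b, hbN, hbB⟩
    exact ⟨ξ₀, hξ₀N, (hN a haN).mem_open hA haA, (hN b hbN).mem_open hB hbB⟩
  haveI : IrreducibleSpace ↥(N : Scheme.{u}) := Subtype.irreducibleSpace hirr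
  haveI : IsReduced (N : Scheme.{u}) := isReduced_of_isOpenImmersion N.ι
  exact isIntegral_of_irreducibleSpace_of_isReduced _

/-- Morphisms between finite étale covers of a normal integral scheme extend from a dense open
of the source. -/
theorem exists_hom_extension {X Y Y' : Scheme.{u}} [IsIntegral X]
    (hX : ∀ x : X, IsIntegrallyClosed (X.presheaf.stalk x))
    (p : Y ⟶ X) [IsFinite p] [Etale p] (p' : Y' ⟶ X) [IsFinite p'] [Etale p']
    (W : Y.Opens) (hW : Dense (W : Set Y)) (χ : (W : Scheme.{u}) ⟶ Y')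
    (hχ : χ ≫ p' = W.ι ≫ p) :
    ∃ φ : Y ⟶ Y', φ ≫ p' = p ∧ W.ι ≫ φ = χ := by
  have hstalk := fun y : Y => Groth.Agent.S0246.normal_stalk_of_etale p hX y
  haveI : ∀ y : Y, _root_.IsReduced (Y.presheaf.stalk y) := fun y => by
    haveI := (hstalk y).1
    infer_instance
  haveI : IsReduced Y := isReduced_of_isReduced_stalk Y
  haveI : Flat p := inferInstance
  obtain ⟨w, hwq, hw⟩ := Groth.Agent.Lib.Helper13.SectionNormal.exists_section_extension
    (pullback.fst p p') (fun y => exists_integral_nhd p (fun y => (hstalk y).1) y)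
    (fun y => (hstalk y).2) W hW (pullback.lift W.ι χ hχ.symm) (pullback.lift_fst _ _ _)
  refine ⟨w ≫ pullback.snd p p', ?_, ?_⟩
  · rw [Category.assoc, ← pullback.condition, ← Category.assoc, hwq, Category.id_comp]
  · rw [← Category.assoc, hw, pullback.lift_snd]

end Groth.Agent.Lib.Helper13.FEtNormal
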