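import Mathlib
import Groth.Agent.Lib.Helper13.FEtNormal
import Groth.Agent.Lib.Helper9.FEtFaithful

/-!
# Finite étale covers of a normal integral scheme and the generic point

Morphisms between the generic fibres of finite étale covers of a normal integral scheme extend.
-/

universe u

open CategoryTheory CategoryTheory.Limits AlgebraicGeometry TopologicalSpace

namespace Groth.Agent.Lib.Helper13.FEtGeneric

/-- gluing morphisms defined on pairwise disjoint opens -/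
theorem exists_glue_disjoint {Y Z : Scheme.{u}} {ι : Type u} (V : ι → Y.Opens)
    (hdisj : ∀ i j, i ≠ j → V i ⊓ V j = ⊥) (f : ∀ i, (V i : Scheme.{u}) ⟶ Z) :
    ∃ f' : ((⨆ i, V i : Y.Opens) : Scheme.{u}) ⟶ Z, ∀ i, Y.homOfLE (le_iSup V i) ≫ f' = f i := by
  classical
  let 𝒰 : (⨆ i, V i).toScheme.OpenCover := Scheme.Opens.iSupOpenCover V
  have hcompat : ∀ i j, pullback.fst (𝒰.f i) (𝒰.f j) ≫ f i = pullback.snd (𝒰.f i) (𝒰.f j) ≫ f j := by
    intro i j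
    by_cases hij : i = j
    · subst hij
      have : pullback.fst (𝒰.f i) (𝒰.f i) = pullback.snd (𝒰.f i) (𝒰.f i) := by
        rw [← cancel_mono (𝒰.f i)]
        exact pullback.condition
      rw [this]
    · have : IsEmpty ↥(pullback (𝒰.f i) (𝒰.f j)) := by
        constructor
        intro z
        have h1 : (pullback.fst (𝒰.f i) (𝒰.f j) ≫ 𝒰.f i ≫ (⨆ i, V i).ι) z =
            (pullback.snd (𝒰.f i) (𝒰.f j) ≫ 𝒰.f j ≫ (⨆ i, V i).ι) z := by
          rw [pullback.condition_assoc]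
        have h2 : 𝒰.f i ≫ (⨆ i, V i).ι = (V i).ι := Scheme.homOfLE_ι _ (le_iSup V i)
        have h3 : 𝒰.f j ≫ (⨆ i, V i).ι = (V j).ι := Scheme.homOfLE_ι _ (le_iSup V j)
        rw [h2, h3] at h1
        have h4 : ((V i).ι (pullback.fst (𝒰.f i) (𝒰.f j) z) : Y) ∈ V i ⊓ V j := by
          refine ⟨(pullback.fst (𝒰.f i) (𝒰.f j) z).2, ?_⟩
          have : (V i).ι (pullback.fst (𝒰.f i) (𝒰.f j) z) =
              (V j).ι (pullback.snd (𝒰.f i) (𝒰.f j) z) := h1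
          rw [this]
          exact (pullback.snd (𝒰.f i) (𝒰.f j) z).2
        rw [hdisj i j hij] at h4
        exact h4
      exact (isInitialOfIsEmpty (X := pullback (𝒰.f i) (𝒰.f j))).hom_ext _ _
  exact ⟨𝒰.glueMorphisms f hcompat, fun i => 𝒰.ι_glueMorphisms f hcompat i⟩

theorem fromSpecStalkOfMem_homOfLE {Y : Scheme.{u}} (U U' : Y.Opens) (hle : U' ≤ U) (ξ : Y)
    (h' : ξ ∈ U') (h : ξ ∈ U) :
    U'.fromSpecStalkOfMem ξ h' ≫ Y.homOfLE hle = U.fromSpecStalkOfMem ξ h := by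
  rw [← cancel_mono U.ι, Category.assoc, Scheme.homOfLE_ι, Scheme.Opens.fromSpecStalkOfMem_ι,
    Scheme.Opens.fromSpecStalkOfMem_ι]

/-- Morphisms between generic fibres of finite étale covers of a normal integral scheme extend.
Here `g : T ⟶ X` plays the role of the inclusion of the generic point. -/
theorem exists_hom_of_generic {X Y Y' T : Scheme.{u}} [IsIntegral X]
    (hX : ∀ x : X, IsIntegrallyClosed (X.presheaf.stalk x))
    (p : Y ⟶ X) [IsFinite p] [Etale p] (p' : Y' ⟶ X) [IsFinite p'] [Etale p']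
    (g : T ⟶ X) [IsPreimmersion g] (hrange : ∀ t : T, g t = genericPoint X)
    (hliftg : ∀ ξ : Y, p ξ = genericPoint X →
      ∃ m : Spec (Y.presheaf.stalk ξ) ⟶ T, m ≫ g = Y.fromSpecStalk ξ ≫ p)
    (χ : pullback p g ⟶ pullback p' g)
    (hχ : χ ≫ pullback.snd p' g = pullback.snd p g) :
    ∃ φ : Y ⟶ Y', φ ≫ p' = p ∧ pullback.fst p g ≫ φ = χ ≫ pullback.fst p' g := by
  classical
  have hstalk := fun y : Y => Groth.Agent.S0246.normal_stalk_of_etale p hX y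
  haveI : ∀ y : Y, _root_.IsReduced (Y.presheaf.stalk y) := fun y => by
    haveI := (hstalk y).1
    infer_instance
  haveI : IsReduced Y := isReduced_of_isReduced_stalk Y
  haveI : Flat p := inferInstance
  have hint := fun y => FEtNormal.exists_integral_nhd p (fun y => (hstalk y).1) y
  let F : Set Y := p ⁻¹' {genericPoint X}
  have hFfin : F.Finite := p.finite_preimage_singleton _
  have hgen : GeneralizingMap p := Flat.generalizingMap p
  have hlift : ∀ n : Y, ∃ ξ ∈ F, ξ ⤳ n := fun n => by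
    obtain ⟨ξ, h1, h2⟩ := hgen (genericPoint_specializes (p n))
    exact ⟨ξ, h2, h1⟩
  have huniq : ∀ (n ξ ξ' : Y), ξ ⤳ n → ξ' ⤳ n → ξ ∈ F → ξ' ∈ F → ξ = ξ' := by
    intro n ξ ξ' h1 h2 h3 h4
    haveI := (hstalk n).1
    exact Groth.Agent.Lib.Helper17.UnibranchScheme.eq_of_specializes_of_isDomain_stalk p n h1 h2
      h3 h4
  have hgi : ∀ ξ : Y, Y.IsGermInjectiveAt ξ := by
    intro ξ
    obtain ⟨N, hξN, hN⟩ := hint ξ
    haveI := hN
    have : Y.IsGermInjectiveAt (N.ι ⟨ξ, hξN⟩) := inferInstance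
    exact this
  haveI : Mono g := inferInstance
  have hspread : ∀ ξ : F, ∃ (U : Y.Opens) (hξU : ξ.1 ∈ U) (f : (U : Scheme.{u}) ⟶ Y'),
      (∀ a : Spec (Y.presheaf.stalk ξ.1) ⟶ pullback p g,
        a ≫ pullback.fst p g = Y.fromSpecStalk ξ.1 →
        a ≫ χ ≫ pullback.fst p' g = U.fromSpecStalkOfMem ξ.1 hξU ≫ f) ∧ f ≫ p' = U.ι ≫ p := by
    intro ξ
    obtain ⟨m, hm⟩ := hliftg ξ.1 ξ.2
    let a₀ : Spec (Y.presheaf.stalk ξ.1) ⟶ pullback p g :=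
      pullback.lift (Y.fromSpecStalk ξ.1) m hm.symm
    haveI := hgi ξ.1
    obtain ⟨U, hξU, f, hf1, hf2⟩ := spread_out_of_isGermInjective' p p'
      (a₀ ≫ χ ≫ pullback.fst p' g) (by
        rw [Category.assoc, Category.assoc, pullback.condition, ← Category.assoc χ, hχ,
          ← pullback.condition, ← Category.assoc, pullback.lift_fst])
    refine ⟨U, hξU, f, fun a ha => ?_, hf2⟩
    have : a = a₀ := by
      rw [← cancel_mono (pullback.fst p g), ha, pullback.lift_fst]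
    rw [this, hf1]
  choose U hξU f hfa hfp using hspread
  -- shrink to make the opens pairwise disjoint
  let C : F → Set Y := fun ξ => ⋃ ξ' ∈ {ξ' : Y | ξ' ∈ F ∧ ξ' ≠ ξ.1}, closure {ξ'}
  have hCcl : ∀ ξ, IsClosed (C ξ) := fun ξ =>
    Set.Finite.isClosed_biUnion (hFfin.subset fun _ h => h.1) (fun _ _ => isClosed_closure)
  let U' : F → Y.Opens := fun ξ => U ξ ⊓ ⟨(C ξ)ᶜ, (hCcl ξ).isOpen_compl⟩
  have hξC : ∀ ξ : F, ξ.1 ∉ C ξ := by
    intro ξ hmem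
    obtain ⟨ξ', hξ', hcl⟩ := Set.mem_iUnion₂.mp hmem
    have h1 : ξ' ⤳ ξ.1 := specializes_iff_mem_closure.mpr hcl
    exact hξ'.2 (huniq ξ.1 ξ' ξ.1 h1 specializes_rfl hξ'.1 ξ.2)
  have hξU' : ∀ ξ : F, ξ.1 ∈ U' ξ := fun ξ => ⟨hξU ξ, hξC ξ⟩
  have hmemC : ∀ (ξ : F) (n : Y), n ∈ U' ξ → ξ.1 ⤳ n := by
    intro ξ n hn
    obtain ⟨ξ'', hξ''F, hξ''n⟩ := hlift n
    by_cases h : ξ'' = ξ.1
    · rw [← h]; exact hξ''n
    · exfalso
      exact hn.2 (Set.mem_iUnion₂.mpr ⟨ξ'', ⟨hξ''F, h⟩, specializes_iff_mem_closure.mp hξ''n⟩)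
  have hdisj : ∀ ξ₁ ξ₂ : F, ξ₁ ≠ ξ₂ → U' ξ₁ ⊓ U' ξ₂ = ⊥ := by
    intro ξ₁ ξ₂ hne
    rw [eq_bot_iff]
    rintro n ⟨hn1, hn2⟩
    exact hne (Subtype.ext (huniq n ξ₁.1 ξ₂.1 (hmemC ξ₁ n hn1) (hmemC ξ₂ n hn2) ξ₁.2 ξ₂.2))
  let f' : ∀ ξ : F, ((U' ξ : Y.Opens) : Scheme.{u}) ⟶ Y' := fun ξ =>
    Y.homOfLE (inf_le_left : U' ξ ≤ U ξ) ≫ f ξ
  obtain ⟨χ', hχ'⟩ := exists_glue_disjoint U' hdisj f'
  have hχ'p : χ' ≫ p' = (⨆ ξ, U' ξ).ι ≫ p := by
    apply (Scheme.Opens.iSupOpenCover U').hom_ext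
    intro ξ
    change Y.homOfLE (le_iSup U' ξ) ≫ χ' ≫ p' = Y.homOfLE (le_iSup U' ξ) ≫ (⨆ ξ, U' ξ).ι ≫ p
    rw [← Category.assoc, hχ' ξ, ← Category.assoc, Scheme.homOfLE_ι]
    change (Y.homOfLE (inf_le_left : U' ξ ≤ U ξ) ≫ f ξ) ≫ p' = _
    rw [Category.assoc, hfp ξ, ← Category.assoc, Scheme.homOfLE_ι]
  have hWd : Dense ((⨆ ξ, U' ξ : Y.Opens) : Set Y) := by
    intro n
    obtain ⟨ξ, hξF, hξn⟩ := hlift n
    have h1 : ξ ∈ ((⨆ ξ, U' ξ : Y.Opens) : Set Y) :=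
      TopologicalSpace.Opens.mem_iSup.mpr ⟨⟨ξ, hξF⟩, hξU' ⟨ξ, hξF⟩⟩
    exact closure_mono (Set.singleton_subset_iff.mpr h1) (specializes_iff_mem_closure.mp hξn)
  obtain ⟨φ, hφp, hWφ⟩ := FEtNormal.exists_hom_extension hX p p' (⨆ ξ, U' ξ) hWd χ' hχ'p
  refine ⟨φ, hφp, ?_⟩
  -- the two morphisms agree on all the `Spec 𝒪_{Y,ξ}`
  haveI : IsSeparated p' := inferInstance
  obtain ⟨E, hE, h1, h2⟩ := Groth.Agent.Lib.Helper9.FEtFaithful.exists_clopen_eqLocus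
    (pullback.fst p g ≫ p) p' (pullback.fst p g ≫ φ) (χ ≫ pullback.fst p' g)
    (by rw [Category.assoc, hφp])
    (by rw [Category.assoc, pullback.condition, ← Category.assoc, hχ, pullback.condition])
  apply h2
  rw [Set.eq_univ_iff_forall]
  intro z
  have hzF : pullback.fst p g z ∈ F := by
    change p (pullback.fst p g z) = genericPoint X
    rw [← Scheme.Hom.comp_apply, pullback.condition, Scheme.Hom.comp_apply, hrange]
  let ξ : F := ⟨pullback.fst p g z, hzF⟩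
  obtain ⟨m, hm⟩ := hliftg ξ.1 ξ.2
  let a₀ : Spec (Y.presheaf.stalk ξ.1) ⟶ pullback p g :=
    pullback.lift (Y.fromSpecStalk ξ.1) m hm.symm
  have ha₀ : a₀ ≫ pullback.fst p g = Y.fromSpecStalk ξ.1 := pullback.lift_fst _ _ _
  have hz : a₀ (IsLocalRing.closedPoint (Y.presheaf.stalk ξ.1)) = z := by
    apply (pullback.fst p g).isEmbedding.injective
    rw [← Scheme.Hom.comp_apply, ha₀, Scheme.fromSpecStalk_closedPoint]
  have hagree : a₀ ≫ pullback.fst p g ≫ φ = a₀ ≫ χ ≫ pullback.fst p' g := by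
    rw [hfa ξ a₀ ha₀, ← Category.assoc, ha₀,
      ← Scheme.Opens.fromSpecStalkOfMem_ι (U' ξ) ξ.1 (hξU' ξ), Category.assoc,
      ← Scheme.homOfLE_ι Y (le_iSup U' ξ), Category.assoc, hWφ, hχ' ξ,
      ← fromSpecStalkOfMem_homOfLE (U ξ) (U' ξ) inf_le_left ξ.1 (hξU' ξ) (hξU ξ), Category.assoc]
  rw [← hz]
  exact h1 a₀ hagree ⟨_, rfl⟩

end Groth.Agent.Lib.Helper13.FEtGeneric
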