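import Mathlib

/-!
# Relative normalization: local rings are integrally closed

For a quasi-compact quasi-separated `f : Y ⟶ X`, the sections of `f.normalization` over the preimage
of an affine open `U ⊆ X` are the integral closure of `Γ(X,U)` in `Γ(Y,f⁻¹U)`.  When the latter is an
integrally closed domain, so are the former and all their localizations.
-/

set_option autoImplicit false
universe u
open CategoryTheory AlgebraicGeometry

namespace Groth.Agent.Lib.Helper13.Normalization

variable {Y X : Scheme.{u}} (f : Y ⟶ X) [QuasiCompact f] [QuasiSeparated f]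

/-- Integral closure of `A` in an integrally closed domain `B` is an integrally closed domain. -/
theorem integralClosure_isIntegrallyClosed (A B : Type*) [CommRing A] [CommRing B] [Algebra A B]
    [IsDomain B] [IsIntegrallyClosed B] :
    IsIntegrallyClosed (integralClosure A B) := by
  have : IsIntegrallyClosedIn (integralClosure A B) B := inferInstance
  exact IsIntegrallyClosed.of_isIntegrallyClosed_of_isIntegrallyClosedIn (integralClosure A B) B

theorem sections_isIntegrallyClosed {U : X.Opens} (hU : IsAffineOpen U)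
    [IsDomain Γ(Y, f ⁻¹ᵁ U)] [IsIntegrallyClosed Γ(Y, f ⁻¹ᵁ U)] :
    IsDomain Γ(f.normalization, f.fromNormalization ⁻¹ᵁ U) ∧
      IsIntegrallyClosed Γ(f.normalization, f.fromNormalization ⁻¹ᵁ U) := by
  let := (f.app U).hom.toAlgebra
  let e : Γ(f.normalization, f.fromNormalization ⁻¹ᵁ U) ≃+* integralClosure Γ(X, U) Γ(Y, f ⁻¹ᵁ U) :=
    (f.normalizationObjIso hU).commRingCatIsoToRingEquiv
  have := integralClosure_isIntegrallyClosed Γ(X, U) Γ(Y, f ⁻¹ᵁ U)
  exact ⟨e.toMulEquiv.isDomain _, IsIntegrallyClosed.of_equiv e.symm⟩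

theorem stalk_isIntegrallyClosed {U : X.Opens} (hU : IsAffineOpen U)
    [IsDomain Γ(Y, f ⁻¹ᵁ U)] [IsIntegrallyClosed Γ(Y, f ⁻¹ᵁ U)]
    (x' : f.normalization) (hx' : f.fromNormalization.base x' ∈ U) :
    IsDomain (f.normalization.presheaf.stalk x') ∧
      IsIntegrallyClosed (f.normalization.presheaf.stalk x') := by
  obtain ⟨hd, hic⟩ := sections_isIntegrallyClosed f hU
  have hV : IsAffineOpen (f.fromNormalization ⁻¹ᵁ U) := hU.preimage f.fromNormalization
  have hx : x' ∈ f.fromNormalization ⁻¹ᵁ U := hx'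
  let := f.normalization.presheaf.algebra_section_stalk ⟨x', hx⟩
  have := hV.isLocalization_stalk ⟨x', hx⟩
  have hle : (hV.primeIdealOf ⟨x', hx⟩).asIdeal.primeCompl ≤
      nonZeroDivisors Γ(f.normalization, f.fromNormalization ⁻¹ᵁ U) := by
    intro a ha
    exact mem_nonZeroDivisors_of_ne_zero (fun h => ha (by simp [h]))
  exact ⟨IsLocalization.isDomain_of_le_nonZeroDivisors _ hle,
    isIntegrallyClosed_of_isLocalization _ _ hle⟩

theorem stalkMap_fromSpecStalk_bijective (X : Scheme.{u}) (x : X) :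
    Function.Bijective ((X.fromSpecStalk x).stalkMap (IsLocalRing.closedPoint (X.presheaf.stalk x))).hom := by
  have h := Scheme.stalkClosedPointTo_fromSpecStalk x
  rw [Scheme.stalkClosedPointTo] at h
  have h2 : (X.fromSpecStalk x).stalkMap (IsLocalRing.closedPoint (X.presheaf.stalk x)) =
      (X.presheaf.stalkCongr (by rw [Scheme.fromSpecStalk_closedPoint]; rfl)).hom ≫
        (stalkClosedPointIso (X.presheaf.stalk x)).inv := by
    rw [← h]; simp
  rw [h2]
  exact ConcreteCategory.bijective_of_isIso _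

theorem residueFieldMap_surjective_of_stalkMap {X Y : Scheme.{u}} (f : X ⟶ Y) (x : X)
    (h : Function.Surjective (f.stalkMap x).hom) :
    Function.Surjective (f.residueFieldMap x).hom := by
  intro b
  obtain ⟨b', rfl⟩ := X.residue_surjective x b
  obtain ⟨a, rfl⟩ := h b'
  refine ⟨Y.residue (f x) a, ?_⟩
  have := congr($(Scheme.residue_residueFieldMap f x) a)
  simpa using this

theorem residueFieldMap_surjective_of_comp {X Y Z : Scheme.{u}} (g : Z ⟶ Y) (f : Y ⟶ X) (z : Z)
    (h : Function.Surjective ((g ≫ f).residueFieldMap z).hom) :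
    Function.Surjective (f.residueFieldMap (g z)).hom := by
  intro b
  obtain ⟨a, ha⟩ := h ((g.residueFieldMap z).hom b)
  refine ⟨a, ?_⟩
  apply (g.residueFieldMap z).hom.injective
  rw [← ha, Scheme.residueFieldMap_comp]
  rfl

theorem eq_genericPoint_of_isIntegralHom {X' X : Scheme.{u}} [IsIntegral X'] [IsIntegral X]
    (f : X' ⟶ X) [IsIntegralHom f] (x' : X') (hx' : f x' = genericPoint X) :
    x' = genericPoint X' := by
  obtain ⟨_, ⟨U, hU, rfl⟩, hηU, -⟩ := X.isBasis_affineOpens.exists_subset_of_mem_open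
    (Set.mem_univ (genericPoint X)) isOpen_univ
  have hV : IsAffineOpen (f ⁻¹ᵁ U) := hU.preimage f
  have hxV : x' ∈ f ⁻¹ᵁ U := by show f x' ∈ U; rw [hx']; exact hηU
  have : Nonempty U := ⟨⟨_, hηU⟩⟩
  have : Nonempty ↥(f ⁻¹ᵁ U) := ⟨⟨_, hxV⟩⟩
  let I : Ideal Γ(X', f ⁻¹ᵁ U) := RingHom.ker (X'.evaluation (f ⁻¹ᵁ U) x' hxV).hom
  have hI : ∀ s : Γ(X', f ⁻¹ᵁ U), s ∈ I ↔ x' ∉ X'.basicOpen s := fun s => by
    rw [RingHom.mem_ker]
    exact Scheme.evaluation_eq_zero_iff_notMem_basicOpen X' x' hxV s
  let := (f.app U).hom.toAlgebra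
  have : Algebra.IsIntegral Γ(X, U) Γ(X', f ⁻¹ᵁ U) := ⟨f.isIntegral_app U hU⟩
  have hcomap : I.comap (algebraMap Γ(X, U) Γ(X', f ⁻¹ᵁ U)) = ⊥ := by
    rw [eq_bot_iff]
    intro a ha
    rw [Ideal.mem_comap, hI] at ha
    have h1 : X'.basicOpen (algebraMap Γ(X, U) Γ(X', f ⁻¹ᵁ U) a) = f ⁻¹ᵁ (X.basicOpen a) :=
      (Scheme.preimage_basicOpen f a).symm
    rw [h1] at ha
    have h2 : genericPoint X ∉ X.basicOpen a := fun h => ha (by show f x' ∈ X.basicOpen a; rw [hx']; exact h)
    have h3 : X.basicOpen a = ⊥ := by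
      by_contra hne
      apply h2
      exact ((genericPoint_spec X).mem_open_set_iff (X.basicOpen a).isOpen).mpr
        (by simpa [Set.nonempty_iff_ne_empty] using
          (TopologicalSpace.Opens.ne_bot_iff_nonempty _).mp hne)
    simpa using (AlgebraicGeometry.basicOpen_eq_bot_iff a).mp h3
  have : IsDomain Γ(X', f ⁻¹ᵁ U) := @IsIntegral.component_integral _ _ (f ⁻¹ᵁ U) ⟨⟨x', hxV⟩⟩
  have : IsDomain Γ(X, U) := @IsIntegral.component_integral _ _ U ⟨⟨_, hηU⟩⟩
  have hbot : I = ⊥ := Ideal.eq_bot_of_comap_eq_bot hcomap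
  have hsp : x' ⤳ genericPoint X' := by
    rw [specializes_iff_forall_open]
    intro W hW hηW
    have hηV : genericPoint X' ∈ f ⁻¹ᵁ U :=
      ((genericPoint_spec X').mem_open_set_iff (f ⁻¹ᵁ U).isOpen).mpr ⟨x', Set.mem_univ _, hxV⟩
    obtain ⟨s, hsW, hηs⟩ := hV.exists_basicOpen_le (V := ⟨W, hW⟩) ⟨genericPoint X', hηW⟩ hηV
    have hs : s ∉ I := by
      rw [hbot, Ideal.mem_bot]
      rintro rfl
      simp at hηs
    rw [hI, not_not] at hs
    exact hsW hs
  exact (hsp.antisymm ((genericPoint_spec X').specializes (Set.mem_univ _))).eq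

section Field
variable {X : Scheme.{u}} [IsIntegral X] {K : CommRingCat.{u}} (hK : IsField K) (g : Spec K ⟶ X)
  (hgη : ∀ pt, g pt = genericPoint X)

include hK in
theorem subsingleton_Spec : Subsingleton (Spec K) := by
  let := hK.toField
  exact inferInstanceAs (Subsingleton (PrimeSpectrum K))

include hK in
theorem nonempty_Spec : Nonempty (Spec K) := by
  let := hK.toField
  exact inferInstanceAs (Nonempty (PrimeSpectrum K))

include hK in
theorem isIntegral_Spec : IsIntegral (Spec K) := by
  have := hK.isDomain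
  infer_instance

include hgη in
theorem preimage_eq_top {U : X.Opens} (hU : genericPoint X ∈ U) : g ⁻¹ᵁ U = ⊤ := by
  ext pt
  simp only [TopologicalSpace.Opens.coe_top, Set.mem_univ, iff_true]
  show g pt ∈ U
  rw [hgη]; exact hU

/-- The sections of `Spec K` over the preimage of an open containing the generic point. -/
noncomputable def sectionsEquiv {U : X.Opens} (hU : genericPoint X ∈ U) :
    Γ(Spec K, g ⁻¹ᵁ U) ≃+* K :=
  ((Spec K).presheaf.mapIso (eqToIso (preimage_eq_top g hgη hU).symm).op ≪≫
    Scheme.ΓSpecIso K).commRingCatIsoToRingEquiv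

variable [QuasiCompact g] [QuasiSeparated g]

include hK hgη in
theorem isNormal (x' : g.normalization) :
    IsDomain (g.normalization.presheaf.stalk x') ∧
      IsIntegrallyClosed (g.normalization.presheaf.stalk x') := by
  obtain ⟨_, ⟨U, hU, rfl⟩, hxU, -⟩ := X.isBasis_affineOpens.exists_subset_of_mem_open
    (Set.mem_univ (g.fromNormalization x')) isOpen_univ
  have hηU : genericPoint X ∈ U :=
    ((genericPoint_spec X).mem_open_set_iff U.isOpen).mpr ⟨_, Set.mem_univ _, hxU⟩
  let e := sectionsEquiv g hgη hηU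
  have : IsDomain K := hK.isDomain
  have : IsIntegrallyClosed K := by
    let := hK.toField
    infer_instance
  have : IsDomain Γ(Spec K, g ⁻¹ᵁ U) := e.toMulEquiv.isDomain _
  have : IsIntegrallyClosed Γ(Spec K, g ⁻¹ᵁ U) := IsIntegrallyClosed.of_equiv e.symm
  exact stalk_isIntegrallyClosed g hU x' hxU

include hK hgη in
theorem surjective_fromNormalization : Function.Surjective g.fromNormalization := by
  obtain ⟨pt⟩ := nonempty_Spec hK
  have hcl : IsClosed (Set.range g.fromNormalization) :=
    (g.fromNormalization.isClosedMap).isClosed_range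
  have hη : genericPoint X ∈ Set.range g.fromNormalization :=
    ⟨g.toNormalization pt, by
      rw [← Scheme.Hom.comp_apply, g.toNormalization_fromNormalization, hgη]⟩
  have : closure {genericPoint X} ⊆ Set.range g.fromNormalization :=
    hcl.closure_subset_iff.mpr (Set.singleton_subset_iff.mpr hη)
  rw [(genericPoint_spec X).def] at this
  intro x
  exact this (Set.mem_univ x)

include hK in
theorem toNormalization_eq_genericPoint (pt : Spec K) :
    haveI := isIntegral_Spec hK
    g.toNormalization pt = genericPoint g.normalization := by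
  have := isIntegral_Spec hK
  have := subsingleton_Spec hK
  have hd : DenseRange g.toNormalization := g.toNormalization.denseRange
  have hr : Set.range g.toNormalization = {g.toNormalization pt} := by
    ext y
    constructor
    · rintro ⟨p, rfl⟩
      rw [Subsingleton.elim p pt]; rfl
    · rintro rfl
      exact ⟨pt, rfl⟩
  have hgen : IsGenericPoint (g.toNormalization pt) (Set.univ : Set g.normalization) := by
    rw [isGenericPoint_def, ← hr]
    exact hd.closure_range
  exact ((genericPoint_spec g.normalization).eq hgen).symm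

include hK hgη in
theorem fromNormalization_genericPoint :
    haveI := isIntegral_Spec hK
    g.fromNormalization (genericPoint g.normalization) = genericPoint X := by
  have := isIntegral_Spec hK
  obtain ⟨pt⟩ := nonempty_Spec hK
  rw [← toNormalization_eq_genericPoint hK g pt, ← Scheme.Hom.comp_apply,
    g.toNormalization_fromNormalization, hgη]

end Field

theorem range_eq_isIntegralElem {A F K C L : Type*} [CommRing A] [Field F] [Algebra A F]
    [IsFractionRing A F] [Field K]
    (φ : F →+* K) [CommRing C] (ι : C →+* K) [CommRing L] (l : C →+* L) (ρ : L →+* K)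
    (hρ : ρ.comp l = ι)
    (hL : ∀ z : L, ∃ c d : C, IsUnit (l d) ∧ z * l d = l c)
    (hl : ∀ d : C, d ≠ 0 → IsUnit (l d))
    (hι : Set.range ι = {y | (φ.comp (algebraMap A F)).IsIntegralElem y}) :
    Set.range ρ = {y | φ.IsIntegralElem y} := by
  letI := φ.toAlgebra
  letI := (φ.comp (algebraMap A F)).toAlgebra
  haveI : IsScalarTower A F K := IsScalarTower.of_algebraMap_eq' rfl
  haveI : Nontrivial A := (algebraMap A F).domain_nontrivial
  have hιmem : ∀ y : K, y ∈ Set.range ι ↔ IsIntegral A y := fun y => by rw [hι]; rfl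
  have hρl : ∀ c, ρ (l c) = ι c := fun c => by rw [← hρ]; rfl
  ext y
  show y ∈ Set.range ρ ↔ IsIntegral F y
  constructor
  · rintro ⟨z, rfl⟩
    obtain ⟨c, d, hd, hz⟩ := hL z
    have h1 : ρ z * ι d = ι c := by rw [← hρl, ← hρl, ← map_mul, hz]
    have hd0 : ι d ≠ 0 := by
      rw [← hρl]; exact (hd.map ρ).ne_zero
    have hc : IsIntegral F (ι c) := ((hιmem _).mp ⟨c, rfl⟩).tower_top
    have hdi : IsIntegral F (ι d) := ((hιmem _).mp ⟨d, rfl⟩).tower_top
    have : ρ z = ι c * (ι d)⁻¹ := by
      rw [← h1, mul_assoc, mul_inv_cancel₀ hd0, mul_one]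
    rw [this]
    exact hc.mul hdi.inv
  · intro hy
    obtain ⟨⟨m, hm⟩, hmy⟩ := hy.exists_multiple_integral_of_isLocalization (nonZeroDivisors A) y
    rw [Submonoid.mk_smul, Algebra.smul_def] at hmy
    obtain ⟨c, hc⟩ := (hιmem _).mpr hmy
    obtain ⟨d, hd⟩ := (hιmem (algebraMap A K m)).mpr isIntegral_algebraMap
    have hm0 : algebraMap A K m ≠ 0 := by
      have : algebraMap A K m = φ (algebraMap A F m) := rfl
      rw [this]
      exact (map_ne_zero φ).mpr
        ((map_ne_zero_iff _ (IsFractionRing.injective A F)).mpr (nonZeroDivisors.ne_zero hm))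
    have hd0 : d ≠ 0 := by
      rintro rfl
      rw [map_zero] at hd
      exact hm0 hd.symm
    obtain ⟨u, hu⟩ := hl d hd0
    refine ⟨l c * ↑u⁻¹, ?_⟩
    have h2 : ρ (l c * ↑u⁻¹) * ι d = ι c := by
      rw [← hρl d, ← map_mul, mul_assoc, ← hu, Units.inv_mul, mul_one, hρl]
    rw [hc, hd] at h2
    have := mul_right_cancel₀ hm0 (h2.trans (mul_comm _ _))
    exact this

theorem comp_fromSpecStalk_apply (X : Scheme.{u}) [IsIntegral X] (K : Type u) [Field K]
    (φ : X.functionField →+* K) (pt : Spec (CommRingCat.of K)) :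
    (Spec.map (CommRingCat.ofHom φ) ≫ X.fromSpecStalk (genericPoint X)) pt = genericPoint X := by
  have : (Spec.map (CommRingCat.ofHom φ) ≫ X.fromSpecStalk (genericPoint X)) pt =
      (X.fromSpecStalk (genericPoint X)) ((Spec.map (CommRingCat.ofHom φ)) pt) := rfl
  rw [this]
  haveI := subsingleton_Spec (Field.toIsField X.functionField)
  rw [Subsingleton.elim ((Spec.map (CommRingCat.ofHom φ)) pt) (IsLocalRing.closedPoint _)]
  exact Scheme.fromSpecStalk_closedPoint

theorem range_germ_stalkClosedPointTo (X : Scheme.{u}) [IsIntegral X] (K : Type u) [Field K]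
    (φ : X.functionField →+* K) (g : Spec (CommRingCat.of K) ⟶ X)
    (hg : g = Spec.map (CommRingCat.ofHom φ) ≫ X.fromSpecStalk (genericPoint X))
    [QuasiCompact g] [QuasiSeparated g]
    {U : X.Opens} (hU : IsAffineOpen U) (hηU : genericPoint X ∈ U)
    (hx₀ : g.toNormalization (IsLocalRing.closedPoint K) ∈ g.fromNormalization ⁻¹ᵁ U) :
    Set.range (g.normalization.presheaf.germ (g.fromNormalization ⁻¹ᵁ U) _ hx₀ ≫
      Scheme.stalkClosedPointTo g.toNormalization).hom =
    {y : K | (φ.comp (X.presheaf.germ U (genericPoint X) hηU).hom).IsIntegralElem y} := by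
  subst hg
  set g := Spec.map (CommRingCat.ofHom φ) ≫ X.fromSpecStalk (genericPoint X) with hgdef
  letI := (g.app U).hom.toAlgebra
  have hU' : g (IsLocalRing.closedPoint K) ∈ U :=
    Set.mem_of_eq_of_mem (comp_fromSpecStalk_apply X K φ (IsLocalRing.closedPoint K)) hηU
  rw [Scheme.germ_stalkClosedPointTo]
  have happ := g.toNormalization_app_preimage ⟨U, hU⟩
  simp only at happ
  rw [happ]
  have h1 := Scheme.germ_stalkClosedPointTo g U hU'
  have h2 := Scheme.germ_stalkClosedPointTo_Spec_fromSpecStalk (CommRingCat.ofHom φ) U hU'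
  have h3 := h1.symm.trans h2
  set θ₂ := (Functor.mapIso (Spec (CommRingCat.of K)).presheaf
    (eqToIso (Scheme.preimage_eq_top_of_closedPoint_mem g hU').symm).op ≪≫
                Scheme.ΓSpecIso (CommRingCat.of K)) with hθ₂
  have hcomp : ∀ (W : (Spec (CommRingCat.of K)).Opens) (hW : W = g ⁻¹ᵁ U) (hW' : W = ⊤),
      (Spec (CommRingCat.of K)).presheaf.map (eqToHom hW).op ≫
        (Functor.mapIso (Spec (CommRingCat.of K)).presheaf (eqToIso hW'.symm).op ≪≫
                Scheme.ΓSpecIso (CommRingCat.of K)).hom = θ₂.hom := by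
    rintro W rfl hW'
    rw [hθ₂]
    rw [eqToHom_refl, op_id, CategoryTheory.Functor.map_id, Category.id_comp]
  rw [Category.assoc, Category.assoc, hcomp _ _ (Scheme.preimage_eq_top_of_closedPoint_mem _ hx₀)]
  have h3' : θ₂.hom.hom.comp (g.app U).hom =
      φ.comp (X.presheaf.germ U (genericPoint X) hηU).hom := by
    have := congr(($h3).hom)
    exact this
  set eV := g.normalizationObjIso hU with heV
  have hθinj : Function.Injective θ₂.hom.hom := (ConcreteCategory.bijective_of_isIso θ₂.hom).1
  ext y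
  constructor
  · rintro ⟨c, rfl⟩
    obtain ⟨p, hp, hp0⟩ := (eV.hom c).2
    refine ⟨p, hp, ?_⟩
    rw [← h3']
    have := congrArg θ₂.hom.hom hp0
    rw [Polynomial.hom_eval₂, map_zero] at this
    exact this
  · rintro ⟨p, hp, hp0⟩
    rw [← h3'] at hp0
    obtain ⟨b, rfl⟩ := (ConcreteCategory.bijective_of_isIso θ₂.hom).2 y
    have hb : IsIntegral Γ(X, U) b := by
      refine ⟨p, hp, hθinj ?_⟩
      rw [Polynomial.hom_eval₂, map_zero]
      exact hp0
    obtain ⟨c, hc⟩ := (ConcreteCategory.bijective_of_isIso eV.hom).2 ⟨b, hb⟩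
    refine ⟨c, ?_⟩
    simp only [CommRingCat.hom_comp, RingHom.coe_comp, Function.comp_apply]
    erw [hc]
    rfl

theorem range_stalkClosedPointTo (X : Scheme.{u}) [IsIntegral X] (K : Type u) [Field K]
    (φ : X.functionField →+* K) (g : Spec (CommRingCat.of K) ⟶ X)
    (hg : g = Spec.map (CommRingCat.ofHom φ) ≫ X.fromSpecStalk (genericPoint X))
    [QuasiCompact g] [QuasiSeparated g] :
    Set.range (Scheme.stalkClosedPointTo g.toNormalization).hom =
      {y : K | φ.IsIntegralElem y} := by
  have hK : IsField (CommRingCat.of K) := Field.toIsField K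
  have hgη : ∀ pt, g pt = genericPoint X := fun pt => by
    rw [hg]; exact comp_fromSpecStalk_apply X K φ pt
  haveI := isIntegral_Spec hK
  obtain ⟨_, ⟨U, hU, rfl⟩, hηU, -⟩ := X.isBasis_affineOpens.exists_subset_of_mem_open
    (Set.mem_univ (genericPoint X)) isOpen_univ
  haveI : Nonempty U := ⟨⟨_, hηU⟩⟩
  have hx₀η : g.toNormalization (IsLocalRing.closedPoint K) = genericPoint g.normalization :=
    toNormalization_eq_genericPoint hK g _
  have hft : ∀ pt : Spec (CommRingCat.of K),
      g.fromNormalization (g.toNormalization pt) = genericPoint X := fun pt => by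
    rw [← Scheme.Hom.comp_apply, g.toNormalization_fromNormalization]; exact hgη pt
  have hx₀ : g.toNormalization (IsLocalRing.closedPoint K) ∈ g.fromNormalization ⁻¹ᵁ U :=
    show g.fromNormalization (g.toNormalization (IsLocalRing.closedPoint K)) ∈ (U : Set X) from
      Set.mem_of_eq_of_mem (hft _) hηU
  have hV : IsAffineOpen (g.fromNormalization ⁻¹ᵁ U) := hU.preimage _
  haveI := functionField_isFractionRing_of_isAffineOpen X U hU
  refine range_eq_isIntegralElem (A := Γ(X, U)) φ
    (g.normalization.presheaf.germ (g.fromNormalization ⁻¹ᵁ U) _ hx₀ ≫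
      Scheme.stalkClosedPointTo g.toNormalization).hom
    (g.normalization.presheaf.germ (g.fromNormalization ⁻¹ᵁ U) _ hx₀).hom
    (Scheme.stalkClosedPointTo g.toNormalization).hom rfl ?_ ?_ ?_
  · intro z
    letI := g.normalization.presheaf.algebra_section_stalk ⟨_, hx₀⟩
    haveI := hV.isLocalization_stalk ⟨_, hx₀⟩
    obtain ⟨⟨c, d⟩, rfl⟩ := IsLocalization.mk'_surjective
      (hV.primeIdealOf ⟨_, hx₀⟩).asIdeal.primeCompl z
    exact ⟨c, d, IsLocalization.map_units _ d, IsLocalization.mk'_spec _ c d⟩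
  · intro d hd
    rw [← Scheme.mem_basicOpen, hx₀η]
    refine ((genericPoint_spec g.normalization).mem_open_set_iff
      (g.normalization.basicOpen d).isOpen).mpr ?_
    have : g.normalization.basicOpen d ≠ ⊥ := fun h => hd ((basicOpen_eq_bot_iff d).mp h)
    obtain ⟨x, hx⟩ := (TopologicalSpace.Opens.ne_bot_iff_nonempty _).mp this
    exact ⟨x, Set.mem_univ _, hx⟩
  · exact range_germ_stalkClosedPointTo X K φ g hg hU hηU hx₀

end Groth.Agent.Lib.Helper13.Normalization
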