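import Mathlib
import Groth.Prelude.Def_FEt
import Groth.Prelude.Def_Pi1
import Groth.Agent.Lib.Helper13.Normalization
import Groth.Agent.Lib.Helper13.IntBirational
import Groth.Agent.S4366
import Groth.Agent.S0246

/-!
# Finite étale covers of a normal scheme and normalization in a finite extension of the function field
-/

universe u

open CategoryTheory CategoryTheory.Limits AlgebraicGeometry TopologicalSpace Opposite IsLocalRing

namespace Groth.Agent.Lib.Helper13.FEtNormIso

open Groth.Agent.Lib.Helper13.Normalization

variable (X : Scheme.{u}) [IsIntegral X] (L : Type u) [Field L] (φ : X.functionField →+* L)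
  (g : Spec (CommRingCat.of L) ⟶ X)
  (hg : g = Spec.map (CommRingCat.ofHom φ) ≫ X.fromSpecStalk (genericPoint X))

include hg in
theorem bijective_stalkClosedPointTo (halg : φ.IsIntegral) [QuasiCompact g] [QuasiSeparated g] :
    Function.Bijective (Scheme.stalkClosedPointTo g.toNormalization).hom := by
  have hK : IsField (CommRingCat.of L) := Field.toIsField L
  haveI := isIntegral_Spec hK
  constructor
  · have hgen := toNormalization_eq_genericPoint hK g (closedPoint L)
    have key : ∀ (x : g.normalization) (_ : x = genericPoint g.normalization)
        (f : g.normalization.presheaf.stalk x →+* L), Function.Injective f := by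
      rintro _ rfl f
      exact (show g.normalization.functionField →+* L from f).injective
    exact key _ hgen _
  · have h := range_stalkClosedPointTo X L φ g hg
    intro y
    have : y ∈ Set.range (Scheme.stalkClosedPointTo g.toNormalization).hom := by
      rw [h]; exact halg y
    exact this

theorem surjective_of_eq {Y : Scheme.{u}} (a b : Spec (CommRingCat.of L) ⟶ Y) (h : a = b)
    (ha : Function.Bijective (Scheme.stalkClosedPointTo a).hom) :
    Function.Bijective (Scheme.stalkClosedPointTo b).hom := by
  subst h; exact ha

theorem bijective_stalkClosedPointTo_of_isIso {Y : Scheme.{u}}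
    (a : Spec (CommRingCat.of L) ⟶ Y) [IsIso a] :
    Function.Bijective (Scheme.stalkClosedPointTo a).hom := by
  unfold Scheme.stalkClosedPointTo
  haveI : IsOpenImmersion a := inferInstance
  haveI h1 : IsIso (Scheme.Hom.stalkMap a (closedPoint (CommRingCat.of L))) :=
    (IsOpenImmersion.iff_isIso_stalkMap.mp (inferInstance : IsOpenImmersion a)).2 _
  exact ConcreteCategory.bijective_of_isIso _

include hg in
/-- (⇒) a finite étale cover of a normal integral scheme with generic fibre `Spec L` is the
normalization of `X` in `L`. -/
theorem finite_etale_fromNormalization (hX : ∀ x : X, IsIntegrallyClosed (X.presheaf.stalk x))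
    (halg : φ.IsIntegral) [QuasiCompact g] [QuasiSeparated g]
    {Y : Scheme.{u}} (p : Y ⟶ X) [IsFinite p] [Etale p]
    (θ : Spec (CommRingCat.of L) ≅ pullback p (X.fromSpecStalk (genericPoint X)))
    (hθ : θ.hom ≫ pullback.snd _ _ = Spec.map (CommRingCat.ofHom φ)) :
    Etale g.fromNormalization ∧ IsFinite g.fromNormalization := by
  have hK : IsField (CommRingCat.of L) := Field.toIsField L
  haveI := isIntegral_Spec hK
  haveI := subsingleton_Spec hK
  have hj : g = (θ.hom ≫ pullback.fst p (X.fromSpecStalk (genericPoint X))) ≫ p := by
    rw [hg, Category.assoc, pullback.condition, ← Category.assoc, hθ]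
  generalize hjdef : θ.hom ≫ pullback.fst p (X.fromSpecStalk (genericPoint X)) = j at hj
  set cp : Spec (CommRingCat.of L) := closedPoint L with hcp
  -- the fibre of `p` over the generic point
  have hfib : ∀ y : Y, p y = genericPoint X → y = j cp := by
    intro y hy
    obtain ⟨z, hz⟩ : y ∈ Set.range (pullback.fst p (X.fromSpecStalk (genericPoint X))) := by
      rw [Scheme.Pullback.range_fst]
      refine ⟨closedPoint _, ?_⟩
      rw [hy]
      exact Scheme.fromSpecStalk_closedPoint
    rw [← hz]
    have : z = θ.hom cp := by
      have h1 : θ.hom (θ.inv z) = z := by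
        rw [← Scheme.Hom.comp_apply, Iso.inv_hom_id]; rfl
      rw [← h1, Subsingleton.elim (θ.inv z) cp]
    rw [this, ← hjdef]
    rfl
  have hdense : ∀ V : Set Y, IsOpen V → V.Nonempty → j cp ∈ V := by
    rintro V hV ⟨v, hv⟩
    have hopen : IsOpen (p '' V) := p.isOpenMap _ hV
    have : genericPoint X ∈ p '' V :=
      ((genericPoint_spec X).mem_open_set_iff hopen).mpr ⟨p v, trivial, v, hv, rfl⟩
    obtain ⟨y, hyV, hy⟩ := this
    rwa [← hfib y hy]
  have hgenY : IsGenericPoint (j cp) (⊤ : Set Y) := by
    show closure {j cp} = Set.univ
    rw [← dense_iff_closure_eq, dense_iff_inter_open]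
    intro V hV hVne
    exact ⟨j cp, hdense V hV hVne, rfl⟩
  haveI : IrreducibleSpace Y := by
    have h1 : IsIrreducible (closure ({j cp} : Set Y)) := isIrreducible_singleton.closure
    rw [hgenY.def] at h1
    exact { isPreirreducible_univ := h1.isPreirreducible, toNonempty := ⟨j cp⟩ }
  haveI : ∀ y : Y, _root_.IsReduced (Y.presheaf.stalk y) := fun y => by
    haveI := (Groth.Agent.S0246.normal_stalk_of_etale p hX y).1
    infer_instance
  haveI : IsReduced Y := isReduced_of_isReduced_stalk Y
  haveI : IsIntegral Y := isIntegral_of_irreducibleSpace_of_isReduced Y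
  have hgenY' : genericPoint Y = j cp := ((genericPoint_spec Y).eq hgenY)
  -- the comparison morphism
  set d := g.normalizationDesc j p hj with hd
  have htd : g.toNormalization ≫ d = j := g.toNormalization_normalizationDesc j p hj
  have hgenN := toNormalization_eq_genericPoint hK g cp
  have hgen : d (genericPoint g.normalization) = genericPoint Y := by
    rw [hgenY', ← hgenN, ← Scheme.Hom.comp_apply, htd]
  have hA := bijective_stalkClosedPointTo X L φ g hg halg
  have hB : Function.Bijective (Scheme.stalkClosedPointTo (g.toNormalization ≫ d)).hom := by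
    refine surjective_of_eq L _ _ (htd.trans hjdef.symm).symm ?_
    rw [Scheme.stalkClosedPointTo_comp]
    haveI := Groth.Agent.S4366.result p (genericPoint X) (θ.hom (closedPoint L))
    have h2 := bijective_stalkClosedPointTo_of_isIso L θ.hom
    have h3 : Function.Bijective ((pullback.fst p (X.fromSpecStalk
        (genericPoint X))).stalkMap (θ.hom (closedPoint L))).hom :=
      ConcreteCategory.bijective_of_isIso _
    exact h2.comp h3
  rw [Scheme.stalkClosedPointTo_comp] at hB
  have hst0 : Function.Surjective (d.stalkMap (g.toNormalization (closedPoint L))).hom := by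
    intro y
    obtain ⟨a, ha⟩ := hB.2 ((Scheme.stalkClosedPointTo g.toNormalization).hom y)
    exact ⟨a, hA.1 ha⟩
  have hst : Function.Surjective (d.stalkMap (genericPoint g.normalization)).hom := hgenN ▸ hst0
  haveI : IsIso d := Groth.Agent.Lib.Helper13.IntBirational.isIso_of_isIntegralHom_of_birational d
    (fun y => (Groth.Agent.S0246.normal_stalk_of_etale p hX y).2) hgen hst
  have hν : g.fromNormalization = d ≫ p := (g.normalizationDesc_comp j p hj).symm
  rw [hν]
  exact ⟨inferInstance, inferInstance⟩

include hg in
/-- (⇐) the generic fibre of the normalization of `X` in an algebraic extension `L` is `Spec L`. -/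
theorem isIso_lift (halg : φ.IsIntegral) [QuasiCompact g] [QuasiSeparated g]
    (c : Spec (CommRingCat.of L) ⟶ pullback g.fromNormalization (X.fromSpecStalk (genericPoint X)))
    (hc : c ≫ pullback.fst _ _ = g.toNormalization) : IsIso c := by
  have hK : IsField (CommRingCat.of L) := Field.toIsField L
  haveI := isIntegral_Spec hK
  haveI := subsingleton_Spec hK
  have hgη : ∀ pt, g pt = genericPoint X := fun pt => by
    rw [hg]; exact comp_fromSpecStalk_apply X L φ pt
  haveI : Subsingleton ↥(pullback g.fromNormalization (X.fromSpecStalk (genericPoint X))) := by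
    refine ⟨fun z z' => ?_⟩
    apply (pullback.fst g.fromNormalization (X.fromSpecStalk (genericPoint X))).isEmbedding.injective
    have h1 : ∀ w : ↥(pullback g.fromNormalization (X.fromSpecStalk (genericPoint X))),
        pullback.fst g.fromNormalization (X.fromSpecStalk (genericPoint X)) w =
          genericPoint g.normalization := by
      intro w
      apply eq_genericPoint_of_isIntegralHom g.fromNormalization
      rw [← Scheme.Hom.comp_apply, pullback.condition, Scheme.Hom.comp_apply]
      haveI := subsingleton_Spec (Field.toIsField X.functionField)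
      rw [Subsingleton.elim ((pullback.snd g.fromNormalization
        (X.fromSpecStalk (genericPoint X))) w) (closedPoint _)]
      exact Scheme.fromSpecStalk_closedPoint
    rw [h1 z, h1 z']
  have hstalk : ∀ pt : Spec (CommRingCat.of L), IsIso (c.stalkMap pt) := by
    intro pt
    obtain rfl : pt = closedPoint L := Subsingleton.elim _ _
    have hA := bijective_stalkClosedPointTo X L φ g hg halg
    have hB : Function.Bijective (Scheme.stalkClosedPointTo (c ≫ pullback.fst g.fromNormalization
        (X.fromSpecStalk (genericPoint X)))).hom := surjective_of_eq L _ _ hc.symm hA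
    rw [Scheme.stalkClosedPointTo_comp] at hB
    haveI := Groth.Agent.S4366.result g.fromNormalization (genericPoint X) (c (closedPoint L))
    have h3 : Function.Bijective ((pullback.fst g.fromNormalization (X.fromSpecStalk
        (genericPoint X))).stalkMap (c (closedPoint L))).hom :=
      ConcreteCategory.bijective_of_isIso _
    have h4 : Function.Bijective (Scheme.stalkClosedPointTo c).hom := by
      have hB' : Function.Bijective ((Scheme.stalkClosedPointTo c).hom ∘
          ((pullback.fst g.fromNormalization
          (X.fromSpecStalk (genericPoint X))).stalkMap (c (closedPoint L))).hom) := hB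
      exact (Function.Bijective.of_comp_iff _ h3).mp hB'
    unfold Scheme.stalkClosedPointTo at h4
    have h6 : Function.Bijective (c.stalkMap (closedPoint L)).hom := by
      have h4' : Function.Bijective (((stalkClosedPointIso (CommRingCat.of L)).hom).hom ∘
          (c.stalkMap (closedPoint L)).hom) := h4
      exact (Function.Bijective.of_comp_iff'
        (ConcreteCategory.bijective_of_isIso (stalkClosedPointIso (CommRingCat.of L)).hom) _).mp h4'
    exact (ConcreteCategory.isIso_iff_bijective _).mpr h6
  haveI : IsOpenImmersion c := by
    refine IsOpenImmersion.of_isIso_stalkMap c ⟨.of_subsingleton _, ?_⟩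
    have : Set.range c = Set.univ := by
      ext z
      simp only [Set.mem_range, Set.mem_univ, iff_true]
      exact ⟨closedPoint L, Subsingleton.elim _ _⟩
    rw [this]
    exact isOpen_univ
  haveI : Epi c.base := by
    rw [TopCat.epi_iff_surjective]
    intro z
    exact ⟨closedPoint L, Subsingleton.elim _ _⟩
  exact (isIso_iff_isOpenImmersion_and_epi_base c).mpr ⟨inferInstance, inferInstance⟩

end Groth.Agent.Lib.Helper13.FEtNormIso
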