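import Groth.Agent.Lib.Helper13.LimDescendCore

/-! Small complements to `LimDescendCore`. -/

set_option autoImplicit false
universe u

open CategoryTheory CategoryTheory.Limits AlgebraicGeometry

namespace Groth.Agent.Lib.Helper13.LimDescend

open Groth.Agent.Lib.Helper22

variable {I : Type u} [SmallCategory I] (D : I ⥤ Scheme.{u})

/-- The morphism `a` appearing in the core statement is `f₀` followed by an isomorphism. -/
theorem exists_iso_eq_comp (i₀ : I) {X₀ Y₀ : Scheme.{u}} (f₀ : X₀ ⟶ Y₀) (g₀ : Y₀ ⟶ D.obj i₀)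
    (a : X₀ ⟶ (bcDiag D i₀ g₀).obj (top i₀))
    (ha : a ≫ pullback.snd (D.map (top i₀).hom) g₀ = f₀) :
    ∃ (s : Y₀ ⟶ (bcDiag D i₀ g₀).obj (top i₀)), IsIso s ∧ a = f₀ ≫ s := by
  let σ : (bcDiag D i₀ g₀).obj (top i₀) ⟶ Y₀ := pullback.snd (D.map (top i₀).hom) g₀
  haveI hσiso : IsIso σ := isIso_snd_top D i₀ g₀
  exact ⟨inv σ, inferInstance, (IsIso.eq_comp_inv σ).mpr ha⟩

/-- The top stage of the base-changed diagram is isomorphic to `Y₀`. -/
theorem exists_iso_top (i₀ : I) {Y₀ : Scheme.{u}} (g₀ : Y₀ ⟶ D.obj i₀) :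
    Nonempty ((bcDiag D i₀ g₀).obj (top i₀) ≅ Y₀) := by
  let σ : (bcDiag D i₀ g₀).obj (top i₀) ⟶ Y₀ := pullback.snd (D.map (top i₀).hom) g₀
  haveI hσiso : IsIso σ := isIso_snd_top D i₀ g₀
  exact ⟨asIso σ⟩

end Groth.Agent.Lib.Helper13.LimDescend
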