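import Mathlib
import Groth.Agent.Lib.Helper21.FlatDescG

/-!
# Helper13 — descent of flatness to a finitely generated subalgebra, tensor product form
-/

namespace Groth.Agent.Lib.Helper13.LimDescend

open TensorProduct

attribute [local instance] MvPolynomial.algebraMvPolynomial

universe u

/-- `R₀` Noetherian, `S₀` a finite type `R₀`-algebra, `A` any `R₀`-algebra with `A ⊗ S₀` flat over
`A`. Then `A' ⊗ S₀` is flat over `A'` for some finitely generated subalgebra `A'` of `A`. -/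
theorem exists_fg_flat_tensor (R₀ S₀ A : Type u) [CommRing R₀] [IsNoetherianRing R₀] [CommRing S₀]
    [Algebra R₀ S₀] [Algebra.FiniteType R₀ S₀] [CommRing A] [Algebra R₀ A]
    [Module.Flat A (A ⊗[R₀] S₀)] :
    ∃ A' : Subalgebra R₀ A, A'.FG ∧ Module.Flat A' (A' ⊗[R₀] S₀) := by
  obtain ⟨n, φ, hφ⟩ := Algebra.FiniteType.iff_quotient_mvPolynomial''.mp
    (inferInstance : Algebra.FiniteType R₀ S₀)
  letI : Algebra (MvPolynomial (Fin n) R₀) S₀ := φ.toRingHom.toAlgebra
  haveI : IsScalarTower R₀ (MvPolynomial (Fin n) R₀) S₀ :=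
    IsScalarTower.of_algebraMap_eq' φ.comp_algebraMap.symm
  haveI : Module.Finite (MvPolynomial (Fin n) R₀) S₀ :=
    Module.Finite.of_surjective (Algebra.linearMap (MvPolynomial (Fin n) R₀) S₀) hφ
  let eA : Helper21.FlatDesc.St R₀ n S₀ A ≃ₗ[A] A ⊗[R₀] S₀ :=
    Algebra.IsPushout.cancelBaseChange R₀ A (MvPolynomial (Fin n) R₀) (MvPolynomial (Fin n) A) S₀
  haveI : Module.Flat A (Helper21.FlatDesc.St R₀ n S₀ A) := Module.Flat.of_linearEquiv eA
  obtain ⟨A', hfg, hflat⟩ := Helper21.FlatDesc.exists_fg_flat_St (R₀ := R₀) (n := n) S₀ A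
  refine ⟨A', hfg, ?_⟩
  let eA' : Helper21.FlatDesc.St R₀ n S₀ A' ≃ₗ[A'] A' ⊗[R₀] S₀ :=
    Algebra.IsPushout.cancelBaseChange R₀ A' (MvPolynomial (Fin n) R₀) (MvPolynomial (Fin n) A') S₀
  exact Module.Flat.of_linearEquiv eA'.symm

end Groth.Agent.Lib.Helper13.LimDescend
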