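import Groth.Agent.Lib.Helper13.LimDescendFinite
import Groth.Agent.Lib.Helper13.LimDescendDiag
import Groth.Agent.Lib.Helper13.LimDescendFlatRing

/-! Descent of flat morphisms along cofiltered limits with affine transition maps. -/

set_option autoImplicit false
universe u v

open CategoryTheory CategoryTheory.Limits AlgebraicGeometry TensorProduct

namespace Groth.Agent.Lib.Helper13.LimDescend

open Groth.Agent.Lib.Helper22

section general

variable {C : Type*} [Category C] [HasPullbacks C]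

theorem fst_iso_comp_iff (P : MorphismProperty C) [P.RespectsIso] {W Y Z X : C} (i : W ⟶ Y)
    [IsIso i] (f : Y ⟶ Z) (g : X ⟶ Z) :
    P (pullback.fst (i ≫ f) g) ↔ P (pullback.fst f g) := by
  have h1 : IsPullback (pullback.fst (i ≫ f) g ≫ i) (pullback.snd (i ≫ f) g) f g :=
    IsPullback.of_iso (IsPullback.of_hasPullback (i ≫ f) g) (Iso.refl _) (asIso i) (Iso.refl _)
      (Iso.refl _) (by simp) (by simp) (by simp) (by simp)
  rw [← prop_iff_of_isPullback P h1 (IsPullback.of_hasPullback f g),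
    P.cancel_right_of_respectsIso]

theorem fst_iff_of_isPullback (P : MorphismProperty C) [P.RespectsIso] {X Y T Z V : C}
    {p : X ⟶ Z} {a : X ⟶ Y} {h : Z ⟶ T} {b : Y ⟶ T} (hp : IsPullback p a h b) (v : V ⟶ Y) :
    P (pullback.fst v a) ↔ P (pullback.fst (v ≫ b) h) :=
  prop_iff_of_isPullback P ((IsPullback.of_hasPullback v a).paste_vert hp.flip)
    (IsPullback.of_hasPullback (v ≫ b) h)

end general

section ring

theorem flat_pullback_fst_Spec_iff (R₀ A S₀ : Type u) [CommRing R₀] [CommRing A] [CommRing S₀]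
    [Algebra R₀ A] [Algebra R₀ S₀] :
    Flat (pullback.fst (Spec.map (CommRingCat.ofHom (algebraMap R₀ A)))
      (Spec.map (CommRingCat.ofHom (algebraMap R₀ S₀)))) ↔ Module.Flat A (A ⊗[R₀] S₀) := by
  have hpb := isPullback_SpecMap_of_isPushout _ _ _ _
    (CommRingCat.isPushout_tensorProduct R₀ A S₀)
  rw [prop_iff_of_isPullback @Flat (IsPullback.of_hasPullback _ _) hpb,
    HasRingHomProperty.Spec_iff (P := @Flat), ← RingHom.flat_algebraMap_iff]
  rfl

theorem exists_flat_factor {R₀ S₀ A : CommRingCat.{u}} [IsNoetherianRing R₀] (hZ : R₀ ⟶ S₀)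
    (hft : hZ.hom.FiniteType) (w : R₀ ⟶ A)
    (h : Flat (pullback.fst (Spec.map w) (Spec.map hZ))) :
    ∃ (A' : CommRingCat.{u}) (w' : R₀ ⟶ A') (ι : A' ⟶ A), w' ≫ ι = w ∧
      w'.hom.FinitePresentation ∧ Flat (pullback.fst (Spec.map w') (Spec.map hZ)) := by
  algebraize [hZ.hom, w.hom]
  have h1 : Module.Flat A (A ⊗[R₀] S₀) := (flat_pullback_fst_Spec_iff R₀ A S₀).mp h
  obtain ⟨A', hfg, hflat⟩ := exists_fg_flat_tensor R₀ S₀ A
  haveI : Algebra.FiniteType R₀ A' := (Subalgebra.fg_iff_finiteType A').1 hfg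
  haveI : Algebra.FinitePresentation R₀ A' :=
    Algebra.FinitePresentation.of_finiteType.mp inferInstance
  refine ⟨CommRingCat.of A', CommRingCat.ofHom (algebraMap R₀ A'),
    CommRingCat.ofHom A'.val.toRingHom, ?_, ?_, ?_⟩
  · ext r; rfl
  · exact RingHom.finitePresentation_algebraMap.mpr inferInstance
  · exact (flat_pullback_fst_Spec_iff R₀ A' S₀).mpr hflat

theorem exists_noetherian_model {X Y : Scheme.{u}} [IsAffine X] [IsAffine Y] (a : X ⟶ Y)
    [LocallyOfFinitePresentation a] :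
    ∃ (R₀ S₀ : CommRingCat.{u}) (_ : IsNoetherianRing R₀) (hZ : R₀ ⟶ S₀)
      (_ : hZ.hom.FiniteType) (b₀ : Y ⟶ Spec R₀) (p : X ⟶ Spec S₀),
      IsPullback p a (Spec.map hZ) b₀ := by
  have hφ : a.appTop.hom.FinitePresentation :=
    (HasRingHomProperty.iff_of_isAffine (P := @LocallyOfFinitePresentation)).mp inferInstance
  algebraize [a.appTop.hom]
  let P := Algebra.Presentation.ofFinitePresentation Γ(Y, ⊤) Γ(X, ⊤)
  let ε : Γ(Y, ⊤) ⊗[P.Core] P.ModelOfHasCoeffs P.Core ≃ₐ[Γ(Y, ⊤)] Γ(X, ⊤) :=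
    P.tensorModelOfHasCoeffsEquiv P.Core
  haveI : IsNoetherianRing P.Core := Algebra.FiniteType.isNoetherianRing ℤ P.Core
  let inr' : CommRingCat.of (P.ModelOfHasCoeffs P.Core) ⟶ Γ(X, ⊤) :=
    CommRingCat.ofHom (ε.toAlgHom.toRingHom.comp
      (Algebra.TensorProduct.includeRight (R := P.Core) (A := Γ(Y, ⊤))
        (B := P.ModelOfHasCoeffs P.Core)).toRingHom)
  have hpo : IsPushout (CommRingCat.ofHom (algebraMap P.Core Γ(Y, ⊤)))
      (CommRingCat.ofHom (algebraMap P.Core (P.ModelOfHasCoeffs P.Core))) a.appTop inr' :=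
    (CommRingCat.isPushout_tensorProduct P.Core Γ(Y, ⊤) (P.ModelOfHasCoeffs P.Core)).of_iso
      (Iso.refl _) (Iso.refl _) (Iso.refl _) ε.toRingEquiv.toCommRingCatIso
      (by simp) (by simp)
      (by ext y; exact ε.commutes y)
      (by rw [Iso.refl_hom, Category.id_comp]; rfl)
  have hpb := (isPullback_SpecMap_of_isPushout _ _ _ _ hpo).flip
  have hX : IsPullback X.isoSpec.hom a (Spec.map a.appTop) Y.isoSpec.hom :=
    IsPullback.of_horiz_isIso ⟨Scheme.isoSpec_hom_naturality a⟩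
  exact ⟨CommRingCat.of P.Core, CommRingCat.of (P.ModelOfHasCoeffs P.Core), inferInstance,
    CommRingCat.ofHom (algebraMap P.Core (P.ModelOfHasCoeffs P.Core)),
    RingHom.finiteType_algebraMap.mpr inferInstance, _, _, hX.paste_horiz hpb⟩

end ring

section affinecase

variable {J : Type u} [SmallCategory J] [IsCofiltered J] (E : J ⥤ Scheme.{u}) (e : Cone E)
  (he : IsLimit e)

theorem hom_eq_isoSpec_comp {W : Scheme.{u}} [IsAffine W] {R : CommRingCat.{u}}
    (f : W ⟶ Spec R) :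
    f = W.isoSpec.hom ≫ Spec.map ((Scheme.ΓSpecIso R).inv ≫ f.appTop) := by
  rw [Spec.map_comp, ← Category.assoc, Scheme.isoSpec_hom_naturality f, Category.assoc,
    Scheme.isoSpec_Spec_hom, ← Spec.map_comp, Iso.inv_hom_id, Spec.map_id, Category.comp_id]

include he in
/-- Descent of flatness, affine case. -/
theorem core_flat_affine [∀ (i j : J) (f : i ⟶ j), IsAffineHom (E.map f)] (j₀ : J)
    [IsAffine (E.obj j₀)] {X₀ : Scheme.{u}} [IsAffine X₀] (a : X₀ ⟶ E.obj j₀)
    [LocallyOfFinitePresentation a] (h : Flat (pullback.fst (e.π.app j₀) a)) :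
    ∃ (j : J) (ψ : j ⟶ j₀), Flat (pullback.fst (E.map ψ) a) := by
  haveI : ∀ {i j : J} (f : i ⟶ j), IsAffineHom (E.map f) := fun f => inferInstance
  haveI hπ : IsAffineHom (e.π.app j₀) := isAffineHom_π_app E e he j₀
  haveI hept : IsAffine e.pt := isAffine_of_isAffineHom (e.π.app j₀)
  haveI : IsAffine (((Functor.const J).obj e.pt).obj j₀) := hept
  obtain ⟨R₀, S₀, _, hZ, hft, b₀, p, hp⟩ := exists_noetherian_model a
  have key : ∀ {V : Scheme.{u}} (v : V ⟶ E.obj j₀),
      Flat (pullback.fst v a) ↔ Flat (pullback.fst (v ≫ b₀) (Spec.map hZ)) :=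
    fun v => fst_iff_of_isPullback @Flat hp v
  let w : R₀ ⟶ Γ(e.pt, ⊤) := (Scheme.ΓSpecIso R₀).inv ≫ (e.π.app j₀ ≫ b₀).appTop
  have hw : e.π.app j₀ ≫ b₀ = e.pt.isoSpec.hom ≫ Spec.map w := hom_eq_isoSpec_comp _
  have h1 : Flat (pullback.fst (Spec.map w) (Spec.map hZ)) := by
    have h2 := (key (e.π.app j₀)).mp h
    rw [hw] at h2
    exact (fst_iso_comp_iff @Flat _ _ _).mp h2
  obtain ⟨A', w', ι, hwι, hfp, hflat'⟩ := exists_flat_factor hZ hft w h1
  let 𝒴 : Over j₀ ⥤ Scheme.{u} := Over.forget j₀ ⋙ E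
  let cY : Cone 𝒴 := e.whisker (Over.forget j₀)
  have hcY : IsLimit cY := (Functor.Initial.isLimitWhiskerEquiv (Over.forget j₀) e).symm he
  haveI : ∀ k : Over j₀, IsAffine (𝒴.obj k) := fun k => by
    change IsAffine (E.obj k.left)
    exact isAffine_of_isAffineHom (E.map k.hom)
  haveI : ∀ {k k' : Over j₀} (φ : k ⟶ k'), IsAffineHom (𝒴.map φ) := fun φ => by
    change IsAffineHom (E.map φ.left)
    infer_instance
  let t : 𝒴 ⟶ (Functor.const (Over j₀)).obj (Spec R₀) :=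
    { app := fun k => E.map k.hom ≫ b₀
      naturality := fun k k' φ => by
        change E.map φ.left ≫ E.map k'.hom ≫ b₀ = (E.map k.hom ≫ b₀) ≫ 𝟙 _
        rw [Category.comp_id, ← Category.assoc, ← E.map_comp, Over.w φ] }
  haveI : LocallyOfFinitePresentation (Spec.map w') :=
    (HasRingHomProperty.Spec_iff (P := @LocallyOfFinitePresentation)).mpr hfp
  let α : e.pt ⟶ Spec A' := e.pt.isoSpec.hom ≫ Spec.map ι
  have hα : α ≫ Spec.map w' = e.π.app j₀ ≫ b₀ := by
    rw [hw, ← hwι, Spec.map_comp, Category.assoc]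
  have ha : cY.π ≫ t = (Functor.const (Over j₀)).map (α ≫ Spec.map w') := by
    ext k
    change e.π.app k.left ≫ E.map k.hom ≫ b₀ = α ≫ Spec.map w'
    rw [hα, ← Category.assoc, e.w k.hom]
  obtain ⟨k, g, hg1, hg2⟩ :=
    Scheme.exists_π_app_comp_eq_of_locallyOfFinitePresentation 𝒴 t (Spec.map w') cY hcY α ha
  replace hg2 : g ≫ Spec.map w' = E.map k.hom ≫ b₀ := hg2
  refine ⟨k.left, k.hom, (key (E.map k.hom)).mpr ?_⟩
  rw [← hg2]
  exact fst_comp_of_fst @Flat g (Spec.map w') (Spec.map hZ) hflat'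

end affinecase

section sourcelocal

theorem fst_comp_iff {C : Type*} [Category C] [HasPullbacks C] (P : MorphismProperty C)
    [P.RespectsIso] {V Y X U : C} (v : V ⟶ Y) (a : X ⟶ Y) (u : U ⟶ X) :
    P (pullback.fst v (u ≫ a)) ↔ P (pullback.fst (pullback.snd v a) u ≫ pullback.fst v a) := by
  rw [← pullbackLeftPullbackSndIso_hom_fst v a u, P.cancel_left_of_respectsIso]

theorem fst_iff_of_source_openCover (P : MorphismProperty Scheme.{u}) [IsZariskiLocalAtSource P]
    {V Y X : Scheme.{u}} (v : V ⟶ Y) (a : X ⟶ Y) (𝒰 : X.OpenCover) :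
    P (pullback.fst v a) ↔ ∀ t, P (pullback.fst v (𝒰.f t ≫ a)) := by
  rw [IsZariskiLocalAtSource.iff_of_openCover (P := P) (𝒰.pullback₁ (pullback.snd v a))]
  exact forall_congr' fun t => (fst_comp_iff P v a (𝒰.f t)).symm

end sourcelocal

section general

variable {J : Type u} [SmallCategory J] [IsCofiltered J] (E : J ⥤ Scheme.{u}) (e : Cone E)
  (he : IsLimit e)

include he in
/-- Descent of flatness over an affine stage, quasi-compact source. -/
theorem core_flat_of_isAffine [∀ (i j : J) (f : i ⟶ j), IsAffineHom (E.map f)] (j₀ : J)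
    [IsAffine (E.obj j₀)] {X₀ : Scheme.{u}} [CompactSpace X₀] (a : X₀ ⟶ E.obj j₀)
    [LocallyOfFinitePresentation a] (h : Flat (pullback.fst (e.π.app j₀) a)) :
    ∃ (j : J) (ψ : j ⟶ j₀), Flat (pullback.fst (E.map ψ) a) := by
  classical
  let 𝒰 := X₀.affineCover.finiteSubcover
  haveI : ∀ t, IsAffine (𝒰.X t) := fun t => by
    change IsAffine (X₀.affineCover.X _)
    infer_instance
  haveI := Fintype.ofFinite 𝒰.I₀
  have H : ∀ t, ∃ m : Over j₀, Flat (pullback.fst (E.map m.hom) (𝒰.f t ≫ a)) := fun t => by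
    obtain ⟨j, ψ, hj⟩ := core_flat_affine E e he j₀ (𝒰.f t ≫ a)
      ((fst_iff_of_source_openCover @Flat (e.π.app j₀) a 𝒰).mp h t)
    exact ⟨Over.mk ψ, hj⟩
  choose mt hmt using H
  obtain ⟨m, hm⟩ := IsCofiltered.inf_objs_exists (Finset.univ.image mt)
  have ψ : ∀ t, m ⟶ mt t := fun t =>
    (hm (Finset.mem_image_of_mem mt (Finset.mem_univ t))).some
  refine ⟨m.left, m.hom, (fst_iff_of_source_openCover @Flat (E.map m.hom) a 𝒰).mpr fun t => ?_⟩
  exact fst_comp_of_fst' @Flat (E.map (ψ t).left) (E.map (mt t).hom) (𝒰.f t ≫ a) (E.map m.hom)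
    (by rw [← E.map_comp, Over.w (ψ t)]) (hmt t)

include he in
/-- Core descent statement for flat morphisms. -/
theorem core_flat [∀ (i j : J) (f : i ⟶ j), IsAffineHom (E.map f)] (j₀ : J)
    [CompactSpace (E.obj j₀)] [QuasiSeparatedSpace (E.obj j₀)]
    {X₀ : Scheme.{u}} [CompactSpace X₀] (a : X₀ ⟶ E.obj j₀)
    [LocallyOfFinitePresentation a] (h : Flat (pullback.fst (e.π.app j₀) a)) :
    ∃ (j : J) (ψ : j ⟶ j₀), Flat (pullback.fst (E.map ψ) a) := by
  let 𝒰 := (E.obj j₀).affineCover.finiteSubcover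
  haveI : ∀ t, IsAffine (𝒰.X t) := fun t => by
    change IsAffine ((E.obj j₀).affineCover.X _)
    infer_instance
  suffices H : ∀ t, ∃ m : Over j₀, Flat
      (pullback.fst (pullback.fst (E.map m.hom) (𝒰.f t) ≫ E.map m.hom) a) by
    obtain ⟨m, hm⟩ := exists_of_openCover E @Flat j₀ a 𝒰 H
    exact ⟨m.left, m.hom, hm⟩
  intro t
  refine piece_of_core E e @Flat j₀ a (𝒰.f t) h ?_
  intro h'
  haveI : ∀ (k k' : Over j₀) (φ : k ⟶ k'), IsAffineHom ((bcDiag E j₀ (𝒰.f t)).map φ) :=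
    fun _ _ φ => inferInstance
  haveI : IsAffine ((bcDiag E j₀ (𝒰.f t)).obj (top j₀)) := isAffine_bcDiag_top E j₀ (𝒰.f t)
  let a' : pullback (pullback.snd (E.map (top j₀).hom) (𝒰.f t) ≫ 𝒰.f t) a ⟶
      (bcDiag E j₀ (𝒰.f t)).obj (top j₀) :=
    pullback.fst (pullback.snd (E.map (top j₀).hom) (𝒰.f t) ≫ 𝒰.f t) a
  haveI : LocallyOfFinitePresentation a' :=
    MorphismProperty.pullback_fst (P := @LocallyOfFinitePresentation) _ _ inferInstance
  haveI : QuasiCompact (pullback.snd (E.map (top j₀).hom) (𝒰.f t) ≫ 𝒰.f t) := inferInstance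
  haveI : CompactSpace ↥(pullback (pullback.snd (E.map (top j₀).hom) (𝒰.f t) ≫ 𝒰.f t) a) :=
    QuasiCompact.compactSpace_of_compactSpace
      (pullback.snd (pullback.snd (E.map (top j₀).hom) (𝒰.f t) ≫ 𝒰.f t) a)
  exact core_flat_of_isAffine (bcDiag E j₀ (𝒰.f t)) (bcCone E e j₀ (𝒰.f t))
    (bcIsLimit E he j₀ (𝒰.f t)) (top j₀) a' h'

end general

end Groth.Agent.Lib.Helper13.LimDescend
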