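import Groth.Agent.Lib.Helper13.LimDescendLocal

/-! Descent of isomorphisms with only a quasi-compact stage, via the local reduction. -/

set_option autoImplicit false
universe u v

open CategoryTheory CategoryTheory.Limits AlgebraicGeometry

namespace Groth.Agent.Lib.Helper13.LimDescend

open Groth.Agent.Lib.Helper22

section cores

variable {J : Type u} [SmallCategory J] [IsCofiltered J] (E : J ⥤ Scheme.{u}) (e : Cone E)
  (he : IsLimit e)

/-- The top stage of the base change of the diagram along a morphism from an affine scheme is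
affine. -/
theorem isAffine_bcDiag_top (j₀ : J) {W : Scheme.{u}} [IsAffine W] (w : W ⟶ E.obj j₀) :
    IsAffine ((bcDiag E j₀ w).obj (top j₀)) := by
  let σ : (bcDiag E j₀ w).obj (top j₀) ⟶ W := pullback.snd (E.map (top j₀).hom) w
  haveI : IsIso σ := isIso_snd_top E j₀ w
  exact IsAffine.of_isIso σ

include he in
theorem core_isIso' [∀ (i j : J) (f : i ⟶ j), IsAffineHom (E.map f)] (j₀ : J)
    [CompactSpace (E.obj j₀)]
    {X₀ : Scheme.{u}} (a : X₀ ⟶ E.obj j₀) [LocallyOfFinitePresentation a] [QuasiCompact a]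
    (h : IsIso (pullback.fst (e.π.app j₀) a)) :
    ∃ (j : J) (ψ : j ⟶ j₀), IsIso (pullback.fst (E.map ψ) a) := by
  let 𝒰 := (E.obj j₀).affineCover.finiteSubcover
  haveI : ∀ t, IsAffine (𝒰.X t) := fun t => by
    change IsAffine ((E.obj j₀).affineCover.X _)
    infer_instance
  suffices H : ∀ t, ∃ m : Over j₀, (MorphismProperty.isomorphisms Scheme.{u})
      (pullback.fst (pullback.fst (E.map m.hom) (𝒰.f t) ≫ E.map m.hom) a) by
    obtain ⟨m, hm⟩ := exists_of_openCover E (MorphismProperty.isomorphisms Scheme.{u}) j₀ a 𝒰 H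
    exact ⟨m.left, m.hom, hm⟩
  intro t
  refine piece_of_core E e (MorphismProperty.isomorphisms Scheme.{u}) j₀ a (𝒰.f t) h ?_
  intro h'
  haveI : ∀ (k k' : Over j₀) (φ : k ⟶ k'), IsAffineHom ((bcDiag E j₀ (𝒰.f t)).map φ) :=
    fun _ _ φ => inferInstance
  haveI : IsAffine ((bcDiag E j₀ (𝒰.f t)).obj (top j₀)) := isAffine_bcDiag_top E j₀ (𝒰.f t)
  let a' : pullback (pullback.snd (E.map (top j₀).hom) (𝒰.f t) ≫ 𝒰.f t) a ⟶
      (bcDiag E j₀ (𝒰.f t)).obj (top j₀) :=
    pullback.fst (pullback.snd (E.map (top j₀).hom) (𝒰.f t) ≫ 𝒰.f t) a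
  haveI : QuasiCompact a' := MorphismProperty.pullback_fst (P := @QuasiCompact) _ _ inferInstance
  haveI : LocallyOfFinitePresentation a' :=
    MorphismProperty.pullback_fst (P := @LocallyOfFinitePresentation) _ _ inferInstance
  haveI : CompactSpace ↥(pullback (pullback.snd (E.map (top j₀).hom) (𝒰.f t) ≫ 𝒰.f t) a) :=
    QuasiCompact.compactSpace_of_compactSpace a'
  exact core_isIso (bcDiag E j₀ (𝒰.f t)) (bcCone E e j₀ (𝒰.f t)) (bcIsLimit E he j₀ (𝒰.f t))
    (top j₀) a' h'

end cores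

end Groth.Agent.Lib.Helper13.LimDescend
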