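import Groth.Agent.Lib.Helper13.LimDescendSrcLocal
import Groth.Agent.S4795
import Mathlib.RingTheory.Smooth.NoetherianDescent
import Mathlib.AlgebraicGeometry.Morphisms.Smooth

/-! Descent of smoothness along cofiltered limits of schemes with affine transition maps. -/

set_option autoImplicit false
universe u v

open CategoryTheory CategoryTheory.Limits AlgebraicGeometry TensorProduct

namespace Groth.Agent.Lib.Helper13.LimDescend

open Groth.Agent.Lib.Helper22

section srclocal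

variable {J : Type u} [SmallCategory J] [IsCofiltered J] (E : J ⥤ Scheme.{u}) (e : Cone E)
  (he : IsLimit e)

include he in
/-- Variant of `core_srcLocal` where the core statement is only required for affine data. -/
theorem core_srcLocal_affine (P : MorphismProperty Scheme.{u}) [P.IsStableUnderBaseChange]
    [P.IsStableUnderComposition] [IsZariskiLocalAtSource P]
    (hopen : ∀ {X Y : Scheme.{u}} (i : X ⟶ Y) [IsOpenImmersion i], P i)
    (hcore : ∀ {J' : Type u} [SmallCategory J'] [IsCofiltered J'] (E' : J' ⥤ Scheme.{u})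
      (e' : Cone E') (_ : IsLimit e') [∀ (i j : J') (f : i ⟶ j), IsAffineHom (E'.map f)]
      (j₀' : J') [IsAffine (E'.obj j₀')]
      {X₀' : Scheme.{u}} [IsAffine X₀'] (a' : X₀' ⟶ E'.obj j₀')
      [LocallyOfFinitePresentation a'], P (pullback.fst (e'.π.app j₀') a') →
        ∃ (j : J') (ψ : j ⟶ j₀'), P (pullback.fst (E'.map ψ) a'))
    [∀ (i j : J) (f : i ⟶ j), IsAffineHom (E.map f)] (j₀ : J) {X₀ : Scheme.{u}}
    [CompactSpace X₀] (a : X₀ ⟶ E.obj j₀) [LocallyOfFinitePresentation a]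
    (h : P (pullback.fst (e.π.app j₀) a)) :
    ∃ (j : J) (ψ : j ⟶ j₀), P (pullback.fst (E.map ψ) a) := by
  classical
  have hW : ∀ x : X₀, ∃ W : (E.obj j₀).Opens, IsAffineOpen W ∧ a x ∈ W := by
    intro x
    obtain ⟨_, ⟨W, hW, rfl⟩, hxW, -⟩ :=
      (E.obj j₀).isBasis_affineOpens.exists_subset_of_mem_open (Set.mem_univ (a x)) isOpen_univ
    exact ⟨W, hW, hxW⟩
  choose W hWaff hxW using hW
  have hU : ∀ x : X₀, ∃ U : X₀.Opens, IsAffineOpen U ∧ x ∈ U ∧ U ≤ a ⁻¹ᵁ W x := by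
    intro x
    obtain ⟨_, ⟨U, hU, rfl⟩, hxU, hUW⟩ :=
      X₀.isBasis_affineOpens.exists_subset_of_mem_open (show x ∈ ((a ⁻¹ᵁ W x : X₀.Opens) : Set X₀)
        from hxW x) (a ⁻¹ᵁ W x).isOpen
    exact ⟨U, hU, hxU, hUW⟩
  choose U hUaff hxU hUW using hU
  obtain ⟨t, ht⟩ := isCompact_univ.elim_finite_subcover (fun x => ((U x : X₀.Opens) : Set X₀))
    (fun x => (U x).isOpen) (fun x _ => Set.mem_iUnion.mpr ⟨x, hxU x⟩)
  have hcov : TopologicalSpace.IsOpenCover (fun x : t => U x.1) := by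
    rw [TopologicalSpace.IsOpenCover, eq_top_iff]
    intro x _
    obtain ⟨y, hy⟩ := Set.mem_iUnion.mp (ht (Set.mem_univ x))
    obtain ⟨hyt, hxy⟩ := Set.mem_iUnion.mp hy
    exact TopologicalSpace.Opens.mem_iSup.mpr ⟨⟨y, hyt⟩, hxy⟩
  let 𝒰 : X₀.OpenCover := X₀.openCoverOfIsOpenCover (fun x : t => U x.1) hcov
  have key : ∀ x : t, ∃ m : Over j₀, P (pullback.fst (E.map m.hom) ((U x.1).ι ≫ a)) := by
    intro x
    haveI : IsAffine (W x.1).toScheme := hWaff x.1
    haveI : IsAffine (U x.1).toScheme := hUaff x.1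
    have hb : a.resLE (W x.1) (U x.1) (hUW x.1) ≫ (W x.1).ι = (U x.1).ι ≫ a :=
      Scheme.Hom.resLE_comp_ι a (hUW x.1)
    refine piece_of_core_src E e P hopen j₀ a (W x.1).ι (U x.1).ι
      (a.resLE (W x.1) (U x.1) (hUW x.1)) hb h ?_
    haveI : IsAffine ((bcDiag E j₀ (W x.1).ι).obj (top j₀)) := isAffine_bcDiag_top E j₀ (W x.1).ι
    haveI : LocallyOfFinitePresentation (a.resLE (W x.1) (U x.1) (hUW x.1) ≫ (W x.1).ι) := by
      rw [hb]; infer_instance
    haveI : LocallyOfFinitePresentation (a.resLE (W x.1) (U x.1) (hUW x.1)) :=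
      locallyOfFinitePresentation_of_comp _ (W x.1).ι
    exact hcore (bcDiag E j₀ (W x.1).ι) (bcCone E e j₀ (W x.1).ι) (bcIsLimit E he j₀ (W x.1).ι)
      (top j₀) (a.resLE (W x.1) (U x.1) (hUW x.1) ≫ sndTopInv E j₀ (W x.1).ι)
  choose mt hmt using key
  haveI : Fintype t := inferInstance
  obtain ⟨m, hm⟩ := IsCofiltered.inf_objs_exists (Finset.univ.image mt)
  have ψ : ∀ x : t, m ⟶ mt x := fun x =>
    (hm (Finset.mem_image_of_mem mt (Finset.mem_univ x))).some
  refine ⟨m.left, m.hom, ?_⟩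
  rw [fst_iff_of_source_openCover P (E.map m.hom) a 𝒰]
  intro x
  exact fst_comp_of_fst' P (E.map (ψ x).left) (E.map (mt x).hom) _ (E.map m.hom)
    (by rw [← E.map_comp]; exact congrArg E.map (Over.w (ψ x))) (hmt x)


end srclocal

section ring

theorem exists_smooth_model {X Y : Scheme.{u}} [IsAffine X] [IsAffine Y] (f : X ⟶ Y) [Smooth f]
    {R₀ : CommRingCat.{u}} [IsNoetherianRing R₀] (w : R₀ ⟶ Γ(Y, ⊤)) :
    ∃ (A₀ B₀ : CommRingCat.{u}) (w' : R₀ ⟶ A₀) (ι : A₀ ⟶ Γ(Y, ⊤)) (hZ : A₀ ⟶ B₀)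
      (p : X ⟶ Spec B₀), w' ≫ ι = w ∧ w'.hom.FinitePresentation ∧ Smooth (Spec.map hZ) ∧
      IsPullback p f (Spec.map hZ) (Y.isoSpec.hom ≫ Spec.map ι) := by
  have hφ : f.appTop.hom.Smooth :=
    (HasRingHomProperty.iff_of_isAffine (P := @Smooth)).mp inferInstance
  algebraize [w.hom, f.appTop.hom]
  obtain ⟨A₀, B₀, _, _, hfg, hsm, ⟨ε⟩⟩ :=
    Algebra.Smooth.exists_subalgebra_fg R₀ Γ(Y, ⊤) Γ(X, ⊤)
  let inr' : CommRingCat.of B₀ ⟶ Γ(X, ⊤) :=
    CommRingCat.ofHom (ε.symm.toAlgHom.toRingHom.comp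
      (Algebra.TensorProduct.includeRight (R := A₀) (A := Γ(Y, ⊤)) (B := B₀)).toRingHom)
  have hpo : IsPushout (CommRingCat.ofHom (algebraMap A₀ Γ(Y, ⊤)))
      (CommRingCat.ofHom (algebraMap A₀ B₀)) f.appTop inr' :=
    (CommRingCat.isPushout_tensorProduct A₀ Γ(Y, ⊤) B₀).of_iso
      (Iso.refl _) (Iso.refl _) (Iso.refl _) ε.symm.toRingEquiv.toCommRingCatIso
      (by simp) (by simp)
      (by ext y; exact ε.symm.commutes y)
      (by rw [Iso.refl_hom, Category.id_comp]; rfl)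
  have hpb := (isPullback_SpecMap_of_isPushout _ _ _ _ hpo).flip
  have hX : IsPullback X.isoSpec.hom f (Spec.map f.appTop) Y.isoSpec.hom :=
    IsPullback.of_horiz_isIso ⟨Scheme.isoSpec_hom_naturality f⟩
  haveI : Algebra.FiniteType R₀ A₀ := (Subalgebra.fg_iff_finiteType A₀).mp hfg
  haveI : Algebra.FinitePresentation R₀ A₀ := Algebra.FinitePresentation.of_finiteType.mp inferInstance
  refine ⟨CommRingCat.of A₀, CommRingCat.of B₀, CommRingCat.ofHom (algebraMap R₀ A₀),
    CommRingCat.ofHom (algebraMap A₀ Γ(Y, ⊤)), CommRingCat.ofHom (algebraMap A₀ B₀), _, ?_, ?_, ?_,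
    hX.paste_horiz hpb⟩
  · ext r; rfl
  · exact RingHom.finitePresentation_algebraMap.mpr inferInstance
  · exact (HasRingHomProperty.Spec_iff (P := @Smooth)).mpr (RingHom.smooth_algebraMap.mpr hsm)

end ring

section affinecase

variable {J : Type u} [SmallCategory J] [IsCofiltered J] (E : J ⥤ Scheme.{u}) (e : Cone E)
  (he : IsLimit e)

include he in
theorem core_smooth_affine_aux [∀ (i j : J) (f : i ⟶ j), IsAffineHom (E.map f)] (j₀ : J)
    [IsAffine (E.obj j₀)] {X₀ : Scheme.{u}} [IsAffine X₀] (a : X₀ ⟶ E.obj j₀)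
    [LocallyOfFinitePresentation a] (k : J) (ψ : k ⟶ j₀) [IsAffine (E.obj k)]
    {A₀ B₀ : CommRingCat.{u}} (g : E.obj k ⟶ Spec A₀) (hZ : A₀ ⟶ B₀) (hsm : Smooth (Spec.map hZ))
    (p : pullback (e.π.app j₀) a ⟶ Spec B₀) (α : e.pt ⟶ Spec A₀) (hg1 : e.π.app k ≫ g = α)
    (hpb : IsPullback p (pullback.fst (e.π.app j₀) a) (Spec.map hZ) α) :
    ∃ (j : J) (ψ : j ⟶ j₀), Smooth (pullback.fst (E.map ψ) a) := by
  subst hg1
  haveI : QuasiCompact (pullback.fst (E.map ψ) a) :=
    MorphismProperty.pullback_fst (P := @QuasiCompact) _ _ inferInstance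
  haveI : QuasiSeparated (pullback.fst (E.map ψ) a) :=
    MorphismProperty.pullback_fst (P := @QuasiSeparated) _ _ inferInstance
  haveI : LocallyOfFinitePresentation (pullback.fst (E.map ψ) a) :=
    MorphismProperty.pullback_fst (P := @LocallyOfFinitePresentation) _ _ inferInstance
  haveI : QuasiCompact (pullback.fst g (Spec.map hZ)) :=
    MorphismProperty.pullback_fst (P := @QuasiCompact) _ _ inferInstance
  haveI : QuasiSeparated (pullback.fst g (Spec.map hZ)) :=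
    MorphismProperty.pullback_fst (P := @QuasiSeparated) _ _ inferInstance
  haveI hsm1 : Smooth (pullback.fst g (Spec.map hZ)) :=
    MorphismProperty.pullback_fst (P := @Smooth) _ _ hsm
  let f : pullback (e.π.app j₀) a ⟶ e.pt := pullback.fst (e.π.app j₀) a
  let qX : pullback (e.π.app j₀) a ⟶ pullback (E.map ψ) a :=
    pullback.lift (f ≫ e.π.app k) (pullback.snd (e.π.app j₀) a)
      (by rw [Category.assoc, e.w ψ]; exact pullback.condition)
  have hX : IsPullback qX f (pullback.fst (E.map ψ) a) (e.π.app k) := by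
    refine IsPullback.of_right ?_ (pullback.lift_fst _ _ _)
      (IsPullback.of_hasPullback (E.map ψ) a).flip
    rw [pullback.lift_snd, e.w ψ]
    exact (IsPullback.of_hasPullback (e.π.app j₀) a).flip
  let qY : pullback (e.π.app j₀) a ⟶ pullback g (Spec.map hZ) :=
    pullback.lift (f ≫ e.π.app k) p (by rw [Category.assoc]; exact hpb.w.symm)
  have hY : IsPullback qY f (pullback.fst g (Spec.map hZ)) (e.π.app k) := by
    refine IsPullback.of_right ?_ (pullback.lift_fst _ _ _)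
      (IsPullback.of_hasPullback g (Spec.map hZ)).flip
    rw [pullback.lift_snd]
    exact hpb
  obtain ⟨j', φ, Xj, Yj, aj, bj, pX, pY, k1, k2, e', he'⟩ :=
    (Groth.Agent.S4795.result E e he k (pullback.fst (E.map ψ) a)
      (pullback.fst g (Spec.map hZ)) f f qX qY hX hY).mp ⟨Iso.refl _, by simp⟩
  haveI : Smooth bj := MorphismProperty.of_isPullback (P := @Smooth) k2 hsm1
  have haj : Smooth aj := by rw [← he']; infer_instance
  refine ⟨j', φ ≫ ψ, ?_⟩
  have hbig := k1.paste_horiz (IsPullback.of_hasPullback (E.map ψ) a).flip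
  rw [← E.map_comp] at hbig
  exact (prop_iff_of_isPullback @Smooth (IsPullback.of_hasPullback (E.map (φ ≫ ψ)) a)
    hbig.flip).mpr haj

include he in
/-- Descent of smoothness, affine case. -/
theorem core_smooth_affine [∀ (i j : J) (f : i ⟶ j), IsAffineHom (E.map f)] (j₀ : J)
    [IsAffine (E.obj j₀)] {X₀ : Scheme.{u}} [IsAffine X₀] (a : X₀ ⟶ E.obj j₀)
    [LocallyOfFinitePresentation a] (h : Smooth (pullback.fst (e.π.app j₀) a)) :
    ∃ (j : J) (ψ : j ⟶ j₀), Smooth (pullback.fst (E.map ψ) a) := by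
  haveI : ∀ {i j : J} (f : i ⟶ j), IsAffineHom (E.map f) := fun f => inferInstance
  haveI hπ : IsAffineHom (e.π.app j₀) := isAffineHom_π_app E e he j₀
  haveI hept : IsAffine e.pt := isAffine_of_isAffineHom (e.π.app j₀)
  haveI : IsAffine (((Functor.const J).obj e.pt).obj j₀) := hept
  haveI hXaff : IsAffine (pullback (e.π.app j₀) a) := inferInstance
  obtain ⟨R₀, S₀, _, hZ₀, hft, b₀, p₀, hp₀⟩ := exists_noetherian_model a
  let w : R₀ ⟶ Γ(e.pt, ⊤) := (Scheme.ΓSpecIso R₀).inv ≫ (e.π.app j₀ ≫ b₀).appTop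
  have hw : e.π.app j₀ ≫ b₀ = e.pt.isoSpec.hom ≫ Spec.map w := hom_eq_isoSpec_comp _
  obtain ⟨A₀, B₀, w', ι, hZ, p, hwι, hfp, hsm, hpb⟩ :=
    @exists_smooth_model _ _ hXaff hept (pullback.fst (e.π.app j₀) a) h R₀ _ w
  let 𝒴 : Over j₀ ⥤ Scheme.{u} := Over.forget j₀ ⋙ E
  let cY : Cone 𝒴 := e.whisker (Over.forget j₀)
  have hcY : IsLimit cY := (Functor.Initial.isLimitWhiskerEquiv (Over.forget j₀) e).symm he
  haveI hEaff : ∀ k : Over j₀, IsAffine (E.obj k.left) := fun k =>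
    isAffine_of_isAffineHom (E.map k.hom)
  haveI : ∀ k : Over j₀, IsAffine (𝒴.obj k) := fun k => hEaff k
  haveI : ∀ {k k' : Over j₀} (φ : k ⟶ k'), IsAffineHom (𝒴.map φ) := fun φ => by
    change IsAffineHom (E.map φ.left)
    infer_instance
  let t : 𝒴 ⟶ (Functor.const (Over j₀)).obj (Spec R₀) :=
    { app := fun k => E.map k.hom ≫ b₀
      naturality := fun k k' φ => by
        change E.map φ.left ≫ E.map k'.hom ≫ b₀ = (E.map k.hom ≫ b₀) ≫ 𝟙 _
        rw [Category.comp_id, ← Category.assoc, ← E.map_comp, Over.w φ] }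
  haveI : LocallyOfFinitePresentation (Spec.map w') :=
    (HasRingHomProperty.Spec_iff (P := @LocallyOfFinitePresentation)).mpr hfp
  let α : e.pt ⟶ Spec A₀ := e.pt.isoSpec.hom ≫ Spec.map ι
  have hα : α ≫ Spec.map w' = e.π.app j₀ ≫ b₀ := by
    rw [hw, ← hwι, Spec.map_comp, Category.assoc]
  have ha : cY.π ≫ t = (Functor.const (Over j₀)).map (α ≫ Spec.map w') := by
    ext k
    change e.π.app k.left ≫ E.map k.hom ≫ b₀ = α ≫ Spec.map w'
    rw [hα, ← Category.assoc, e.w k.hom]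
  obtain ⟨k, g, hg1, hg2⟩ :=
    Scheme.exists_π_app_comp_eq_of_locallyOfFinitePresentation 𝒴 t (Spec.map w') cY hcY α ha
  haveI : IsAffine (E.obj k.left) := hEaff k
  exact core_smooth_affine_aux E e he j₀ a k.left k.hom g hZ hsm p α hg1 hpb

include he in
/-- Descent of smoothness: quasi-compact source over an arbitrary stage. -/
theorem core_smooth [∀ (i j : J) (f : i ⟶ j), IsAffineHom (E.map f)] (j₀ : J)
    {X₀ : Scheme.{u}} [CompactSpace X₀] (a : X₀ ⟶ E.obj j₀)
    [LocallyOfFinitePresentation a] (h : Smooth (pullback.fst (e.π.app j₀) a)) :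
    ∃ (j : J) (ψ : j ⟶ j₀), Smooth (pullback.fst (E.map ψ) a) := by
  refine core_srcLocal_affine E e he @Smooth (fun i _ => inferInstance) ?_ j₀ a h
  intro J' _ _ E' e' he' _ j₀' _ X₀' _ a' _ h'
  exact core_smooth_affine E' e' he' j₀' a' h'

end affinecase

end Groth.Agent.Lib.Helper13.LimDescend
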