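import Groth.Agent.Lib.Helper13.LimDescendCore
import Groth.Agent.S4787
import Mathlib.AlgebraicGeometry.Morphisms.FinitePresentation
import Mathlib.AlgebraicGeometry.PullbackCarrier

/-! Core descent statement for surjective morphisms (finite presentation). -/

set_option autoImplicit false
universe u

open CategoryTheory CategoryTheory.Limits AlgebraicGeometry

namespace Groth.Agent.Lib.Helper13.LimDescend

open Groth.Agent.Lib.Helper22

theorem isProConstructible_univ {T : Type*} [TopologicalSpace T] :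
    ProCons.IsProConstructible (Set.univ : Set T) := by
  intro x
  refine ⟨Set.univ, isOpen_univ, trivial, ∅, by simp, by simp⟩

theorem isIndConstructible_of_isLocallyConstructible {T : Type*} [TopologicalSpace T] {E : Set T}
    (hE : Topology.IsLocallyConstructible E) : ProCons.IsIndConstructible E := by
  intro x
  refine ⟨Set.univ, isOpen_univ, trivial, {Subtype.val ⁻¹' E}, ?_, by simp⟩
  intro T hT
  rw [Set.mem_singleton_iff] at hT
  subst hT
  exact hE.preimage_of_isOpenEmbedding isOpen_univ.isOpenEmbedding_subtypeVal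

/-- cancellation for morphisms locally of finite presentation -/
theorem locallyOfFinitePresentation_of_comp {X Y Z : Scheme.{u}} (f : X ⟶ Y) (g : Y ⟶ Z)
    [LocallyOfFinitePresentation (f ≫ g)] [LocallyOfFiniteType g] :
    LocallyOfFinitePresentation f := by
  rw [HasRingHomProperty.iff_exists_appLE (P := @LocallyOfFinitePresentation)
    (RingHom.finitePresentation_stableUnderComposition.stableUnderCompositionWithLocalizationAway
      RingHom.finitePresentation_holdsForLocalizationAway).left]
  intro x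
  obtain ⟨_, ⟨Z0, hZ0, rfl⟩, hxZ0, -⟩ :=
    Z.isBasis_affineOpens.exists_subset_of_mem_open (Set.mem_univ (g (f x))) isOpen_univ
  obtain ⟨V, hV, hxV, hVZ0⟩ := exists_isAffineOpen_mem_and_subset (x := f x) (U := g ⁻¹ᵁ Z0) hxZ0
  obtain ⟨W, hW, hxW, hWV⟩ := exists_isAffineOpen_mem_and_subset (x := x) (U := f ⁻¹ᵁ V) hxV
  refine ⟨⟨V, hV⟩, ⟨W, hW⟩, hxW, hWV, ?_⟩
  have h1 := (f ≫ g).finitePresentation_appLE hZ0 hW
    (hWV.trans ((TopologicalSpace.Opens.map f.base).map (homOfLE hVZ0)).le)
  rw [← Scheme.Hom.appLE_comp_appLE f g Z0 V W hVZ0 hWV, CommRingCat.hom_comp] at h1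
  exact RingHom.FinitePresentation.of_comp_finiteType _ h1 (g.finiteType_appLE hZ0 hV hVZ0)

variable {J : Type u} [SmallCategory J] [IsCofiltered J] (E : J ⥤ Scheme.{u}) (e : Cone E)
  (he : IsLimit e)

include he in
theorem core_surjective [∀ (i j : J) (f : i ⟶ j), IsAffineHom (E.map f)] (j₀ : J)
    [CompactSpace (E.obj j₀)]
    {X₀ : Scheme.{u}} (a : X₀ ⟶ E.obj j₀) [LocallyOfFinitePresentation a] [QuasiCompact a]
    (h : Surjective (pullback.fst (e.π.app j₀) a)) :
    ∃ (j : J) (ψ : j ⟶ j₀), Surjective (pullback.fst (E.map ψ) a) := by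
  let 𝒴 : Over j₀ ⥤ Scheme.{u} := Over.forget j₀ ⋙ E
  let c𝒴 : Cone 𝒴 := e.whisker (Over.forget j₀)
  have hc𝒴 : IsLimit c𝒴 := (Functor.Initial.isLimitWhiskerEquiv (Over.forget j₀) e).symm he
  haveI : ∀ (i j : Over j₀) (f : i ⟶ j), IsAffineHom (𝒴.map f) := fun i j f => by
    change IsAffineHom (E.map f.left); infer_instance
  haveI : CompactSpace (𝒴.obj (top j₀)) := by
    change CompactSpace (E.obj j₀); infer_instance
  let F : ∀ k : Over j₀, Set (𝒴.obj k) := fun k => Set.range (pullback.fst (E.map k.hom) a)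
  have hF : ∀ k, ProCons.IsIndConstructible (F k) := by
    intro k
    apply isIndConstructible_of_isLocallyConstructible
    have := (pullback.fst (E.map k.hom) a).isLocallyConstructible_image
      (s := Set.univ) Topology.IsLocallyConstructible.univ
    rwa [Set.image_univ] at this
  have hFm : ∀ (i j : Over j₀) (φ : i ⟶ j), ⇑(𝒴.map φ) ⁻¹' F j ⊆ F i := by
    rintro i j φ y ⟨x', hx'⟩
    have hx'' : E.map φ.left y = pullback.fst (E.map j.hom) a x' := hx'.symm
    have hcond : E.map i.hom y = a (pullback.snd (E.map j.hom) a x') := by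
      have h1 : E.map i.hom = E.map φ.left ≫ E.map j.hom := by
        rw [← E.map_comp, Over.w φ]
      rw [h1, Scheme.Hom.comp_apply, hx'', ← Scheme.Hom.comp_apply, ← Scheme.Hom.comp_apply,
        pullback.condition]
    obtain ⟨z, hz, -⟩ := Scheme.Pullback.exists_preimage_pullback (f := E.map i.hom) (g := a)
      y _ hcond
    exact ⟨z, hz⟩
  have key := (Groth.Agent.S4787.result 𝒴 c𝒴 hc𝒴 (top j₀) (fun _ => Set.univ) F
    (fun _ => isProConstructible_univ) hF (fun _ _ _ => Set.subset_univ _) hFm).mp ?_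
  · obtain ⟨k, -, hk⟩ := key
    refine ⟨k.left, k.hom, ⟨fun y => ?_⟩⟩
    exact hk k (𝟙 k) (Set.mem_univ y)
  · intro y _
    refine Set.mem_iUnion.mpr ⟨top j₀, ?_⟩
    obtain ⟨x, rfl⟩ := h.surj y
    have hcond : E.map (top j₀).hom (e.π.app j₀ (pullback.fst (e.π.app j₀) a x)) =
        a (pullback.snd (e.π.app j₀) a x) := by
      have h1 : E.map (top j₀).hom = 𝟙 _ := E.map_id j₀
      rw [h1]
      change (e.π.app j₀) (pullback.fst (e.π.app j₀) a x) = _
      rw [← Scheme.Hom.comp_apply, pullback.condition, Scheme.Hom.comp_apply]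
    obtain ⟨z, hz, -⟩ := Scheme.Pullback.exists_preimage_pullback
      (f := E.map (top j₀).hom) (g := a) _ _ hcond
    exact ⟨z, hz⟩

end Groth.Agent.Lib.Helper13.LimDescend
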