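import Mathlib
import Groth.Prelude.Def_W4c5cptfessfintypeLocImm

/-!
# Localizing ring maps: ring-level lemmas
-/

universe u

open LocImm

namespace Groth.Agent.Lib.Helper13.LocImmLib

variable {A B C : Type*} [CommRing A] [CommRing B] [CommRing C]

/-- the canonical map to a localization is localizing -/
theorem isLocHom_algebraMap [Algebra A B] (S : Submonoid A) [h : IsLocalization S B] :
    IsLocHom (algebraMap A B) := by
  refine ⟨S, ?_⟩
  have e : (algebraMap A B).toAlgebra = ‹Algebra A B› := Algebra.algebra_ext _ _ (fun _ => rfl)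
  rw [e]
  exact h

theorem isLocHom_of_eq_algebraMap [Algebra A B] (S : Submonoid A) [h : IsLocalization S B]
    (φ : A →+* B) (hφ : φ = algebraMap A B) : IsLocHom φ := by
  subst hφ
  exact isLocHom_algebraMap S

/-- a bijective ring map is localizing -/
theorem isLocHom_of_bijective (φ : A →+* B) (hφ : Function.Bijective φ) : IsLocHom φ := by
  letI := φ.toAlgebra
  refine ⟨⊥, ?_⟩
  refine ⟨⟨?_, ?_, ?_⟩⟩
  · rintro ⟨y, hy⟩
    rw [Submonoid.mem_bot] at hy
    subst hy
    simp
  · intro z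
    obtain ⟨a, rfl⟩ := hφ.2 z
    exact ⟨(a, 1), by simp; rfl⟩
  · intro x y hxy
    exact ⟨1, by rw [hφ.1 hxy]⟩

/-- localizing maps compose -/
theorem IsLocHom.comp {φ : A →+* B} {ψ : B →+* C} (hφ : IsLocHom φ) (hψ : IsLocHom ψ) :
    IsLocHom (ψ.comp φ) := by
  obtain ⟨S, hS⟩ := hφ
  obtain ⟨T, hT⟩ := hψ
  letI := φ.toAlgebra
  letI := ψ.toAlgebra
  letI := (ψ.comp φ).toAlgebra
  haveI : IsScalarTower A B C := IsScalarTower.of_algebraMap_eq (fun _ => rfl)
  exact ⟨_, IsLocalization.localization_localization_isLocalization S T C⟩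

/-- if `ι : A → A'` and `ψ ∘ ι` are localizing then so is `ψ`. -/
theorem IsLocHom.of_comp {ι : A →+* B} {ψ : B →+* C} (hι : IsLocHom ι)
    (h : IsLocHom (ψ.comp ι)) : IsLocHom ψ := by
  obtain ⟨M, hM⟩ := hι
  obtain ⟨N, hN⟩ := h
  letI := ι.toAlgebra
  letI := ψ.toAlgebra
  letI := (ψ.comp ι).toAlgebra
  haveI : IsScalarTower A B C := IsScalarTower.of_algebraMap_eq (fun _ => rfl)
  haveI : IsLocalization (N ⊔ M) C := by
    refine IsLocalization.of_le N (N ⊔ M) le_sup_left ?_
    intro r hr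
    obtain ⟨n, hn, m, hm, rfl⟩ := Submonoid.mem_sup.mp hr
    rw [map_mul]
    refine IsUnit.mul (IsLocalization.map_units C ⟨n, hn⟩) ?_
    have : IsUnit (algebraMap A B m) := IsLocalization.map_units B ⟨m, hm⟩
    rw [IsScalarTower.algebraMap_apply A B C]
    exact this.map _
  exact ⟨_, IsLocalization.isLocalization_of_submonoid_le B C M (N ⊔ M) le_sup_right⟩

/-- a localizing map is an epimorphism of rings -/
theorem IsLocHom.ringHom_ext {φ : A →+* B} (hφ : IsLocHom φ) {g h : B →+* C}
    (hgh : g.comp φ = h.comp φ) : g = h := by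
  obtain ⟨S, hS⟩ := hφ
  letI := φ.toAlgebra
  exact IsLocalization.ringHom_ext S hgh

/-- Local rings of a localization: if `φ : A → B` is localizing, `q` a prime of `B`, then the
induced map `A_{φ⁻¹q} → B_q` is bijective. -/
theorem IsLocHom.bijective_of_atPrime {A B : Type*} [CommRing A] [CommRing B]
    {φ : A →+* B} (hφ : IsLocHom φ) (q : Ideal B) [q.IsPrime]
    (Ap Bq : Type*) [CommRing Ap] [CommRing Bq] [Algebra A Ap] [Algebra B Bq]
    [IsLocalization.AtPrime Ap (q.comap φ)] [IsLocalization.AtPrime Bq q]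
    (ψ : Ap →+* Bq) (hψ : ψ.comp (algebraMap A Ap) = (algebraMap B Bq).comp φ) :
    Function.Bijective ψ := by
  obtain ⟨S, hS⟩ := hφ
  letI := φ.toAlgebra
  letI : Algebra A Bq := ((algebraMap B Bq).comp φ).toAlgebra
  haveI : IsScalarTower A B Bq := IsScalarTower.of_algebraMap_eq (fun _ => rfl)
  haveI h2 : IsLocalization.AtPrime Bq (q.comap (algebraMap A B)) :=
    IsLocalization.isLocalization_isLocalization_atPrime_isLocalization S Bq q
  have h3 : IsLocalization.AtPrime Bq (q.comap φ) := h2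
  let e : Ap ≃ₐ[A] Bq := IsLocalization.algEquiv (q.comap φ).primeCompl Ap Bq
  have : ψ = (e : Ap →+* Bq) := by
    apply IsLocalization.ringHom_ext (q.comap φ).primeCompl
    rw [hψ]
    ext a
    simp only [RingHom.coe_comp, Function.comp_apply, RingHom.coe_coe, AlgEquiv.commutes]
    rfl
  rw [this]
  exact e.bijective

end Groth.Agent.Lib.Helper13.LocImmLib
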