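import Mathlib
import Groth.Prelude.Def_W4c5cptfessfintypeLocImm
import Groth.Agent.Lib.Helper13.LocImmRing
import Groth.Agent.Lib.Helper13.LocalIso2

/-!
# Localizing morphisms of schemes: core facts
-/

universe u

open CategoryTheory CategoryTheory.Limits AlgebraicGeometry TopologicalSpace LocImm Topology

namespace Groth.Agent.Lib.Helper13.LocImmLib

/-! ## topology -/

/-- An injective continuous generalizing map from a Noetherian quasi-sober space is inducing. -/
theorem isInducing_of_generalizingMap {X Y : Type*} [TopologicalSpace X] [TopologicalSpace Y]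
    [NoetherianSpace X] [QuasiSober X] {f : X → Y} (hc : Continuous f)
    (hinj : Function.Injective f) (hg : GeneralizingMap f) : IsInducing f := by
  rw [isInducing_iff_nhds]
  intro x
  refine le_antisymm (hc.tendsto x).le_comap ?_
  intro V hV
  obtain ⟨V', hV'V, hV'o, hxV'⟩ := mem_nhds_iff.mp hV
  obtain ⟨S, hSf, hSc, hSi, hSU⟩ :=
    NoetherianSpace.exists_finite_set_isClosed_irreducible hV'o.isClosed_compl
  haveI : Nonempty X := ⟨x⟩
  choose! gen hgen using fun t (ht : t ∈ S) => QuasiSober.sober (hSi t ht) (hSc t ht)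
  let C : Set Y := ⋃ t ∈ S, closure {f (gen t)}
  have hCc : IsClosed C := hSf.isClosed_biUnion fun t _ => isClosed_closure
  have hxC : f x ∉ C := by
    intro hx
    simp only [C, Set.mem_iUnion] at hx
    obtain ⟨t, ht, hxt⟩ := hx
    have hsp : f (gen t) ⤳ f x := specializes_iff_mem_closure.mpr hxt
    obtain ⟨x', hx', hfx'⟩ := hg hsp
    have : x' = gen t := hinj hfx'
    subst this
    have h1 : gen t ∈ V' := hx'.mem_open hV'o hxV'
    have h2 : gen t ∈ V'ᶜ := by
      rw [hSU]
      exact ⟨t, ht, (hgen t ht).mem⟩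
    exact h2 h1
  rw [Filter.mem_comap]
  refine ⟨Cᶜ, hCc.isOpen_compl.mem_nhds hxC, ?_⟩
  intro z hz
  by_contra hzV
  have hzV' : z ∈ V'ᶜ := fun h => hzV (hV'V h)
  rw [hSU] at hzV'
  obtain ⟨t, ht, hzt⟩ := hzV'
  apply hz
  simp only [C, Set.mem_iUnion]
  refine ⟨t, ht, ?_⟩
  have : z ∈ closure {gen t} := by
    rw [(hgen t ht).def]
    exact hzt
  have hsp : gen t ⤳ z := specializes_iff_mem_closure.mpr this
  exact specializes_iff_mem_closure.mp (hsp.map hc)

/-- A closed subset of a Noetherian quasi-sober space which is stable under generization is open. -/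
theorem isOpen_of_isClosed_of_stableUnderGeneralization {Y : Type*} [TopologicalSpace Y]
    [NoetherianSpace Y] [QuasiSober Y] {R : Set Y} (hc : IsClosed R)
    (hg : StableUnderGeneralization R) : IsOpen R := by
  obtain ⟨S, hSf, hSc, hSi, hSU⟩ :=
    NoetherianSpace.exists_finite_set_isClosed_irreducible (isClosed_univ (X := Y))
  have : Rᶜ = ⋃ t ∈ {t ∈ S | Disjoint t R}, t := by
    ext y
    simp only [Set.mem_compl_iff, Set.mem_setOf_eq, Set.mem_iUnion, exists_prop]
    constructor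
    · intro hy
      have : y ∈ (Set.univ : Set Y) := trivial
      rw [hSU] at this
      obtain ⟨t, ht, hyt⟩ := this
      refine ⟨t, ⟨ht, ?_⟩, hyt⟩
      rw [Set.disjoint_left]
      intro z hzt hzR
      obtain ⟨η, hη⟩ := QuasiSober.sober (hSi t ht) (hSc t ht)
      have h1 : η ⤳ z := hη.specializes hzt
      have h2 : η ∈ R := hg h1 hzR
      have h3 : η ⤳ y := hη.specializes hyt
      exact hy (h3.mem_closed hc h2)
    · rintro ⟨t, ⟨_, htR⟩, hyt⟩ hyR
      exact Set.disjoint_left.mp htR hyt hyR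
  rw [← isClosed_compl_iff, this]
  exact (hSf.subset (Set.sep_subset _ _)).isClosed_biUnion fun t ht => hSc t ht.1

variable {X Y : Scheme.{u}}

/-! ## charts -/

/-- Charts of a localizing morphism can be chosen inside any given open neighbourhood. -/
theorem IsLocalizing.exists_chart_le {f : X ⟶ Y} (hf : IsLocalizing f) (x : X) (N : X.Opens)
    (hx : x ∈ N) :
    ∃ (U : Y.affineOpens) (V : X.affineOpens) (_ : x ∈ V.1) (e : V.1 ≤ f ⁻¹ᵁ U.1),
      V.1 ≤ N ∧ IsLocHom (f.appLE U V e).hom := by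
  obtain ⟨U, V₀, hxV, e, h⟩ := hf x
  obtain ⟨b, hbN, hxb⟩ := V₀.2.exists_basicOpen_le (V := N) ⟨x, hx⟩ hxV
  refine ⟨U, ⟨X.basicOpen b, V₀.2.basicOpen b⟩, hxb, (X.basicOpen_le b).trans e, hbN, ?_⟩
  have e2 : f.appLE U (X.basicOpen b) ((X.basicOpen_le b).trans e) = f.appLE U V₀ e ≫
      X.presheaf.map (homOfLE (X.basicOpen_le b)).op := by
    rw [Scheme.Hom.appLE_map]
  change IsLocHom (f.appLE U (X.basicOpen b) ((X.basicOpen_le b).trans e)).hom
  rw [e2, CommRingCat.hom_comp]
  refine IsLocHom.comp h ?_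
  haveI := V₀.2.isLocalization_basicOpen b
  exact isLocHom_of_eq_algebraMap (Submonoid.powers b) _ rfl

/-- The stalk maps of a localizing morphism are isomorphisms. -/
theorem IsLocalizing.bijective_stalkMap {f : X ⟶ Y} (hf : IsLocalizing f) (x : X) :
    Function.Bijective (f.stalkMap x).hom := by
  obtain ⟨⟨V, hV⟩, ⟨W, hW⟩, hxW, hWV, hloc⟩ := hf x
  have hsV : f.base x ∈ V := hWV hxW
  letI algV := Y.presheaf.algebra_section_stalk ⟨f.base x, hsV⟩
  letI algW := X.presheaf.algebra_section_stalk ⟨x, hxW⟩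
  haveI locW := hW.isLocalization_stalk ⟨x, hxW⟩
  have hcompat : (f.stalkMap x).hom.comp (algebraMap Γ(Y, V) (Y.presheaf.stalk (f.base x))) =
      (algebraMap Γ(X, W) (X.presheaf.stalk x)).comp (f.appLE V W hWV).hom := by
    ext a
    change (f.stalkMap x).hom ((Y.presheaf.germ V (f.base x) hsV).hom a) =
      (X.presheaf.germ W x hxW).hom ((f.appLE V W hWV).hom a)
    rw [Scheme.Hom.appLE, CommRingCat.hom_comp, RingHom.comp_apply,
      ← CommRingCat.comp_apply (X.presheaf.map _), X.presheaf.germ_res]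
    exact Scheme.Hom.germ_stalkMap_apply f V x hsV a
  have hprime : (hV.primeIdealOf ⟨f.base x, hsV⟩).asIdeal =
      (hW.primeIdealOf ⟨x, hxW⟩).asIdeal.comap (f.appLE V W hWV).hom := by
    ext a
    rw [Ideal.mem_comap, LocalIso.mem_primeIdealOf_iff, LocalIso.mem_primeIdealOf_iff]
    have h1 : (X.presheaf.germ W x hxW) ((f.appLE V W hWV).hom a) =
        (f.stalkMap x).hom ((Y.presheaf.germ V (f.base x) hsV).hom a) :=
      (congrArg (fun ξ : Γ(Y, V) →+* X.presheaf.stalk x => ξ a) hcompat).symm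
    rw [h1]
    exact not_congr (isUnit_map_iff (f.stalkMap x).hom _).symm
  haveI locV : IsLocalization.AtPrime (Y.presheaf.stalk (f.base x))
      ((hW.primeIdealOf ⟨x, hxW⟩).asIdeal.comap (f.appLE V W hWV).hom) := by
    have key : ∀ (P : Ideal Γ(Y, V)) [P.IsPrime] (P' : Ideal Γ(Y, V)) [P'.IsPrime], P = P' →
        IsLocalization.AtPrime (Y.presheaf.stalk (f.base x)) P →
        IsLocalization.AtPrime (Y.presheaf.stalk (f.base x)) P' := by
      intro P _ P' _ h
      subst h
      exact id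
    exact key _ _ hprime (hV.isLocalization_stalk ⟨f.base x, hsV⟩)
  exact IsLocHom.bijective_of_atPrime hloc (hW.primeIdealOf ⟨x, hxW⟩).asIdeal
    (Y.presheaf.stalk (f.base x)) (X.presheaf.stalk x) (f.stalkMap x).hom hcompat

theorem IsLocalizing.isIso_stalkMap {f : X ⟶ Y} (hf : IsLocalizing f) (x : X) :
    IsIso (f.stalkMap x) :=
  (ConcreteCategory.isIso_iff_bijective _).mpr (IsLocalizing.bijective_stalkMap hf x)

theorem IsLocalizing.flat {f : X ⟶ Y} (hf : IsLocalizing f) : Flat f :=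
  Flat.of_stalkMap f fun x => RingHom.Flat.of_bijective (IsLocalizing.bijective_stalkMap hf x)

theorem IsLocalizing.generalizingMap {f : X ⟶ Y} (hf : IsLocalizing f) :
    GeneralizingMap f.base :=
  haveI := IsLocalizing.flat hf
  Flat.generalizingMap f

theorem IsLocImmersion.isEmbedding {f : X ⟶ Y} [IsNoetherian X] (hf : IsLocImmersion f) :
    IsEmbedding f.base :=
  ⟨isInducing_of_generalizingMap f.continuous hf.2 (IsLocalizing.generalizingMap hf.1), hf.2⟩

/-! ## monomorphisms -/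

theorem mono_SpecMap_of_isLocHom {A B : CommRingCat.{u}} (φ : A ⟶ B) (hφ : IsLocHom φ.hom) :
    Mono (Spec.map φ) := by
  haveI : Epi φ := ⟨fun g h hgh => CommRingCat.hom_ext
    (IsLocHom.ringHom_ext hφ (by rw [← CommRingCat.hom_comp, ← CommRingCat.hom_comp, hgh]))⟩
  exact inferInstanceAs (Mono (Scheme.Spec.map φ.op))

/-- On a chart, a localizing morphism is a monomorphism. -/
theorem mono_ι_comp_of_isLocHom (f : X ⟶ Y) (U : Y.affineOpens) (V : X.affineOpens)
    (e : V.1 ≤ f ⁻¹ᵁ U.1) (h : IsLocHom (f.appLE U V e).hom) : Mono (V.1.ι ≫ f) := by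
  have e1 : V.1.ι ≫ f = V.2.isoSpec.hom ≫ Spec.map (f.appLE U V e) ≫ U.2.fromSpec := by
    rw [IsAffineOpen.SpecMap_appLE_fromSpec f U.2 V.2 e, ← Category.assoc,
      V.2.isoSpec_hom_fromSpec]
  haveI := mono_SpecMap_of_isLocHom _ h
  rw [e1]
  infer_instance

theorem IsLocImmersion.mono {f : X ⟶ Y} (hf : IsLocImmersion f) : Mono f := by
  refine ⟨fun {T} g h hgh => ?_⟩
  have hpt : ∀ t : T, g t = h t := by
    intro t
    apply hf.2
    have := congrArg (fun k => k.base t) hgh
    simpa using this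
  choose U V hxV e hloc using hf.1
  refine Scheme.Cover.hom_ext (T.openCoverOfIsOpenCover (fun t : T => g ⁻¹ᵁ (V (g t)).1) ?_) _ _
    fun t => ?_
  · refine IsOpenCover.mk (eq_top_iff.mpr fun t _ => ?_)
    exact Opens.mem_iSup.mpr ⟨t, hxV (g t)⟩
  · change (g ⁻¹ᵁ (V (g t)).1).ι ≫ g = (g ⁻¹ᵁ (V (g t)).1).ι ≫ h
    set W := g ⁻¹ᵁ (V (g t)).1 with hW
    have hg : Set.range (W.ι ≫ g).base ⊆ Set.range (V (g t)).1.ι.base := by
      rintro _ ⟨w, rfl⟩
      simp only [Scheme.Opens.range_ι]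
      exact w.2
    have hh : Set.range (W.ι ≫ h).base ⊆ Set.range (V (g t)).1.ι.base := by
      rintro _ ⟨w, rfl⟩
      simp only [Scheme.Opens.range_ι]
      have : (W.ι ≫ h).base w = h (W.ι w) := by simp
      rw [this, ← hpt]
      exact w.2
    haveI := mono_ι_comp_of_isLocHom f (U (g t)) (V (g t)) (e (g t)) (hloc (g t))
    have key : IsOpenImmersion.lift (V (g t)).1.ι (W.ι ≫ g) hg =
        IsOpenImmersion.lift (V (g t)).1.ι (W.ι ≫ h) hh := by
      rw [← cancel_mono ((V (g t)).1.ι ≫ f)]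
      rw [IsOpenImmersion.lift_fac_assoc, IsOpenImmersion.lift_fac_assoc, Category.assoc,
        Category.assoc, hgh]
    rw [← IsOpenImmersion.lift_fac (V (g t)).1.ι (W.ι ≫ g) hg, key, IsOpenImmersion.lift_fac]

theorem isLocImmersion_iff_mono [IsNoetherian X] (f : X ⟶ Y) :
    IsLocImmersion f ↔ IsLocalizing f ∧ Mono f := by
  constructor
  · intro hf
    exact ⟨hf.1, IsLocImmersion.mono hf⟩
  · rintro ⟨h1, h2⟩
    exact ⟨h1, Scheme.Hom.injective f⟩

end Groth.Agent.Lib.Helper13.LocImmLib
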