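import Mathlib
import Groth.Prelude.Def_W4c5cptfessfintypeLocImm
import Groth.Agent.Lib.Helper13.LocImmCore

/-!
# Localizing immersions: affine neighbourhoods with affine preimage
-/

universe u

open CategoryTheory CategoryTheory.Limits AlgebraicGeometry TopologicalSpace LocImm Topology

namespace Groth.Agent.Lib.Helper13.LocImmLib

variable {X Y : Scheme.{u}}

/-- restriction to a basic open of an affine open is localizing -/
theorem isLocHom_res_basicOpen {X : Scheme.{u}} {V : X.Opens} (hV : IsAffineOpen V) (b : Γ(X, V)) :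
    IsLocHom (X.presheaf.map (homOfLE (X.basicOpen_le b)).op).hom := by
  haveI := hV.isLocalization_basicOpen b
  exact isLocHom_of_eq_algebraMap (Submonoid.powers b) _ rfl

/-- Shrinking a chart to a basic open of the target. -/
theorem isLocHom_appLE_basicOpen (f : X ⟶ Y) (U : Y.affineOpens) (V : X.affineOpens)
    (e : V.1 ≤ f ⁻¹ᵁ U.1) (h : IsLocHom (f.appLE U V e).hom) (a : Γ(Y, U.1)) (V' : X.Opens)
    (hV' : V' = X.basicOpen ((f.appLE U V e).hom a)) (e' : V' ≤ f ⁻¹ᵁ (Y.basicOpen a)) :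
    IsLocHom (f.appLE (Y.basicOpen a) V' e').hom := by
  subst hV'
  have hι : IsLocHom (Y.presheaf.map (homOfLE (Y.basicOpen_le a)).op).hom :=
    isLocHom_res_basicOpen U.2 a
  refine IsLocHom.of_comp hι ?_
  have h1 : Y.presheaf.map (homOfLE (Y.basicOpen_le a)).op ≫
      f.appLE (Y.basicOpen a) (X.basicOpen ((f.appLE U V e).hom a)) e' =
      f.appLE U V e ≫ X.presheaf.map (homOfLE (X.basicOpen_le _)).op := by
    rw [Scheme.Hom.map_appLE, Scheme.Hom.appLE_map]
  rw [← CommRingCat.hom_comp, h1, CommRingCat.hom_comp]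
  exact IsLocHom.comp h (isLocHom_res_basicOpen V.2 _)

/-- A localizing immersion of Noetherian schemes: every point of the image has an affine open
neighbourhood whose preimage is affine with localizing ring map. -/
theorem IsLocImmersion.exists_affine_nhd [IsNoetherian X] {f : X ⟶ Y} (hf : IsLocImmersion f)
    (x : X) : ∃ V : Y.Opens, f x ∈ V ∧ IsAffineOpen V ∧ IsAffineOpen (f ⁻¹ᵁ V) ∧
      IsLocHom (f.app V).hom := by
  obtain ⟨U, V₀, hxV, e, hloc⟩ := hf.1 x
  obtain ⟨W', hW'o, hW'⟩ := (IsLocImmersion.isEmbedding hf).isInducing.isOpen_iff.mp V₀.1.isOpen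
  have hxW' : f x ∈ W' := by
    have : x ∈ f.base ⁻¹' W' := by rw [hW']; exact hxV
    exact this
  let W : Y.Opens := ⟨W', hW'o⟩
  obtain ⟨a, haW, hxa⟩ := U.2.exists_basicOpen_le (V := W) ⟨f x, hxW'⟩ (e hxV)
  have hpre : f ⁻¹ᵁ (Y.basicOpen a) = X.basicOpen ((f.appLE U V₀ e).hom a) := by
    have h1 := Scheme.basicOpen_appLE f V₀.1 U.1 e a
    rw [h1]
    refine (inf_eq_right.mpr ?_).symm
    intro z hz
    have hz' : f z ∈ W' := haW hz
    have : z ∈ f.base ⁻¹' W' := hz'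
    rw [hW'] at this
    exact this
  refine ⟨Y.basicOpen a, hxa, U.2.basicOpen a, ?_, ?_⟩
  · rw [hpre]
    exact V₀.2.basicOpen _
  · rw [Scheme.Hom.app_eq_appLE]
    exact isLocHom_appLE_basicOpen f U V₀ e hloc a _ hpre le_rfl

/-- Converse: affine neighbourhoods with affine preimage and localizing ring maps give a localizing
immersion. -/
theorem isLocImmersion_of_affine_nhds (f : X ⟶ Y)
    (h : ∀ x : X, ∃ V : Y.Opens, f x ∈ V ∧ IsAffineOpen V ∧ IsAffineOpen (f ⁻¹ᵁ V) ∧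
      IsLocHom (f.app V).hom) : IsLocImmersion f := by
  constructor
  · intro x
    obtain ⟨V, hxV, hV, hV', hloc⟩ := h x
    refine ⟨⟨V, hV⟩, ⟨f ⁻¹ᵁ V, hV'⟩, hxV, le_rfl, ?_⟩
    change IsLocHom (f.appLE V (f ⁻¹ᵁ V) le_rfl).hom
    rw [Scheme.Hom.appLE_eq_app]
    exact hloc
  · intro x₁ x₂ h12
    obtain ⟨V, hxV, hV, hV', hloc⟩ := h x₁
    have hloc' : IsLocHom (f.appLE V (f ⁻¹ᵁ V) le_rfl).hom := by
      rw [Scheme.Hom.appLE_eq_app]
      exact hloc
    haveI := mono_ι_comp_of_isLocHom f ⟨V, hV⟩ ⟨f ⁻¹ᵁ V, hV'⟩ le_rfl hloc'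
    have hx₂ : x₂ ∈ f ⁻¹ᵁ V := by
      change f x₂ ∈ V
      rw [← h12]
      exact hxV
    have hinj : Function.Injective ((f ⁻¹ᵁ V).ι ≫ f).base := Scheme.Hom.injective _
    have := @hinj ⟨x₁, hxV⟩ ⟨x₂, hx₂⟩ (by simpa using h12)
    exact congrArg Subtype.val this

theorem isLocImmersion_iff_affine_nhds [IsNoetherian X] (f : X ⟶ Y) :
    IsLocImmersion f ↔ ∀ x : X, ∃ V : Y.Opens, f x ∈ V ∧ IsAffineOpen V ∧
      IsAffineOpen (f ⁻¹ᵁ V) ∧ IsLocHom (f.app V).hom :=
  ⟨fun hf x => IsLocImmersion.exists_affine_nhd hf x, isLocImmersion_of_affine_nhds f⟩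

end Groth.Agent.Lib.Helper13.LocImmLib
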