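import Mathlib
import Groth.Prelude.Def_W4c5cptfessfintypeLocImm
import Groth.Agent.Lib.Helper13.LocImmChart

/-!
# Localizing immersions are stable under base change
-/

universe u

open CategoryTheory CategoryTheory.Limits AlgebraicGeometry TopologicalSpace LocImm Topology

namespace Groth.Agent.Lib.Helper13.LocImmLib

/-- the pushout of a localizing ring map is localizing -/
theorem IsLocHom.of_isPushout {A B A' P' : CommRingCat.{u}} {φ : A ⟶ B} {ψ : A ⟶ A'}
    {φ' : B ⟶ P'} {ψ' : A' ⟶ P'} (H : IsPushout φ ψ φ' ψ') (hφ : IsLocHom φ.hom) :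
    IsLocHom ψ'.hom := by
  obtain ⟨S, hS⟩ := hφ
  letI : Algebra A B := φ.hom.toAlgebra
  letI : Algebra A A' := ψ.hom.toAlgebra
  letI : Algebra A' P' := ψ'.hom.toAlgebra
  letI : Algebra B P' := φ'.hom.toAlgebra
  letI : Algebra A P' := (ψ'.hom.comp ψ.hom).toAlgebra
  haveI : IsScalarTower A A' P' := IsScalarTower.of_algebraMap_eq (fun _ => rfl)
  haveI : IsScalarTower A B P' := IsScalarTower.of_algebraMap_eq (fun a => by
    have := congrArg (fun k => k.hom a) H.w
    exact this.symm)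
  have h1 : IsPushout (CommRingCat.ofHom (algebraMap A A')) (CommRingCat.ofHom (algebraMap A B))
      (CommRingCat.ofHom (algebraMap A' P')) (CommRingCat.ofHom (algebraMap B P')) := H.flip
  have h2 : Algebra.IsPushout A A' B P' := CommRingCat.isPushout_iff_isPushout.mp h1
  exact ⟨_, (Algebra.isLocalization_iff_isPushout S B).mpr h2⟩

variable {X Y Y' : Scheme.{u}}

theorem IsLocImmersion.pullback_snd [IsNoetherian X] (f : X ⟶ Y) (g : Y' ⟶ Y)
    (hf : IsLocImmersion f) : IsLocImmersion (pullback.snd f g) := by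
  apply isLocImmersion_of_affine_nhds
  intro p
  obtain ⟨U, hxU, hU, hV, hloc⟩ := IsLocImmersion.exists_affine_nhd hf (pullback.fst f g p)
  have hcond : ∀ q : ↑(pullback f g), f (pullback.fst f g q) = g (pullback.snd f g q) := by
    intro q
    have := congrArg (fun k => k.base q) (pullback.condition (f := f) (g := g))
    simpa using this
  have hy' : pullback.snd f g p ∈ g ⁻¹ᵁ U := by
    change g (pullback.snd f g p) ∈ U
    rw [← hcond]
    exact hxU
  obtain ⟨U', hU', hpU', hU'U⟩ := exists_isAffineOpen_mem_and_subset (x := pullback.snd f g p)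
    (U := g ⁻¹ᵁ U) hy'
  have H : IsPullback (pullback.fst f g) (pullback.snd f g) f g := IsPullback.of_hasPullback f g
  have hUY : (pullback.snd f g) ⁻¹ᵁ U' =
      (pullback.fst f g) ⁻¹ᵁ (f ⁻¹ᵁ U) ⊓ (pullback.snd f g) ⁻¹ᵁ U' := by
    refine (inf_eq_right.mpr ?_).symm
    intro q hq
    change f (pullback.fst f g q) ∈ U
    rw [hcond]
    exact hU'U hq
  have hiso := isIso_pushoutSection_of_isAffineOpen H hU'U (le_refl (f ⁻¹ᵁ U)) hUY hU hU' hV
  have hpo := (isIso_pushoutSection_iff H hU'U (le_refl (f ⁻¹ᵁ U)) hUY).mp hiso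
  have haff : IsAffineOpen ((pullback.snd f g) ⁻¹ᵁ U') := by
    haveI : IsAffine ↑U := hU
    haveI : IsAffine ↑U' := hU'
    haveI : IsAffine ↑(f ⁻¹ᵁ U) := hV
    exact .of_isIso (Scheme.Hom.isPullback_resLE H hU'U (le_refl (f ⁻¹ᵁ U)) hUY).isoPullback.hom
  refine ⟨U', hpU', hU', haff, ?_⟩
  rw [Scheme.Hom.app_eq_appLE]
  refine IsLocHom.of_isPushout hpo ?_
  rw [Scheme.Hom.appLE_eq_app]
  exact hloc

end Groth.Agent.Lib.Helper13.LocImmLib
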