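import Mathlib
import Groth.Prelude.Def_W4c5cptfessfintypeLocImm
import Groth.Agent.Lib.Helper13.LocImmChart

/-!
# Ideal sheaves and localizing immersions
-/

universe u

open CategoryTheory CategoryTheory.Limits AlgebraicGeometry TopologicalSpace LocImm Topology

namespace Groth.Agent.Lib.Helper13.LocImmLib

/-- In a pushout square of commutative rings with `ψ` surjective, the kernel of the map opposite
to `ψ` is the extension of `ker ψ`. -/
theorem ker_of_isPushout_of_surjective {A B A' P' : CommRingCat.{u}} {φ : A ⟶ B} {ψ : A ⟶ A'}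
    {φ' : B ⟶ P'} {ψ' : A' ⟶ P'} (H : IsPushout φ ψ φ' ψ') (hψ : Function.Surjective ψ.hom) :
    RingHom.ker φ'.hom = Ideal.map φ.hom (RingHom.ker ψ.hom) := by
  apply le_antisymm
  · set K := Ideal.map φ.hom (RingHom.ker ψ.hom) with hK
    let q : B →+* (B ⧸ K) := Ideal.Quotient.mk K
    have hle : RingHom.ker ψ.hom ≤ RingHom.ker (q.comp φ.hom) := by
      intro a ha
      rw [RingHom.mem_ker, RingHom.comp_apply]
      exact Ideal.Quotient.eq_zero_iff_mem.mpr (Ideal.mem_map_of_mem _ ha)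
    let r : A' →+* (B ⧸ K) := ψ.hom.liftOfSurjective hψ ⟨q.comp φ.hom, hle⟩
    have hr : r.comp ψ.hom = q.comp φ.hom := ψ.hom.liftOfSurjective_comp hψ ⟨q.comp φ.hom, hle⟩
    have w : φ ≫ CommRingCat.ofHom q = ψ ≫ CommRingCat.ofHom r := by
      ext a
      exact (congrArg (fun k : A →+* (B ⧸ K) => k a) hr).symm
    have hd : φ' ≫ H.desc (CommRingCat.ofHom q) (CommRingCat.ofHom r) w = CommRingCat.ofHom q :=
      H.inl_desc _ _ _
    intro b hb
    have h1 : q b = 0 := by
      have := congrArg (fun k => k.hom b) hd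
      simp only [CommRingCat.hom_comp, RingHom.comp_apply, CommRingCat.hom_ofHom] at this
      rw [← this, (RingHom.mem_ker).mp hb, map_zero]
    exact Ideal.Quotient.eq_zero_iff_mem.mp h1
  · rw [Ideal.map_le_iff_le_comap]
    intro a ha
    rw [Ideal.mem_comap, RingHom.mem_ker]
    have := congrArg (fun k => k.hom a) H.w
    simp only [CommRingCat.hom_comp, RingHom.comp_apply] at this
    rw [this, (RingHom.mem_ker).mp ha, map_zero]

variable {X Y : Scheme.{u}}

/-- The pulled back ideal sheaf on an affine open `f⁻¹U` (with `U` affine) is the extended ideal. -/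
theorem comap_ideal_of_isAffineOpen_preimage (f : X ⟶ Y) (J : Y.IdealSheafData)
    (U : Y.affineOpens) (hV : IsAffineOpen (f ⁻¹ᵁ U.1)) :
    (J.comap f).ideal ⟨f ⁻¹ᵁ U.1, hV⟩ = (J.ideal U).map (f.app U.1).hom := by
  have H : IsPullback (pullback.fst f J.subschemeι) (pullback.snd f J.subschemeι) f
      J.subschemeι := IsPullback.of_hasPullback _ _
  have hUT : IsAffineOpen (J.subschemeι ⁻¹ᵁ U.1) := U.2.preimage J.subschemeι
  have hUY : (pullback.fst f J.subschemeι) ⁻¹ᵁ (f ⁻¹ᵁ U.1) =
      (pullback.fst f J.subschemeι) ⁻¹ᵁ (f ⁻¹ᵁ U.1) ⊓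
        (pullback.snd f J.subschemeι) ⁻¹ᵁ (J.subschemeι ⁻¹ᵁ U.1) := by
    refine (inf_eq_left.mpr ?_).symm
    intro q hq
    change J.subschemeι (pullback.snd f J.subschemeι q) ∈ U.1
    have := congrArg (fun k => k.base q) (pullback.condition (f := f) (g := J.subschemeι))
    simp only [Scheme.Hom.comp_base, TopCat.hom_comp, ContinuousMap.comp_apply] at this
    rw [← this]
    exact hq
  have hiso := isIso_pushoutSection_of_isAffineOpen H (le_refl (J.subschemeι ⁻¹ᵁ U.1))
    (le_refl (f ⁻¹ᵁ U.1)) hUY U.2 hUT hV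
  have hpo := (isIso_pushoutSection_iff H (le_refl (J.subschemeι ⁻¹ᵁ U.1))
    (le_refl (f ⁻¹ᵁ U.1)) hUY).mp hiso
  have hsurj : Function.Surjective (J.subschemeι.appLE U.1 (J.subschemeι ⁻¹ᵁ U.1) le_rfl).hom := by
    rw [Scheme.Hom.appLE_eq_app]
    exact J.subschemeι_app_surjective U
  have hker := ker_of_isPushout_of_surjective hpo hsurj
  change (pullback.fst f J.subschemeι).ker.ideal ⟨f ⁻¹ᵁ U.1, hV⟩ = _
  rw [Scheme.Hom.ker_apply, Scheme.Hom.app_eq_appLE]
  rw [hker]
  simp only [Scheme.Hom.appLE_eq_app]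
  rw [J.ker_subschemeι_app U]

/-- For a localizing immersion of Noetherian schemes every ideal sheaf on the source is the
pullback of its pushforward. -/
theorem IsLocImmersion.comap_map_eq [IsNoetherian X] {f : X ⟶ Y} [QuasiCompact f]
    (hf : IsLocImmersion f) (I : X.IdealSheafData) : (I.map f).comap f = I := by
  choose U hxU hU hV hloc using fun x => IsLocImmersion.exists_affine_nhd hf x
  refine Scheme.IdealSheafData.ext_of_iSup_eq_top (fun x : X => ⟨f ⁻¹ᵁ U x, hV x⟩) ?_ ?_
  · exact eq_top_iff.mpr fun x _ => Opens.mem_iSup.mpr ⟨x, hxU x⟩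
  · intro x
    rw [comap_ideal_of_isAffineOpen_preimage f (I.map f) ⟨U x, hU x⟩ (hV x),
      Scheme.IdealSheafData.ideal_map I f ⟨U x, hU x⟩ (hV x)]
    obtain ⟨S, hS⟩ := hloc x
    letI := (f.app (U x)).hom.toAlgebra
    exact IsLocalization.map_comap S _ _

end Groth.Agent.Lib.Helper13.LocImmLib
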