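import Mathlib
import Groth.Prelude.Def_W4c5cptfessfintypeLocImm
import Groth.Agent.Lib.Helper13.LocImmChart
import Groth.Agent.Lib.Helper13.LocImmBC
import Groth.Agent.Lib.Helper13.LocImmIdeal

/-!
# Localizing immersions: composition, open immersions, Noetherianity, and the
schematically dominant cancellation property
-/

universe u

open CategoryTheory CategoryTheory.Limits AlgebraicGeometry TopologicalSpace LocImm Topology

namespace Groth.Agent.Lib.Helper13.LocImmLib

variable {X Y Z : Scheme.{u}}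

theorem isLocHom_res_of_eq_basicOpen {V : X.Opens} (hV : IsAffineOpen V) (b : Γ(X, V))
    (V' : X.Opens) (h : V' = X.basicOpen b) (hle : V' ≤ V) :
    IsLocHom (X.presheaf.map (homOfLE hle).op).hom := by
  subst h
  exact isLocHom_res_basicOpen hV b

/-- Composition of a localizing morphism with a morphism having affine neighbourhoods with
affine preimage and localizing ring maps. -/
theorem IsLocalizing.comp_of_affine_nhds {f : X ⟶ Y} {g : Y ⟶ Z} (hf : IsLocalizing f)
    (hg : ∀ x : X, ∃ W : Z.Opens, g (f x) ∈ W ∧ IsAffineOpen W ∧ IsAffineOpen (g ⁻¹ᵁ W) ∧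
      IsLocHom (g.app W).hom) : IsLocalizing (f ≫ g) := by
  intro x
  obtain ⟨W, hxW, hW, hW', hlocg⟩ := hg x
  obtain ⟨U, V, hxV, e, hlocf⟩ := hf x
  obtain ⟨a, b, hab, hxa⟩ := exists_basicOpen_le_affine_inter U.2 hW' (f x) ⟨e hxV, hxW⟩
  -- shrink the chart of `f`
  set V' : X.Opens := X.basicOpen ((f.appLE U V e).hom a) with hV'
  have hV'le : V' ≤ f ⁻¹ᵁ (Y.basicOpen a) := by
    rw [hV', Scheme.basicOpen_appLE]
    exact inf_le_right
  have hxV' : x ∈ V' := by
    rw [hV', Scheme.basicOpen_appLE]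
    exact ⟨hxV, hxa⟩
  have h1 : IsLocHom (f.appLE (Y.basicOpen a) V' hV'le).hom :=
    isLocHom_appLE_basicOpen f U V e hlocf a V' rfl hV'le
  have hale : Y.basicOpen a ≤ g ⁻¹ᵁ W := hab ▸ Y.basicOpen_le b
  have h2 : IsLocHom (g.appLE W (Y.basicOpen a) hale).hom := by
    have : g.appLE W (Y.basicOpen a) hale = g.app W ≫ Y.presheaf.map (homOfLE hale).op := rfl
    rw [this, CommRingCat.hom_comp]
    exact IsLocHom.comp hlocg (isLocHom_res_of_eq_basicOpen hW' b _ hab hale)
  refine ⟨⟨W, hW⟩, ⟨V', V.2.basicOpen _⟩, hxV', ?_, ?_⟩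
  · exact hV'le.trans ((Opens.map f.base).map (homOfLE hale)).le
  · change IsLocHom ((f ≫ g).appLE W V' _).hom
    rw [← Scheme.Hom.appLE_comp_appLE f g W (Y.basicOpen a) V' hale hV'le, CommRingCat.hom_comp]
    exact IsLocHom.comp h2 h1

theorem IsLocImmersion.comp [IsNoetherian Y] {f : X ⟶ Y} {g : Y ⟶ Z} (hf : IsLocImmersion f)
    (hg : IsLocImmersion g) : IsLocImmersion (f ≫ g) := by
  refine ⟨IsLocalizing.comp_of_affine_nhds hf.1
    (fun x => IsLocImmersion.exists_affine_nhd hg (f x)), ?_⟩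
  have : (f ≫ g).base = g.base ∘ f.base := by
    ext x
    simp
  rw [this]
  exact hg.2.comp hf.2

theorem isLocImmersion_of_isOpenImmersion (f : X ⟶ Y) [IsOpenImmersion f] :
    IsLocImmersion f := by
  refine ⟨fun x => ?_, f.isOpenEmbedding.injective⟩
  obtain ⟨U, hU, hxU, hUle⟩ := exists_isAffineOpen_mem_and_subset (x := f x)
    (U := f.opensRange) ⟨x, rfl⟩
  have hV : IsAffineOpen (f ⁻¹ᵁ U) := by
    have := hU.preimage_of_isOpenImmersion f hUle
    exact this
  refine ⟨⟨U, hU⟩, ⟨f ⁻¹ᵁ U, hV⟩, hxU, le_rfl, ?_⟩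
  change IsLocHom (f.appLE U (f ⁻¹ᵁ U) le_rfl).hom
  rw [Scheme.Hom.appLE_eq_app]
  haveI := f.isIso_app U hUle
  exact isLocHom_of_bijective _ (ConcreteCategory.bijective_of_isIso (f.app U))

/-- The source of a localizing morphism to a locally Noetherian scheme is locally Noetherian. -/
theorem IsLocalizing.isLocallyNoetherian {f : X ⟶ Y} (hf : IsLocalizing f)
    [IsLocallyNoetherian Y] : IsLocallyNoetherian X := by
  choose U V hxV e hloc using hf
  refine isLocallyNoetherian_of_affine_cover (S := V) ?_ ?_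
  · exact eq_top_iff.mpr fun x _ => Opens.mem_iSup.mpr ⟨x, hxV x⟩
  · intro x
    obtain ⟨S, hS⟩ := hloc x
    letI := (f.appLE (U x) (V x) (e x)).hom.toAlgebra
    haveI : IsNoetherianRing Γ(Y, (U x).1) := IsLocallyNoetherian.component_noetherian (U x)
    exact IsLocalization.isNoetherianRing S _ inferInstance

theorem IsLocalizing.isNoetherian {f : X ⟶ Y} (hf : IsLocalizing f) [QuasiCompact f]
    [IsNoetherian Y] : IsNoetherian X :=
  { toIsLocallyNoetherian := IsLocalizing.isLocallyNoetherian hf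
    toCompactSpace := QuasiCompact.compactSpace_of_compactSpace f }

/-- If `f ≫ g` is a localizing immersion, `g` is separated and `f` is schematically dominant,
then `f` is a localizing immersion. -/
theorem isLocImmersion_of_comp_of_app_injective [IsNoetherian X] [IsNoetherian Y]
    [IsNoetherian Z] (f : X ⟶ Y) (g : Y ⟶ Z) (hfg : IsLocImmersion (f ≫ g)) [IsSeparated g]
    (hd : ∀ U : Y.Opens, Function.Injective (f.app U).hom) : IsLocImmersion f := by
  -- the base change of `f ≫ g` along `g`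
  have hq : IsLocImmersion (pullback.snd (f ≫ g) g) := IsLocImmersion.pullback_snd _ _ hfg
  haveI : IsNoetherian (pullback (f ≫ g) g) := IsLocalizing.isNoetherian hq.1
  -- the graph
  let γ : X ⟶ pullback (f ≫ g) g := pullback.lift (𝟙 X) f (by simp)
  have hγ1 : γ ≫ pullback.fst (f ≫ g) g = 𝟙 X := pullback.lift_fst _ _ _
  have hγ2 : γ ≫ pullback.snd (f ≫ g) g = f := pullback.lift_snd _ _ _
  haveI : IsClosedImmersion (γ ≫ pullback.fst (f ≫ g) g) := by
    rw [hγ1]
    infer_instance
  haveI : IsClosedImmersion γ := IsClosedImmersion.of_comp γ (pullback.fst (f ≫ g) g)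
  -- its kernel vanishes
  have hker : f.ker = ⊥ := by
    refine le_bot_iff.mp fun U => ?_
    rw [Scheme.Hom.ker_apply]
    simp only [Scheme.IdealSheafData.ideal_bot, Pi.bot_apply]
    exact ((RingHom.injective_iff_ker_eq_bot _).mp (hd U.1)).le
  have hγker : γ.ker = ⊥ := by
    rw [← IsLocImmersion.comap_map_eq hq γ.ker, Scheme.IdealSheafData.map_ker, hγ2, hker,
      Scheme.IdealSheafData.comap_bot]
  haveI : IsIso γ := IsClosedImmersion.isIso_iff_ker_eq_bot.mpr hγker
  rw [← hγ2]
  exact IsLocImmersion.comp (isLocImmersion_of_isOpenImmersion γ) hq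

end Groth.Agent.Lib.Helper13.LocImmLib
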