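import Mathlib
import Groth.Prelude.Def_W4c5cptfessfintypeLocImm
import Groth.Agent.Lib.Helper13.LocImmCore

/-!
# Localizing morphisms: injective iff separated and injective on maximal points
-/

universe u

open CategoryTheory CategoryTheory.Limits AlgebraicGeometry TopologicalSpace LocImm Topology

namespace Groth.Agent.Lib.Helper13.LocImmLib

/-- every point of a quasi-sober T0 space has a maximal generization -/
theorem exists_maximal_generization {X : Type*} [TopologicalSpace X] [QuasiSober X] [T0Space X]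
    (z : X) : ∃ ζ : X, ζ ⤳ z ∧ ∀ ζ' : X, ζ' ⤳ ζ → ζ' = ζ := by
  obtain ⟨ζ, hζ⟩ := QuasiSober.sober (isIrreducible_irreducibleComponent (x := z))
    isClosed_irreducibleComponent
  refine ⟨ζ, hζ.specializes mem_irreducibleComponent, fun ζ' h => ?_⟩
  have h1 : irreducibleComponent z ⊆ closure {ζ'} := by
    rw [← hζ.def]
    exact h.closure_subset
  have h2 := (irreducibleComponent_property z).2.2 (closure {ζ'})
    isIrreducible_singleton.closure.isPreirreducible h1
  have h3 : ζ ⤳ ζ' := by
    rw [specializes_iff_mem_closure, hζ.def, ← h2]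
    exact subset_closure rfl
  exact (h.antisymm h3).eq

variable {X Y : Scheme.{u}}

theorem IsLocalizing.injective_of_isSeparated {f : X ⟶ Y} (hf : IsLocalizing f) [IsSeparated f]
    (hmax : Set.InjOn (fun x => f x) {x : X | ∀ x' : X, x' ⤳ x → x' = x}) :
    Function.Injective f.base := by
  have hcl : IsClosed (Set.range (pullback.diagonal f).base) :=
    (pullback.diagonal f).isClosedEmbedding.isClosed_range
  haveI := IsLocalizing.flat hf
  have hg₁ : GeneralizingMap (pullback.fst f f).base := Flat.generalizingMap _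
  have hg₂ : GeneralizingMap (pullback.snd f f).base := Flat.generalizingMap _
  have hcond : ∀ q : ↑(pullback f f), f (pullback.fst f f q) = f (pullback.snd f f q) := by
    intro q
    have := congrArg (fun k => k.base q) (pullback.condition (f := f) (g := f))
    simpa using this
  have key : ∀ z : ↑(pullback f f), z ∈ Set.range (pullback.diagonal f).base := by
    intro z
    obtain ⟨ζ, hζz, hζmax⟩ := exists_maximal_generization z
    refine hζz.mem_closed hcl ?_
    have hm : ∀ (p : pullback f f ⟶ X), GeneralizingMap p.base → ∀ x', x' ⤳ p ζ → x' = p ζ := by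
      intro p hp x' hx'
      obtain ⟨ζ', hζ', rfl⟩ := hp hx'
      rw [hζmax ζ' hζ']
    have heq : pullback.fst f f ζ = pullback.snd f f ζ :=
      hmax (hm _ hg₁) (hm _ hg₂) (hcond ζ)
    obtain ⟨U, V, hξV, e, hloc⟩ := hf (pullback.fst f f ζ)
    haveI := mono_ι_comp_of_isLocHom f U V e hloc
    let W : (pullback f f).Opens := (pullback.fst f f) ⁻¹ᵁ V.1 ⊓ (pullback.snd f f) ⁻¹ᵁ V.1
    have hζW : ζ ∈ W := ⟨hξV, by change pullback.snd f f ζ ∈ V.1; rw [← heq]; exact hξV⟩
    have ha : Set.range (W.ι ≫ pullback.fst f f).base ⊆ Set.range V.1.ι.base := by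
      rintro _ ⟨w, rfl⟩
      simp only [Scheme.Opens.range_ι]
      exact w.2.1
    have hb : Set.range (W.ι ≫ pullback.snd f f).base ⊆ Set.range V.1.ι.base := by
      rintro _ ⟨w, rfl⟩
      simp only [Scheme.Opens.range_ι]
      exact w.2.2
    have hab : IsOpenImmersion.lift V.1.ι (W.ι ≫ pullback.fst f f) ha =
        IsOpenImmersion.lift V.1.ι (W.ι ≫ pullback.snd f f) hb := by
      rw [← cancel_mono (V.1.ι ≫ f)]
      rw [IsOpenImmersion.lift_fac_assoc, IsOpenImmersion.lift_fac_assoc, Category.assoc,
        Category.assoc, pullback.condition]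
    have h12 : W.ι ≫ pullback.fst f f = W.ι ≫ pullback.snd f f := by
      rw [← IsOpenImmersion.lift_fac V.1.ι _ ha, hab, IsOpenImmersion.lift_fac]
    have hΔ : W.ι = (W.ι ≫ pullback.fst f f) ≫ pullback.diagonal f := by
      apply pullback.hom_ext
      · simp
      · simp [h12]
    refine ⟨(W.ι ≫ pullback.fst f f).base ⟨ζ, hζW⟩, ?_⟩
    have := congrArg (fun k => k.base ⟨ζ, hζW⟩) hΔ
    simpa using this.symm
  intro x₁ x₂ h
  obtain ⟨z, hz1, hz2⟩ := Scheme.Pullback.exists_preimage_pullback (f := f) (g := f) x₁ x₂ h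
  obtain ⟨x, rfl⟩ := key z
  rw [← hz1, ← hz2, ← Scheme.Hom.comp_apply, ← Scheme.Hom.comp_apply, pullback.diagonal_fst,
    pullback.diagonal_snd]

theorem IsLocalizing.injective_iff [IsNoetherian X] {f : X ⟶ Y} (hf : IsLocalizing f) :
    Function.Injective f.base ↔
      (IsSeparated f ∧ Set.InjOn (fun x => f x) {x : X | ∀ x' : X, x' ⤳ x → x' = x}) := by
  constructor
  · intro h
    haveI : Mono f := IsLocImmersion.mono ⟨hf, h⟩
    exact ⟨inferInstance, fun a _ b _ hab => h hab⟩
  · rintro ⟨h1, h2⟩
    exact IsLocalizing.injective_of_isSeparated hf h2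

end Groth.Agent.Lib.Helper13.LocImmLib
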