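import Mathlib
import Groth.Prelude.Def_W4c5cptfessfintypeLocImm
import Groth.Prelude.Def_EssFT
import Groth.Agent.Lib.Helper13.LocImmComp
import Groth.Agent.Lib.Helper13.LocImmSep
import Groth.Agent.Lib.Helper13.LocalIsoFP

/-!
# Essentially finite type morphisms inducing isomorphisms on local rings are locally localizing
-/

universe u

open CategoryTheory CategoryTheory.Limits AlgebraicGeometry TopologicalSpace LocImm Topology

namespace Groth.Agent.Lib.Helper13.LocImmLib

set_option maxHeartbeats 800000 in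
/-- Ring-level local structure: an essentially finite type map over a Noetherian ring inducing an
isomorphism of local rings at a prime `q` is localizing after inverting some `b ∉ q`. -/
theorem exists_isLocHom_away_of_essFiniteType {A B : Type u} [CommRing A] [CommRing B]
    [IsNoetherianRing A] (φ : A →+* B) (hφ : φ.EssFiniteType) (q : Ideal B) [q.IsPrime]
    (Ap Bq : Type u) [CommRing Ap] [CommRing Bq] [Algebra A Ap] [Algebra B Bq]
    [hAp : IsLocalization.AtPrime Ap (q.comap φ)] [hBq : IsLocalization.AtPrime Bq q]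
    (ψ : Ap →+* Bq) (hψφ : ψ.comp (algebraMap A Ap) = (algebraMap B Bq).comp φ)
    (hψ : Function.Bijective ψ) :
    ∃ b : B, b ∉ q ∧ ∀ (Bb : Type u) [CommRing Bb] [Algebra B Bb] [IsLocalization.Away b Bb],
      IsLocHom ((algebraMap B Bb).comp φ) := by
  letI := φ.toAlgebra
  haveI : Algebra.EssFiniteType A B := hφ
  let C := Algebra.EssFiniteType.subalgebra A B
  let M := Algebra.EssFiniteType.submonoid A B
  let q' : Ideal C := q.comap (algebraMap C B)
  haveI : q'.IsPrime := Ideal.comap_isPrime _ _
  haveI : IsScalarTower C B Bq := inferInstance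
  haveI h2 : IsLocalization.AtPrime Bq (q.comap (algebraMap C B)) :=
    IsLocalization.isLocalization_isLocalization_atPrime_isLocalization M Bq q
  have h2' : IsLocalization.AtPrime Bq q' := h2
  let φC : A →+* C := algebraMap A C
  have hfp : φC.FinitePresentation :=
    RingHom.FinitePresentation.of_finiteType.mp
      (RingHom.finiteType_algebraMap.mpr inferInstance)
  have hcomap : q'.comap φC = q.comap φ := by
    ext a
    simp only [Ideal.mem_comap, q', φC]
    rfl
  haveI h3 : IsLocalization.AtPrime Ap (q'.comap φC) := by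
    have key : ∀ (P : Ideal A) [P.IsPrime] (P' : Ideal A) [P'.IsPrime], P = P' →
        IsLocalization.AtPrime Ap P → IsLocalization.AtPrime Ap P' := by
      intro P _ P' _ h
      subst h
      exact id
    exact key _ _ hcomap.symm hAp
  have hψφ' : ψ.comp (algebraMap A Ap) = (algebraMap C Bq).comp φC := by
    rw [hψφ]
    rfl
  obtain ⟨u, a, hu, ha, hloc⟩ := LocalIsoFP.exists_isLocalization_away φC hfp q' Ap Bq ψ hψφ' hψ
  refine ⟨algebraMap C B u, hu, ?_⟩
  intro Bb _ _ _
  let Cu := Localization.Away u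
  have hloc' := hloc Cu
  have h4 : IsLocHom ((algebraMap C Cu).comp φC) := ⟨Submonoid.powers a, hloc'⟩
  have hunit : IsUnit (((algebraMap B Bb).comp (algebraMap C B)) u) :=
    IsLocalization.Away.algebraMap_isUnit (algebraMap C B u)
  let ψ' : Cu →+* Bb := IsLocalization.Away.lift u hunit
  have hψ' : ψ'.comp (algebraMap C Cu) = (algebraMap B Bb).comp (algebraMap C B) :=
    IsLocalization.Away.lift_comp u hunit
  have h5a : IsLocHom (algebraMap C B) := isLocHom_algebraMap M
  have h5b : IsLocHom (algebraMap B Bb) := isLocHom_algebraMap (Submonoid.powers (algebraMap C B u))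
  have h5 : IsLocHom ((algebraMap B Bb).comp (algebraMap C B)) := IsLocHom.comp h5a h5b
  have h6a : IsLocHom (algebraMap C Cu) := isLocHom_algebraMap (Submonoid.powers u)
  have h6 : IsLocHom ψ' := by
    refine IsLocHom.of_comp h6a ?_
    rw [hψ']
    exact h5
  have h7 : IsLocHom (ψ'.comp ((algebraMap C Cu).comp φC)) := IsLocHom.comp h4 h6
  have h8 : ψ'.comp ((algebraMap C Cu).comp φC) = (algebraMap B Bb).comp φ := by
    rw [← RingHom.comp_assoc, hψ']
    ext a
    rfl
  rw [← h8]
  exact h7

variable {X Y : Scheme.{u}}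

/-- Scheme-level local structure: a locally essentially finite type morphism to a locally
Noetherian scheme which induces an isomorphism on the local ring at `x` has a localizing chart
at `x`. -/
theorem exists_chart_of_isIso_stalkMap (f : X ⟶ Y) [EssFT.LocallyEssFiniteType f]
    [IsLocallyNoetherian Y] (x : X) (hx : IsIso (f.stalkMap x)) :
    ∃ (U : Y.affineOpens) (V : X.affineOpens) (_ : x ∈ V.1) (e : V.1 ≤ f ⁻¹ᵁ U.1),
      IsLocHom (f.appLE U V e).hom := by
  obtain ⟨⟨V, hV⟩, ⟨W, hW⟩, hxW, hWV, hess⟩ :=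
    EssFT.LocallyEssFiniteType.exists_appLE_essFiniteType (f := f) x
  have hsV : f.base x ∈ V := hWV hxW
  letI algV := Y.presheaf.algebra_section_stalk ⟨f.base x, hsV⟩
  letI algW := X.presheaf.algebra_section_stalk ⟨x, hxW⟩
  haveI locW := hW.isLocalization_stalk ⟨x, hxW⟩
  have hcompat : (f.stalkMap x).hom.comp (algebraMap Γ(Y, V) (Y.presheaf.stalk (f.base x))) =
      (algebraMap Γ(X, W) (X.presheaf.stalk x)).comp (f.appLE V W hWV).hom := by
    ext a
    change (f.stalkMap x).hom ((Y.presheaf.germ V (f.base x) hsV).hom a) =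
      (X.presheaf.germ W x hxW).hom ((f.appLE V W hWV).hom a)
    rw [Scheme.Hom.appLE, CommRingCat.hom_comp, RingHom.comp_apply,
      ← CommRingCat.comp_apply (X.presheaf.map _), X.presheaf.germ_res]
    exact Scheme.Hom.germ_stalkMap_apply f V x hsV a
  have hprime : (hV.primeIdealOf ⟨f.base x, hsV⟩).asIdeal =
      (hW.primeIdealOf ⟨x, hxW⟩).asIdeal.comap (f.appLE V W hWV).hom := by
    ext a
    rw [Ideal.mem_comap, LocalIso.mem_primeIdealOf_iff, LocalIso.mem_primeIdealOf_iff]
    have h1 : (X.presheaf.germ W x hxW) ((f.appLE V W hWV).hom a) =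
        (f.stalkMap x).hom ((Y.presheaf.germ V (f.base x) hsV).hom a) :=
      (congrArg (fun ξ : Γ(Y, V) →+* X.presheaf.stalk x => ξ a) hcompat).symm
    rw [h1]
    exact not_congr (isUnit_map_iff (f.stalkMap x).hom _).symm
  haveI locV : IsLocalization.AtPrime (Y.presheaf.stalk (f.base x))
      ((hW.primeIdealOf ⟨x, hxW⟩).asIdeal.comap (f.appLE V W hWV).hom) := by
    have key : ∀ (P : Ideal Γ(Y, V)) [P.IsPrime] (P' : Ideal Γ(Y, V)) [P'.IsPrime], P = P' →
        IsLocalization.AtPrime (Y.presheaf.stalk (f.base x)) P →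
        IsLocalization.AtPrime (Y.presheaf.stalk (f.base x)) P' := by
      intro P _ P' _ h
      subst h
      exact id
    exact key _ _ hprime (hV.isLocalization_stalk ⟨f.base x, hsV⟩)
  haveI : IsNoetherianRing Γ(Y, V) := IsLocallyNoetherian.component_noetherian ⟨V, hV⟩
  obtain ⟨b, hb, hloc⟩ := exists_isLocHom_away_of_essFiniteType (f.appLE V W hWV).hom hess
    (hW.primeIdealOf ⟨x, hxW⟩).asIdeal (Y.presheaf.stalk (f.base x)) (X.presheaf.stalk x)
    (f.stalkMap x).hom hcompat (ConcreteCategory.bijective_of_isIso (f.stalkMap x))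
  have hxb : x ∈ X.basicOpen b := by
    rw [Scheme.mem_basicOpen _ _ _ hxW]
    exact not_not.mp ((LocalIso.mem_primeIdealOf_iff hW x hxW b).not.mp hb)
  haveI := hW.isLocalization_basicOpen b
  have hloc' := hloc Γ(X, X.basicOpen b)
  refine ⟨⟨V, hV⟩, ⟨X.basicOpen b, hW.basicOpen b⟩, hxb, (X.basicOpen_le b).trans hWV, ?_⟩
  have e2 : f.appLE V (X.basicOpen b) ((X.basicOpen_le b).trans hWV) = f.appLE V W hWV ≫
      X.presheaf.map (homOfLE (X.basicOpen_le b)).op := by
    rw [Scheme.Hom.appLE_map]
  change IsLocHom (f.appLE V (X.basicOpen b) ((X.basicOpen_le b).trans hWV)).hom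
  rw [e2, CommRingCat.hom_comp]
  exact hloc'

end Groth.Agent.Lib.Helper13.LocImmLib
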