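import Mathlib
import Groth.Prelude.Def_W4c5cptfessfintypeLocImm
import Groth.Prelude.Def_EssFT
import Groth.Agent.Lib.Helper13.LocImmEss

/-!
# Open neighbourhoods on which an essentially finite type morphism is a localizing immersion
-/

universe u

open CategoryTheory CategoryTheory.Limits AlgebraicGeometry TopologicalSpace LocImm Topology

namespace Groth.Agent.Lib.Helper13.LocImmLib

variable {X Y : Scheme.{u}}

/-- shrink a given chart inside an open neighbourhood -/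
theorem exists_chart_le_of_chart (f : X ⟶ Y) (U : Y.affineOpens) (V₀ : X.affineOpens)
    (e : V₀.1 ≤ f ⁻¹ᵁ U.1) (h : IsLocHom (f.appLE U V₀ e).hom) (x : X) (hxV : x ∈ V₀.1)
    (N : X.Opens) (hx : x ∈ N) :
    ∃ (V : X.affineOpens) (_ : x ∈ V.1) (e' : V.1 ≤ f ⁻¹ᵁ U.1),
      V.1 ≤ N ∧ IsLocHom (f.appLE U V e').hom := by
  obtain ⟨b, hbN, hxb⟩ := V₀.2.exists_basicOpen_le (V := N) ⟨x, hx⟩ hxV
  refine ⟨⟨X.basicOpen b, V₀.2.basicOpen b⟩, hxb, (X.basicOpen_le b).trans e, hbN, ?_⟩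
  have e2 : f.appLE U (X.basicOpen b) ((X.basicOpen_le b).trans e) = f.appLE U V₀ e ≫
      X.presheaf.map (homOfLE (X.basicOpen_le b)).op := by
    rw [Scheme.Hom.appLE_map]
  change IsLocHom (f.appLE U (X.basicOpen b) ((X.basicOpen_le b).trans e)).hom
  rw [e2, CommRingCat.hom_comp]
  exact IsLocHom.comp h (isLocHom_res_basicOpen V₀.2 b)

/-- charts contained in an open `U` make `U.ι ≫ g` localizing -/
theorem isLocalizing_ι_comp_of_charts (g : X ⟶ Y) (U : X.Opens)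
    (h : ∀ u ∈ U, ∃ (W : Y.affineOpens) (V : X.affineOpens) (_ : u ∈ V.1)
      (e : V.1 ≤ g ⁻¹ᵁ W.1), V.1 ≤ U ∧ IsLocHom (g.appLE W V e).hom) :
    IsLocalizing (U.ι ≫ g) := by
  intro u
  obtain ⟨W, V, huV, e, hVU, hloc⟩ := h u.1 u.2
  have hVr : V.1 ≤ U.ι.opensRange := by
    rw [Scheme.Opens.opensRange_ι]
    exact hVU
  have hV' : IsAffineOpen (U.ι ⁻¹ᵁ V.1) := V.2.preimage_of_isOpenImmersion U.ι hVr
  have e' : U.ι ⁻¹ᵁ V.1 ≤ (U.ι ≫ g) ⁻¹ᵁ W.1 := by
    intro u' hu'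
    exact e hu'
  refine ⟨W, ⟨U.ι ⁻¹ᵁ V.1, hV'⟩, huV, e', ?_⟩
  change IsLocHom ((U.ι ≫ g).appLE W (U.ι ⁻¹ᵁ V.1) e').hom
  rw [← Scheme.Hom.appLE_comp_appLE U.ι g W V.1 (U.ι ⁻¹ᵁ V.1) e le_rfl, CommRingCat.hom_comp]
  refine IsLocHom.comp hloc ?_
  rw [Scheme.Hom.appLE_eq_app]
  haveI := U.ι.isIso_app V.1 hVr
  exact isLocHom_of_bijective _ (ConcreteCategory.bijective_of_isIso (U.ι.app V.1))

variable {Y₁ Y₂ : Scheme.{u}}

set_option maxHeartbeats 800000 in
theorem exists_open_nhd_isLocImmersion [IsNoetherian X] [IsNoetherian Y₁] [IsNoetherian Y₂]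
    (f₁ : X ⟶ Y₁) (g : Y₁ ⟶ Y₂) (hf₁ : IsLocImmersion f₁) (hf₂ : IsLocImmersion (f₁ ≫ g))
    [IsSeparated g] [EssFT.EssFiniteType g] :
    ∃ U : Y₁.Opens, Set.range (fun x => f₁ x) ⊆ (U : Set Y₁) ∧ IsLocImmersion (U.ι ≫ g) := by
  -- stalk maps of `g` at points of the image are isomorphisms
  have hiso : ∀ x : X, IsIso (g.stalkMap (f₁ x)) := by
    intro x
    haveI h1 : IsIso (f₁.stalkMap x) := IsLocalizing.isIso_stalkMap hf₁.1 x
    haveI h2 : IsIso (g.stalkMap (f₁ x) ≫ f₁.stalkMap x) := by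
      rw [← Scheme.Hom.stalkMap_comp]
      exact IsLocalizing.isIso_stalkMap hf₂.1 x
    exact IsIso.of_isIso_comp_right (g.stalkMap (f₁ x)) (f₁.stalkMap x)
  choose W V hxV e hloc using fun x => exists_chart_of_isIso_stalkMap g (f₁ x) (hiso x)
  let R : Set Y₁ := Set.range (fun x => f₁ x)
  have hR : StableUnderGeneralization R :=
    (IsLocalizing.generalizingMap hf₁.1).stableUnderGeneralization_range
  -- the closed set to remove
  let C : Set Y₁ := ⋃ Z ∈ {Z ∈ irreducibleComponents Y₁ | Disjoint Z R}, Z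
  have hCc : IsClosed C := by
    refine Set.Finite.isClosed_biUnion ?_ ?_
    · exact (NoetherianSpace.finite_irreducibleComponents (α := Y₁)).subset (Set.sep_subset _ _)
    · intro Z hZ
      exact isClosed_of_mem_irreducibleComponents Z hZ.1
  have hRC : ∀ y ∈ R, y ∉ C := by
    intro y hy hyC
    simp only [C, Set.mem_iUnion, exists_prop] at hyC
    obtain ⟨Z, ⟨_, hZ⟩, hyZ⟩ := hyC
    exact Set.disjoint_left.mp hZ hyZ hy
  let U : Y₁.Opens := (⨆ x, (V x).1) ⊓ ⟨Cᶜ, hCc.isOpen_compl⟩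
  have hRU : R ⊆ (U : Set Y₁) := by
    rintro _ ⟨x, rfl⟩
    exact ⟨Opens.mem_iSup.mpr ⟨x, hxV x⟩, hRC _ ⟨x, rfl⟩⟩
  refine ⟨U, hRU, ?_⟩
  have hlocU : IsLocalizing (U.ι ≫ g) := by
    apply isLocalizing_ι_comp_of_charts
    intro u hu
    obtain ⟨x, hux⟩ := Opens.mem_iSup.mp hu.1
    obtain ⟨V', huV', e', hV'U, hloc'⟩ :=
      exists_chart_le_of_chart g (W x) (V x) (e x) (hloc x) u hux U hu
    exact ⟨W x, V', huV', e', hV'U, hloc'⟩
  refine ⟨hlocU, ?_⟩
  apply IsLocalizing.injective_of_isSeparated hlocU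
  -- maximal points of `U` lie in the image of `f₁`
  have hmaxR : ∀ u : U.toScheme, (∀ u' : U.toScheme, u' ⤳ u → u' = u) → (U.ι u) ∈ R := by
    intro u hu
    have hymax : ∀ η : Y₁, η ⤳ U.ι u → η = U.ι u := by
      intro η hη
      have hηU : η ∈ U := hη.mem_open U.isOpen u.2
      obtain ⟨u', hu'⟩ : ∃ u' : U.toScheme, U.ι u' = η := by
        have : η ∈ Set.range U.ι.base := by
          rw [Scheme.Opens.range_ι]
          exact hηU
        exact this
      have h1 : u' ⤳ u := by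
        rw [← U.ι.isOpenEmbedding.isInducing.specializes_iff, hu']
        exact hη
      rw [← hu', hu u' h1]
    have hyC : U.ι u ∉ C := u.2.2
    have hZ : irreducibleComponent (U.ι u) ∈ irreducibleComponents Y₁ :=
      irreducibleComponent_mem_irreducibleComponents _
    have hnd : ¬ Disjoint (irreducibleComponent (U.ι u)) R := by
      intro hd
      apply hyC
      simp only [C, Set.mem_iUnion, exists_prop]
      exact ⟨_, ⟨hZ, hd⟩, mem_irreducibleComponent⟩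
    rw [Set.not_disjoint_iff] at hnd
    obtain ⟨r, hrZ, hrR⟩ := hnd
    obtain ⟨ζ, hζ⟩ := QuasiSober.sober (isIrreducible_irreducibleComponent (x := U.ι u))
      isClosed_irreducibleComponent
    have hζy : ζ = U.ι u := hymax ζ (hζ.specializes mem_irreducibleComponent)
    have hyr : U.ι u ⤳ r := by
      rw [← hζy]
      exact hζ.specializes hrZ
    exact hR hyr hrR
  intro u₁ hu₁ u₂ hu₂ h12
  obtain ⟨x₁, hx₁⟩ := hmaxR u₁ hu₁
  obtain ⟨x₂, hx₂⟩ := hmaxR u₂ hu₂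
  have h12' : g (U.ι u₁) = g (U.ι u₂) := by
    simpa using h12
  have hx : x₁ = x₂ := by
    apply hf₂.2
    change (f₁ ≫ g) x₁ = (f₁ ≫ g) x₂
    simp only [Scheme.Hom.comp_apply]
    have e1 : f₁ x₁ = U.ι u₁ := hx₁
    have e2 : f₁ x₂ = U.ι u₂ := hx₂
    rw [e1, e2, h12']
  apply U.ι.isOpenEmbedding.injective
  change U.ι u₁ = U.ι u₂
  rw [← hx₁, ← hx₂, hx]

end Groth.Agent.Lib.Helper13.LocImmLib
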