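import Mathlib
import Groth.Prelude.Def_W4c5cptfessfintypeLocImm
import Groth.Prelude.Def_EssFT
import Groth.Agent.Lib.Helper13.LocImmNhd
import Groth.Agent.S18204

/-!
# Two finite type targets of a localizing immersion share an open piece
-/

universe u

open CategoryTheory CategoryTheory.Limits AlgebraicGeometry TopologicalSpace LocImm Topology

namespace Groth.Agent.Lib.Helper13.LocImmLib

variable {X Y Z : Scheme.{u}}

theorem isNoetherian_of_locallyOfFiniteType (f : X ⟶ Y) [LocallyOfFiniteType f] [QuasiCompact f]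
    [IsNoetherian Y] : IsNoetherian X :=
  { toIsLocallyNoetherian := LocallyOfFiniteType.isLocallyNoetherian f
    toCompactSpace := QuasiCompact.compactSpace_of_compactSpace f }

/-- variant of `isLocImmersion_of_comp_of_app_injective` with the hypothesis `f.ker = ⊥` -/
theorem isLocImmersion_of_comp_of_ker_eq_bot [IsNoetherian X] [IsNoetherian Y]
    [IsNoetherian Z] (f : X ⟶ Y) (g : Y ⟶ Z) (hfg : IsLocImmersion (f ≫ g)) [IsSeparated g]
    (hker : f.ker = ⊥) : IsLocImmersion f := by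
  have hq : IsLocImmersion (pullback.snd (f ≫ g) g) := IsLocImmersion.pullback_snd _ _ hfg
  haveI : IsNoetherian (pullback (f ≫ g) g) := IsLocalizing.isNoetherian hq.1
  let γ : X ⟶ pullback (f ≫ g) g := pullback.lift (𝟙 X) f (by simp)
  have hγ1 : γ ≫ pullback.fst (f ≫ g) g = 𝟙 X := pullback.lift_fst _ _ _
  have hγ2 : γ ≫ pullback.snd (f ≫ g) g = f := pullback.lift_snd _ _ _
  haveI : IsClosedImmersion (γ ≫ pullback.fst (f ≫ g) g) := by
    rw [hγ1]
    infer_instance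
  haveI : IsClosedImmersion γ := IsClosedImmersion.of_comp γ (pullback.fst (f ≫ g) g)
  have hγker : γ.ker = ⊥ := by
    rw [← IsLocImmersion.comap_map_eq hq γ.ker, Scheme.IdealSheafData.map_ker, hγ2, hker,
      Scheme.IdealSheafData.comap_bot]
  haveI : IsIso γ := IsClosedImmersion.isIso_iff_ker_eq_bot.mpr hγker
  rw [← hγ2]
  exact IsLocImmersion.comp (isLocImmersion_of_isOpenImmersion γ) hq

theorem ker_toImage_eq_bot (f : X ⟶ Y) [QuasiCompact f] : f.toImage.ker = ⊥ := by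
  refine le_bot_iff.mp ?_
  refine Scheme.IdealSheafData.le_of_iSup_eq_top
    (fun U : Y.affineOpens => ⟨f.imageι ⁻¹ᵁ U.1, U.2.preimage f.imageι⟩) ?_ ?_
  · have := iSup_affineOpens_eq_top Y
    refine eq_top_iff.mpr fun z _ => ?_
    have hz : f.imageι z ∈ (⊤ : Y.Opens) := trivial
    rw [← this] at hz
    obtain ⟨U, hU⟩ := Opens.mem_iSup.mp hz
    exact Opens.mem_iSup.mpr ⟨U, hU⟩
  · intro U
    rw [Scheme.Hom.ker_apply]
    simp only [Scheme.IdealSheafData.ideal_bot, Pi.bot_apply]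
    exact ((RingHom.injective_iff_ker_eq_bot _).mp (f.toImage_app_injective U)).le

/-- If `k ≫ j` is a localizing immersion with `j` an open immersion then so is `k`. -/
theorem isLocImmersion_of_comp_isOpenImmersion [IsNoetherian X] (k : X ⟶ Y) (j : Y ⟶ Z)
    [IsOpenImmersion j] (h : IsLocImmersion (k ≫ j)) : IsLocImmersion k := by
  apply isLocImmersion_of_affine_nhds
  intro x
  obtain ⟨V, hxV, hV, hV', hloc⟩ := IsLocImmersion.exists_affine_nhd h x
  have hxr : (k ≫ j) x ∈ j.opensRange := ⟨k x, by simp⟩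
  obtain ⟨a, haj, hxa⟩ := hV.exists_basicOpen_le (V := j.opensRange) ⟨(k ≫ j) x, hxr⟩ hxV
  -- the shrunk chart for `k ≫ j`
  have hpre : (k ≫ j) ⁻¹ᵁ (Z.basicOpen a) = X.basicOpen (((k ≫ j).app V).hom a) :=
    Scheme.preimage_basicOpen (k ≫ j) a
  have hloc' : IsLocHom ((k ≫ j).appLE V ((k ≫ j) ⁻¹ᵁ V) le_rfl).hom := by
    rw [Scheme.Hom.appLE_eq_app]
    exact hloc
  have hpre' : (k ≫ j) ⁻¹ᵁ (Z.basicOpen a) =
      X.basicOpen (((k ≫ j).appLE V ((k ≫ j) ⁻¹ᵁ V) le_rfl).hom a) := by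
    rw [Scheme.Hom.appLE_eq_app]
    exact hpre
  have h1 : IsLocHom ((k ≫ j).appLE (Z.basicOpen a) ((k ≫ j) ⁻¹ᵁ (Z.basicOpen a)) le_rfl).hom :=
    isLocHom_appLE_basicOpen (k ≫ j) ⟨V, hV⟩ ⟨(k ≫ j) ⁻¹ᵁ V, hV'⟩ le_rfl hloc' a _ hpre' le_rfl
  rw [Scheme.Hom.appLE_eq_app] at h1
  have haff : IsAffineOpen ((k ≫ j) ⁻¹ᵁ (Z.basicOpen a)) := by
    rw [hpre]
    exact hV'.basicOpen _
  refine ⟨j ⁻¹ᵁ (Z.basicOpen a), hxa, (hV.basicOpen a).preimage_of_isOpenImmersion j haj,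
    haff, ?_⟩
  have hcomp : (k ≫ j).app (Z.basicOpen a) = j.app (Z.basicOpen a) ≫
      k.app (j ⁻¹ᵁ (Z.basicOpen a)) := Scheme.Hom.comp_app k j _
  rw [hcomp] at h1
  have h1' : IsLocHom ((k.app (j ⁻¹ᵁ (Z.basicOpen a))).hom.comp (j.app (Z.basicOpen a)).hom) := h1
  haveI := j.isIso_app (Z.basicOpen a) haj
  exact IsLocHom.of_comp
    (isLocHom_of_bijective _ (ConcreteCategory.bijective_of_isIso (j.app (Z.basicOpen a)))) h1'

instance (priority := 100) locallyEssFiniteType_of_locallyOfFiniteType (f : X ⟶ Y)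
    [LocallyOfFiniteType f] : EssFT.LocallyEssFiniteType f := by
  refine ⟨fun x => ?_⟩
  obtain ⟨_, ⟨V : Y.Opens, hV, rfl⟩, hsV, -⟩ :=
    Y.isBasis_affineOpens.exists_subset_of_mem_open (Set.mem_univ (f.base x)) isOpen_univ
  obtain ⟨W, hW, hxW, hWV⟩ := exists_isAffineOpen_mem_and_subset (x := x) (U := f ⁻¹ᵁ V) hsV
  refine ⟨⟨V, hV⟩, ⟨W, hW⟩, hxW, hWV, ?_⟩
  have hft : (f.appLE V W hWV).hom.FiniteType := f.finiteType_appLE hV hW hWV
  exact RingHom.FiniteType.essFiniteType hft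

end Groth.Agent.Lib.Helper13.LocImmLib
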