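import Mathlib
import Groth.Prelude.Def_W4c5cptfessfintypeLocImm
import Groth.Prelude.Def_EssFT
import Groth.Agent.Lib.Helper13.LocImmGlue

/-!
# Two finite type targets of a localizing immersion share an open piece: main statement
-/

universe u

open CategoryTheory CategoryTheory.Limits AlgebraicGeometry TopologicalSpace LocImm Topology

namespace Groth.Agent.Lib.Helper13.LocImmLib

set_option maxHeartbeats 1600000 in
theorem exists_locImmersion_openImmersions {X Y₁ Y₂ S : Scheme.{u}} [IsNoetherian X]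
    [IsNoetherian Y₁] [IsNoetherian Y₂] [IsNoetherian S]
    (f₁ : X ⟶ Y₁) (f₂ : X ⟶ Y₂) (π₁ : Y₁ ⟶ S) (π₂ : Y₂ ⟶ S)
    (hf₁ : IsLocImmersion f₁) (hf₂ : IsLocImmersion f₂)
    [IsSeparated π₁] [IsSeparated π₂] [LocallyOfFiniteType π₁] [LocallyOfFiniteType π₂]
    (h : f₁ ≫ π₁ = f₂ ≫ π₂) :
    ∃ (W : Scheme.{u}) (k : X ⟶ W) (g₁ : W ⟶ Y₁) (g₂ : W ⟶ Y₂), IsLocImmersion k ∧
      IsOpenImmersion g₁ ∧ IsOpenImmersion g₂ ∧ g₁ ≫ π₁ = g₂ ≫ π₂ ∧ k ≫ g₁ = f₁ ∧ k ≫ g₂ = f₂ := by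
  haveI : QuasiCompact π₁ := inferInstance
  haveI : QuasiCompact π₂ := inferInstance
  haveI : IsNoetherian (pullback π₁ π₂) :=
    isNoetherian_of_locallyOfFiniteType (pullback.fst π₁ π₂)
  let f : X ⟶ pullback π₁ π₂ := pullback.lift f₁ f₂ h
  haveI : QuasiCompact f := inferInstance
  haveI : IsNoetherian f.image := isNoetherian_of_locallyOfFiniteType f.imageι
  let g₁' : f.image ⟶ Y₁ := f.imageι ≫ pullback.fst π₁ π₂
  let g₂' : f.image ⟶ Y₂ := f.imageι ≫ pullback.snd π₁ π₂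
  have hk₁ : f.toImage ≫ g₁' = f₁ := by
    simp only [g₁', Scheme.Hom.toImage_imageι_assoc, f, pullback.lift_fst]
  have hk₂ : f.toImage ≫ g₂' = f₂ := by
    simp only [g₂', Scheme.Hom.toImage_imageι_assoc, f, pullback.lift_snd]
  haveI : IsSeparated g₁' := inferInstance
  haveI : IsSeparated g₂' := inferInstance
  haveI : LocallyOfFiniteType g₁' := inferInstance
  haveI : LocallyOfFiniteType g₂' := inferInstance
  haveI : QuasiCompact g₁' := inferInstance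
  haveI : QuasiCompact g₂' := inferInstance
  haveI : EssFT.EssFiniteType g₁' := {}
  haveI : EssFT.EssFiniteType g₂' := {}
  have hk₀ : IsLocImmersion f.toImage :=
    isLocImmersion_of_comp_of_ker_eq_bot f.toImage g₁' (hk₁ ▸ hf₁) (ker_toImage_eq_bot f)
  obtain ⟨U₁, hU₁, hloc₁⟩ := exists_open_nhd_isLocImmersion f.toImage g₁' hk₀ (hk₁ ▸ hf₁)
  obtain ⟨U₂, hU₂, hloc₂⟩ := exists_open_nhd_isLocImmersion f.toImage g₂' hk₀ (hk₂ ▸ hf₂)
  haveI : IsNoetherian ↑U₁ := isNoetherian_of_locallyOfFiniteType U₁.ι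
  haveI : IsNoetherian ↑U₂ := isNoetherian_of_locallyOfFiniteType U₂.ι
  haveI ho₁ : IsOpenImmersion (U₁.ι ≫ g₁') := Groth.Agent.S18204.result _ hloc₁
  haveI ho₂ : IsOpenImmersion (U₂.ι ≫ g₂') := Groth.Agent.S18204.result _ hloc₂
  let W : f.image.Opens := U₁ ⊓ U₂
  have hW : Set.range f.toImage.base ⊆ Set.range W.ι.base := by
    rintro _ ⟨x, rfl⟩
    rw [Scheme.Opens.range_ι]
    exact ⟨hU₁ ⟨x, rfl⟩, hU₂ ⟨x, rfl⟩⟩
  let k : X ⟶ W.toScheme := IsOpenImmersion.lift W.ι f.toImage hW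
  have hk : k ≫ W.ι = f.toImage := IsOpenImmersion.lift_fac _ _ _
  have e₁ : W.ι = f.image.homOfLE (inf_le_left : W ≤ U₁) ≫ U₁.ι := (Scheme.homOfLE_ι _ _).symm
  have e₂ : W.ι = f.image.homOfLE (inf_le_right : W ≤ U₂) ≫ U₂.ι := (Scheme.homOfLE_ι _ _).symm
  refine ⟨W.toScheme, k, W.ι ≫ g₁', W.ι ≫ g₂', ?_, ?_, ?_, ?_, ?_, ?_⟩
  · exact isLocImmersion_of_comp_isOpenImmersion k W.ι (hk ▸ hk₀)
  · rw [e₁, Category.assoc]
    infer_instance
  · rw [e₂, Category.assoc]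
    infer_instance
  · simp only [g₁', g₂', Category.assoc, pullback.condition]
  · rw [← Category.assoc, hk, hk₁]
  · rw [← Category.assoc, hk, hk₂]

end Groth.Agent.Lib.Helper13.LocImmLib
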