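import Mathlib
import Groth.Prelude.Def_W4c5cptfessfintypeLocImm
import Groth.Agent.Lib.Helper13.LocImmCore

/-!
# Being localizing is local on the source
-/

universe u

open CategoryTheory CategoryTheory.Limits AlgebraicGeometry TopologicalSpace LocImm Topology

namespace Groth.Agent.Lib.Helper13.LocImmLib

theorem IsLocHom.of_comp_bijective {A B C : Type*} [CommRing A] [CommRing B] [CommRing C]
    {φ : A →+* B} {ψ : B →+* C} (hψ : Function.Bijective ψ) (h : IsLocHom (ψ.comp φ)) :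
    IsLocHom φ := by
  let e := RingEquiv.ofBijective ψ hψ
  have : φ = (e.symm : C →+* B).comp (ψ.comp φ) := by
    ext a
    simp only [RingHom.coe_comp, RingHom.coe_coe, Function.comp_apply]
    exact (e.symm_apply_apply (φ a)).symm
  rw [this]
  exact IsLocHom.comp h (isLocHom_of_bijective _ e.symm.bijective)

variable {X Y : Scheme.{u}}

theorem isLocalizing_of_local (k : X ⟶ Y)
    (h : ∀ x : X, ∃ U : X.Opens, x ∈ U ∧ IsLocalizing (U.ι ≫ k)) : IsLocalizing k := by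
  intro x
  obtain ⟨U, hxU, hU⟩ := h x
  obtain ⟨W', V', hxV', e', hloc⟩ := hU ⟨x, hxU⟩
  have hV : IsAffineOpen (U.ι ''ᵁ V'.1) := V'.2.image_of_isOpenImmersion U.ι
  have hxV : x ∈ U.ι ''ᵁ V'.1 := ⟨⟨x, hxU⟩, hxV', rfl⟩
  have e : U.ι ''ᵁ V'.1 ≤ k ⁻¹ᵁ W'.1 := by
    rintro _ ⟨v, hv, rfl⟩
    exact e' hv
  refine ⟨W', ⟨U.ι ''ᵁ V'.1, hV⟩, hxV, e, ?_⟩
  change IsLocHom (k.appLE W'.1 (U.ι ''ᵁ V'.1) e).hom
  have hle : V'.1 ≤ U.ι ⁻¹ᵁ (U.ι ''ᵁ V'.1) := (Scheme.Hom.preimage_image_eq U.ι V'.1).ge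
  have hcomp := Scheme.Hom.appLE_comp_appLE U.ι k W'.1 (U.ι ''ᵁ V'.1) V'.1 e hle
  have hbij : Function.Bijective (U.ι.appLE (U.ι ''ᵁ V'.1) V'.1 hle).hom := by
    rw [← Scheme.Hom.appIso_hom']
    exact ConcreteCategory.bijective_of_isIso _
  refine IsLocHom.of_comp_bijective hbij ?_
  rw [← CommRingCat.hom_comp, hcomp]
  exact hloc

end Groth.Agent.Lib.Helper13.LocImmLib
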