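import Mathlib
import Groth.Prelude.Def_W4c5cptfessfintypeLocImm
import Groth.Agent.Lib.Helper13.LocImmCore

/-!
# A separated open neighbourhood of the image of a localizing immersion
-/

universe u

open CategoryTheory CategoryTheory.Limits AlgebraicGeometry TopologicalSpace LocImm Topology

namespace Groth.Agent.Lib.Helper13.LocImmLib

theorem exists_specializes_of_mem_closure_range {Y D : Type*} [TopologicalSpace Y]
    [TopologicalSpace D] [NoetherianSpace Y] [QuasiSober Y] {g : Y → D} (hg : Continuous g)
    {b : D} (hb : b ∈ closure (Set.range g)) : ∃ y, g y ⤳ b := by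
  obtain ⟨S, hSf, hSc, hSi, hSU⟩ :=
    NoetherianSpace.exists_finite_set_isClosed_irreducible (isClosed_univ (X := Y))
  by_cases hne : Nonempty Y
  swap
  · rw [not_nonempty_iff] at hne
    simp [Set.range_eq_empty] at hb
  choose! gen hgen using fun t (ht : t ∈ S) => QuasiSober.sober (hSi t ht) (hSc t ht)
  have hsub : Set.range g ⊆ ⋃ t ∈ S, closure {g (gen t)} := by
    rintro _ ⟨y, rfl⟩
    have : y ∈ (Set.univ : Set Y) := trivial
    rw [hSU] at this
    obtain ⟨t, ht, hyt⟩ := this
    simp only [Set.mem_iUnion, exists_prop]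
    refine ⟨t, ht, ?_⟩
    have hsp : gen t ⤳ y := (hgen t ht).specializes hyt
    exact specializes_iff_mem_closure.mp (hsp.map hg)
  have hcl : IsClosed (⋃ t ∈ S, closure {g (gen t)}) :=
    hSf.isClosed_biUnion fun t _ => isClosed_closure
  have := closure_minimal hsub hcl hb
  simp only [Set.mem_iUnion, exists_prop] at this
  obtain ⟨t, _, hbt⟩ := this
  exact ⟨gen t, specializes_iff_mem_closure.mpr hbt⟩

variable {X Y S : Scheme.{u}}

theorem mem_range_diagonal_of_mem_closure [IsNoetherian Y] (h : X ⟶ Y) (p : Y ⟶ S) [Flat h]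
    [Mono h] [IsSeparated (h ≫ p)] (b : ↑(pullback p p))
    (hb : b ∈ closure (Set.range (pullback.diagonal p).base))
    (h1 : pullback.fst p p b ∈ Set.range h.base) (h2 : pullback.snd p p b ∈ Set.range h.base) :
    b ∈ Set.range (pullback.diagonal p).base := by
  let hh : pullback (h ≫ p) (h ≫ p) ⟶ pullback p p :=
    pullback.map (h ≫ p) (h ≫ p) p p h h (𝟙 S) ((Category.comp_id _).trans rfl)
      ((Category.comp_id _).trans rfl)
  haveI : Flat hh := MorphismProperty.pullbackMap (P := @Flat) ‹Flat h› ‹Flat h› rfl rfl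
  haveI : Mono hh := MorphismProperty.pullbackMap (P := MorphismProperty.monomorphisms Scheme)
    (MorphismProperty.monomorphisms.infer_property h)
    (MorphismProperty.monomorphisms.infer_property h) rfl rfl
  have hrange : Set.range hh.base = (pullback.fst p p).base ⁻¹' Set.range h.base ∩
      (pullback.snd p p).base ⁻¹' Set.range h.base := Scheme.Pullback.range_map _ _ _ _ _ _ _ _ _
  obtain ⟨c, rfl⟩ : b ∈ Set.range hh.base := by
    rw [hrange]
    exact ⟨h1, h2⟩
  obtain ⟨y, hy⟩ := exists_specializes_of_mem_closure_range (pullback.diagonal p).continuous hb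
  have hy1 : y ⤳ pullback.fst p p (hh c) := by
    have := hy.map (pullback.fst p p).continuous
    have e : (pullback.fst p p) ((pullback.diagonal p) y) = y := by
      rw [← Scheme.Hom.comp_apply, pullback.diagonal_fst]
      rfl
    rwa [e] at this
  obtain ⟨x, rfl⟩ : y ∈ Set.range h.base :=
    (Flat.generalizingMap h).stableUnderGeneralization_range hy1 h1
  have hcompat : pullback.diagonal (h ≫ p) ≫ hh = h ≫ pullback.diagonal p := by
    apply pullback.hom_ext
    · simp only [hh, Category.assoc, pullback.lift_fst, pullback.diagonal_fst,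
        pullback.diagonal_fst_assoc, Category.comp_id]
    · simp only [hh, Category.assoc, pullback.lift_snd, pullback.diagonal_snd,
        pullback.diagonal_snd_assoc, Category.comp_id]
  have hy' : hh (pullback.diagonal (h ≫ p) x) ⤳ hh c := by
    have e : hh (pullback.diagonal (h ≫ p) x) = pullback.diagonal p (h x) := by
      rw [← Scheme.Hom.comp_apply, hcompat, Scheme.Hom.comp_apply]
    rw [e]
    exact hy
  obtain ⟨a, ha, hae⟩ := (Flat.generalizingMap hh) hy'
  have haeq : a = pullback.diagonal (h ≫ p) x := Scheme.Hom.injective hh hae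
  rw [haeq] at ha
  have hcl : IsClosed (Set.range (pullback.diagonal (h ≫ p)).base) :=
    (pullback.diagonal (h ≫ p)).isClosedEmbedding.isClosed_range
  obtain ⟨x', rfl⟩ := ha.mem_closed hcl ⟨x, rfl⟩
  refine ⟨h x', ?_⟩
  rw [← Scheme.Hom.comp_apply, ← hcompat, Scheme.Hom.comp_apply]

set_option maxHeartbeats 800000 in
theorem exists_open_nhd_isSeparated [IsNoetherian Y] (h : X ⟶ Y) (p : Y ⟶ S)
    [LocallyOfFiniteType p] [QuasiCompact p] [Flat h] [Mono h] [IsSeparated (h ≫ p)] :
    ∃ Y' : Y.Opens, Set.range h.base ⊆ (Y' : Set Y) ∧ IsSeparated (Y'.ι ≫ p) := by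
  haveI : IsNoetherian (pullback p p) :=
    { toIsLocallyNoetherian := inferInstance
      toCompactSpace := inferInstance }
  set Δ := pullback.diagonal p with hΔ
  have hR : StableUnderGeneralization (Set.range h.base) :=
    (Flat.generalizingMap h).stableUnderGeneralization_range
  -- the bad set
  let B : Set ↑(pullback p p) := closure (Set.range Δ.base) \ Set.range Δ.base
  have hBc : IsClosed B := by
    have hlc : IsLocallyClosed (Set.range Δ.base) := Δ.isLocallyClosed_range
    have := hlc.isOpen_preimage_val_closure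
    -- `range Δ` is open in its closure
    obtain ⟨O, hO, hOeq⟩ := isOpen_induced_iff.mp this
    have hB : B = closure (Set.range Δ.base) ∩ Oᶜ := by
      ext z
      simp only [B, Set.mem_diff, Set.mem_inter_iff, Set.mem_compl_iff]
      constructor
      · rintro ⟨hz1, hz2⟩
        refine ⟨hz1, fun hzO => hz2 ?_⟩
        have : (⟨z, hz1⟩ : closure (Set.range Δ.base)) ∈ Subtype.val ⁻¹' O := hzO
        rw [hOeq] at this
        exact this
      · rintro ⟨hz1, hz2⟩
        refine ⟨hz1, fun hz => hz2 ?_⟩
        have : (⟨z, hz1⟩ : closure (Set.range Δ.base)) ∈ Subtype.val ⁻¹' Set.range Δ.base := hz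
        rw [← hOeq] at this
        exact this
    rw [hB]
    exact isClosed_closure.inter hO.isClosed_compl
  obtain ⟨T, hTf, hTc, hTi, hTU⟩ := NoetherianSpace.exists_finite_set_isClosed_irreducible hBc
  by_cases hne : Nonempty ↑(pullback p p)
  swap
  · -- empty fibre product: `Y` is empty
    refine ⟨⊤, fun _ _ => trivial, ?_⟩
    haveI : IsEmpty Y := by
      rw [not_nonempty_iff] at hne
      exact ⟨fun y => hne.false (Δ y)⟩
    haveI : IsEmpty ↑(⊤ : Y.Opens) := ⟨fun y => IsEmpty.false y.1⟩
    infer_instance
  choose! gen hgen using fun t (ht : t ∈ T) => QuasiSober.sober (hTi t ht) (hTc t ht)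
  have hgenB : ∀ t ∈ T, gen t ∈ B := by
    intro t ht
    rw [hTU]
    exact ⟨t, ht, (hgen t ht).mem⟩
  -- the point to remove
  classical
  let e : Set ↑(pullback p p) → Y := fun t =>
    if pullback.fst p p (gen t) ∈ Set.range h.base then pullback.snd p p (gen t)
    else pullback.fst p p (gen t)
  have he : ∀ t ∈ T, e t ∉ Set.range h.base := by
    intro t ht
    simp only [e]
    split_ifs with h1
    · intro h2
      exact (hgenB t ht).2 (mem_range_diagonal_of_mem_closure h p _ (hgenB t ht).1 h1 h2)
    · exact h1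
  have heb : ∀ t ∈ T, ∀ b ∈ t, (pullback.fst p p b ∈ closure {e t} ∨
      pullback.snd p p b ∈ closure {e t}) := by
    intro t ht b hb
    have hsp : gen t ⤳ b := (hgen t ht).specializes hb
    simp only [e]
    split_ifs with h1
    · right
      exact specializes_iff_mem_closure.mp (hsp.map (pullback.snd p p).continuous)
    · left
      exact specializes_iff_mem_closure.mp (hsp.map (pullback.fst p p).continuous)
  let C : Set Y := ⋃ t ∈ T, closure {e t}
  have hCc : IsClosed C := hTf.isClosed_biUnion fun t _ => isClosed_closure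
  let Y' : Y.Opens := ⟨Cᶜ, hCc.isOpen_compl⟩
  have hRY' : Set.range h.base ⊆ (Y' : Set Y) := by
    rintro _ ⟨x, rfl⟩ hxC
    simp only [C, Set.mem_iUnion, exists_prop] at hxC
    obtain ⟨t, ht, hxt⟩ := hxC
    exact he t ht (hR (specializes_iff_mem_closure.mpr hxt) ⟨x, rfl⟩)
  have hBY' : ∀ b ∈ B, ¬ (pullback.fst p p b ∈ Y' ∧ pullback.snd p p b ∈ Y') := by
    rintro b hb ⟨hb1, hb2⟩
    rw [hTU] at hb
    obtain ⟨t, ht, hbt⟩ := hb
    rcases heb t ht b hbt with h' | h'
    · exact hb1 (Set.mem_biUnion ht h')
    · exact hb2 (Set.mem_biUnion ht h')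
  refine ⟨Y', hRY', ?_⟩
  -- separatedness
  constructor
  let q := Y'.ι ≫ p
  let j : pullback q q ⟶ pullback p p :=
    pullback.map q q p p Y'.ι Y'.ι (𝟙 S) (by simp [q]) (by simp [q])
  have hjrange : Set.range j.base = (pullback.fst p p).base ⁻¹' Set.range Y'.ι.base ∩
      (pullback.snd p p).base ⁻¹' Set.range Y'.ι.base := Scheme.Pullback.range_map _ _ _ _ _ _ _ _ _
  have hcompat : pullback.diagonal q ≫ j = Y'.ι ≫ Δ := by
    apply pullback.hom_ext
    · simp only [j, hΔ, Category.assoc, pullback.lift_fst, pullback.diagonal_fst,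
        pullback.diagonal_fst_assoc, Category.comp_id]
    · simp only [j, hΔ, Category.assoc, pullback.lift_snd, pullback.diagonal_snd,
        pullback.diagonal_snd_assoc, Category.comp_id]
  have hrange : Set.range (pullback.diagonal q).base = j.base ⁻¹' closure (Set.range Δ.base) := by
    ext z
    constructor
    · rintro ⟨y', rfl⟩
      apply subset_closure
      refine ⟨Y'.ι y', ?_⟩
      change Δ (Y'.ι y') = j (pullback.diagonal q y')
      rw [← Scheme.Hom.comp_apply, ← Scheme.Hom.comp_apply, hcompat]
    · intro hz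
      have hz' : j z ∈ closure (Set.range Δ.base) := hz
      have hjz : j z ∈ Set.range j.base := ⟨z, rfl⟩
      rw [hjrange] at hjz
      rw [Scheme.Opens.range_ι] at hjz
      have hnB : j z ∉ B := fun hB => hBY' _ hB hjz
      have hzΔ : j z ∈ Set.range Δ.base := by
        by_contra hcon
        exact hnB ⟨hz', hcon⟩
      obtain ⟨y, hy⟩ := hzΔ
      have hyY' : y ∈ Set.range Y'.ι.base := by
        have e1 : y = pullback.fst p p (Δ y) := by
          rw [← Scheme.Hom.comp_apply, hΔ, pullback.diagonal_fst]
          rfl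
        rw [e1, hy, Scheme.Opens.range_ι]
        exact hjz.1
      obtain ⟨y', rfl⟩ := hyY'
      refine ⟨y', ?_⟩
      apply j.isOpenEmbedding.injective
      change j (pullback.diagonal q y') = j z
      rw [← Scheme.Hom.comp_apply, hcompat, Scheme.Hom.comp_apply]
      exact hy
  refine IsClosedImmersion.of_isPreimmersion _ ?_
  change IsClosed (Set.range (pullback.diagonal q).base)
  rw [hrange]
  exact isClosed_closure.preimage j.continuous

end Groth.Agent.Lib.Helper13.LocImmLib
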