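import Mathlib
import Groth.Prelude.Def_W4c5cptfessfintypeLocImm
import Groth.Prelude.Def_EssFT
import Groth.Agent.Lib.Helper13.LocImmGlue2
import Groth.Agent.Lib.Helper13.LocImmSepNhd
import Groth.Agent.Lib.Helper13.LocImmLocal
import Groth.Agent.Lib.Helper13.GlueTwo

/-!
# Gluing two factorizations (localizing immersion followed by finite type)
-/

universe u

open CategoryTheory CategoryTheory.Limits AlgebraicGeometry TopologicalSpace LocImm Topology

namespace Groth.Agent.Lib.Helper13.LocImmLib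

/-- points identified in a pushout of open immersions come from the common open -/
theorem exists_of_inl_eq_inr {W Y₁ Y₂ : Scheme.{u}} (g₁ : W ⟶ Y₁) (g₂ : W ⟶ Y₂)
    [IsOpenImmersion g₁] [IsOpenImmersion g₂] (y₁ : Y₁) (y₂ : Y₂)
    (h : pushout.inl g₁ g₂ y₁ = pushout.inr g₁ g₂ y₂) : ∃ w : W, g₁ w = y₁ ∧ g₂ w = y₂ := by
  have h' : colimit.ι (span g₁ g₂) WalkingSpan.left y₁ =
      colimit.ι (span g₁ g₂) WalkingSpan.right y₂ := h
  obtain ⟨k, fi, fj, x, hx1, hx2⟩ := (Scheme.IsLocallyDirected.ι_eq_ι_iff (span g₁ g₂)).mp h'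
  rcases k with _ | _ | _
  · obtain (_ | _) := fi
    obtain (_ | _) := fj
    exact ⟨x, hx1, hx2⟩
  · obtain (_ | _) := fj
  · obtain (_ | _) := fi

instance {W Y₁ Y₂ : Scheme.{u}} (g₁ : W ⟶ Y₁) (g₂ : W ⟶ Y₂)
    [IsOpenImmersion g₁] [IsOpenImmersion g₂] : IsOpenImmersion (pushout.inl g₁ g₂) :=
  inferInstanceAs (IsOpenImmersion (colimit.ι (span g₁ g₂) WalkingSpan.left))

instance {W Y₁ Y₂ : Scheme.{u}} (g₁ : W ⟶ Y₁) (g₂ : W ⟶ Y₂)
    [IsOpenImmersion g₁] [IsOpenImmersion g₂] : IsOpenImmersion (pushout.inr g₁ g₂) :=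
  inferInstanceAs (IsOpenImmersion (colimit.ι (span g₁ g₂) WalkingSpan.right))

theorem inl_inr_jointly_surjective {W Y₁ Y₂ : Scheme.{u}} (g₁ : W ⟶ Y₁) (g₂ : W ⟶ Y₂)
    [IsOpenImmersion g₁] [IsOpenImmersion g₂] (y : ↑(pushout g₁ g₂)) :
    (∃ y₁, pushout.inl g₁ g₂ y₁ = y) ∨ (∃ y₂, pushout.inr g₁ g₂ y₂ = y) := by
  obtain ⟨i, xi, hxi⟩ := Scheme.IsLocallyDirected.ι_jointly_surjective (span g₁ g₂) y
  rcases i with _ | _ | _
  · left
    refine ⟨g₁ xi, ?_⟩
    rw [← hxi, ← Scheme.Hom.comp_apply, pushout.inl]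
    have := colimit.w (span g₁ g₂) (WidePushoutShape.Hom.init WalkingPair.left)
    rw [← this]
    rfl
  · left
    exact ⟨xi, hxi⟩
  · right
    exact ⟨xi, hxi⟩

/-- the open cover of a pushout of open immersions by its two pieces -/
noncomputable def pushoutOpenCover {W Y₁ Y₂ : Scheme.{u}} (g₁ : W ⟶ Y₁) (g₂ : W ⟶ Y₂)
    [IsOpenImmersion g₁] [IsOpenImmersion g₂] : (pushout g₁ g₂).OpenCover :=
  Scheme.Cover.mkOfCovers Bool (fun b => match b with | true => Y₁ | false => Y₂)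
    (fun b => match b with | true => pushout.inl g₁ g₂ | false => pushout.inr g₁ g₂)
    (by
      intro y
      rcases inl_inr_jointly_surjective g₁ g₂ y with ⟨y₁, h⟩ | ⟨y₂, h⟩
      · exact ⟨true, y₁, h⟩
      · exact ⟨false, y₂, h⟩)
    (fun b => by
      rcases b with _ | _
      · exact inferInstanceAs (IsOpenImmersion (pushout.inr g₁ g₂))
      · exact inferInstanceAs (IsOpenImmersion (pushout.inl g₁ g₂)))

end Groth.Agent.Lib.Helper13.LocImmLib
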