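import Mathlib
import Groth.Agent.Lib.Helper13.ZMTFinAffine
import Groth.Agent.Lib.Helper13.LocImmTwo

/-!
# Gluing lemmas for the finite form of Zariski's main theorem
-/

universe u

open CategoryTheory CategoryTheory.Limits AlgebraicGeometry TopologicalSpace

namespace Groth.Agent.Lib.Helper13.ZMTFin

set_option maxHeartbeats 800000 in
/-- A morphism `t : T ⟶ S` is separated as soon as `T` is covered by two opens `T₁`, `T₂` on which
`t` is separated, with `T₂` the full preimage of an open of `S`. -/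
theorem isSeparated_of_pieces {T₁ T₂ T S : Scheme.{u}} (t : T ⟶ S) (i₁ : T₁ ⟶ T) (i₂ : T₂ ⟶ T)
    [IsOpenImmersion i₁] [IsOpenImmersion i₂]
    (hcov : ∀ x : T, x ∈ Set.range i₁ ∨ x ∈ Set.range i₂) (V : S.Opens)
    (hV : Set.range i₂ = t ⁻¹' (V : Set S))
    [IsSeparated (i₁ ≫ t)] [IsSeparated (i₂ ≫ t)] : IsSeparated t := by
  constructor
  set Δ := pullback.diagonal t with hΔ
  -- general facts about a piece
  have key : ∀ {T' : Scheme.{u}} (i : T' ⟶ T) [IsOpenImmersion i] [IsSeparated (i ≫ t)],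
      ∃ O : Set ↑(pullback t t), IsOpen O ∧ O ⊆ (Set.range Δ)ᶜ ∧
        ∀ ξ : ↑(pullback t t), ξ ∉ Set.range Δ → pullback.fst t t ξ ∈ Set.range i →
          pullback.snd t t ξ ∈ Set.range i → ξ ∈ O := by
    intro T' i _ _
    let q := i ≫ t
    let m : pullback q q ⟶ pullback t t :=
      pullback.map q q t t i i (𝟙 S) (by simp [q]) (by simp [q])
    have hmrange : Set.range m = (pullback.fst t t) ⁻¹' Set.range i ∩
        (pullback.snd t t) ⁻¹' Set.range i := Scheme.Pullback.range_map _ _ _ _ _ _ _ _ _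
    have hcompat : pullback.diagonal q ≫ m = i ≫ Δ := by
      apply pullback.hom_ext
      · simp only [m, hΔ, Category.assoc, pullback.lift_fst, pullback.diagonal_fst,
          pullback.diagonal_fst_assoc, Category.comp_id]
      · simp only [m, hΔ, Category.assoc, pullback.lift_snd, pullback.diagonal_snd,
          pullback.diagonal_snd_assoc, Category.comp_id]
    have hcl : IsClosed (Set.range (pullback.diagonal q)) :=
      (pullback.diagonal q).isClosedEmbedding.isClosed_range
    refine ⟨m '' (Set.range (pullback.diagonal q))ᶜ, m.isOpenEmbedding.isOpenMap _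
      hcl.isOpen_compl, ?_, ?_⟩
    · rintro _ ⟨η, hη, rfl⟩ ⟨x, hx⟩
      apply hη
      have hx1 : x = i (pullback.fst q q η) := by
        have e1 : x = pullback.fst t t (Δ x) := by
          rw [← Scheme.Hom.comp_apply, hΔ, pullback.diagonal_fst]
          rfl
        rw [e1, hx, ← Scheme.Hom.comp_apply]
        simp only [m, pullback.lift_fst, Scheme.Hom.comp_apply]
      refine ⟨pullback.fst q q η, ?_⟩
      apply m.isOpenEmbedding.injective
      rw [← Scheme.Hom.comp_apply, hcompat, Scheme.Hom.comp_apply, ← hx1]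
      exact hx
    · intro ξ hξ h1 h2
      have : ξ ∈ Set.range m := by
        rw [hmrange]
        exact ⟨h1, h2⟩
      obtain ⟨η, rfl⟩ := this
      refine ⟨η, ?_, rfl⟩
      rintro ⟨x', rfl⟩
      apply hξ
      refine ⟨i x', ?_⟩
      rw [← Scheme.Hom.comp_apply, ← hcompat, Scheme.Hom.comp_apply]
  obtain ⟨O₁, hO₁, hO₁c, hO₁m⟩ := key i₁
  obtain ⟨O₂, hO₂, hO₂c, hO₂m⟩ := key i₂
  refine IsClosedImmersion.of_isPreimmersion _ ?_
  change IsClosed (Set.range Δ)
  rw [← isOpen_compl_iff]
  have : (Set.range Δ)ᶜ = O₁ ∪ O₂ := by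
    apply Set.Subset.antisymm
    · intro ξ hξ
      have hcond : t (pullback.fst t t ξ) = t (pullback.snd t t ξ) := by
        rw [← Scheme.Hom.comp_apply, ← Scheme.Hom.comp_apply, pullback.condition]
      by_cases h2 : pullback.fst t t ξ ∈ Set.range i₂ ∨ pullback.snd t t ξ ∈ Set.range i₂
      · right
        have hboth : pullback.fst t t ξ ∈ Set.range i₂ ∧ pullback.snd t t ξ ∈ Set.range i₂ := by
          rw [hV]
          rw [hV] at h2
          simp only [Set.mem_preimage] at h2 ⊢
          rcases h2 with h | h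
          · exact ⟨h, hcond ▸ h⟩
          · exact ⟨hcond ▸ h, h⟩
        exact hO₂m ξ hξ hboth.1 hboth.2
      · left
        push_neg at h2
        exact hO₁m ξ hξ ((hcov _).resolve_right h2.1) ((hcov _).resolve_right h2.2)
    · exact Set.union_subset hO₁c hO₂c
  rw [this]
  exact hO₁.union hO₂

end Groth.Agent.Lib.Helper13.ZMTFin

namespace Groth.Agent.Lib.Helper13.ZMTFin

/-- A dominant open immersion `a` with `a ≫ b` universally closed and `b` separated is an
isomorphism. -/
theorem isIso_of_isDominant_of_universallyClosed_comp {A B C : Scheme.{u}} (a : A ⟶ B) (b : B ⟶ C)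
    [IsOpenImmersion a] [IsDominant a] [IsSeparated b] [UniversallyClosed (a ≫ b)] : IsIso a := by
  haveI : UniversallyClosed a := UniversallyClosed.of_comp_of_isSeparated a b
  have hcl : IsClosed (Set.range a) := (a.isClosedMap).isClosed_range
  haveI : Surjective a := surjective_of_isDominant_of_isClosed_range a hcl
  exact (isIso_iff_isOpenImmersion_and_surjective a).mpr ⟨inferInstance, inferInstance⟩

/-- If `i : A ⟶ B` is a dominant open immersion, `b : B ⟶ S` is separated and `i ≫ b` is finite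
over an open `W`, then so is `b`. -/
theorem isFinite_restrict_of_isDominant {A B S : Scheme.{u}} (i : A ⟶ B) (b : B ⟶ S)
    [IsOpenImmersion i] [IsDominant i] [IsSeparated b] (W : S.Opens)
    (h : IsFinite ((i ≫ b) ∣_ W)) : IsFinite (b ∣_ W) := by
  rw [morphismRestrict_comp] at h
  have h' : IsFinite (i ∣_ (b ⁻¹ᵁ W) ≫ b ∣_ W) := h
  haveI : IsDominant (i ∣_ (b ⁻¹ᵁ W)) := IsZariskiLocalAtTarget.restrict ‹_› _
  haveI : IsSeparated (b ∣_ W) := IsZariskiLocalAtTarget.restrict ‹_› _
  haveI : UniversallyClosed (i ∣_ (b ⁻¹ᵁ W) ≫ b ∣_ W) := inferInstance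
  haveI : IsIso (i ∣_ (b ⁻¹ᵁ W)) :=
    isIso_of_isDominant_of_universallyClosed_comp (i ∣_ (b ⁻¹ᵁ W)) (b ∣_ W)
  have e : b ∣_ W = inv (i ∣_ (b ⁻¹ᵁ W)) ≫ (i ∣_ (b ⁻¹ᵁ W) ≫ b ∣_ W) := by simp
  rw [e]
  infer_instance

end Groth.Agent.Lib.Helper13.ZMTFin
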