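import Mathlib
import Groth.Agent.Lib.Helper13.ZMTFinGlue

/-!
# The inductive step for the finite form of Zariski's main theorem
-/

universe u

open CategoryTheory CategoryTheory.Limits AlgebraicGeometry TopologicalSpace

namespace Groth.Agent.Lib.Helper13.ZMTFin

open Groth.Agent.Lib.Helper13.LocImmLib in
set_option maxHeartbeats 1600000 in
/-- Enlarge a quasi-finite separated `S`-scheme `T` to one that is finite over a given affine open
`V` of `S`, without destroying finiteness over other opens. -/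
theorem exists_extension_finite_over {T S : Scheme.{u}} [CompactSpace S] [QuasiSeparatedSpace S]
    (t : T ⟶ S) [LocallyQuasiFinite t] [LocallyOfFiniteType t] [QuasiCompact t] [IsSeparated t]
    (V : S.Opens) (hV : IsAffineOpen V) :
    ∃ (T' : Scheme.{u}) (i : T ⟶ T') (t' : T' ⟶ S), IsOpenImmersion i ∧ IsDominant i ∧
      i ≫ t' = t ∧ LocallyQuasiFinite t' ∧ LocallyOfFiniteType t' ∧ QuasiCompact t' ∧
      IsSeparated t' ∧ IsFinite (t' ∣_ V) ∧
      ∀ W : S.Opens, IsFinite (t ∣_ W) → IsFinite (t' ∣_ W) := by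
  haveI : IsAffine V.toScheme := hV
  haveI : LocallyOfFiniteType (t ∣_ V) := IsZariskiLocalAtTarget.restrict ‹_› _
  haveI : QuasiCompact (t ∣_ V) := IsZariskiLocalAtTarget.restrict ‹_› _
  haveI : IsSeparated (t ∣_ V) := IsZariskiLocalAtTarget.restrict ‹_› _
  obtain ⟨Z, jV, hZ, hjo, hjd, hfin, hcomp⟩ := exists_finite_factorization_of_isAffine (t ∣_ V)
  haveI := hjo
  haveI := hjd
  haveI := hfin
  have hcond : (t ⁻¹ᵁ V).ι ≫ t = jV ≫ hZ ≫ V.ι := by
    rw [← Category.assoc, hcomp, morphismRestrict_ι]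
  obtain ⟨T', inl, inr, t', hinl, hinr, hpo, hcov, hoi, hoi', hcover⟩ :
      ∃ (T' : Scheme.{u}) (inl : T ⟶ T') (inr : Z ⟶ T') (t' : T' ⟶ S), inl ≫ t' = t ∧
        inr ≫ t' = hZ ≫ V.ι ∧ (t ⁻¹ᵁ V).ι ≫ inl = jV ≫ inr ∧
        (∀ y : T', y ∈ Set.range inl ∨ y ∈ Set.range inr) ∧ IsOpenImmersion inl ∧
        IsOpenImmersion inr ∧ ∃ 𝒰 : T'.OpenCover, ∀ (P : MorphismProperty Scheme.{u}),
          P (inl ≫ t') → P (inr ≫ t') → ∀ b, P (𝒰.f b ≫ t') := by
    refine ⟨pushout (t ⁻¹ᵁ V).ι jV, pushout.inl _ _, pushout.inr _ _,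
      pushout.desc t (hZ ≫ V.ι) hcond, pushout.inl_desc _ _ _, pushout.inr_desc _ _ _,
      pushout.condition, ?_, inferInstance, inferInstance, pushoutOpenCover (t ⁻¹ᵁ V).ι jV, ?_⟩
    · intro y
      rcases inl_inr_jointly_surjective (t ⁻¹ᵁ V).ι jV y with ⟨x, hx⟩ | ⟨z, hz⟩
      · exact Or.inl ⟨x, hx⟩
      · exact Or.inr ⟨z, hz⟩
    · intro P h1 h2 b
      rcases b with _ | _
      · exact h2
      · exact h1
  haveI := hoi
  haveI := hoi'
  -- range inr = t'⁻¹ V
  have hrange : Set.range inr = t' ⁻¹' (V : Set S) := by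
    apply Set.Subset.antisymm
    · rintro _ ⟨z, rfl⟩
      change t' (inr z) ∈ V
      rw [← Scheme.Hom.comp_apply, hinr, Scheme.Hom.comp_apply]
      exact (hZ z).2
    · intro y hy
      rcases hcov y with ⟨x, rfl⟩ | h
      · have hx : t x ∈ V := by
          have : t' (inl x) ∈ V := hy
          rwa [← Scheme.Hom.comp_apply, hinl] at this
        refine ⟨jV ⟨x, hx⟩, ?_⟩
        rw [← Scheme.Hom.comp_apply, ← hpo, Scheme.Hom.comp_apply]
        rfl
      · exact h
  haveI : IsSeparated (inl ≫ t') := by rw [hinl]; infer_instance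
  haveI : IsSeparated (inr ≫ t') := by rw [hinr]; infer_instance
  have hsep : IsSeparated t' := isSeparated_of_pieces t' inl inr hcov V hrange
  obtain ⟨𝒰, h𝒰⟩ := hcover
  have hlft : LocallyOfFiniteType t' := by
    rw [IsZariskiLocalAtSource.iff_of_openCover (P := @LocallyOfFiniteType) 𝒰]
    exact h𝒰 @LocallyOfFiniteType (by rw [hinl]; infer_instance) (by rw [hinr]; infer_instance)
  have hlqf : LocallyQuasiFinite t' := by
    rw [IsZariskiLocalAtSource.iff_of_openCover (P := @LocallyQuasiFinite) 𝒰]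
    exact h𝒰 @LocallyQuasiFinite (by rw [hinl]; infer_instance) (by rw [hinr]; infer_instance)
  -- compactness
  haveI : CompactSpace T := QuasiCompact.compactSpace_of_compactSpace t
  haveI : CompactSpace Z := QuasiCompact.compactSpace_of_compactSpace hZ
  haveI : CompactSpace T' := by
    refine ⟨?_⟩
    have : (Set.univ : Set T') = Set.range inl ∪ Set.range inr := by
      ext y
      simp only [Set.mem_univ, Set.mem_union, true_iff]
      exact hcov y
    rw [this]
    exact (isCompact_range inl.continuous).union (isCompact_range inr.continuous)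
  have hqc : QuasiCompact t' := inferInstance
  -- dominance
  have hdom : IsDominant inl := by
    refine ⟨fun y => ?_⟩
    rcases hcov y with h | ⟨z, rfl⟩
    · exact subset_closure h
    · have hz : z ∈ closure (Set.range jV) := jV.denseRange z
      have h1 : inr z ∈ closure (inr '' Set.range jV) :=
        image_closure_subset_closure_image inr.continuous ⟨z, hz, rfl⟩
      refine closure_mono ?_ h1
      rintro _ ⟨_, ⟨x, rfl⟩, rfl⟩
      refine ⟨(t ⁻¹ᵁ V).ι x, ?_⟩
      rw [← Scheme.Hom.comp_apply, hpo, Scheme.Hom.comp_apply]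
  -- finiteness over `V`
  have hfinV : IsFinite (t' ∣_ V) := by
    have hsub : Set.range inr ⊆ Set.range (t' ⁻¹ᵁ V).ι := by
      rw [Scheme.Opens.range_ι, hrange]
      rfl
    let a : Z ⟶ (t' ⁻¹ᵁ V).toScheme := IsOpenImmersion.lift (t' ⁻¹ᵁ V).ι inr hsub
    have ha : a ≫ (t' ⁻¹ᵁ V).ι = inr := IsOpenImmersion.lift_fac _ _ _
    haveI : IsOpenImmersion (a ≫ (t' ⁻¹ᵁ V).ι) := by rw [ha]; infer_instance
    haveI : IsOpenImmersion a := IsOpenImmersion.of_comp a (t' ⁻¹ᵁ V).ι
    haveI : Surjective a := ⟨fun y => by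
      have hy : (t' ⁻¹ᵁ V).ι y ∈ Set.range (t' ⁻¹ᵁ V).ι := Set.mem_range_self y
      rw [Scheme.Opens.range_ι] at hy
      have : (t' ⁻¹ᵁ V).ι y ∈ Set.range inr := by rw [hrange]; exact hy
      obtain ⟨z, hz⟩ := this
      refine ⟨z, ?_⟩
      apply (t' ⁻¹ᵁ V).ι.isOpenEmbedding.injective
      rw [← Scheme.Hom.comp_apply, ha]
      exact hz⟩
    haveI : IsIso a := (isIso_iff_isOpenImmersion_and_surjective a).mpr ⟨inferInstance, inferInstance⟩
    have e : a ≫ t' ∣_ V = hZ := by
      rw [← cancel_mono V.ι, Category.assoc, morphismRestrict_ι, ← Category.assoc, ha, hinr]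
    have : t' ∣_ V = inv a ≫ hZ := by rw [← e]; simp
    rw [this]
    infer_instance
  refine ⟨T', inl, t', inferInstance, hdom, hinl, hlqf, hlft, hqc, hsep, hfinV, fun W hW => ?_⟩
  haveI := hdom
  haveI := hsep
  exact isFinite_restrict_of_isDominant inl t' W (by rw [hinl]; exact hW)

end Groth.Agent.Lib.Helper13.ZMTFin
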