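import Mathlib
import Groth.Agent.Lib.Helper13.ZMTFinStep

/-!
# Zariski's main theorem, finite form, over a quasi-compact quasi-separated base
-/

universe u

open CategoryTheory CategoryTheory.Limits AlgebraicGeometry TopologicalSpace

namespace Groth.Agent.Lib.Helper13.ZMTFin

/-- **Zariski's main theorem** (finite factorization): a quasi-finite separated morphism to a
quasi-compact quasi-separated scheme is a (dominant, quasi-compact) open immersion followed by a
finite morphism. -/
theorem exists_finite_factorization {X S : Scheme.{u}} [CompactSpace S] [QuasiSeparatedSpace S]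
    (f : X ⟶ S) [LocallyQuasiFinite f] [LocallyOfFiniteType f] [QuasiCompact f] [IsSeparated f] :
    ∃ (T : Scheme.{u}) (j : X ⟶ T) (π : T ⟶ S), IsOpenImmersion j ∧ QuasiCompact j ∧
      IsDominant j ∧ IsFinite π ∧ j ≫ π = f := by
  classical
  have hfin : ∀ s : Finset S.affineOpens, ∃ (T' : Scheme.{u}) (i : X ⟶ T') (t' : T' ⟶ S),
      IsOpenImmersion i ∧ IsDominant i ∧ i ≫ t' = f ∧ LocallyQuasiFinite t' ∧
      LocallyOfFiniteType t' ∧ QuasiCompact t' ∧ IsSeparated t' ∧
      ∀ V ∈ s, IsFinite (t' ∣_ (V : S.affineOpens).1) := by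
    intro s
    induction s using Finset.induction_on with
    | empty =>
      exact ⟨X, 𝟙 X, f, inferInstance, inferInstance, Category.id_comp f, inferInstance,
        inferInstance, inferInstance, inferInstance, fun V hV => absurd hV (Finset.notMem_empty V)⟩
    | insert V s _ ih =>
      obtain ⟨T', i, t', hi, hid, hit, h1, h2, h3, h4, hs⟩ := ih
      haveI := hi
      haveI := hid
      haveI := h1
      haveI := h2
      haveI := h3
      haveI := h4
      obtain ⟨T'', i', t'', hi', hid', hit', h1', h2', h3', h4', hV, hW⟩ :=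
        exists_extension_finite_over t' V.1 V.2
      haveI := hi'
      haveI := hid'
      refine ⟨T'', i ≫ i', t'', inferInstance, inferInstance, by rw [Category.assoc, hit', hit],
        h1', h2', h3', h4', fun V' hV' => ?_⟩
      rcases Finset.mem_insert.mp hV' with rfl | h
      · exact hV
      · exact hW _ (hs V' h)
  obtain ⟨t, ht⟩ := isCompact_univ.elim_finite_subcover
    (fun V : S.affineOpens => ((V.1 : S.Opens) : Set S)) (fun V => V.1.isOpen) (fun x _ => by
      obtain ⟨_, ⟨U, hU, rfl⟩, hxU, -⟩ :=
        S.isBasis_affineOpens.exists_subset_of_mem_open (Set.mem_univ x) isOpen_univ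
      exact Set.mem_iUnion.mpr ⟨⟨U, hU⟩, hxU⟩)
  obtain ⟨T', i, t', hi, hid, hit, h1, h2, h3, h4, hs⟩ := hfin t
  haveI := h4
  have hU : (⨆ V : t, ((V : S.affineOpens).1 : S.Opens)) = ⊤ := by
    refine eq_top_iff.mpr fun x _ => ?_
    have := ht (Set.mem_univ x)
    simp only [Set.mem_iUnion, exists_prop] at this
    obtain ⟨V, hV, hxV⟩ := this
    exact Opens.mem_iSup.mpr ⟨⟨V, hV⟩, hxV⟩
  have hfinite : IsFinite t' :=
    (IsZariskiLocalAtTarget.iff_of_iSup_eq_top (P := @IsFinite)
      (fun V : t => ((V : S.affineOpens).1 : S.Opens)) hU).mpr fun V => hs V.1 V.2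
  haveI : QuasiCompact (i ≫ t') := by rw [hit]; infer_instance
  exact ⟨T', i, t', hi, QuasiCompact.of_comp i t', hid, hfinite, hit⟩

end Groth.Agent.Lib.Helper13.ZMTFin
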