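import Groth.Agent.Lib.Helper13.LimDescendDiag

/-! Descent of immersions along cofiltered limits with affine transition maps. -/

set_option autoImplicit false
universe u v

open CategoryTheory CategoryTheory.Limits AlgebraicGeometry

namespace Groth.Agent.Lib.Helper13.LimDescend

open Groth.Agent.Lib.Helper22

section cart

variable {J : Type u} [SmallCategory J] (E : J ⥤ Scheme.{u}) (e : Cone E)

/-- From the core form of a descent statement (for the diagram base-changed along `w`) to the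
cartesian form: the base changes of a fixed morphism `a' : X₀ ⟶ W`. -/
theorem core_cartesian (P : MorphismProperty Scheme.{u}) [P.RespectsIso] (j₀ : J)
    {W X₀ : Scheme.{u}} (w : W ⟶ E.obj j₀) (a' : X₀ ⟶ W)
    (coreP : ∀ a'' : X₀ ⟶ (bcDiag E j₀ w).obj (top j₀),
      a'' ≫ pullback.snd (E.map (top j₀).hom) w = a' →
      P (pullback.fst ((bcCone E e j₀ w).π.app (top j₀)) a'') →
      ∃ (m : Over j₀) (ψ : m ⟶ top j₀), P (pullback.fst ((bcDiag E j₀ w).map ψ) a''))
    {Q' : Scheme.{u}} (τ' : Q' ⟶ pullback (e.π.app j₀) w) (u' : Q' ⟶ X₀)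
    (h' : IsPullback τ' u' (pullback.snd (e.π.app j₀) w) a') (hP : P τ') :
    ∃ m : Over j₀, ∀ {Q : Scheme.{u}} (τ : Q ⟶ pullback (E.map m.hom) w) (u : Q ⟶ X₀),
      IsPullback τ u (pullback.snd (E.map m.hom) w) a' → P τ := by
  let σ : (bcDiag E j₀ w).obj (top j₀) ⟶ W := pullback.snd (E.map (top j₀).hom) w
  haveI hσ : IsIso σ := isIso_snd_top E j₀ w
  let a'' : X₀ ⟶ (bcDiag E j₀ w).obj (top j₀) := a' ≫ inv σ
  have ha'' : a'' ≫ σ = a' := by simp [a'']
  have key : ∀ {Y Q : Scheme.{u}} (p : Y ⟶ E.obj j₀)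
      (q : pullback p w ⟶ (bcDiag E j₀ w).obj (top j₀)), q ≫ σ = pullback.snd p w →
      ∀ (τ : Q ⟶ pullback p w) (u : Q ⟶ X₀), IsPullback τ u (pullback.snd p w) a' →
      (P (pullback.fst q a'') ↔ P τ) := by
    intro Y Q p q hq τ u hτ
    have h1 : IsPullback (pullback.fst q a'') (pullback.snd q a'') (q ≫ σ) (a'' ≫ σ) :=
      isPullback_comp_iso q a'' σ
    rw [hq, ha''] at h1
    exact prop_iff_of_isPullback P h1 hτ
  have h0 := (key (e.π.app j₀) ((bcCone E e j₀ w).π.app (top j₀))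
    (bcCone_π_snd E e j₀ w (top j₀)) τ' u' h').mpr hP
  obtain ⟨m, ψ, hm⟩ := coreP a'' ha'' h0
  refine ⟨m, fun τ u hτ => ?_⟩
  exact (key (E.map m.hom) ((bcDiag E j₀ w).map ψ) (bcDiag_map_snd E j₀ w ψ) τ u hτ).mp hm

end cart

section lift

variable {C : Type u} [Category.{v} C] [HasPullbacks C]

/-- The base change of a factorization `a = a' ≫ v`. -/
noncomputable def liftMap {Y Y₀ X₀ V₀ : C} (p : Y ⟶ Y₀) (a : X₀ ⟶ Y₀) (v : V₀ ⟶ Y₀)
    (a' : X₀ ⟶ V₀) (ha' : a' ≫ v = a) : pullback p a ⟶ pullback p v :=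
  pullback.lift (pullback.fst p a) (pullback.snd p a ≫ a')
    (by rw [Category.assoc, ha', pullback.condition])

lemma liftMap_fst {Y Y₀ X₀ V₀ : C} (p : Y ⟶ Y₀) (a : X₀ ⟶ Y₀) (v : V₀ ⟶ Y₀)
    (a' : X₀ ⟶ V₀) (ha' : a' ≫ v = a) :
    liftMap p a v a' ha' ≫ pullback.fst p v = pullback.fst p a := pullback.lift_fst _ _ _

lemma liftMap_snd {Y Y₀ X₀ V₀ : C} (p : Y ⟶ Y₀) (a : X₀ ⟶ Y₀) (v : V₀ ⟶ Y₀)
    (a' : X₀ ⟶ V₀) (ha' : a' ≫ v = a) :
    liftMap p a v a' ha' ≫ pullback.snd p v = pullback.snd p a ≫ a' := pullback.lift_snd _ _ _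

lemma liftMap_isPullback {Y Y₀ X₀ V₀ : C} (p : Y ⟶ Y₀) (a : X₀ ⟶ Y₀) (v : V₀ ⟶ Y₀)
    (a' : X₀ ⟶ V₀) (ha' : a' ≫ v = a) :
    IsPullback (liftMap p a v a' ha') (pullback.snd p a) (pullback.snd p v) a' := by
  refine (IsPullback.of_bot ?_ (liftMap_snd p a v a' ha').symm
    (IsPullback.of_hasPullback p v).flip).flip
  rw [liftMap_fst, ha']
  exact (IsPullback.of_hasPullback p a).flip

end lift

section cores

variable {J : Type u} [SmallCategory J] [IsCofiltered J] (E : J ⥤ Scheme.{u}) (e : Cone E)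
  (he : IsLimit e)

include he in
/-- Special case: `a` factors through a compact open `V` whose preimage in the limit lies in the
coborder of the range of the base change. -/
theorem core_isImmersion_aux [∀ (i j : J) (f : i ⟶ j), IsAffineHom (E.map f)] (j₀ : J)
    [QuasiSeparatedSpace (E.obj j₀)]
    {X₀ : Scheme.{u}} [CompactSpace X₀] [QuasiSeparatedSpace X₀] (a : X₀ ⟶ E.obj j₀)
    [LocallyOfFiniteType a]
    (V : (E.obj j₀).Opens) (hVc : IsCompact (V : Set (E.obj j₀)))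
    (hV : Set.range a ⊆ V)
    (h : IsImmersion (pullback.fst (e.π.app j₀) a))
    (hVC : (e.π.app j₀) ⁻¹' (V : Set (E.obj j₀)) ⊆
      coborder (Set.range (pullback.fst (e.π.app j₀) a))) :
    ∃ (j : J) (ψ : j ⟶ j₀), IsImmersion (pullback.fst (E.map ψ) a) := by
  haveI : CompactSpace V := isCompact_iff_compactSpace.mp hVc
  haveI : QuasiSeparatedSpace V := quasiSeparatedSpace_of_quasiSeparated V.ι
  let a' : X₀ ⟶ V := IsOpenImmersion.lift V.ι a (by simpa using hV)
  have ha' : a' ≫ V.ι = a := IsOpenImmersion.lift_fac _ _ _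
  haveI : LocallyOfFiniteType (a' ≫ V.ι) := by rw [ha']; infer_instance
  haveI : LocallyOfFiniteType a' := locallyOfFiniteType_of_comp a' V.ι
  haveI : IsImmersion (pullback.fst (e.π.app j₀) a) := h
  let f' : pullback (e.π.app j₀) a ⟶ e.pt := pullback.fst (e.π.app j₀) a
  haveI : IsImmersion f' := h
  let ι' : pullback (e.π.app j₀) V.ι ⟶ e.pt := pullback.fst (e.π.app j₀) V.ι
  haveI hι' : IsOpenImmersion ι' :=
    MorphismProperty.pullback_fst (P := @IsOpenImmersion) _ _ inferInstance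
  let τ' : pullback (e.π.app j₀) a ⟶ pullback (e.π.app j₀) V.ι :=
    liftMap (e.π.app j₀) a V.ι a' ha'
  have hτ1 : τ' ≫ ι' = f' := liftMap_fst _ _ _ _ _
  have hιC : Set.range ι' ⊆ f'.coborderRange := by
    rw [Scheme.Pullback.range_fst]
    intro x hx
    apply hVC
    obtain ⟨y, hy⟩ := hx
    change e.π.app j₀ x ∈ (V : Set (E.obj j₀))
    rw [← hy]
    exact y.2
  let κ : pullback (e.π.app j₀) V.ι ⟶ f'.coborderRange :=
    IsOpenImmersion.lift f'.coborderRange.ι ι' (by simpa using hιC)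
  have hκ : κ ≫ f'.coborderRange.ι = ι' := IsOpenImmersion.lift_fac _ _ _
  haveI : IsOpenImmersion (κ ≫ f'.coborderRange.ι) := by rw [hκ]; exact hι'
  haveI : IsOpenImmersion κ := IsOpenImmersion.of_comp κ f'.coborderRange.ι
  have hτκ : τ' ≫ κ = f'.liftCoborder := by
    rw [← cancel_mono f'.coborderRange.ι, Category.assoc, hκ, hτ1, Scheme.Hom.liftCoborder_ι]
  haveI : IsClosedImmersion (τ' ≫ κ) := by rw [hτκ]; infer_instance
  have hτcl : IsClosedImmersion τ' := IsClosedImmersion.of_comp τ' κ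
  haveI : ∀ (k k' : Over j₀) (φ : k ⟶ k'), IsAffineHom ((bcDiag E j₀ V.ι).map φ) :=
    fun _ _ φ => inferInstance
  have coreP : ∀ a'' : X₀ ⟶ (bcDiag E j₀ V.ι).obj (top j₀),
      a'' ≫ pullback.snd (E.map (top j₀).hom) V.ι = a' →
      IsClosedImmersion (pullback.fst ((bcCone E e j₀ V.ι).π.app (top j₀)) a'') →
      ∃ (m : Over j₀) (ψ : m ⟶ top j₀),
        IsClosedImmersion (pullback.fst ((bcDiag E j₀ V.ι).map ψ) a'') := by
    intro a'' ha'' hP
    let σ : (bcDiag E j₀ V.ι).obj (top j₀) ⟶ V := pullback.snd (E.map (top j₀).hom) V.ι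
    haveI : LocallyOfFiniteType (a'' ≫ σ) := by rw [ha'']; infer_instance
    haveI : LocallyOfFiniteType a'' := locallyOfFiniteType_of_comp a'' σ
    exact core_isClosedImmersion (bcDiag E j₀ V.ι) (bcCone E e j₀ V.ι) (bcIsLimit E he j₀ V.ι)
      (top j₀) a'' hP
  obtain ⟨m, hm⟩ := core_cartesian E e @IsClosedImmersion j₀ V.ι a' coreP τ'
    (pullback.snd (e.π.app j₀) a) (liftMap_isPullback _ _ _ _ _) hτcl
  haveI hτm : IsClosedImmersion (liftMap (E.map m.hom) a V.ι a' ha') :=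
    hm _ _ (liftMap_isPullback _ _ _ _ _)
  haveI : IsOpenImmersion (pullback.fst (E.map m.hom) V.ι) :=
    MorphismProperty.pullback_fst (P := @IsOpenImmersion) _ _ inferInstance
  refine ⟨m.left, m.hom, ?_⟩
  rw [← liftMap_fst (E.map m.hom) a V.ι a' ha']
  infer_instance

include he in
/-- Core descent statement for immersions. -/
theorem core_isImmersion [∀ (i j : J) (f : i ⟶ j), IsAffineHom (E.map f)] (j₀ : J)
    [CompactSpace (E.obj j₀)] [QuasiSeparatedSpace (E.obj j₀)]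
    {X₀ : Scheme.{u}} [CompactSpace X₀] [QuasiSeparatedSpace X₀] (a : X₀ ⟶ E.obj j₀)
    [LocallyOfFiniteType a]
    (h : IsImmersion (pullback.fst (e.π.app j₀) a)) :
    ∃ (j : J) (ψ : j ⟶ j₀), IsImmersion (pullback.fst (E.map ψ) a) := by
  classical
  haveI : ∀ {i j : J} (f : i ⟶ j), IsAffineHom (E.map f) := fun f => inferInstance
  have hπ : ∀ j, IsAffineHom (e.π.app j) := fun j => isAffineHom_π_app E e he j
  haveI : IsAffineHom (pullback.snd (e.π.app j₀) a) :=
    MorphismProperty.pullback_snd (P := @IsAffineHom) _ _ (hπ j₀)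
  haveI : CompactSpace ↥(pullback (e.π.app j₀) a) :=
    QuasiCompact.compactSpace_of_compactSpace (pullback.snd (e.π.app j₀) a)
  let f' : pullback (e.π.app j₀) a ⟶ e.pt := pullback.fst (e.π.app j₀) a
  haveI : IsImmersion f' := h
  have hK : IsCompact (Set.range f') := isCompact_range f'.continuous
  -- Step 1: a compact open between the range and its coborder
  obtain ⟨U, hUc, hKU, hUC⟩ : ∃ U : e.pt.Opens, IsCompact (U : Set e.pt) ∧
      Set.range f' ⊆ U ∧ (U : Set e.pt) ⊆ coborder (Set.range f') := by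
    choose W hWaff hxW hWC using fun x : Set.range f' =>
      exists_isAffineOpen_mem_and_subset (x := x.1) (U := f'.coborderRange) (subset_coborder x.2)
    obtain ⟨t, ht⟩ := hK.elim_finite_subcover (fun x : Set.range f' => (W x : Set e.pt))
      (fun x => (W x).2) (fun y hy => Set.mem_iUnion.mpr ⟨⟨y, hy⟩, hxW _⟩)
    refine ⟨⨆ x ∈ t, W x, ?_, ?_, ?_⟩
    · simp only [TopologicalSpace.Opens.coe_iSup]
      exact t.isCompact_biUnion (fun x _ => (hWaff x).isCompact)
    · simpa only [TopologicalSpace.Opens.coe_iSup] using ht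
    · simp only [TopologicalSpace.Opens.coe_iSup, Set.iUnion_subset_iff]
      intro x _
      exact hWC x
  -- Step 2: descend `U`
  obtain ⟨i, V₀, hV₀c, hV₀⟩ := exists_preimage_eq E e he U hUc
  let k := IsCofiltered.min i j₀
  let α : k ⟶ i := IsCofiltered.minToLeft i j₀
  let φ : k ⟶ j₀ := IsCofiltered.minToRight i j₀
  let V : (E.obj k).Opens := (E.map α) ⁻¹ᵁ V₀
  have hVc : IsCompact (V : Set (E.obj k)) :=
    QuasiCompact.isCompact_preimage (f := E.map α) _ V₀.2 hV₀c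
  have hVU : e.π.app k ⁻¹ᵁ V = U := by
    rw [← hV₀, ← Scheme.Hom.comp_preimage, e.w]
  -- Step 3: a stage where the base change lands in the preimage of `V`
  let kk : Over j₀ := Over.mk φ
  let fk : (bcDiag E j₀ a).obj kk ⟶ E.obj k := pullback.fst (E.map kk.hom) a
  let U' : ((bcDiag E j₀ a).obj kk).Opens := fk ⁻¹ᵁ V
  have hfk : (bcCone E e j₀ a).π.app kk ≫ fk = pullback.fst (e.π.app j₀) a ≫ e.π.app k :=
    bcCone_π_fst E e j₀ a kk
  have hU' : (bcCone E e j₀ a).π.app kk ⁻¹ᵁ U' = ⊤ := by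
    rw [eq_top_iff]
    intro x _
    change ((bcCone E e j₀ a).π.app kk ≫ fk) x ∈ V
    rw [hfk]
    change pullback.fst (e.π.app j₀) a x ∈ e.π.app k ⁻¹ᵁ V
    rw [hVU]
    exact hKU ⟨x, rfl⟩
  obtain ⟨m, ψ, hm⟩ := exists_map_eq_top (bcDiag E j₀ a) (bcCone E e j₀ a)
    (bcIsLimit E he j₀ a) U' hU'
  let am : pullback (E.map m.hom) a ⟶ E.obj m.left := pullback.fst (E.map m.hom) a
  let ψl : m.left ⟶ k := ψ.left
  have hψl : ψl ≫ φ = m.hom := Over.w ψ
  let Vm : (E.obj m.left).Opens := (E.map ψl) ⁻¹ᵁ V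
  have hVmc : IsCompact (Vm : Set (E.obj m.left)) :=
    QuasiCompact.isCompact_preimage (f := E.map ψl) _ V.2 hVc
  have hψfk : (bcDiag E j₀ a).map ψ ≫ fk = am ≫ E.map ψl := bcDiag_map_fst E j₀ a ψ
  have hrange : Set.range am ⊆ Vm := by
    rintro _ ⟨x, rfl⟩
    have hx : x ∈ (bcDiag E j₀ a).map ψ ⁻¹ᵁ U' := by rw [hm]; trivial
    have hx' : ((bcDiag E j₀ a).map ψ ≫ fk) x ∈ V := hx
    rw [hψfk] at hx'
    exact hx'
  -- Step 4: the special case at the stage `m`
  haveI : QuasiSeparatedSpace ↥(E.obj m.left) := quasiSeparatedSpace_of_quasiSeparated (E.map m.hom)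
  haveI : CompactSpace ↥(pullback (E.map m.hom) a) := bcDiag_compactSpace E j₀ a m
  haveI : QuasiSeparatedSpace ↥(pullback (E.map m.hom) a) := bcDiag_quasiSeparatedSpace E j₀ a m
  haveI : LocallyOfFiniteType am :=
    MorphismProperty.pullback_fst (P := @LocallyOfFiniteType) _ _ inferInstance
  have h_m : IsImmersion (pullback.fst (e.π.app m.left) am) :=
    (fst_fst_iff' @IsImmersion (e.π.app m.left) (E.map m.hom) a (e.π.app j₀)
      (e.w m.hom)).mpr h
  have hrng : Set.range (pullback.fst (e.π.app m.left) am) = Set.range f' := by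
    rw [Scheme.Pullback.range_fst, Scheme.Pullback.range_fst, Scheme.Pullback.range_fst]
    ext y
    change (e.π.app m.left ≫ E.map m.hom) y ∈ Set.range a ↔ _
    rw [e.w m.hom]
    rfl
  have hVC_m : (e.π.app m.left) ⁻¹' (Vm : Set (E.obj m.left)) ⊆
      coborder (Set.range (pullback.fst (e.π.app m.left) am)) := by
    rw [hrng]
    intro y hy
    have hy1 : (e.π.app m.left ≫ E.map ψl) y ∈ V := hy
    rw [e.w ψl] at hy1
    have hy2 : y ∈ e.π.app k ⁻¹ᵁ V := hy1
    rw [hVU] at hy2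
    exact hUC hy2
  obtain ⟨j, ψ', hj⟩ := core_isImmersion_aux E e he m.left am Vm hVmc hrange h_m hVC_m
  exact ⟨j, ψ' ≫ m.hom, (fst_fst_iff' @IsImmersion (E.map ψ') (E.map m.hom) a
    (E.map (ψ' ≫ m.hom)) (E.map_comp _ _).symm).mp hj⟩

end cores

end Groth.Agent.Lib.Helper13.LimDescend
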