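import Groth.Agent.Lib.Helper13.LimDescendFlat
import Mathlib.AlgebraicGeometry.ZariskisMainTheorem

/-! Descent of locally quasi-finite morphisms along cofiltered limits with affine transitions. -/

set_option autoImplicit false
universe u v

open CategoryTheory CategoryTheory.Limits AlgebraicGeometry

namespace Groth.Agent.Lib.Helper13.LimDescend

open Groth.Agent.Lib.Helper22

section pointwise

variable {X Y : Scheme.{u}}

/-- A morphism locally of finite type is quasi-finite at every point of a finite fibre. -/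
theorem quasiFiniteAt_of_finite_preimage (f : X ⟶ Y) [LocallyOfFiniteType f] (x : X)
    (h : (f ⁻¹' {f x}).Finite) : f.QuasiFiniteAt x := by
  haveI : LocallyOfFiniteType (f.fiberToSpecResidueField (f x)) :=
    MorphismProperty.pullback_snd (P := @LocallyOfFiniteType) _ _ inferInstance
  haveI : Finite (f.fiber (f x)) := by
    haveI := h.to_subtype
    exact (f.fiberHomeo (f x)).toEquiv.finite_iff.mpr inferInstance
  haveI : LocallyQuasiFinite (f.fiberToSpecResidueField (f x)) :=
    .of_finite_preimage_singleton _ fun _ => Set.toFinite _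
  haveI : IsLocallyArtinian (f.fiber (f x)) :=
    .of_locallyQuasiFinite (f.fiberToSpecResidueField (f x))
  exact Scheme.Hom.quasiFiniteAt_iff_isOpen_singleton_asFiber.mpr (isOpen_discrete _)

/-- Finite fibres descend along base change. -/
theorem finite_preimage_of_isPullback {X' Y' : Scheme.{u}} {f : X ⟶ Y} {g : Y' ⟶ Y}
    {f' : X' ⟶ Y'} {g' : X' ⟶ X} (hpb : IsPullback g' f' f g) (y' : Y')
    (h : (f' ⁻¹' {y'}).Finite) : (f ⁻¹' {g y'}).Finite := by
  refine (h.image g').subset ?_
  intro x hx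
  obtain ⟨z, hz1, hz2⟩ := Scheme.exists_preimage_of_isPullback hpb x y' hx
  exact ⟨z, hz2, hz1⟩

theorem preimage_quasiFiniteLocus_eq_top {W Y' : Scheme.{u}} {F : W ⟶ Y'} {S : W ⟶ X}
    {v : Y' ⟶ Y} {a : X ⟶ Y} [LocallyOfFiniteType a] (hpb : IsPullback F S v a)
    [LocallyQuasiFinite F] [QuasiCompact F] : S ⁻¹ᵁ a.quasiFiniteLocus = ⊤ := by
  ext x
  simp only [TopologicalSpace.Opens.coe_top, Set.mem_univ, iff_true]
  change a.QuasiFiniteAt (S x)
  refine quasiFiniteAt_of_finite_preimage a _ ?_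
  have hcond : a (S x) = v (F x) := by
    rw [← Scheme.Hom.comp_apply, ← Scheme.Hom.comp_apply, hpb.w]
  rw [hcond]
  exact finite_preimage_of_isPullback hpb.flip _ (F.finite_preimage_singleton _)

theorem preimage_preimage_eq_top {W V : Scheme.{u}} (π : W ⟶ V) (σ : V ⟶ X) (s : W ⟶ X)
    (hs : π ≫ σ = s) (U : X.Opens) : π ⁻¹ᵁ (σ ⁻¹ᵁ U) = ⊤ ↔ s ⁻¹ᵁ U = ⊤ := by
  subst hs
  rw [← Scheme.Hom.comp_preimage]

end pointwise

section general

variable {J : Type u} [SmallCategory J] [IsCofiltered J] (E : J ⥤ Scheme.{u}) (e : Cone E)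
  (he : IsLimit e)

/-- If the quasi-finite locus pulls back to everything, the base change is locally quasi-finite. -/
theorem locallyQuasiFinite_fst_of_preimage_eq_top {V Y X : Scheme.{u}} (v : V ⟶ Y) (a : X ⟶ Y)
    [LocallyOfFiniteType a] (h : pullback.snd v a ⁻¹ᵁ a.quasiFiniteLocus = ⊤) :
    LocallyQuasiFinite (pullback.fst v a) := by
  have h1 : LocallyQuasiFinite (pullback.fst v (a.quasiFiniteLocus.ι ≫ a)) :=
    MorphismProperty.pullback_fst (P := @LocallyQuasiFinite) _ _ inferInstance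
  rw [fst_comp_iff @LocallyQuasiFinite v a a.quasiFiniteLocus.ι] at h1
  haveI : IsIso (pullback.fst (pullback.snd v a) a.quasiFiniteLocus.ι) := by
    rw [isIso_iff_isOpenImmersion_and_surjective]
    refine ⟨inferInstance, ⟨fun z => ?_⟩⟩
    have hz : z ∈ Set.range (pullback.fst (pullback.snd v a) a.quasiFiniteLocus.ι) := by
      rw [Scheme.Pullback.range_fst, Scheme.Opens.range_ι]
      have : z ∈ pullback.snd v a ⁻¹ᵁ a.quasiFiniteLocus := by rw [h]; trivial
      exact this
    exact hz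
  exact (MorphismProperty.cancel_left_of_respectsIso @LocallyQuasiFinite _ _).mp h1

include he in
/-- Core descent statement for locally quasi-finite morphisms. -/
theorem core_locallyQuasiFinite [∀ (i j : J) (f : i ⟶ j), IsAffineHom (E.map f)] (j₀ : J)
    [QuasiSeparatedSpace (E.obj j₀)]
    {X₀ : Scheme.{u}} [CompactSpace X₀] (a : X₀ ⟶ E.obj j₀)
    [LocallyOfFiniteType a] (h : LocallyQuasiFinite (pullback.fst (e.π.app j₀) a)) :
    ∃ (j : J) (ψ : j ⟶ j₀), LocallyQuasiFinite (pullback.fst (E.map ψ) a) := by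
  haveI : ∀ {i j : J} (f : i ⟶ j), IsAffineHom (E.map f) := fun f => inferInstance
  haveI := h
  haveI : QuasiCompact a := inferInstance
  have hqc : QuasiCompact (pullback.fst (e.π.app j₀) a) :=
    MorphismProperty.pullback_fst (P := @QuasiCompact) _ _ inferInstance
  haveI : ∀ (k k' : Over j₀) (φ : k ⟶ k'), IsAffineHom ((bcDiag E j₀ a).map φ) :=
    fun _ _ φ => inferInstance
  haveI : ∀ {k k' : Over j₀} (φ : k ⟶ k'), IsAffineHom ((bcDiag E j₀ a).map φ) :=
    fun φ => inferInstance
  haveI : ∀ k : Over j₀, CompactSpace ((bcDiag E j₀ a).obj k) := fun k => by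
    change CompactSpace ↥(pullback (E.map k.hom) a)
    exact QuasiCompact.compactSpace_of_compactSpace (pullback.snd (E.map k.hom) a)
  let σ : (bcDiag E j₀ a).obj (top j₀) ⟶ X₀ := pullback.snd (E.map (top j₀).hom) a
  let U' : ((bcDiag E j₀ a).obj (top j₀)).Opens := σ ⁻¹ᵁ a.quasiFiniteLocus
  have hU' : (bcCone E e j₀ a).π.app (top j₀) ⁻¹ᵁ U' = ⊤ :=
    (preimage_preimage_eq_top _ σ _ (bcCone_π_snd E e j₀ a (top j₀)) a.quasiFiniteLocus).mpr
      (@preimage_quasiFiniteLocus_eq_top _ _ _ _ _ _ _ _ _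
        (IsPullback.of_hasPullback (e.π.app j₀) a) h hqc)
  obtain ⟨m, φ, hm⟩ := exists_map_eq_top (bcDiag E j₀ a) (bcCone E e j₀ a) (bcIsLimit E he j₀ a)
    (i := top j₀) U' hU'
  exact ⟨m.left, m.hom, locallyQuasiFinite_fst_of_preimage_eq_top (E.map m.hom) a
    ((preimage_preimage_eq_top _ σ _ (bcDiag_map_snd E j₀ a φ) a.quasiFiniteLocus).mp hm)⟩

end general

end Groth.Agent.Lib.Helper13.LimDescend
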