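import Mathlib

/-!
# Properties local on the target are stable under unions of opens of the target
-/

universe u

open CategoryTheory CategoryTheory.Limits AlgebraicGeometry TopologicalSpace

namespace Groth.Agent.Lib.Helper13.RestrictSSup

theorem morphismRestrict_sSup (P : MorphismProperty Scheme.{u}) [IsZariskiLocalAtTarget P]
    {X Y : Scheme.{u}} (f : Y ⟶ X) (𝒱 : Set X.Opens)
    (h : ∀ V ∈ 𝒱, P (f ∣_ V)) : P (f ∣_ sSup 𝒱) := by
  refine (IsZariskiLocalAtTarget.iff_of_iSup_eq_top (P := P)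
    (fun V : 𝒱 => (sSup 𝒱).ι ⁻¹ᵁ V.1) ?_).mpr fun V => ?_
  · rw [eq_top_iff]
    rintro ⟨x, hx⟩ -
    rw [TopologicalSpace.Opens.mem_sSup] at hx
    obtain ⟨V, hV, hxV⟩ := hx
    rw [TopologicalSpace.Opens.mem_iSup]
    exact ⟨⟨V, hV⟩, hxV⟩
  · have hle : V.1 ≤ sSup 𝒱 := le_sSup V.2
    have himg : (sSup 𝒱).ι ''ᵁ ((sSup 𝒱).ι ⁻¹ᵁ V.1) = V.1 := by
      ext x
      constructor
      · rintro ⟨z, hz, rfl⟩
        exact hz
      · intro hx
        exact ⟨⟨x, hle hx⟩, hx, rfl⟩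
    have hW : ∀ W : X.Opens, W = V.1 → P (f ∣_ W) := by
      rintro _ rfl; exact h _ V.2
    have := hW _ himg
    exact (P.arrow_mk_iso_iff
      (morphismRestrictRestrict f (sSup 𝒱) ((sSup 𝒱).ι ⁻¹ᵁ V.1))).mpr this

end Groth.Agent.Lib.Helper13.RestrictSSup
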