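import Mathlib

set_option autoImplicit false
set_option linter.unusedSectionVars false
set_option linter.unusedVariables false
set_option linter.style.haveILetI false
universe u

open CategoryTheory CategoryTheory.Limits AlgebraicGeometry TopologicalSpace Opposite

namespace Groth.Agent.Lib.Helper13.IdemClopen

/-- the complement of the basic open of an idempotent is the basic open of `1 - e` -/
theorem basicOpen_one_sub {Y : Scheme.{u}} (e : Γ(Y, ⊤)) (he : IsIdempotentElem e) :
    (Y.basicOpen (1 - e) : Set Y) = (Y.basicOpen e : Set Y)ᶜ := by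
  ext x
  simp only [SetLike.mem_coe, Set.mem_compl_iff]
  rw [Scheme.mem_basicOpen_top, Scheme.mem_basicOpen_top]
  have h0 : Y.presheaf.germ ⊤ x trivial e * Y.presheaf.germ ⊤ x trivial (1 - e) = 0 := by
    rw [← map_mul, mul_sub, mul_one, he.eq, sub_self, map_zero]
  have h1 : Y.presheaf.germ ⊤ x trivial e + Y.presheaf.germ ⊤ x trivial (1 - e) = 1 := by
    rw [← map_add, add_sub_cancel, map_one]
  constructor
  · intro hu hu'
    have : (1 : Y.presheaf.stalk x) = 0 := by
      have := hu'.mul hu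
      rw [h0] at this
      exact (isUnit_zero_iff.mp this).symm
    exact one_ne_zero this
  · intro hnu
    rcases IsLocalRing.isUnit_or_isUnit_of_add_one h1 with h | h
    · exact absurd h hnu
    · exact h

theorem isClopen_basicOpen {Y : Scheme.{u}} (e : Γ(Y, ⊤)) (he : IsIdempotentElem e) :
    IsClopen (Y.basicOpen e : Set Y) := by
  refine ⟨?_, (Y.basicOpen e).2⟩
  rw [← isOpen_compl_iff, ← basicOpen_one_sub e he]
  exact (Y.basicOpen (1 - e)).2

theorem aux0 {R S : Type*} [CommRing R] [CommRing S] (φ : R →+* S) (e : R) (h : φ e = 0) :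
    φ (e * e) = φ e := by rw [map_mul, h, mul_zero]

theorem aux1 {R S : Type*} [CommRing R] [CommRing S] (φ : R →+* S) (e : R) (h : φ e = 1) :
    φ (e * e) = φ e := by rw [map_mul, h, mul_one]

/-- a clopen subset of a scheme is the basic open of an idempotent global section -/
theorem exists_idempotent_of_isClopen (Y : Scheme.{u}) (U : Y.Opens)
    (hU : IsClosed (U : Set Y)) :
    ∃ e : Γ(Y, ⊤), IsIdempotentElem e ∧ Y.basicOpen e = U := by
  let V : Y.Opens := ⟨(U : Set Y)ᶜ, hU.isOpen_compl⟩
  let W : Bool → Y.Opens := fun b => Bool.rec V U b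
  have hcover : (⊤ : Y.Opens) ≤ iSup W := by
    intro x _
    by_cases hx : x ∈ U
    · exact Opens.mem_iSup.mpr ⟨true, hx⟩
    · exact Opens.mem_iSup.mpr ⟨false, hx⟩
  have hUV : U ⊓ V = ⊥ := by
    ext x
    simp only [Opens.coe_inf, Set.mem_inter_iff, SetLike.mem_coe, Opens.coe_bot,
      Set.mem_empty_iff_false, iff_false, not_and]
    intro hx hx'
    exact hx' hx
  let sf : ∀ b : Bool, Γ(Y, W b) := fun b => Bool.rec (0 : Γ(Y, V)) (1 : Γ(Y, U)) b
  have hsub : ∀ (O : Y.Opens), O = ⊥ → ∀ a b : Γ(Y, O), a = b := by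
    intro O hO a b
    subst hO
    haveI : Subsingleton Γ(Y, ⊥) := CommRingCat.subsingleton_of_isTerminal
      (Y.sheaf.isTerminalOfEmpty)
    exact Subsingleton.elim a b
  have hcompat : TopCat.Presheaf.IsCompatible Y.sheaf.1 W sf := by
    intro i j
    cases i <;> cases j
    · rfl
    · exact hsub _ (by rw [inf_comm]; exact hUV) _ _
    · exact hsub _ hUV _ _
    · rfl
  obtain ⟨e, he, -⟩ := Y.sheaf.existsUnique_gluing' W ⊤ (fun i => homOfLE le_top) hcover sf hcompat
  have heU : (Y.presheaf.map (homOfLE (le_top : U ≤ ⊤)).op).hom e = 1 := he true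
  have heV : (Y.presheaf.map (homOfLE (le_top : V ≤ ⊤)).op).hom e = 0 := he false
  refine ⟨e, ?_, ?_⟩
  · refine Y.sheaf.eq_of_locally_eq' W ⊤ (fun i => homOfLE le_top) hcover _ _ (fun b => ?_)
    cases b
    · exact aux0 (Y.presheaf.map (homOfLE (le_top : V ≤ ⊤)).op).hom e heV
    · exact aux1 (Y.presheaf.map (homOfLE (le_top : U ≤ ⊤)).op).hom e heU
  · have h1 : U ⊓ Y.basicOpen e = U := by
      rw [← Scheme.basicOpen_res Y e (homOfLE (le_top : U ≤ ⊤)).op, heU]
      exact Scheme.basicOpen_of_isUnit Y isUnit_one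
    have h2 : V ⊓ Y.basicOpen e = ⊥ := by
      rw [← Scheme.basicOpen_res Y e (homOfLE (le_top : V ≤ ⊤)).op, heV]
      exact Scheme.basicOpen_zero Y V
    apply le_antisymm
    · intro x hx
      by_contra hxU
      have : x ∈ V ⊓ Y.basicOpen e := ⟨hxU, hx⟩
      rw [h2] at this
      exact this
    · rw [← h1]; exact inf_le_right

theorem aux2 {R : Type*} [CommRing R] (e : R) (he : IsIdempotentElem e) (hu : IsUnit e) : e = 1 := by
  obtain ⟨u, rfl⟩ := hu
  have := he.eq
  calc (u : R) = (↑u⁻¹ : R) * ((u : R) * (u : R)) := by rw [← mul_assoc, Units.inv_mul, one_mul]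
    _ = (↑u⁻¹ : R) * (u : R) := by rw [this]
    _ = 1 := Units.inv_mul u

/-- restriction of an idempotent to its basic open is `1` -/
theorem res_basicOpen_eq_one {Y : Scheme.{u}} (e : Γ(Y, ⊤)) (he : IsIdempotentElem e) :
    (Y.presheaf.map (homOfLE (le_top : Y.basicOpen e ≤ ⊤)).op).hom e = 1 := by
  apply aux2
  · exact he.map (Y.presheaf.map (homOfLE (le_top : Y.basicOpen e ≤ ⊤)).op).hom
  · exact Y.toRingedSpace.isUnit_res_basicOpen e

/-- restriction of an idempotent to the basic open of `1 - e` is `0` -/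
theorem res_basicOpen_one_sub_eq_zero {Y : Scheme.{u}} (e : Γ(Y, ⊤)) (he : IsIdempotentElem e) :
    (Y.presheaf.map (homOfLE (le_top : Y.basicOpen (1 - e) ≤ ⊤)).op).hom e = 0 := by
  have h1 := res_basicOpen_eq_one (1 - e) he.one_sub
  rw [map_sub, map_one] at h1
  exact (sub_eq_self.mp h1)

/-- an idempotent global section is determined by its basic open -/
theorem eq_of_basicOpen_eq {Y : Scheme.{u}} (e e' : Γ(Y, ⊤)) (he : IsIdempotentElem e)
    (he' : IsIdempotentElem e') (h : Y.basicOpen e = Y.basicOpen e') : e = e' := by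
  have h' : Y.basicOpen (1 - e) = Y.basicOpen (1 - e') := by
    apply Opens.ext
    rw [basicOpen_one_sub e he, basicOpen_one_sub e' he', h]
  let W : Bool → Y.Opens := fun b => Bool.rec (Y.basicOpen (1 - e)) (Y.basicOpen e) b
  have hcover : (⊤ : Y.Opens) ≤ iSup W := by
    intro x _
    by_cases hx : x ∈ Y.basicOpen e
    · exact Opens.mem_iSup.mpr ⟨true, hx⟩
    · refine Opens.mem_iSup.mpr ⟨false, ?_⟩
      show x ∈ (Y.basicOpen (1 - e) : Set Y)
      rw [basicOpen_one_sub e he]
      exact hx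
  refine Y.sheaf.eq_of_locally_eq' W ⊤ (fun i => homOfLE le_top) hcover _ _ (fun b => ?_)
  cases b
  · have h1 := res_basicOpen_one_sub_eq_zero e he
    have h2 := res_basicOpen_one_sub_eq_zero e' he'
    have h3 : (Y.presheaf.map (homOfLE (le_top : Y.basicOpen (1 - e) ≤ ⊤)).op).hom e' = 0 := by
      have hle : Y.basicOpen (1 - e) ≤ Y.basicOpen (1 - e') := h'.le
      have : (Y.presheaf.map (homOfLE (le_top : Y.basicOpen (1 - e) ≤ ⊤)).op) =
          (Y.presheaf.map (homOfLE (le_top : Y.basicOpen (1 - e') ≤ ⊤)).op) ≫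
            (Y.presheaf.map (homOfLE hle).op) := by
        rw [← Functor.map_comp]; rfl
      rw [this, CommRingCat.hom_comp, RingHom.comp_apply, h2, map_zero]
    exact h1.trans h3.symm
  · have h1 := res_basicOpen_eq_one e he
    have h2 := res_basicOpen_eq_one e' he'
    have h3 : (Y.presheaf.map (homOfLE (le_top : Y.basicOpen e ≤ ⊤)).op).hom e' = 1 := by
      have hle : Y.basicOpen e ≤ Y.basicOpen e' := h.le
      have : (Y.presheaf.map (homOfLE (le_top : Y.basicOpen e ≤ ⊤)).op) =
          (Y.presheaf.map (homOfLE (le_top : Y.basicOpen e' ≤ ⊤)).op) ≫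
            (Y.presheaf.map (homOfLE hle).op) := by
        rw [← Functor.map_comp]; rfl
      rw [this, CommRingCat.hom_comp, RingHom.comp_apply, h2, map_one]
    exact h1.trans h3.symm

end Groth.Agent.Lib.Helper13.IdemClopen
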