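import Mathlib
import Groth.Agent.Lib.Helper13.GeomConnAll
import Groth.Agent.Lib.Helper13.IdemClopen

set_option autoImplicit false
set_option linter.unusedSectionVars false
set_option linter.unusedVariables false
set_option linter.style.haveILetI false
universe u

open CategoryTheory CategoryTheory.Limits AlgebraicGeometry TopologicalSpace PrimeSpectrum IsLocalRing Opposite

namespace Groth.Agent.Lib.Helper13.FibreHens

open Groth.Agent.Lib.Helper13.GeomConnAll Groth.Agent.Lib.Helper13.IdemClopen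

section

variable {X S : Scheme.{u}} (f : X ⟶ S) (s : S) (B : Type u) [CommRing B]
  [Algebra (S.presheaf.stalk s) B]
  (ρ : B →+* IsLocalRing.ResidueField (S.presheaf.stalk s))

/-- `O_{S,s} ⟶ B` -/
noncomputable abbrev aB : S.presheaf.stalk s ⟶ CommRingCat.of B :=
  CommRingCat.ofHom (algebraMap (S.presheaf.stalk s) B)

/-- `Spec B ⟶ S` -/
noncomputable def τ : Spec (CommRingCat.of B) ⟶ S :=
  Spec.map (aB s B) ≫ S.fromSpecStalk s

variable {B}

/-- `B ⟶ κ(s)` -/
noncomputable abbrev ρc : CommRingCat.of B ⟶ S.residueField s := CommRingCat.ofHom ρ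

/-- `Spec κ(s) ⟶ Spec B` -/
noncomputable def c : Spec (S.residueField s) ⟶ Spec (CommRingCat.of B) :=
  Spec.map (ρc s ρ)

variable (hcomp : ∀ a : S.presheaf.stalk s, ρ (algebraMap (S.presheaf.stalk s) B a) =
  (S.residue s).hom a)
include hcomp

theorem c_τ : c s ρ ≫ τ s B = S.fromSpecResidueField s := by
  have h1 : c s ρ ≫ Spec.map (aB s B) = Spec.map (S.residue s) := by
    unfold c
    rw [← Spec.map_comp]
    congr 1
    ext x
    exact hcomp x
  unfold τ
  rw [← Category.assoc, h1]
  rfl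

/-- the closed fibre inside the base change -/
noncomputable def l : f.fiber s ⟶ pullback f (τ s B) :=
  pullback.lift (f.fiberι s) (f.fiberToSpecResidueField s ≫ c s ρ) (by
    rw [Category.assoc, c_τ s ρ hcomp]
    exact pullback.condition)

theorem l_fst : l f s ρ hcomp ≫ pullback.fst f (τ s B) = f.fiberι s := pullback.lift_fst _ _ _

theorem l_snd : l f s ρ hcomp ≫ pullback.snd f (τ s B) = f.fiberToSpecResidueField s ≫ c s ρ :=
  pullback.lift_snd _ _ _

theorem isPullback_l : IsPullback (l f s ρ hcomp) (f.fiberToSpecResidueField s)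
    (pullback.snd f (τ s B)) (c s ρ) := by
  refine IsPullback.of_right ?_ (l_snd f s ρ hcomp) (IsPullback.of_hasPullback f (τ s B))
  rw [l_fst, c_τ s ρ hcomp]
  exact IsPullback.of_hasPullback f (S.fromSpecResidueField s)

variable (hρ : Function.Surjective ρ)
include hρ

theorem isClosedImmersion_l : IsClosedImmersion (l f s ρ hcomp) := by
  haveI : IsClosedImmersion (c s ρ) := IsClosedImmersion.spec_of_surjective (ρc s ρ) hρ
  exact MorphismProperty.of_isPullback (P := @IsClosedImmersion) (isPullback_l f s ρ hcomp).flip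
    inferInstance

theorem range_l : Set.range (l f s ρ hcomp) =
    (pullback.snd f (τ s B)) ⁻¹' (zeroLocus (RingHom.ker ρ : Set B)) := by
  rw [range_of_isPullback (isPullback_l f s ρ hcomp)]
  congr 1
  exact range_comap_of_surjective _ ρ hρ

end

section lift

variable {X S : Scheme.{u}} (f : X ⟶ S) [IsProper f] (s : S) {B : Type u} [CommRing B]
  [Algebra (S.presheaf.stalk s) B]
  (ρ : B →+* IsLocalRing.ResidueField (S.presheaf.stalk s))
  (hcomp : ∀ a : S.presheaf.stalk s, ρ (algebraMap (S.presheaf.stalk s) B a) =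
    (S.residue s).hom a)
  (hρ : Function.Surjective ρ)
include hρ

/-- **lifting idempotents of the closed fibre**, given the lifting of clopen subsets `hK` -/
theorem exists_idempotent_lift
    (hK : ∀ {Y : Scheme.{u}} (h : Y ⟶ Spec (CommRingCat.of B)) [IsProper h] (V' : Set Y),
      V' ⊆ h ⁻¹' (zeroLocus (RingHom.ker ρ : Set B)) → IsClosed V' →
      IsClosed (h ⁻¹' (zeroLocus (RingHom.ker ρ : Set B)) \ V') →
        ∃ U : Set Y, IsClopen U ∧ U ∩ h ⁻¹' (zeroLocus (RingHom.ker ρ : Set B)) = V')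
    (e : Γ(f.fiber s, ⊤)) (he : IsIdempotentElem e) :
    ∃ e' : Γ(pullback f (τ s B), ⊤), IsIdempotentElem e' ∧
      (l f s ρ hcomp).appTop.hom e' = e := by
  let L := l f s ρ hcomp
  let h := pullback.snd f (τ s B)
  haveI : IsClosedImmersion L := isClosedImmersion_l f s ρ hcomp hρ
  have hemb : Topology.IsClosedEmbedding L := L.isClosedEmbedding
  have hr : Set.range L = h ⁻¹' (zeroLocus (RingHom.ker ρ : Set B)) := range_l f s ρ hcomp hρ
  have hVe : IsClopen ((f.fiber s).basicOpen e : Set ↥(f.fiber s)) := isClopen_basicOpen e he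
  let V' : Set ↥(pullback f (τ s B)) := L '' ((f.fiber s).basicOpen e : Set ↥(f.fiber s))
  have hV'sub : V' ⊆ h ⁻¹' (zeroLocus (RingHom.ker ρ : Set B)) := by
    rw [← hr]; exact Set.image_subset_range _ _
  have hV'cl : IsClosed V' := hemb.isClosedMap _ hVe.1
  have hdiff : h ⁻¹' (zeroLocus (RingHom.ker ρ : Set B)) \ V' =
      L '' ((f.fiber s).basicOpen e : Set ↥(f.fiber s))ᶜ := by
    rw [← hr, ← Set.image_univ, ← Set.image_sdiff hemb.injective, Set.compl_eq_univ_sdiff]
  have hV''cl : IsClosed (h ⁻¹' (zeroLocus (RingHom.ker ρ : Set B)) \ V') := by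
    rw [hdiff]
    exact hemb.isClosedMap _ hVe.2.isClosed_compl
  obtain ⟨U, hUclopen, hUV'⟩ := hK h V' hV'sub hV'cl hV''cl
  obtain ⟨e', he', hbe'⟩ := exists_idempotent_of_isClopen (pullback f (τ s B)) ⟨U, hUclopen.2⟩
    hUclopen.1
  refine ⟨e', he', ?_⟩
  have hidem : IsIdempotentElem (L.appTop.hom e') := he'.map L.appTop.hom
  apply eq_of_basicOpen_eq _ _ hidem he
  rw [← Scheme.preimage_basicOpen_top, hbe']
  apply Opens.ext
  show L ⁻¹' U = ((f.fiber s).basicOpen e : Set ↥(f.fiber s))
  have : L ⁻¹' U = L ⁻¹' (U ∩ Set.range L) := by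
    ext x
    simp
  rw [this, hr, hUV']
  exact Set.preimage_image_eq _ hemb.injective

end lift
/-- a pushout of commutative rings is generated by the images of the two legs -/
theorem closure_eq_top_of_isPushout {R G H P : CommRingCat.{u}} {φ : R ⟶ G} {ψ : R ⟶ H}
    {γ : G ⟶ P} {η : H ⟶ P} (hpo : IsPushout φ ψ γ η) :
    Subring.closure (Set.range γ.hom ∪ Set.range η.hom) = ⊤ := by
  let P' : Subring P := Subring.closure (Set.range γ.hom ∪ Set.range η.hom)
  let i : CommRingCat.of P' ⟶ P := CommRingCat.ofHom P'.subtype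
  let γ' : G ⟶ CommRingCat.of P' := CommRingCat.ofHom
    (γ.hom.codRestrict P' (fun x => Subring.subset_closure (Or.inl ⟨x, rfl⟩)))
  let η' : H ⟶ CommRingCat.of P' := CommRingCat.ofHom
    (η.hom.codRestrict P' (fun x => Subring.subset_closure (Or.inr ⟨x, rfl⟩)))
  have hγ : γ' ≫ i = γ := by ext x; rfl
  have hη : η' ≫ i = η := by ext x; rfl
  have hw : φ ≫ γ' = ψ ≫ η' := by
    ext x
    have := congrArg (fun k => k.hom x) hpo.w
    exact this
  let u : P ⟶ CommRingCat.of P' := hpo.desc γ' η' hw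
  have hu : u ≫ i = 𝟙 P := by
    apply hpo.hom_ext
    · rw [← Category.assoc, hpo.inl_desc, hγ, Category.comp_id]
    · rw [← Category.assoc, hpo.inr_desc, hη, Category.comp_id]
  rw [eq_top_iff]
  intro x _
  have : x = ((u ≫ i).hom x) := by rw [hu]; rfl
  rw [this]
  exact (u.hom x).2


theorem flat_fromSpecStalk (X : Scheme.{u}) (x : X) : Flat (X.fromSpecStalk x) := by
  obtain ⟨_, ⟨U, hU : IsAffineOpen U, rfl⟩, hxU, -⟩ :=
    X.isBasis_affineOpens.exists_subset_of_mem_open (Set.mem_univ x) isOpen_univ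
  rw [← hU.fromSpecStalk_eq_fromSpecStalk hxU]
  dsimp [IsAffineOpen.fromSpecStalk]
  have : Flat (Spec.map (X.presheaf.germ U x hxU)) := by
    rw [Flat.SpecMap_iff]
    let : Algebra Γ(X, U) (X.presheaf.stalk x) := (X.presheaf.germ U x hxU).hom.toAlgebra
    have := hU.isLocalization_stalk ⟨x, hxU⟩
    exact IsLocalization.flat (X.presheaf.stalk x) (hU.primeIdealOf ⟨x, hxU⟩).asIdeal.primeCompl
  infer_instance

section sections

variable {X S : Scheme.{u}} (f : X ⟶ S) [QuasiCompact f] [QuasiSeparated f] (s : S)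
  (B : Type u) [CommRing B] [Algebra (S.presheaf.stalk s) B] [Module.Flat (S.presheaf.stalk s) B]

instance flat_τ : Flat (τ s B) := by
  haveI : Flat (S.fromSpecStalk s) := flat_fromSpecStalk S s
  haveI : Flat (Spec.map (aB s B)) := by
    rw [Flat.SpecMap_iff]
    exact (RingHom.flat_algebraMap_iff).mpr inferInstance
  unfold τ
  infer_instance

theorem range_τ_subset (W : S.Opens) (hsW : s ∈ W) : (⊤ : (Spec (CommRingCat.of B)).Opens) ≤
    (τ s B) ⁻¹ᵁ W := by
  intro x _
  show (τ s B) x ∈ W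
  have h1 : (τ s B) x ∈ Set.range (S.fromSpecStalk s) := by
    unfold τ
    rw [Scheme.Hom.comp_apply]
    exact ⟨_, rfl⟩
  rw [Scheme.range_fromSpecStalk] at h1
  exact h1.mem_open W.2 hsW

theorem top_le_preimage (W : S.Opens) (hsW : s ∈ W) :
    (⊤ : (pullback f (τ s B)).Opens) ≤ (pullback.fst f (τ s B)) ⁻¹ᵁ (f ⁻¹ᵁ W) := by
  intro x _
  show f ((pullback.fst f (τ s B)) x) ∈ W
  have e := congrArg (fun φ : pullback f (τ s B) ⟶ S => φ x) (pullback.condition (f := f) (g := τ s B))
  simp only [Scheme.Hom.comp_apply] at e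
  rw [e]
  exact range_τ_subset s B W hsW trivial

/-- global sections of the base change are generated by sections of `X` over `f⁻¹ W` and by `B` -/
theorem closure_sections_eq_top (W : S.Opens) (hW : IsAffineOpen W) (hsW : s ∈ W) :
    Subring.closure
      (Set.range ((pullback.fst f (τ s B)).appLE (f ⁻¹ᵁ W) ⊤ (top_le_preimage f s B W hsW)).hom ∪
        Set.range ((pullback.snd f (τ s B)).appLE ⊤ ⊤ le_top).hom) = ⊤ := by
  have H : IsPullback (pullback.fst f (τ s B)) (pullback.snd f (τ s B)) f (τ s B) :=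
    IsPullback.of_hasPullback f (τ s B)
  have hUY : (⊤ : (pullback f (τ s B)).Opens) =
      (pullback.fst f (τ s B)) ⁻¹ᵁ (f ⁻¹ᵁ W) ⊓ (pullback.snd f (τ s B)) ⁻¹ᵁ ⊤ := by
    apply le_antisymm
    · exact le_inf (top_le_preimage f s B W hsW) le_top
    · exact le_top
  have hcomp : IsCompact (X := X) (f ⁻¹ᵁ W) := QuasiCompact.isCompact_preimage (f := f) _ W.2 hW.isCompact
  have hqs : IsQuasiSeparated (α := X) (f ⁻¹ᵁ W) :=
    f.isQuasiSeparated_preimage hW.isQuasiSeparated
  have hiso := isIso_pushoutSection_of_isQuasiSeparated_of_flat_right H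
    (US := W) (UT := ⊤) (UX := f ⁻¹ᵁ W) (range_τ_subset s B W hsW) le_rfl hUY hW
    (isAffineOpen_top _) hcomp hqs
  have hpo := (isIso_pushoutSection_iff H (range_τ_subset s B W hsW) le_rfl hUY).mp hiso
  exact closure_eq_top_of_isPushout hpo

end sections

end Groth.Agent.Lib.Helper13.FibreHens
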