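import Mathlib

set_option autoImplicit false
set_option linter.unusedSectionVars false
set_option linter.style.haveILetI false
universe u
open CategoryTheory CategoryTheory.Limits AlgebraicGeometry Opposite TensorProduct

namespace Groth.Agent.Lib.Helper13.FinLocFreeChart

/-- freeness after inverting `h` gives freeness over every `R`-algebra in which `h` is a unit -/
theorem free_of_free_away {R : Type u} [CommRing R] (h : R) (N : Type u) [AddCommGroup N]
    [Module R N]
    (hfree : Module.Free (Localization.Away h) (Localization.Away h ⊗[R] N))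
    (R' : Type u) [CommRing R'] [Algebra R R'] (hu : IsUnit (algebraMap R R' h)) :
    Module.Free R' (R' ⊗[R] N) := by
  letI : Algebra (Localization.Away h) R' := (IsLocalization.Away.lift h hu).toAlgebra
  haveI : IsScalarTower R (Localization.Away h) R' := by
    refine IsScalarTower.of_algebraMap_eq' ?_
    change algebraMap R R' = (IsLocalization.Away.lift h hu).comp (algebraMap R (Localization.Away h))
    exact (IsLocalization.Away.lift_comp h hu).symm
  haveI := hfree
  exact Module.Free.of_equiv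
    (TensorProduct.AlgebraTensorModule.cancelBaseChange R (Localization.Away h) R' R' N)

/-- the sections of an affine pullback as a tensor product -/
theorem nonempty_equiv_of_isPullback {W S V V' : Scheme.{u}} [IsAffine W] [IsAffine S] [IsAffine V]
    {p : V' ⟶ V} {q : V' ⟶ W} {a : V ⟶ S} {b : W ⟶ S} (h : IsPullback p q a b) :
    letI := a.appTop.hom.toAlgebra
    letI := b.appTop.hom.toAlgebra
    letI := q.appTop.hom.toAlgebra
    Nonempty ((Γ(W, ⊤) ⊗[Γ(S, ⊤)] Γ(V, ⊤)) ≃ₗ[Γ(W, ⊤)] Γ(V', ⊤)) := by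
  have hpo := isPushout_appTop_of_isPullback h
  letI := a.appTop.hom.toAlgebra
  letI := b.appTop.hom.toAlgebra
  letI := q.appTop.hom.toAlgebra
  letI := p.appTop.hom.toAlgebra
  letI : Algebra Γ(S, ⊤) Γ(V', ⊤) := (p.appTop.hom.comp a.appTop.hom).toAlgebra
  haveI : IsScalarTower Γ(S, ⊤) Γ(V, ⊤) Γ(V', ⊤) := IsScalarTower.of_algebraMap_eq' rfl
  haveI : IsScalarTower Γ(S, ⊤) Γ(W, ⊤) Γ(V', ⊤) := by
    refine IsScalarTower.of_algebraMap_eq' ?_
    change p.appTop.hom.comp a.appTop.hom = q.appTop.hom.comp b.appTop.hom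
    have := congrArg CommRingCat.Hom.hom hpo.w
    simpa using this
  have hpo' : Algebra.IsPushout Γ(S, ⊤) Γ(W, ⊤) Γ(V, ⊤) Γ(V', ⊤) := by
    rw [← CommRingCat.isPushout_iff_isPushout]
    exact hpo.flip
  haveI := hpo'
  exact ⟨(Algebra.IsPushout.equiv Γ(S, ⊤) Γ(W, ⊤) Γ(V, ⊤) Γ(V', ⊤)).toLinearEquiv⟩

/-- **local freeness of a finite flat finitely presented morphism**, in chart form -/
theorem exists_free_chart {Z S : Scheme.{u}} (g : Z ⟶ S) [IsFinite g] [Flat g]
    [LocallyOfFinitePresentation g] (s : S) :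
    ∃ (S' : Scheme.{u}) (q : S' ⟶ S), IsOpenImmersion q ∧ s ∈ Set.range q ∧ IsAffine S' ∧
      IsAffine (pullback g q) ∧
      (letI := (pullback.snd g q).appTop.hom.toAlgebra
       Module.Finite Γ(S', ⊤) Γ(pullback g q, ⊤) ∧ Module.Free Γ(S', ⊤) Γ(pullback g q, ⊤)) := by
  obtain ⟨R, j, _, x, rfl⟩ := S.exists_Spec_apply_eq s
  haveI : IsAffine (pullback g j) := isAffine_of_isAffineHom (pullback.snd g j)
  letI alg₁ : Algebra Γ(Spec R, ⊤) Γ(pullback g j, ⊤) := (pullback.snd g j).appTop.hom.toAlgebra
  haveI hfin : Module.Finite Γ(Spec R, ⊤) Γ(pullback g j, ⊤) := (pullback.snd g j).finite_appTop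
  haveI hflat : Module.Flat Γ(Spec R, ⊤) Γ(pullback g j, ⊤) :=
    HasRingHomProperty.appTop (P := @Flat) (pullback.snd g j) inferInstance
  haveI hfp : Algebra.FinitePresentation Γ(Spec R, ⊤) Γ(pullback g j, ⊤) :=
    HasRingHomProperty.appTop (P := @LocallyOfFinitePresentation) (pullback.snd g j) inferInstance
  haveI : Module.FinitePresentation Γ(Spec R, ⊤) Γ(pullback g j, ⊤) :=
    Module.FinitePresentation.of_finite_of_finitePresentation _ _
  -- the prime at `x`
  let p : Ideal Γ(Spec R, ⊤) := x.asIdeal.comap (Scheme.ΓSpecIso R).hom.hom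
  haveI : x.asIdeal.IsPrime := x.isPrime
  haveI : p.IsPrime := Ideal.comap_isPrime _ _
  haveI : Module.Free (Localization.AtPrime p)
      (LocalizedModule p.primeCompl Γ(pullback g j, ⊤)) := Module.free_of_flat_of_isLocalRing
  obtain ⟨r, hr, hfree, -⟩ := Module.FinitePresentation.exists_free_localizedModule_powers
    p.primeCompl (LocalizedModule.mkLinearMap p.primeCompl Γ(pullback g j, ⊤))
    (Localization.AtPrime p)
  have hfree' : Module.Free (Localization.Away r)
      (Localization.Away r ⊗[Γ(Spec R, ⊤)] Γ(pullback g j, ⊤)) :=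
    Module.Free.of_equiv (LocalizedModule.equivTensorProduct (.powers r) Γ(pullback g j, ⊤))
  let r₀ : R := (Scheme.ΓSpecIso R).hom.hom r
  have hr₀ : r₀ ∉ x.asIdeal := hr
  let ψ : R ⟶ CommRingCat.of (Localization.Away r₀) :=
    CommRingCat.ofHom (algebraMap R (Localization.Away r₀))
  haveI : IsOpenImmersion (Spec.map ψ) := Scheme.isOpenImmersion_SpecMap_localizationAway r₀
  let q : Spec (CommRingCat.of (Localization.Away r₀)) ⟶ S := Spec.map ψ ≫ j
  -- the pullback square over `Spec R`
  let pp : pullback g q ⟶ pullback g j := pullback.lift (pullback.fst g q)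
    (pullback.snd g q ≫ Spec.map ψ) (by rw [Category.assoc]; exact pullback.condition)
  have hsq : IsPullback pp (pullback.snd g q) (pullback.snd g j) (Spec.map ψ) := by
    refine IsPullback.of_right ?_ (pullback.lift_snd _ _ _) (IsPullback.of_hasPullback g j)
    rw [pullback.lift_fst]
    exact IsPullback.of_hasPullback g q
  haveI : IsAffine (pullback g q) := isAffine_of_isAffineHom (pullback.snd g q)
  -- `r` becomes a unit
  have hu : IsUnit ((Spec.map ψ).appTop.hom r) := by
    have h1 : (Spec.map ψ).appTop ≫ (Scheme.ΓSpecIso _).hom = (Scheme.ΓSpecIso R).hom ≫ ψ :=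
      Scheme.ΓSpecIso_naturality ψ
    have h2 : (Scheme.ΓSpecIso (CommRingCat.of (Localization.Away r₀))).hom.hom
        ((Spec.map ψ).appTop.hom r) = algebraMap R (Localization.Away r₀) r₀ :=
      congrArg (fun h => h.hom r) h1
    have h3 : IsUnit (algebraMap R (Localization.Away r₀) r₀) :=
      IsLocalization.Away.algebraMap_isUnit r₀
    rw [← h2] at h3
    have h4 := h3.map (Scheme.ΓSpecIso (CommRingCat.of (Localization.Away r₀))).inv.hom
    have h5 : (Scheme.ΓSpecIso (CommRingCat.of (Localization.Away r₀))).inv.hom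
        ((Scheme.ΓSpecIso (CommRingCat.of (Localization.Away r₀))).hom.hom
          ((Spec.map ψ).appTop.hom r)) = (Spec.map ψ).appTop.hom r :=
      congrArg (fun h => h.hom ((Spec.map ψ).appTop.hom r))
        (Scheme.ΓSpecIso (CommRingCat.of (Localization.Away r₀))).hom_inv_id
    rw [h5] at h4
    exact h4
  refine ⟨_, q, inferInstance, ?_, inferInstance, inferInstance, ?_⟩
  · have hx : x ∈ (Spec.map ψ).opensRange := by
      rw [Scheme.Hom.opensRange_localizationAway]
      exact hr₀
    obtain ⟨y, hy⟩ := hx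
    exact ⟨y, by rw [Scheme.Hom.comp_apply, hy]⟩
  · obtain ⟨e⟩ := nonempty_equiv_of_isPullback hsq
    letI := (pullback.snd g q).appTop.hom.toAlgebra
    letI := (Spec.map ψ).appTop.hom.toAlgebra
    haveI hF : Module.Free Γ(Spec (CommRingCat.of (Localization.Away r₀)), ⊤)
        (Γ(Spec (CommRingCat.of (Localization.Away r₀)), ⊤) ⊗[Γ(Spec R, ⊤)] Γ(pullback g j, ⊤)) :=
      free_of_free_away r _ hfree' _ hu
    exact ⟨Module.Finite.equiv e, Module.Free.of_equiv e⟩

end Groth.Agent.Lib.Helper13.FinLocFreeChart
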