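import Mathlib

/-!
# Finite fibres for closed maps out of one-dimensional Noetherian spaces

A closed continuous map out of a Noetherian `T0` space of dimension at most one which contracts
no irreducible component with more than one point has finite fibres.  For proper morphisms of
schemes this gives finiteness (Zariski's main theorem).
-/

universe u

open TopologicalSpace Topology AlgebraicGeometry CategoryTheory

namespace Groth.Agent.Lib.Helper13.FiniteFibres

section Top

variable {X : Type*} [TopologicalSpace X]

/-- in a T0 space, a minimal irreducible closed subset is a singleton -/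
theorem eq_singleton_of_isMin [T0Space X] (Z : IrreducibleCloseds X) (hZ : IsMin Z) {x : X}
    (hx : x ∈ (Z : Set X)) : (Z : Set X) = {x} := by
  have key : ∀ y ∈ (Z : Set X), closure ({y} : Set X) = Z := by
    intro y hy
    let W : IrreducibleCloseds X := ⟨closure {y}, isIrreducible_singleton.closure, isClosed_closure⟩
    have hWZ : W ≤ Z := by
      show closure {y} ⊆ (Z : Set X)
      exact Z.isClosed.closure_subset_iff.mpr (Set.singleton_subset_iff.mpr hy)
    exact Set.Subset.antisymm hWZ (hZ hWZ)
  ext y
  constructor
  · intro hy
    have : closure ({y} : Set X) = closure {x} := (key y hy).trans (key x hx).symm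
    exact ((inseparable_iff_closure_eq.mpr this).eq : y = x)
  · rintro rfl; exact hx

theorem mem_irreducibleComponents_of_isMax (Z : IrreducibleCloseds X) (hZ : IsMax Z) :
    (Z : Set X) ∈ irreducibleComponents X := by
  rw [irreducibleComponents_eq_maximals_closed]
  refine ⟨⟨Z.isClosed, Z.isIrreducible⟩, ?_⟩
  intro s hs hle
  let S : IrreducibleCloseds X := ⟨s, hs.2, hs.1⟩
  exact hZ (show Z ≤ S from hle)

/-- a point of a T0 space of dimension at most one is closed or generic in a component -/
theorem isClosed_or_mem_irreducibleComponents [T0Space X] (hdim : topologicalKrullDim X ≤ 1)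
    (x : X) : IsClosed ({x} : Set X) ∨ closure ({x} : Set X) ∈ irreducibleComponents X := by
  let W : IrreducibleCloseds X := ⟨closure {x}, isIrreducible_singleton.closure, isClosed_closure⟩
  rcases (Order.krullDim_le_one_iff.mp hdim) W with hmin | hmax
  · left
    have h2 : closure ({x} : Set X) = {x} :=
      eq_singleton_of_isMin W hmin (x := x) (subset_closure rfl)
    rw [← h2]; exact isClosed_closure
  · right
    exact mem_irreducibleComponents_of_isMax W hmax

theorem finite_preimage_singleton {Y : Type*} [TopologicalSpace Y] [T0Space X]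
    [NoetherianSpace X] (hdim : topologicalKrullDim X ≤ 1) (f : X → Y) (hcl : IsClosedMap f)
    (hcont : Continuous f)
    (h : ∀ Z ∈ irreducibleComponents X, (f '' Z).Subsingleton → Z.Subsingleton) (y : Y) :
    (f ⁻¹' {y}).Finite := by
  classical
  have hfin1 : {x : X | ¬ IsClosed ({x} : Set X)}.Finite := by
    have hfc := NoetherianSpace.finite_irreducibleComponents (α := X)
    refine Set.Finite.of_finite_image (f := fun x => closure ({x} : Set X)) (hfc.subset ?_) ?_
    · rintro _ ⟨x, hx, rfl⟩
      exact (isClosed_or_mem_irreducibleComponents hdim x).resolve_left hx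
    · intro a _ b _ hab
      exact (inseparable_iff_closure_eq.mpr hab).eq
  by_cases hex : ∃ x₀, f x₀ = y ∧ IsClosed ({x₀} : Set X)
  · obtain ⟨x₀, hx₀, hx₀c⟩ := hex
    have hyc : IsClosed ({y} : Set Y) := by
      have := hcl _ hx₀c
      rwa [Set.image_singleton, hx₀] at this
    have hG : IsClosed (f ⁻¹' {y}) := hyc.preimage hcont
    obtain ⟨S, hSf, hSc, hSi, hSU⟩ := NoetherianSpace.exists_finite_set_isClosed_irreducible hG
    rw [hSU]
    refine Set.Finite.sUnion hSf ?_
    intro T hT
    have hTy : T ⊆ f ⁻¹' {y} := by rw [hSU]; exact Set.subset_sUnion_of_mem hT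
    let W : IrreducibleCloseds X := ⟨T, hSi T hT, hSc T hT⟩
    obtain ⟨t, ht⟩ := (hSi T hT).nonempty
    rcases (Order.krullDim_le_one_iff.mp hdim) W with hmin | hmax
    · have h2 : T = {t} := eq_singleton_of_isMin W hmin (x := t) ht
      rw [h2]; exact Set.finite_singleton t
    · have hcomp : T ∈ irreducibleComponents X := mem_irreducibleComponents_of_isMax W hmax
      have : T.Subsingleton := h T hcomp (by
        intro a ha b hb
        obtain ⟨a', ha', rfl⟩ := ha
        obtain ⟨b', hb', rfl⟩ := hb
        exact (hTy ha').trans (hTy hb').symm)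
      exact this.finite
  · refine hfin1.subset ?_
    intro x hx hxc
    exact hex ⟨x, hx, hxc⟩

/-- an irreducible subset with more than one point of a T0 space has positive dimension -/
theorem one_le_topologicalKrullDim_of_nontrivial [T0Space X] (Z : Set X) (hZ : IsIrreducible Z)
    (hnt : Z.Nontrivial) : 1 ≤ topologicalKrullDim Z := by
  haveI : IrreducibleSpace Z := Subtype.irreducibleSpace hZ
  obtain ⟨a, ha, b, hb, hab⟩ := hnt
  let a' : Z := ⟨a, ha⟩
  let b' : Z := ⟨b, hb⟩
  have hab' : a' ≠ b' := fun h => hab (congrArg Subtype.val h)
  let T : IrreducibleCloseds Z := ⟨Set.univ, IrreducibleSpace.isIrreducible_univ Z, isClosed_univ⟩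
  let A : IrreducibleCloseds Z := ⟨closure {a'}, isIrreducible_singleton.closure, isClosed_closure⟩
  let B : IrreducibleCloseds Z := ⟨closure {b'}, isIrreducible_singleton.closure, isClosed_closure⟩
  rw [topologicalKrullDim, Order.one_le_krullDim_iff]
  by_cases hA : (closure {a'} : Set Z) = Set.univ
  · by_cases hB : (closure {b'} : Set Z) = Set.univ
    · exact absurd ((inseparable_iff_closure_eq.mpr (hA.trans hB.symm)).eq) hab'
    · refine ⟨B, T, lt_of_le_of_ne (fun _ _ => Set.mem_univ _) ?_⟩
      intro h
      exact hB (congrArg (fun W : IrreducibleCloseds Z => (W : Set Z)) h)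
  · refine ⟨A, T, lt_of_le_of_ne (fun _ _ => Set.mem_univ _) ?_⟩
    intro h
    exact hA (congrArg (fun W : IrreducibleCloseds Z => (W : Set Z)) h)

end Top

section Scheme

/-- a proper morphism out of a Noetherian scheme of dimension at most one which contracts no
irreducible component with more than one point is finite -/
theorem isFinite_of_isProper {X Y : Scheme.{u}} (f : X ⟶ Y) [IsProper f] [NoetherianSpace X]
    (hdim : topologicalKrullDim X ≤ 1)
    (h : ∀ Z ∈ irreducibleComponents X, (f '' Z).Subsingleton → Z.Subsingleton) : IsFinite f := by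
  haveI : LocallyQuasiFinite f := LocallyQuasiFinite.of_finite_preimage_singleton f
    (finite_preimage_singleton hdim f f.isClosedMap f.continuous h)
  exact IsFinite.of_isProper_of_locallyQuasiFinite f

end Scheme

end Groth.Agent.Lib.Helper13.FiniteFibres
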