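import Mathlib

/-!
# Flat morphisms to an integral scheme with integral generic fibre

If `f : X ⟶ Y` is flat, `Y` is integral and the generic fibre of `f` is irreducible (resp. reduced,
resp. integral), then so is `X`.
-/

universe u

open CategoryTheory CategoryTheory.Limits AlgebraicGeometry TensorProduct

namespace Groth.Agent.Lib.Helper13.FlatGenFibre

/-- The generic fibre of a flat morphism to an integral scheme is dense. -/
theorem dense_range_fiberι {X Y : Scheme.{u}} (f : X ⟶ Y) [Flat f] [IsIntegral Y] :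
    Dense (Set.range (f.fiberι (genericPoint Y))) := by
  rw [Scheme.Hom.range_fiberι]
  intro x
  rw [mem_closure_iff]
  intro U hU hxU
  obtain ⟨x', hx', hfx'⟩ := Flat.generalizingMap f (genericPoint_specializes (f x))
  exact ⟨x', hx'.mem_open hU hxU, hfx'⟩

theorem irreducibleSpace_of_flat {X Y : Scheme.{u}} (f : X ⟶ Y) [Flat f] [IsIntegral Y]
    [IrreducibleSpace (f.fiber (genericPoint Y))] : IrreducibleSpace X := by
  have hirr : IsIrreducible (Set.range (f.fiberι (genericPoint Y))) := by
    rw [← Set.image_univ]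
    exact (IrreducibleSpace.isIrreducible_univ _).image _ (f.fiberι _).continuous.continuousOn
  have h2 := hirr.closure
  rw [(dense_range_fiberι f).closure_eq] at h2
  have : PreirreducibleSpace X := ⟨h2.2⟩
  have : Nonempty X := h2.1.to_subtype.map Subtype.val
  exact ⟨inferInstance⟩


/-- Sections over an affine open `U ≤ f⁻¹ V` (`V` affine) of a flat morphism to an integral scheme
with reduced generic fibre form a reduced ring. -/
theorem isReduced_sections_of_flat {X Y : Scheme.{u}} (f : X ⟶ Y) [Flat f] [IsIntegral Y]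
    [IsReduced (f.fiber (genericPoint Y))] {V : Y.Opens} (hV : IsAffineOpen V) {U : X.Opens}
    (hU : IsAffineOpen U) (e : U ≤ f ⁻¹ᵁ V) (hne : (V : Set Y).Nonempty) :
    _root_.IsReduced Γ(X, U) := by
  set η := genericPoint Y with hη
  have hηV : η ∈ V := by
    exact ((genericPoint_spec Y).mem_open_set_iff V.2).2 (by simpa using hne)
  let φ : Γ(Y, V) ⟶ Γ(X, U) := f.appLE V U e
  let ψ : Γ(Y, V) ⟶ Y.residueField η := Y.presheaf.germ V η hηV ≫ Y.residue η
  have hφ : φ.hom.Flat := Flat.flat_appLE f hV hU e
  have e₁ : Spec.map φ ≫ hV.fromSpec = hU.fromSpec ≫ f := hV.SpecMap_appLE_fromSpec f hU e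
  have e₂ : Spec.map ψ ≫ hV.fromSpec = 𝟙 _ ≫ Y.fromSpecResidueField η := by
    rw [Category.id_comp, Scheme.fromSpecResidueField, Spec.map_comp, Category.assoc]
    congr 1
    exact hV.fromSpecStalk_eq_fromSpecStalk hηV
  have hred : IsReduced (pullback (Spec.map φ) (Spec.map ψ)) := by
    have : IsReduced (pullback f (Y.fromSpecResidueField η)) :=
      (inferInstance : IsReduced (f.fiber η))
    exact isReduced_of_isOpenImmersion (pullback.map (Spec.map φ) (Spec.map ψ) f
      (Y.fromSpecResidueField η) hU.fromSpec (𝟙 _) hV.fromSpec e₁ e₂)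
  algebraize [φ.hom, ψ.hom]
  have hred2 : IsReduced (Spec (.of (Γ(X, U) ⊗[Γ(Y, V)] Y.residueField η))) :=
    isReduced_of_isOpenImmersion (pullbackSpecIso Γ(Y, V) Γ(X, U) (Y.residueField η)).inv
  have hred3 : _root_.IsReduced (Γ(X, U) ⊗[Γ(Y, V)] Y.residueField η) :=
    (affine_isReduced_iff _).1 hred2
  have hψ : Function.Injective (algebraMap Γ(Y, V) (Y.residueField η)) := by
    have h1 : Function.Injective (Y.presheaf.germ V η hηV) := germ_injective_of_isIntegral Y η hηV
    have h2 : Function.Injective (Y.residue η).hom :=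
      RingHom.injective (R := Y.functionField) (Y.residue η).hom
    exact h2.comp h1
  have hinj := Algebra.TensorProduct.includeLeft_injective (R := Γ(Y, V)) (S := Γ(Y, V))
    (A := Γ(X, U)) (B := Y.residueField η) hψ
  exact isReduced_of_injective _ hinj

theorem isReduced_of_flat {X Y : Scheme.{u}} (f : X ⟶ Y) [Flat f] [IsIntegral Y]
    [IsReduced (f.fiber (genericPoint Y))] : IsReduced X := by
  have (x : X) : _root_.IsReduced (X.presheaf.stalk x) := by
    obtain ⟨V, hV, hxV, -⟩ := TopologicalSpace.Opens.isBasis_iff_nbhd.mp Y.isBasis_affineOpens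
      (show f x ∈ (⊤ : Y.Opens) from trivial)
    obtain ⟨U, hU, hxU, hUV⟩ := TopologicalSpace.Opens.isBasis_iff_nbhd.mp X.isBasis_affineOpens
      (show x ∈ f ⁻¹ᵁ V from hxV)
    have hred : _root_.IsReduced Γ(X, U) :=
      isReduced_sections_of_flat f hV hU hUV ⟨f x, hxV⟩
    obtain ⟨x', rfl⟩ : ∃ x', hU.fromSpec x' = x := by
      have : x ∈ Set.range hU.fromSpec := by rw [hU.range_fromSpec]; exact hxU
      exact this
    exact isReduced_of_injective _
      (asIso <| hU.fromSpec.stalkMap x').commRingCatIsoToRingEquiv.injective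
  exact isReduced_of_isReduced_stalk _

theorem isIntegral_of_flat {X Y : Scheme.{u}} (f : X ⟶ Y) [Flat f] [IsIntegral Y]
    [IsIntegral (f.fiber (genericPoint Y))] : IsIntegral X := by
  have := irreducibleSpace_of_flat f
  have := isReduced_of_flat f
  exact isIntegral_of_irreducibleSpace_of_isReduced X

end Groth.Agent.Lib.Helper13.FlatGenFibre
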