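import Mathlib.RingTheory.Flat.TorsionFree
import Mathlib.RingTheory.Flat.Localization
import Mathlib.RingTheory.Ideal.AssociatedPrime.Finiteness
import Mathlib.RingTheory.Localization.BaseChange
import Mathlib.RingTheory.LocalRing.RingHom.Basic
import Mathlib.RingTheory.RingHom.Flat
import Mathlib.RingTheory.Nilpotent.Lemmas

/-! Ring-level ingredients for: flat with reduced fibres over reduced base is reduced. -/

set_option autoImplicit false
universe u

namespace Groth.Agent.Lib.Helper13.FlatReducedRing

open scoped nonZeroDivisors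

/-- A reduced Noetherian local ring whose maximal ideal consists of zero divisors is a field. -/
theorem maximalIdeal_eq_bot_of_disjoint {A : Type*} [CommRing A] [IsLocalRing A]
    [IsNoetherianRing A] [IsReduced A]
    (h : Disjoint (IsLocalRing.maximalIdeal A : Set A) (nonZeroDivisors A)) :
    IsLocalRing.maximalIdeal A = ⊥ := by
  have h1 := Ideal.bot_lt_annihilator_of_disjoint_nonZeroDivisors h
  obtain ⟨a, ha, ha0⟩ := SetLike.exists_of_lt h1
  have ha0 : a ≠ 0 := by simpa using ha0
  rw [Module.mem_annihilator] at ha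
  have hkill : ∀ c ∈ IsLocalRing.maximalIdeal A, a * c = 0 := fun c hc => by
    have := ha ⟨c, hc⟩
    simpa [Subtype.ext_iff] using this
  have hunit : IsUnit a := by
    by_contra hnu
    have ham : a ∈ IsLocalRing.maximalIdeal A := (IsLocalRing.mem_maximalIdeal a).mpr hnu
    have : a * a = 0 := hkill a ham
    exact ha0 (IsReduced.eq_zero a ⟨2, by rw [pow_two]; exact this⟩)
  rw [eq_bot_iff]
  intro c hc
  have := hkill c hc
  exact (Ideal.mem_bot).mpr (hunit.mul_right_eq_zero.mp this)

/-- Flat local homomorphism from a reduced Noetherian local ring `A` to a local ring `B` in which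
some nonzero element is killed by the maximal ideal: then `A` is a field. -/
theorem maximalIdeal_eq_bot_of_flat {A B : Type*} [CommRing A] [CommRing B] [IsLocalRing A]
    [IsLocalRing B] [IsNoetherianRing A] [IsReduced A] (φ : A →+* B) [IsLocalHom φ]
    (hφ : φ.Flat) (b : B) (hb : b ≠ 0) (hkill : ∀ c ∈ IsLocalRing.maximalIdeal B, c * b = 0) :
    IsLocalRing.maximalIdeal A = ⊥ := by
  apply maximalIdeal_eq_bot_of_disjoint
  rw [Set.disjoint_left]
  intro a ham hreg
  replace hreg : a ∈ A⁰ := hreg
  letI : Algebra A B := φ.toAlgebra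
  haveI : Module.Flat A B := hφ
  have hsr : IsSMulRegular B a := Module.Flat.isSMulRegular_of_nonZeroDivisors hreg
  have hφa : φ a ∈ IsLocalRing.maximalIdeal B := by
    replace ham : a ∈ IsLocalRing.maximalIdeal A := ham
    rw [IsLocalRing.mem_maximalIdeal] at ham ⊢
    exact fun hu => ham (isUnit_of_map_unit φ a hu)
  have h0 : a • b = a • (0 : B) := by
    rw [smul_zero, Algebra.smul_def]
    exact hkill _ hφa
  exact hb (hsr h0)

/-- In a non-reduced Noetherian ring there is a nonzero nilpotent whose annihilator is prime. -/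
theorem exists_nilpotent_annihilator_prime {B : Type*} [CommRing B] [IsNoetherianRing B]
    (h : ¬ IsReduced B) :
    ∃ (b : B) (q : Ideal B), q.IsPrime ∧ b ≠ 0 ∧ IsNilpotent b ∧ ∀ c, c ∈ q ↔ c * b = 0 := by
  have hN : Nontrivial (nilradical B) := by
    by_contra hnt
    rw [not_nontrivial_iff_subsingleton] at hnt
    apply h
    refine ⟨fun x hx => ?_⟩
    have := Subsingleton.elim (⟨x, mem_nilradical.mpr hx⟩ : nilradical B) 0
    simpa [Subtype.ext_iff] using this
  obtain ⟨q, hq⟩ := associatedPrimes.nonempty B (nilradical B)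
  rw [AssociatedPrimes.mem_iff, isAssociatedPrime_iff] at hq
  obtain ⟨hprime, ⟨b, hbN⟩, hqb⟩ := hq
  have hmem : ∀ c, c ∈ q ↔ c * b = 0 := by
    intro c
    rw [hqb]
    simp [Subtype.ext_iff]
  refine ⟨b, q, hprime, ?_, mem_nilradical.mp hbN, hmem⟩
  rintro rfl
  apply hprime.ne_top
  rw [Ideal.eq_top_iff_one, hmem]
  simp

/-- If `κ` is a localization of `A` at the prime `p` and `b ⊗ 1 = 0` in `B ⊗[A] κ`, then some
element outside `p` kills `b`. -/
theorem exists_smul_eq_zero_of_tmul_eq_zero {A B κ : Type*} [CommRing A] [CommRing B]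
    [CommRing κ] [Algebra A B] [Algebra A κ] (p : Ideal A) [p.IsPrime]
    [IsLocalization.AtPrime κ p] (b : B) (hb : b ⊗ₜ[A] (1 : κ) = 0) :
    ∃ s : A, s ∉ p ∧ algebraMap A B s * b = 0 := by
  have hloc : IsLocalization (Algebra.algebraMapSubmonoid B p.primeCompl) (TensorProduct A B κ) :=
    inferInstance
  have h0 : algebraMap B (TensorProduct A B κ) b = 0 := by
    rw [Algebra.TensorProduct.algebraMap_apply, Algebra.algebraMap_self, RingHom.id_apply]
    exact hb
  rw [IsLocalization.map_eq_zero_iff (Algebra.algebraMapSubmonoid B p.primeCompl)] at h0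
  obtain ⟨⟨m, s, hs, rfl⟩, hm⟩ := h0
  exact ⟨s, hs, hm⟩

end Groth.Agent.Lib.Helper13.FlatReducedRing
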