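import Mathlib
import Groth.Agent.Lib.Helper13.FlatReducedRing

/-! Flat morphism of locally Noetherian schemes with reduced fibres over reduced local rings
has reduced source. -/

set_option autoImplicit false
universe u

open CategoryTheory CategoryTheory.Limits AlgebraicGeometry TensorProduct

namespace Groth.Agent.Lib.Helper13.FlatReduced

/-- Affine piece of a reduced fibre: the tensor product of sections with the residue field is
reduced. -/
theorem isReduced_tensor {X Y : Scheme.{u}} (f : X ⟶ Y) (y : Y) [IsReduced (f.fiber y)]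
    {V : Y.Opens} (hV : IsAffineOpen V) {U : X.Opens} (hU : IsAffineOpen U) (e : U ≤ f ⁻¹ᵁ V)
    (hyV : y ∈ V) :
    letI := (f.appLE V U e).hom.toAlgebra
    letI := (Y.presheaf.germ V y hyV ≫ Y.residue y).hom.toAlgebra
    _root_.IsReduced (Γ(X, U) ⊗[Γ(Y, V)] Y.residueField y) := by
  let φ : Γ(Y, V) ⟶ Γ(X, U) := f.appLE V U e
  let ψ : Γ(Y, V) ⟶ Y.residueField y := Y.presheaf.germ V y hyV ≫ Y.residue y
  have e₁ : Spec.map φ ≫ hV.fromSpec = hU.fromSpec ≫ f := hV.SpecMap_appLE_fromSpec f hU e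
  have e₂ : Spec.map ψ ≫ hV.fromSpec = 𝟙 _ ≫ Y.fromSpecResidueField y := by
    rw [Category.id_comp, Scheme.fromSpecResidueField, Spec.map_comp, Category.assoc]
    congr 1
    exact hV.fromSpecStalk_eq_fromSpecStalk hyV
  have hred : IsReduced (pullback (Spec.map φ) (Spec.map ψ)) := by
    have : IsReduced (pullback f (Y.fromSpecResidueField y)) :=
      (inferInstance : IsReduced (f.fiber y))
    exact isReduced_of_isOpenImmersion (pullback.map (Spec.map φ) (Spec.map ψ) f
      (Y.fromSpecResidueField y) hU.fromSpec (𝟙 _) hV.fromSpec e₁ e₂)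
  letI := (f.appLE V U e).hom.toAlgebra
  letI := (Y.presheaf.germ V y hyV ≫ Y.residue y).hom.toAlgebra
  have hred2 : IsReduced (Spec (.of (Γ(X, U) ⊗[Γ(Y, V)] Y.residueField y))) :=
    isReduced_of_isOpenImmersion (pullbackSpecIso Γ(Y, V) Γ(X, U) (Y.residueField y)).inv
  exact (affine_isReduced_iff _).1 hred2

/-- Sections over affine opens of a flat morphism of locally Noetherian schemes with reduced
fibres and reduced local rings below are reduced. -/
theorem isReduced_sections {X Y : Scheme.{u}} [IsLocallyNoetherian X] [IsLocallyNoetherian Y]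
    (f : X ⟶ Y) [Flat f] (hY : ∀ x : X, _root_.IsReduced (Y.presheaf.stalk (f x)))
    (hfib : ∀ y : Y, IsReduced (f.fiber y))
    {V : Y.Opens} (hV : IsAffineOpen V) {U : X.Opens} (hU : IsAffineOpen U) (e : U ≤ f ⁻¹ᵁ V) :
    _root_.IsReduced Γ(X, U) := by
  by_contra hred
  haveI : IsNoetherianRing Γ(X, U) := IsLocallyNoetherian.component_noetherian ⟨U, hU⟩
  obtain ⟨b, q, hq, hb0, hbnil, hmem⟩ := FlatReducedRing.exists_nilpotent_annihilator_prime hred
  have hxU : hU.fromSpec ⟨q, hq⟩ ∈ (U : Set X) := by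
    rw [← hU.range_fromSpec]; exact Set.mem_range_self _
  obtain ⟨x, hx⟩ : ∃ x : X, x = hU.fromSpec ⟨q, hq⟩ := ⟨_, rfl⟩
  rw [← hx] at hxU
  have hprime : hU.primeIdealOf ⟨x, hxU⟩ = ⟨q, hq⟩ :=
    hU.fromSpec.isOpenEmbedding.injective ((hU.fromSpec_primeIdealOf ⟨x, hxU⟩).trans hx)
  have hprime' : (hU.primeIdealOf ⟨x, hxU⟩).asIdeal = q := congrArg PrimeSpectrum.asIdeal hprime
  clear hprime hx
  subst hprime'
  set q := (hU.primeIdealOf ⟨x, hxU⟩).asIdeal with hqdef
  letI := X.presheaf.algebra_section_stalk ⟨x, hxU⟩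
  haveI hloc : IsLocalization.AtPrime (X.presheaf.stalk x) q := hU.isLocalization_stalk ⟨x, hxU⟩
  have hgb : algebraMap Γ(X, U) (X.presheaf.stalk x) b ≠ 0 := by
    intro h0
    rw [IsLocalization.map_eq_zero_iff q.primeCompl] at h0
    obtain ⟨⟨s, hs⟩, hsb⟩ := h0
    exact hs ((hmem s).mpr hsb)
  have hkill : ∀ c ∈ IsLocalRing.maximalIdeal (X.presheaf.stalk x),
      c * algebraMap Γ(X, U) (X.presheaf.stalk x) b = 0 := by
    rw [← IsLocalization.AtPrime.map_eq_maximalIdeal q (X.presheaf.stalk x)]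
    intro c hc
    refine Submodule.span_induction (p := fun c _ =>
      c * algebraMap Γ(X, U) (X.presheaf.stalk x) b = 0) ?_ ?_ ?_ ?_ hc
    · rintro _ ⟨c', hc', rfl⟩
      rw [← map_mul, (hmem c').mp hc', map_zero]
    · simp
    · intro c₁ c₂ _ _ h₁ h₂
      rw [add_mul, h₁, h₂, add_zero]
    · intro r c₁ _ h₁
      rw [smul_eq_mul, mul_assoc, h₁, mul_zero]
  haveI := hY x
  have hbot : IsLocalRing.maximalIdeal (Y.presheaf.stalk (f x)) = ⊥ :=
    FlatReducedRing.maximalIdeal_eq_bot_of_flat (f.stalkMap x).hom (Flat.stalkMap f x) _ hgb hkill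
  -- Step B
  have hyV : f x ∈ V := e hxU
  haveI := hfib (f x)
  have hT := isReduced_tensor f (f x) hV hU e hyV
  letI := (f.appLE V U e).hom.toAlgebra
  letI := (Y.presheaf.germ V (f x) hyV ≫ Y.residue (f x)).hom.toAlgebra
  have htmul : b ⊗ₜ[Γ(Y, V)] (1 : Y.residueField (f x)) = 0 := by
    have h1 : IsNilpotent (b ⊗ₜ[Γ(Y, V)] (1 : Y.residueField (f x))) :=
      hbnil.map (Algebra.TensorProduct.includeLeft (R := Γ(Y, V)) (S := Γ(Y, V))
        (A := Γ(X, U)) (B := Y.residueField (f x)))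
    exact IsReduced.eq_zero _ h1
  set p := (hV.primeIdealOf ⟨f x, hyV⟩).asIdeal with hp
  haveI hlocκ : IsLocalization.AtPrime (Y.residueField (f x)) p := by
    letI := Y.presheaf.algebra_section_stalk ⟨f x, hyV⟩
    haveI := hV.isLocalization_stalk ⟨f x, hyV⟩
    have hbij : Function.Bijective (IsLocalRing.residue (Y.presheaf.stalk (f x))) := by
      refine ⟨?_, IsLocalRing.residue_surjective⟩
      rw [RingHom.injective_iff_ker_eq_bot, IsLocalRing.ker_residue, hbot]
    let E : Y.presheaf.stalk (f x) ≃ₐ[Γ(Y, V)] Y.residueField (f x) :=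
      { RingEquiv.ofBijective (IsLocalRing.residue (Y.presheaf.stalk (f x))) hbij with
        commutes' := fun r => rfl }
    exact IsLocalization.isLocalization_of_algEquiv p.primeCompl E
  obtain ⟨s, hs, hsb⟩ := FlatReducedRing.exists_smul_eq_zero_of_tmul_eq_zero p b htmul
  have hsq : (f.appLE V U e).hom s ∈ q := (hmem _).mpr hsb
  have hcomap := IsAffineOpen.comap_primeIdealOf_appLE V hV U hU e hxU
  have : s ∈ p := by
    rw [hp, ← hcomap]
    exact hsq
  exact hs this

/-- Flat morphism of locally Noetherian schemes with reduced fibres, reduced local rings of the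
target at image points: the source is reduced. -/
theorem isReduced_of_flat {X Y : Scheme.{u}} [IsLocallyNoetherian X] [IsLocallyNoetherian Y]
    (f : X ⟶ Y) [Flat f] (hY : ∀ x : X, _root_.IsReduced (Y.presheaf.stalk (f x)))
    (hfib : ∀ y : Y, IsReduced (f.fiber y)) : IsReduced X := by
  have (x : X) : _root_.IsReduced (X.presheaf.stalk x) := by
    obtain ⟨V, hV, hxV, -⟩ := TopologicalSpace.Opens.isBasis_iff_nbhd.mp Y.isBasis_affineOpens
      (show f x ∈ (⊤ : Y.Opens) from trivial)
    obtain ⟨U, hU, hxU, hUV⟩ := TopologicalSpace.Opens.isBasis_iff_nbhd.mp X.isBasis_affineOpens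
      (show x ∈ f ⁻¹ᵁ V from hxV)
    have hred : _root_.IsReduced Γ(X, U) := isReduced_sections f hY hfib hV hU hUV
    obtain ⟨x', rfl⟩ : ∃ x', hU.fromSpec x' = x := by
      have : x ∈ Set.range hU.fromSpec := by rw [hU.range_fromSpec]; exact hxU
      exact this
    exact isReduced_of_injective _
      (asIso <| hU.fromSpec.stalkMap x').commRingCatIsoToRingEquiv.injective
  exact isReduced_of_isReduced_stalk _

end Groth.Agent.Lib.Helper13.FlatReduced
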