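import Mathlib
import Groth.Agent.Lib.Helper13.ValCrit

/-!
# Valuative criterion via valuation rings of the function field

Translation between the "local rings dominated by valuation rings of the function field"
formulation (EGA II 7.3.10) and `ResExistenceAt` at the generic point.
-/

universe u

open CategoryTheory CategoryTheory.Limits AlgebraicGeometry IsLocalRing

namespace Groth.Agent.Lib.Helper13.FunField

open Groth.Agent.Lib.Helper13.ValCrit

theorem comap_valuation_lt_one_iff {K L : Type u} [Field K] [Field L] (g : K →+* L)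
    (A : ValuationSubring L) (z : K) :
    (A.comap g).valuation z < 1 ↔ A.valuation (g z) < 1 := by
  rw [← ValuationSubring.mem_nonunits_iff, ← ValuationSubring.mem_nonunits_iff,
    ValuationSubring.mem_nonunits_iff_or, ValuationSubring.mem_nonunits_iff_or,
    ValuationSubring.mem_comap, map_inv₀, map_eq_zero]

/-- the preimage of a discrete valuation ring under a surjective homomorphism of fields -/
theorem isDiscreteValuationRing_comap {K L : Type u} [Field K] [Field L] (g : K →+* L)
    (hg : Function.Surjective g) (A : ValuationSubring L) [IsDiscreteValuationRing A] :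
    IsDiscreteValuationRing (A.comap g) := by
  let e₀ : (A.comap g) →+* A :=
    (g.comp (A.comap g).subtype).codRestrict A.toSubring (fun z => z.2)
  have hbij : Function.Bijective e₀ :=
    ⟨fun a b hab => Subtype.ext (g.injective (congrArg Subtype.val hab)), fun a => by
      obtain ⟨w, hw⟩ := hg a.1
      exact ⟨⟨w, by rw [ValuationSubring.mem_comap, hw]; exact a.2⟩, Subtype.ext hw⟩⟩
  exact IsDiscreteValuationRing.RingEquivClass.isDiscreteValuationRing
    (RingEquiv.ofBijective e₀ hbij).symm

/-- the trivial valuation ring always admits a lift -/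
theorem exists_lift_of_eq_top {X Y : Scheme.{u}} (f : X ⟶ Y) (x : X)
    (A : ValuationSubring (X.residueField x)) (hA : A = ⊤)
    (y : Spec (CommRingCat.of A) ⟶ Y)
    (hy : X.fromSpecResidueField x ≫ f = Spec.map (CommRingCat.ofHom A.subtype) ≫ y) :
    ∃ l : Spec (CommRingCat.of A) ⟶ X, l ≫ f = y ∧
      Spec.map (CommRingCat.ofHom A.subtype) ≫ l = X.fromSpecResidueField x := by
  obtain ⟨inv, hinv⟩ : ∃ inv : X.residueField x →+* A, ∀ z, ((inv z : A) : X.residueField x) = z :=
    ⟨(RingHom.id _).codRestrict A.toSubring (fun z => hA ▸ ValuationSubring.mem_top z),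
      fun z => rfl⟩
  have h1 : CommRingCat.ofHom inv ≫ CommRingCat.ofHom A.subtype = 𝟙 _ := by
    ext z
    exact hinv z
  have h2 : CommRingCat.ofHom A.subtype ≫ CommRingCat.ofHom inv = 𝟙 _ := by
    ext z
    exact hinv z
  refine ⟨Spec.map (CommRingCat.ofHom inv) ≫ X.fromSpecResidueField x, ?_, ?_⟩
  · rw [Category.assoc, hy, ← Category.assoc, ← Spec.map_comp, h2, Spec.map_id, Category.id_comp]
  · rw [← Category.assoc, ← Spec.map_comp, h1, Spec.map_id, Category.id_comp]

set_option maxHeartbeats 800000 in
/-- a valuation ring of the function field which dominates a local ring of `X` as soon as it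
dominates a local ring of `Y` gives a lift in the valuative square at the generic point -/
theorem exists_lift_of_dominate {X Y : Scheme.{u}} [IsIntegral X] [Y.IsSeparated] (f : X ⟶ Y)
    (A : ValuationSubring (X.residueField (genericPoint X)))
    (y : Spec (CommRingCat.of A) ⟶ Y)
    (hy : X.fromSpecResidueField (genericPoint X) ≫ f =
      Spec.map (CommRingCat.ofHom A.subtype) ≫ y)
    (R : ValuationSubring X.functionField)
    (hR : R = A.comap (X.residue (genericPoint X)).hom)
    (h : ∀ (y₀ : Y) (hy₀ : f.base (genericPoint X) ⤳ y₀),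
      ((∀ a : Y.presheaf.stalk y₀,
        (Y.presheaf.stalkSpecializes hy₀ ≫ f.stalkMap (genericPoint X)).hom a ∈ R) ∧
        ∀ a ∈ IsLocalRing.maximalIdeal (Y.presheaf.stalk y₀),
          R.valuation ((Y.presheaf.stalkSpecializes hy₀ ≫ f.stalkMap (genericPoint X)).hom a)
            < 1) →
      ∃ x : X, (∀ a : X.presheaf.stalk x,
        algebraMap (X.presheaf.stalk x) X.functionField a ∈ R) ∧
        ∀ a ∈ IsLocalRing.maximalIdeal (X.presheaf.stalk x),
          R.valuation (algebraMap (X.presheaf.stalk x) X.functionField a) < 1) :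
    ∃ l : Spec (CommRingCat.of A) ⟶ X, l ≫ f = y ∧
      Spec.map (CommRingCat.ofHom A.subtype) ≫ l =
        X.fromSpecResidueField (genericPoint X) := by
  classical
  have hgen : f.base (genericPoint X) ⤳ y.base (closedPoint A) := by
    have h1 : (X.fromSpecResidueField (genericPoint X) ≫ f).base
        (closedPoint (X.residueField (genericPoint X))) = f.base (genericPoint X) := by
      rw [Scheme.Hom.comp_apply, Scheme.fromSpecResidueField_apply]
    rw [← h1, hy, Scheme.Hom.comp_apply]
    exact (specializes_closedPoint (R := A) _).map y.continuous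
  -- the local homomorphism induced by `y`
  have hν : Scheme.stalkClosedPointTo y ≫ CommRingCat.ofHom A.subtype =
      Y.presheaf.stalkSpecializes hgen ≫ f.stalkMap (genericPoint X) ≫
        X.residue (genericPoint X) := by
    apply Spec.map_injective
    apply (cancel_mono (Y.fromSpecStalk (y.base (closedPoint A)))).mp
    rw [Spec.map_comp, Category.assoc, Scheme.Spec_stalkClosedPointTo_fromSpecStalk, ← hy,
      Spec.map_comp, Spec.map_comp, Category.assoc, Category.assoc,
      Scheme.SpecMap_stalkSpecializes_fromSpecStalk, Scheme.SpecMap_stalkMap_fromSpecStalk]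
    rfl
  have hνval : ∀ a, (X.residue (genericPoint X)).hom
      ((Y.presheaf.stalkSpecializes hgen ≫ f.stalkMap (genericPoint X)).hom a) =
      (((Scheme.stalkClosedPointTo y).hom a : A) : X.residueField (genericPoint X)) := by
    intro a
    have h1 := congrArg (fun ξ : Y.presheaf.stalk (y.base (closedPoint A)) ⟶
      X.residueField (genericPoint X) => ξ.hom a) hν
    exact h1.symm
  obtain ⟨x, hxR, -⟩ := h (y.base (closedPoint A)) hgen ⟨fun a => by
      rw [hR, ValuationSubring.mem_comap, hνval]
      exact Subtype.coe_prop _, fun a ha => by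
      rw [hR, comap_valuation_lt_one_iff, hνval]
      apply (A.valuation_lt_one_iff _).mp
      have hloc : IsLocalHom (Scheme.stalkClosedPointTo y).hom := inferInstance
      rw [mem_maximalIdeal, mem_nonunits_iff] at ha ⊢
      exact fun hu => ha (hloc.map_nonunit a hu)⟩
  -- the lift
  have hsp : genericPoint X ⤳ x := genericPoint_specializes x
  have hμmem : ∀ a : X.presheaf.stalk x,
      (X.presheaf.stalkSpecializes hsp ≫ X.residue (genericPoint X)).hom a ∈ A := by
    intro a
    have h1 := hxR a
    rw [hR, ValuationSubring.mem_comap] at h1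
    exact h1
  obtain ⟨μ, hμ⟩ : ∃ μ : X.presheaf.stalk x ⟶ CommRingCat.of A,
      μ ≫ CommRingCat.ofHom A.subtype =
        X.presheaf.stalkSpecializes hsp ≫ X.residue (genericPoint X) :=
    ⟨CommRingCat.ofHom ((X.presheaf.stalkSpecializes hsp ≫
      X.residue (genericPoint X)).hom.codRestrict A.toSubring hμmem), by ext a; rfl⟩
  have hl2 : Spec.map (CommRingCat.ofHom A.subtype) ≫ Spec.map μ ≫ X.fromSpecStalk x =
      X.fromSpecResidueField (genericPoint X) := by
    rw [← Category.assoc, ← Spec.map_comp, hμ, Spec.map_comp, Category.assoc,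
      Scheme.SpecMap_stalkSpecializes_fromSpecStalk]
    rfl
  refine ⟨Spec.map μ ≫ X.fromSpecStalk x, ?_, hl2⟩
  have huniq := IsSeparated.valuativeCriterion (terminal.from Y)
  let Sq : ValuativeCommSq (terminal.from Y) :=
    { R := A, K := X.residueField (genericPoint X),
      i₁ := X.fromSpecResidueField (genericPoint X) ≫ f,
      i₂ := terminal.from _,
      commSq := ⟨terminal.hom_ext _ _⟩ }
  have := huniq Sq
  let m₁ : Sq.commSq.LiftStruct := ⟨(Spec.map μ ≫ X.fromSpecStalk x) ≫ f, by
    change Spec.map (CommRingCat.ofHom A.subtype) ≫ _ = _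
    rw [← Category.assoc, hl2], terminal.hom_ext _ _⟩
  let m₂ : Sq.commSq.LiftStruct := ⟨y, hy.symm, terminal.hom_ext _ _⟩
  exact congrArg CommSq.LiftStruct.l (Subsingleton.elim m₁ m₂)

end Groth.Agent.Lib.Helper13.FunField
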