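import Mathlib
import Groth.Agent.Lib.Helper13.WeilProj
import Groth.Agent.Lib.Helper4.CentralizerClosed

/-!
# `Over S` versions of `WeilProj.exists_closed_of_finite_flat`
-/

set_option autoImplicit false
universe u
open CategoryTheory MonoidalCategory CartesianMonoidalCategory AlgebraicGeometry Limits

namespace Groth.Agent.Lib.Helper13.WeilProjOver

variable {S : Scheme.{u}}

/-- the square `T ⊗ B ⟶ A ⊗ B`, `T ⟶ A` is cartesian -/
theorem isPullback_whiskerRight (A B T : Over S) (x : T ⟶ A) :
    IsPullback (x ▷ B).left (fst T B).left (fst A B).left x.left := by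
  have hR : IsPullback (snd A B).left (fst A B).left B.hom A.hom :=
    (IsPullback.of_hasPullback A.hom B.hom).flip
  have hO : IsPullback (snd T B).left (fst T B).left B.hom T.hom :=
    (IsPullback.of_hasPullback T.hom B.hom).flip
  have e1 : (x ▷ B).left ≫ (snd A B).left = (snd T B).left := by
    rw [← Over.comp_left, whiskerRight_snd]
  have e2 : x.left ≫ A.hom = T.hom := Over.w x
  have hO' : IsPullback ((x ▷ B).left ≫ (snd A B).left) (fst T B).left
      B.hom (x.left ≫ A.hom) := by
    rw [e1, e2]; exact hO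
  refine IsPullback.of_right hO' ?_ hR
  rw [← Over.comp_left, ← Over.comp_left, whiskerRight_fst]

/-- scheme-level closed immersion `c : E ⟶ A ×_S B` with `B ⟶ S` finite locally free gives a
closed subscheme of `A` representing `x ↦ (x × id_B factors through E)`. -/
theorem exists_closed_scheme (A B : Over S) [IsFinite B.hom] [Flat B.hom]
    [LocallyOfFinitePresentation B.hom] {E : Scheme.{u}}
    (c : E ⟶ (A ⊗ B).left) [IsClosedImmersion c] :
    ∃ (Z : Over S) (j : Z ⟶ A), IsClosedImmersion j.left ∧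
      (LocallyOfFinitePresentation c → LocallyOfFinitePresentation j.left) ∧
      ∀ (T : Over S) (x : T ⟶ A),
        (∃ z : T ⟶ Z, z ≫ j = x) ↔ ∃ w : (T ⊗ B).left ⟶ E, w ≫ c = (x ▷ B).left := by
  haveI : IsFinite (fst A B).left := inferInstanceAs (IsFinite (pullback.fst A.hom B.hom))
  haveI : Flat (fst A B).left := inferInstanceAs (Flat (pullback.fst A.hom B.hom))
  haveI : LocallyOfFinitePresentation (fst A B).left :=
    inferInstanceAs (LocallyOfFinitePresentation (pullback.fst A.hom B.hom))
  obtain ⟨Z', j', hj', hfp, hZ⟩ :=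
    Groth.Agent.Lib.Helper13.WeilProj.exists_closed_of_finite_flat (fst A B).left c
  refine ⟨Over.mk (j' ≫ A.hom), Over.homMk j' rfl, hj', hfp, ?_⟩
  intro T x
  have h1 : (∃ z : T ⟶ Over.mk (j' ≫ A.hom), z ≫ (Over.homMk j' rfl : Over.mk (j' ≫ A.hom) ⟶ A) = x) ↔
      ∃ z : T.left ⟶ Z', z ≫ j' = x.left := by
    constructor
    · rintro ⟨z, rfl⟩
      exact ⟨z.left, rfl⟩
    · rintro ⟨z, hz⟩
      refine ⟨Over.homMk z ?_, ?_⟩
      · simp only [Over.mk_hom]
        rw [← Category.assoc, hz, Over.w]
      · apply Over.OverMorphism.ext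
        simpa using hz
  rw [h1]
  exact hZ x.left (x ▷ B).left (fst T B).left (isPullback_whiskerRight A B T x)

/-- two morphisms `f g : A ⊗ B ⟶ C` whose equalizer is a closed subscheme, with `B` finite
locally free: the locus of `x` in `A` where `f(x, -) = g(x, -)` is a closed subscheme. -/
theorem exists_closed_eq' (A B C : Over S) [IsFinite B.hom] [Flat B.hom]
    [LocallyOfFinitePresentation B.hom] (f g : A ⊗ B ⟶ C)
    [IsClosedImmersion (equalizer.ι f g).left] :
    ∃ (Z : Over S) (j : Z ⟶ A), IsClosedImmersion j.left ∧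
      (LocallyOfFinitePresentation (equalizer.ι f g).left → LocallyOfFinitePresentation j.left) ∧
      ∀ (T : Over S) (x : T ⟶ A),
        (∃ z : T ⟶ Z, z ≫ j = x) ↔ (x ▷ B) ≫ f = (x ▷ B) ≫ g := by
  obtain ⟨Z, j, hj, hfp, hZ⟩ := exists_closed_scheme A B (equalizer.ι f g).left
  refine ⟨Z, j, hj, hfp, ?_⟩
  intro T x
  rw [hZ]
  constructor
  · rintro ⟨w, hw⟩
    apply Over.OverMorphism.ext
    rw [Over.comp_left, Over.comp_left]
    have hc : (equalizer.ι f g).left ≫ f.left = (equalizer.ι f g).left ≫ g.left := by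
      rw [← Over.comp_left, ← Over.comp_left, equalizer.condition]
    rw [← hw, Category.assoc, hc, Category.assoc]
  · intro h
    refine ⟨(equalizer.lift (x ▷ B) h).left, ?_⟩
    rw [← Over.comp_left, equalizer.lift_ι]

/-- two morphisms `f g : A ⊗ B ⟶ C` into a separated `C`, with `B` finite locally free: the locus
of `x` in `A` where `f(x, -) = g(x, -)` is a closed subscheme, of finite presentation if `C` is
locally of finite type. -/
theorem exists_closed_eq (A B C : Over S) [IsFinite B.hom] [Flat B.hom]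
    [LocallyOfFinitePresentation B.hom] [IsSeparated C.hom] (f g : A ⊗ B ⟶ C) :
    ∃ (Z : Over S) (j : Z ⟶ A), IsClosedImmersion j.left ∧
      (LocallyOfFiniteType C.hom → LocallyOfFinitePresentation j.left) ∧
      ∀ (T : Over S) (x : T ⟶ A),
        (∃ z : T ⟶ Z, z ≫ j = x) ↔ (x ▷ B) ≫ f = (x ▷ B) ≫ g := by
  haveI : IsClosedImmersion (equalizer.ι f g).left := isClosedImmersion_equalizer_ι_left f g
  obtain ⟨Z, j, hj, hfp, hZ⟩ := exists_closed_scheme A B (equalizer.ι f g).left
  refine ⟨Z, j, hj, ?_, ?_⟩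
  · intro hC
    exact hfp (Groth.Agent.Lib.Helper4.CentralizerClosed.lfp_equalizer_ι_left f g)
  intro T x
  rw [hZ]
  constructor
  · rintro ⟨w, hw⟩
    apply Over.OverMorphism.ext
    rw [Over.comp_left, Over.comp_left]
    have hc : (equalizer.ι f g).left ≫ f.left = (equalizer.ι f g).left ≫ g.left := by
      rw [← Over.comp_left, ← Over.comp_left, equalizer.condition]
    rw [← hw, Category.assoc, hc, Category.assoc]
  · intro h
    refine ⟨(equalizer.lift (x ▷ B) h).left, ?_⟩
    rw [← Over.comp_left, equalizer.lift_ι]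

/-- closed subscheme `c : E ⟶ C` and a morphism `f : A ⊗ B ⟶ C`: the locus of `x` in `A` with
`f(x, -) ∈ E`. -/
theorem exists_closed_preimage (A B C : Over S) [IsFinite B.hom] [Flat B.hom]
    [LocallyOfFinitePresentation B.hom] (f : A ⊗ B ⟶ C) {E : Over S} (c : E ⟶ C)
    [IsClosedImmersion c.left] :
    ∃ (Z : Over S) (j : Z ⟶ A), IsClosedImmersion j.left ∧
      (LocallyOfFinitePresentation c.left → LocallyOfFinitePresentation j.left) ∧
      ∀ (T : Over S) (x : T ⟶ A),
        (∃ z : T ⟶ Z, z ≫ j = x) ↔ ∃ w : T ⊗ B ⟶ E, w ≫ c = (x ▷ B) ≫ f := by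
  haveI : IsClosedImmersion (pullback.snd c.left f.left) := inferInstance
  obtain ⟨Z, j, hj, hfp, hZ⟩ := exists_closed_scheme A B (pullback.snd c.left f.left)
  refine ⟨Z, j, hj, ?_, ?_⟩
  · intro hC
    exact hfp inferInstance
  intro T x
  rw [hZ]
  constructor
  · rintro ⟨w, hw⟩
    refine ⟨Over.homMk (w ≫ pullback.fst c.left f.left) ?_, ?_⟩
    · have h1 : pullback.fst c.left f.left ≫ E.hom = pullback.snd c.left f.left ≫ (A ⊗ B).hom := by
        rw [← Over.w c, ← Category.assoc, pullback.condition, Category.assoc, Over.w f]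
      rw [Category.assoc, h1, ← Category.assoc, hw, Over.w]
    · apply Over.OverMorphism.ext
      rw [Over.comp_left, Over.comp_left]
      change (w ≫ pullback.fst c.left f.left) ≫ c.left = _
      rw [Category.assoc, pullback.condition, ← Category.assoc, hw]
  · rintro ⟨w, hw⟩
    refine ⟨pullback.lift w.left (x ▷ B).left ?_, pullback.lift_snd _ _ _⟩
    rw [← Over.comp_left, hw, Over.comp_left]

end Groth.Agent.Lib.Helper13.WeilProjOver
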