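import Mathlib
import Groth.Agent.Lib.Helper13.WeilOver

/-!
# Multi-chart essentially free schemes over an affine base (helper13)

`weilGood_of_affineCharts`: if `S` is affine and `B` is covered by finitely many affine opens whose
coordinate rings are projective `Γ(S)`-modules, then closed conditions on `A ×_S B` are represented by
closed subschemes of `A` (for any `A`).
-/

set_option autoImplicit false
set_option linter.style.haveILetI false
universe u
open CategoryTheory CategoryTheory.Limits MonoidalCategory CartesianMonoidalCategory AlgebraicGeometry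
open TensorProduct

namespace Groth.Agent.Lib.Helper13.GenChart

open Groth.Agent.Lib.Helper13.WeilProjLocal Groth.Agent.Lib.Helper13.ClosedRep
open Groth.Agent.Lib.Helper13.WeilRep Groth.Agent.Lib.Helper13.WeilOver

/-- transfer of projectivity from the tensor product in a pullback square of affine schemes -/
theorem projective_of_isPullback' {W S V V' : Scheme.{u}} [IsAffine W] [IsAffine S] [IsAffine V]
    {p : V' ⟶ V} {q : V' ⟶ W} {a : V ⟶ S} {b : W ⟶ S} (h : IsPullback p q a b)
    (hproj : letI := a.appTop.hom.toAlgebra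
      letI := b.appTop.hom.toAlgebra
      Module.Projective Γ(W, ⊤) (Γ(W, ⊤) ⊗[Γ(S, ⊤)] Γ(V, ⊤))) :
    letI := q.appTop.hom.toAlgebra
    Module.Projective Γ(W, ⊤) Γ(V', ⊤) := by
  have hpo := isPushout_appTop_of_isPullback h
  letI := a.appTop.hom.toAlgebra
  letI := b.appTop.hom.toAlgebra
  letI := q.appTop.hom.toAlgebra
  letI := p.appTop.hom.toAlgebra
  letI : Algebra Γ(S, ⊤) Γ(V', ⊤) := (p.appTop.hom.comp a.appTop.hom).toAlgebra
  haveI : IsScalarTower Γ(S, ⊤) Γ(V, ⊤) Γ(V', ⊤) := IsScalarTower.of_algebraMap_eq' rfl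
  haveI : IsScalarTower Γ(S, ⊤) Γ(W, ⊤) Γ(V', ⊤) := by
    refine IsScalarTower.of_algebraMap_eq' ?_
    change p.appTop.hom.comp a.appTop.hom = q.appTop.hom.comp b.appTop.hom
    have := congrArg CommRingCat.Hom.hom hpo.w
    simpa using this
  haveI := hproj
  have hpo' : Algebra.IsPushout Γ(S, ⊤) Γ(W, ⊤) Γ(V, ⊤) Γ(V', ⊤) := by
    rw [← CommRingCat.isPushout_iff_isPushout]
    exact hpo.flip
  haveI := hpo'
  exact Module.Projective.of_equiv
    (Algebra.IsPushout.equiv Γ(S, ⊤) Γ(W, ⊤) Γ(V, ⊤) Γ(V', ⊤)).toLinearEquiv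

/-- base change of a projective coordinate ring in a pullback square of affine schemes -/
theorem projective_of_isPullback {W S V V' : Scheme.{u}} [IsAffine W] [IsAffine S] [IsAffine V]
    {p : V' ⟶ V} {q : V' ⟶ W} {a : V ⟶ S} {b : W ⟶ S} (h : IsPullback p q a b)
    (hproj : letI := a.appTop.hom.toAlgebra
      Module.Projective Γ(S, ⊤) Γ(V, ⊤)) :
    letI := q.appTop.hom.toAlgebra
    Module.Projective Γ(W, ⊤) Γ(V', ⊤) := by
  refine projective_of_isPullback' h ?_
  letI := a.appTop.hom.toAlgebra
  letI := b.appTop.hom.toAlgebra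
  haveI := hproj
  infer_instance

variable {S : Scheme.{u}}

/-- **multi-chart criterion**: over an affine base, a scheme covered by finitely many affine opens
with projective coordinate rings is `WeilGood` against every `A`. -/
theorem weilGood_of_affineCharts [IsAffine S] (A B : Over S) {ι : Type u} [Finite ι]
    (V : ι → B.left.Opens) (hV : ∀ i, IsAffineOpen (V i)) (hcov : ∀ b : B.left, ∃ i, b ∈ V i)
    (hproj : ∀ i, letI := ((V i).ι ≫ B.hom).appTop.hom.toAlgebra
      Module.Projective Γ(S, ⊤) Γ((V i : Scheme.{u}), ⊤)) : WeilGood A B := by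
  intro E c _
  apply rep_of_zariski (Fac (fst A B).left c) (fac_comp (fst A B).left c)
    (fac_local (fst A B).left c)
  intro p
  obtain ⟨W, hW, hpW, -⟩ := exists_isAffineOpen_mem_and_subset (x := p) (U := ⊤) trivial
  refine ⟨W, hpW, ?_⟩
  haveI : IsAffine (W : Scheme.{u}) := hW
  -- the base-changed data
  obtain ⟨g, hg⟩ : ∃ g : pullback (fst A B).left W.ι ⟶ (A ⊗ B).left,
      g = pullback.fst (fst A B).left W.ι := ⟨_, rfl⟩
  obtain ⟨f', hf'⟩ : ∃ f' : pullback (fst A B).left W.ι ⟶ (W : Scheme.{u}),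
      f' = pullback.snd (fst A B).left W.ι := ⟨_, rfl⟩
  have hL : IsPullback g f' (fst A B).left W.ι := by
    rw [hg, hf']; exact IsPullback.of_hasPullback _ _
  have hR : IsPullback (snd A B).left (fst A B).left B.hom A.hom :=
    (IsPullback.of_hasPullback A.hom B.hom).flip
  have hbig : IsPullback (g ≫ (snd A B).left) f' B.hom (W.ι ≫ A.hom) := hL.paste_horiz hR
  -- the charts
  let V' : ι → (pullback (fst A B).left W.ι).Opens := fun i => (g ≫ (snd A B).left) ⁻¹ᵁ V i
  have hsq : ∀ i, IsPullback ((g ≫ (snd A B).left) ∣_ V i) ((V' i).ι ≫ f') ((V i).ι ≫ B.hom)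
      (W.ι ≫ A.hom) := fun i =>
    (isPullback_morphismRestrict (g ≫ (snd A B).left) (V i)).paste_vert hbig
  have hV' : ∀ i, IsAffineOpen (V' i) := by
    intro i
    haveI : IsAffine (V i : Scheme.{u}) := hV i
    exact IsAffine.of_isPullback (hsq i).flip
  have hcov' : ∀ b : ↥(pullback (fst A B).left W.ι), ∃ i, b ∈ V' i := by
    intro b
    obtain ⟨i, hi⟩ := hcov ((g ≫ (snd A B).left) b)
    exact ⟨i, hi⟩
  have hproj' : ∀ i, letI := ((V' i).ι ≫ f').appTop.hom.toAlgebra
      Module.Projective Γ((W : Scheme.{u}), ⊤) Γ((V' i : Scheme.{u}), ⊤) := by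
    intro i
    haveI : IsAffine (V i : Scheme.{u}) := hV i
    exact projective_of_isPullback (hsq i) (hproj i)
  have hrep := rep_fac_of_affine_charts f' (pullback.snd c g) V' hV' hcov' hproj'
  refine rep_congr (fun T x => ?_) (rep_mono _ (fun h => ?_) hrep)
  · exact fac_baseChange (fst A B).left c hL T x
  · haveI := h
    exact ⟨inferInstance, inferInstance⟩

end Groth.Agent.Lib.Helper13.GenChart
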