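import Mathlib
import Groth.Agent.Lib.helper11.GenFreeTools
import Groth.Agent.Lib.Helper13.GenChart

/-!
# Generic freeness in chart form (helper13)

Over an integral base `S`, a quasi-compact `S`-scheme locally of finite type becomes, over a nonempty
affine open `U ⊆ S`, covered by finitely many affine opens with projective (free) coordinate rings.
-/

set_option autoImplicit false
set_option linter.style.haveILetI false
universe u
open CategoryTheory CategoryTheory.Limits AlgebraicGeometry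
open TensorProduct

namespace Groth.Agent.Lib.Helper13.GenFreeChart

open Groth.Agent.Lib.helper11.GenFree Groth.Agent.Lib.helper11.GenFreeTools

section algebra

/-- freeness after inverting `h` gives projectivity over every `R`-algebra in which `h` is a unit -/
theorem projective_of_free_away {R : Type u} [CommRing R] (h : R) (N : Type u) [AddCommGroup N]
    [Module R N]
    (hfree : Module.Free (Localization.Away h) (Localization.Away h ⊗[R] N))
    (R' : Type u) [CommRing R'] [Algebra R R'] (hu : IsUnit (algebraMap R R' h)) :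
    Module.Projective R' (R' ⊗[R] N) := by
  letI : Algebra (Localization.Away h) R' := (IsLocalization.Away.lift h hu).toAlgebra
  haveI : IsScalarTower R (Localization.Away h) R' := by
    refine IsScalarTower.of_algebraMap_eq' ?_
    change algebraMap R R' = (IsLocalization.Away.lift h hu).comp (algebraMap R (Localization.Away h))
    exact (IsLocalization.Away.lift_comp h hu).symm
  haveI := hfree
  exact Module.Projective.of_equiv
    (TensorProduct.AlgebraTensorModule.cancelBaseChange R (Localization.Away h) R' R' N)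

end algebra

section cat

variable {C : Type*} [Category C]

theorem isPullback_of_comp_mono {P X Y Z Z' : C} {p : P ⟶ X} {q : P ⟶ Y} {a : X ⟶ Z} {b : Y ⟶ Z}
    (m : Z ⟶ Z') [Mono m] (h : IsPullback p q (a ≫ m) (b ≫ m)) : IsPullback p q a b := by
  have hw : p ≫ a = q ≫ b := by
    rw [← cancel_mono m, Category.assoc, Category.assoc]; exact h.w
  refine ⟨⟨hw⟩, ⟨PullbackCone.IsLimit.mk _
    (fun s => h.lift s.fst s.snd (by rw [← Category.assoc, s.condition, Category.assoc]))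
    (fun s => h.lift_fst _ _ _) (fun s => h.lift_snd _ _ _)
    (fun s m' h1 h2 => h.hom_ext (by rw [h1, h.lift_fst]) (by rw [h2, h.lift_snd]))⟩⟩

theorem isPullback_of_comp_mono' {P X Y Z Z' : C} {p : P ⟶ X} {q : P ⟶ Y} {a : X ⟶ Z} {b : Y ⟶ Z}
    {a' : X ⟶ Z'} {b' : Y ⟶ Z'}
    (m : Z ⟶ Z') [Mono m] (ha : a ≫ m = a') (hb : b ≫ m = b') (h : IsPullback p q a' b') :
    IsPullback p q a b := by
  subst ha hb
  exact isPullback_of_comp_mono m h

end cat

section geom

variable {S : Scheme.{u}}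

/-- the pullback square of a chart -/
theorem chart_isPullback (Y : Over S) {U₀ U : S.Opens} (hUU₀ : U ≤ U₀) (V : Y.left.Opens)
    (a : (V : Scheme.{u}) ⟶ (U₀ : Scheme.{u})) (ha : a ≫ U₀.ι = V.ι ≫ Y.hom) :
    IsPullback ((pullback.fst Y.hom U.ι) ∣_ V)
      (((pullback.fst Y.hom U.ι) ⁻¹ᵁ V).ι ≫ pullback.snd Y.hom U.ι) a (S.homOfLE hUU₀) := by
  have h1 := (isPullback_morphismRestrict (pullback.fst Y.hom U.ι) V).paste_vert
    (IsPullback.of_hasPullback Y.hom U.ι)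
  exact isPullback_of_comp_mono' U₀.ι ha (Scheme.homOfLE_ι S hUU₀) h1

/-- a single chart: projectivity after restricting to a basic open where the chart becomes free -/
theorem chart_projective (Y : Over S) {U₀ U : S.Opens} (hUU₀ : U ≤ U₀) (hU₀ : IsAffineOpen U₀)
    (hU : IsAffineOpen U) (V : Y.left.Opens) (hV : IsAffineOpen V)
    (a : (V : Scheme.{u}) ⟶ (U₀ : Scheme.{u})) (ha : a ≫ U₀.ι = V.ι ≫ Y.hom)
    (h : Γ((U₀ : Scheme.{u}), ⊤))
    (hfree : letI := a.appTop.hom.toAlgebra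
      Module.Free (Localization.Away h)
        (Localization.Away h ⊗[Γ((U₀ : Scheme.{u}), ⊤)] Γ((V : Scheme.{u}), ⊤)))
    (hu : IsUnit ((S.homOfLE hUU₀).appTop.hom h)) :
    letI := (((pullback.fst Y.hom U.ι) ⁻¹ᵁ V).ι ≫ pullback.snd Y.hom U.ι).appTop.hom.toAlgebra
    Module.Projective Γ((U : Scheme.{u}), ⊤)
      Γ((((pullback.fst Y.hom U.ι) ⁻¹ᵁ V : (pullback Y.hom U.ι).Opens) : Scheme.{u}), ⊤) := by
  haveI : IsAffine (U₀ : Scheme.{u}) := hU₀
  haveI : IsAffine (U : Scheme.{u}) := hU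
  haveI : IsAffine (V : Scheme.{u}) := hV
  have h2 := chart_isPullback Y hUU₀ V a ha
  refine Groth.Agent.Lib.Helper13.GenChart.projective_of_isPullback' h2 ?_
  letI := a.appTop.hom.toAlgebra
  letI := (S.homOfLE hUU₀).appTop.hom.toAlgebra
  exact projective_of_free_away h _ hfree _ hu

theorem chart_isAffineOpen (Y : Over S) {U₀ U : S.Opens} (hUU₀ : U ≤ U₀) (hU₀ : IsAffineOpen U₀)
    (hU : IsAffineOpen U) (V : Y.left.Opens) (hV : IsAffineOpen V)
    (a : (V : Scheme.{u}) ⟶ (U₀ : Scheme.{u})) (ha : a ≫ U₀.ι = V.ι ≫ Y.hom) :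
    IsAffineOpen ((pullback.fst Y.hom U.ι) ⁻¹ᵁ V) := by
  haveI : IsAffine (U₀ : Scheme.{u}) := hU₀
  haveI : IsAffine (U : Scheme.{u}) := hU
  haveI : IsAffine (V : Scheme.{u}) := hV
  exact IsAffine.of_isPullback (chart_isPullback Y hUU₀ V a ha).flip

/-- a section is a unit on its basic open (subscheme form) -/
theorem isUnit_appTop_basicOpen (U₀ : S.Opens) (F : Γ((U₀ : Scheme.{u}), ⊤))
    (hle : S.basicOpen (U₀.topIso.hom F) ≤ U₀) : IsUnit ((S.homOfLE hle).appTop.hom F) := by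
  have h1 := RingedSpace.isUnit_res_basicOpen (X := S.toRingedSpace) (U₀.topIso.hom F)
  have h2 := h1.map (S.basicOpen (U₀.topIso.hom F)).topIso.inv.hom
  convert h2 using 1
  rw [Scheme.homOfLE_appTop]
  simp only [Scheme.Opens.topIso_hom, Scheme.Opens.topIso_inv]
  change _ = (S.presheaf.map _ ≫ S.presheaf.map _ ≫ S.presheaf.map _).hom F
  erw [← Functor.map_comp, ← Functor.map_comp]
  rfl

/-- **generic freeness in chart form** -/
theorem exists_free_charts [IsIntegral S] (Y : Over S) [LocallyOfFiniteType Y.hom]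
    [QuasiCompact Y.hom] (U₁ : S.Opens) (hU₁ : (U₁ : Set S).Nonempty) :
    ∃ U : S.Opens, (U : Set S).Nonempty ∧ U ≤ U₁ ∧ IsAffineOpen U ∧
      ∃ (ι : Type u) (_ : Finite ι) (V : ι → (pullback Y.hom U.ι).Opens),
        (∀ i, IsAffineOpen (V i)) ∧ (∀ b, ∃ i, b ∈ V i) ∧
        ∀ i, letI := ((V i).ι ≫ pullback.snd Y.hom U.ι).appTop.hom.toAlgebra
          Module.Projective Γ((U : Scheme.{u}), ⊤) Γ((V i : Scheme.{u}), ⊤) := by
  obtain ⟨x, hx⟩ := hU₁
  obtain ⟨U₀, hU₀, hxU₀, hU₀U₁⟩ := exists_isAffineOpen_mem_and_subset (x := x) (U := U₁) hx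
  haveI : Nonempty U₀ := ⟨⟨x, hxU₀⟩⟩
  haveI : IsAffine (U₀ : Scheme.{u}) := hU₀
  haveI : IsIntegral (U₀ : Scheme.{u}) := inferInstance
  -- compactness
  have hK : IsCompact ((Y.hom ⁻¹ᵁ U₀ : Y.left.Opens) : Set Y.left) :=
    QuasiCompact.isCompact_preimage (f := Y.hom) _ U₀.isOpen hU₀.isCompact
  -- choice of affine opens
  have hch : ∀ y : Y.left, ∃ V : Y.left.Opens, IsAffineOpen V ∧
      (y ∈ Y.hom ⁻¹ᵁ U₀ → y ∈ V) ∧ V ≤ Y.hom ⁻¹ᵁ U₀ := by
    intro y
    by_cases hy : y ∈ Y.hom ⁻¹ᵁ U₀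
    · obtain ⟨V, hV, hyV, hVle⟩ :=
        exists_isAffineOpen_mem_and_subset (x := y) (U := Y.hom ⁻¹ᵁ U₀) hy
      exact ⟨V, hV, fun _ => hyV, hVle⟩
    · exact ⟨⊥, isAffineOpen_bot _, fun h => absurd h hy, bot_le⟩
  choose V hV hyV hVle using hch
  obtain ⟨t, ht⟩ := hK.elim_finite_subcover (fun y => (V y : Set Y.left)) (fun y => (V y).isOpen)
    (fun y hy => Set.mem_iUnion.mpr ⟨y, hyV y hy⟩)
  -- the restricted maps
  have hrange : ∀ y : Y.left, Set.range ((V y).ι ≫ Y.hom) ⊆ Set.range U₀.ι := by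
    intro y
    rintro _ ⟨v, rfl⟩
    rw [Scheme.Opens.range_ι]
    rw [Scheme.Hom.comp_apply]
    exact hVle y v.2
  obtain ⟨a, ha⟩ : ∃ a : ∀ y : Y.left, (V y : Scheme.{u}) ⟶ (U₀ : Scheme.{u}),
      ∀ y, a y ≫ U₀.ι = (V y).ι ≫ Y.hom :=
    ⟨fun y => IsOpenImmersion.lift U₀.ι ((V y).ι ≫ Y.hom) (hrange y),
      fun y => IsOpenImmersion.lift_fac _ _ _⟩
  -- generic freeness
  have hgf : ∀ y : Y.left, ∃ f : Γ((U₀ : Scheme.{u}), ⊤), f ≠ 0 ∧ ∀ h, f ∣ h → h ≠ 0 →
      letI := (a y).appTop.hom.toAlgebra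
      Module.Free (Localization.Away h)
        (Localization.Away h ⊗[Γ((U₀ : Scheme.{u}), ⊤)] Γ((V y : Scheme.{u}), ⊤)) := by
    intro y
    haveI : IsAffine (V y : Scheme.{u}) := hV y
    haveI : LocallyOfFiniteType (a y ≫ U₀.ι) := by rw [ha]; infer_instance
    haveI : LocallyOfFiniteType (a y) := locallyOfFiniteType_of_comp (a y) U₀.ι
    have hft : RingHom.FiniteType (a y).appTop.hom :=
      (HasRingHomProperty.iff_of_isAffine (P := @LocallyOfFiniteType)).mp inferInstance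
    letI := (a y).appTop.hom.toAlgebra
    haveI : Algebra.FiniteType Γ((U₀ : Scheme.{u}), ⊤) Γ((V y : Scheme.{u}), ⊤) := hft
    have hgen := genFree_of_finiteType (R := Γ((U₀ : Scheme.{u}), ⊤)) Γ((V y : Scheme.{u}), ⊤)
      Γ((V y : Scheme.{u}), ⊤)
    obtain ⟨f, hf, H⟩ := GenFree.exists_spec hgen
    exact ⟨f, hf, fun h hd hh => (H h hd hh).1⟩
  choose f hf0 hfree using hgf
  obtain ⟨F, hF⟩ : ∃ F : Γ((U₀ : Scheme.{u}), ⊤), F = ∏ y ∈ t, f y := ⟨_, rfl⟩
  have hF0 : F ≠ 0 := by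
    rw [hF]; exact Finset.prod_ne_zero_iff.mpr (fun y _ => hf0 y)
  have hdiv : ∀ y ∈ t, f y ∣ F := fun y hy => by
    rw [hF]; exact Finset.dvd_prod_of_mem f hy
  -- the open
  obtain ⟨F₀, hF₀⟩ : ∃ F₀ : Γ(S, U₀), F₀ = U₀.topIso.hom F := ⟨_, rfl⟩
  have hF₀0 : F₀ ≠ 0 := by
    intro h0
    apply hF0
    have : U₀.topIso.inv F₀ = F := by
      rw [hF₀]
      change (U₀.topIso.hom ≫ U₀.topIso.inv) F = F
      rw [Iso.hom_inv_id]; rfl
    rw [← this, h0, map_zero]
  have hUU₀ : S.basicOpen F₀ ≤ U₀ := S.basicOpen_le F₀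
  have hU : IsAffineOpen (S.basicOpen F₀) := hU₀.basicOpen F₀
  have hUne : ((S.basicOpen F₀ : S.Opens) : Set S).Nonempty := by
    by_contra hne
    rw [Set.not_nonempty_iff_eq_empty] at hne
    have : S.basicOpen F₀ = ⊥ := TopologicalSpace.Opens.ext hne
    exact hF₀0 ((basicOpen_eq_bot_iff F₀).mp this)
  have hunit : IsUnit ((S.homOfLE hUU₀).appTop.hom F) := by
    subst hF₀
    exact isUnit_appTop_basicOpen U₀ F hUU₀
  refine ⟨S.basicOpen F₀, hUne, hUU₀.trans hU₀U₁, hU, {y // y ∈ t}, inferInstance,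
    fun i => (pullback.fst Y.hom (S.basicOpen F₀).ι) ⁻¹ᵁ V i.1, ?_, ?_, ?_⟩
  · intro i
    exact chart_isAffineOpen Y hUU₀ hU₀ hU (V i.1) (hV i.1) (a i.1) (ha i.1)
  · intro b
    have hb : (pullback.fst Y.hom (S.basicOpen F₀).ι) b ∈ Y.hom ⁻¹ᵁ U₀ := by
      change Y.hom ((pullback.fst Y.hom (S.basicOpen F₀).ι) b) ∈ U₀
      rw [← Scheme.Hom.comp_apply, pullback.condition, Scheme.Hom.comp_apply]
      exact hUU₀ ((pullback.snd Y.hom (S.basicOpen F₀).ι) b).2
    obtain ⟨y, hyt, hy⟩ := Set.mem_iUnion₂.mp (ht hb)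
    exact ⟨⟨y, hyt⟩, hy⟩
  · intro i
    exact chart_projective Y hUU₀ hU₀ hU (V i.1) (hV i.1) (a i.1) (ha i.1) F
      (hfree i.1 F (hdiv i.1 i.2) hF0) hunit

end geom

end Groth.Agent.Lib.Helper13.GenFreeChart
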