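import Mathlib
import Groth.Agent.Lib.Helper25.FibLocusGen
import Groth.Agent.Lib.Helper25.ConsPairDiag

/-!
# Spreading out from the generic fibre, `Over S` form (helper13)

Wrappers around helper25's `FibLocusGen.spread_generic`.
-/

set_option autoImplicit false
universe u
open CategoryTheory CategoryTheory.Limits AlgebraicGeometry

namespace Groth.Agent.Lib.Helper13.GenSpread

open Groth.Agent.Lib.Helper25 Groth.Agent.Lib.Helper25.FibLocus

variable (Q : MorphismProperty Scheme.{u}) [Q.IsStableUnderBaseChange]

theorem bcMap_id_iff {X S T : Scheme.{u}} (f : X ⟶ S) (b : T ⟶ S) :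
    Q (bcMap f (𝟙 S) b) ↔ Q (pullback.snd f b) := by
  have h1 : bcMap f (𝟙 S) b ≫ pullback.snd (𝟙 S) b =
      (pullback.congrHom (Category.comp_id f) rfl).hom ≫ pullback.snd f b := by
    rw [bcMap, pullback.lift_snd, pullback.congrHom_hom, pullback.lift_snd]
    exact (Category.comp_id _).symm
  rw [← Q.cancel_right_of_respectsIso _ (pullback.snd (𝟙 S) b), h1, Q.cancel_left_of_respectsIso]

theorem map_left_fst {S T : Scheme.{u}} {H G : Over S} (i : H ⟶ G) (b : T ⟶ S) :
    ((Over.pullback b).map i).left ≫ pullback.fst G.hom b = pullback.fst H.hom b ≫ i.left := by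
  simp
  exact pullback.lift_fst _ _ _

theorem map_left_snd {S T : Scheme.{u}} {H G : Over S} (i : H ⟶ G) (b : T ⟶ S) :
    ((Over.pullback b).map i).left ≫ pullback.snd G.hom b = pullback.snd H.hom b := by
  simp
  exact pullback.lift_snd _ _ _

theorem bcMap_over_iff {S T : Scheme.{u}} {H G : Over S} (i : H ⟶ G) (b : T ⟶ S) :
    Q (bcMap i.left G.hom b) ↔ Q ((Over.pullback b).map i).left := by
  have h1 : bcMap i.left G.hom b =
      (pullback.congrHom (Over.w i) rfl).hom ≫ ((Over.pullback b).map i).left := by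
    apply pullback.hom_ext
    · rw [bcMap, pullback.lift_fst, pullback.congrHom_hom, Category.assoc]
      rw [map_left_fst, pullback.lift_fst_assoc, Category.comp_id]
    · rw [bcMap, pullback.lift_snd, pullback.congrHom_hom, Category.assoc]
      rw [map_left_snd, pullback.lift_snd, Category.comp_id]
  rw [h1, Q.cancel_left_of_respectsIso]

/-- spreading out a property of the structure morphism from the generic fibre -/
theorem spread_obj (hQ : ConsPair.Descends Q) {S : Scheme.{u}} [IsIntegral S] (X : Over S)
    [LocallyOfFinitePresentation X.hom] [QuasiCompact X.hom] [QuasiSeparated X.hom]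
    (h : Q (pullback.snd X.hom (S.fromSpecResidueField (genericPoint S)))) :
    ∃ V : S.Opens, (V : Set S).Nonempty ∧ Q (pullback.snd X.hom V.ι) := by
  obtain ⟨V, hV, hQV⟩ := FibLocusGen.spread_generic Q hQ X.hom (𝟙 S)
    ((bcMap_id_iff Q X.hom _).mpr h)
  exact ⟨V, hV, (bcMap_id_iff Q X.hom _).mp hQV⟩

/-- spreading out a property of a morphism over `S` from the generic fibre -/
theorem spread_hom (hQ : ConsPair.Descends Q) {S : Scheme.{u}} [IsIntegral S] {H G : Over S}
    (i : H ⟶ G)
    [LocallyOfFinitePresentation G.hom] [QuasiCompact G.hom] [QuasiSeparated G.hom]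
    [LocallyOfFinitePresentation H.hom] [QuasiCompact H.hom] [QuasiSeparated H.hom]
    (h : Q ((Over.pullback (S.fromSpecResidueField (genericPoint S))).map i).left) :
    ∃ V : S.Opens, (V : Set S).Nonempty ∧ Q ((Over.pullback V.ι).map i).left := by
  haveI : LocallyOfFinitePresentation (i.left ≫ G.hom) := by rw [Over.w]; infer_instance
  haveI : QuasiCompact (i.left ≫ G.hom) := by rw [Over.w]; infer_instance
  haveI : QuasiSeparated (i.left ≫ G.hom) := by rw [Over.w]; infer_instance
  obtain ⟨V, hV, hQV⟩ := FibLocusGen.spread_generic Q hQ i.left G.hom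
    ((bcMap_over_iff Q i _).mpr h)
  exact ⟨V, hV, (bcMap_over_iff Q i _).mp hQV⟩

/-- base change of an open restriction to a smaller open -/
theorem snd_of_le {X S : Scheme.{u}} (f : X ⟶ S) {U V : S.Opens} (hUV : U ≤ V)
    (h : Q (pullback.snd f V.ι)) : Q (pullback.snd f U.ι) := by
  have h1 : U.ι = S.homOfLE hUV ≫ V.ι := (Scheme.homOfLE_ι S hUV).symm
  have hsq := (IsPullback.of_hasPullback (pullback.snd f V.ι) (S.homOfLE hUV)).paste_horiz
    (IsPullback.of_hasPullback f V.ι)
  rw [← h1] at hsq
  have h2 : Q (pullback.snd (pullback.snd f V.ι) (S.homOfLE hUV)) :=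
    MorphismProperty.pullback_snd _ _ h
  exact (MorphismProperty.arrow_mk_iso_iff Q
    (Arrow.isoMk (hsq.isoPullback) (Iso.refl _) (by simp))).mp h2

theorem map_of_le {S : Scheme.{u}} {H G : Over S} (i : H ⟶ G) {U V : S.Opens} (hUV : U ≤ V)
    (h : Q ((Over.pullback V.ι).map i).left) : Q ((Over.pullback U.ι).map i).left := by
  have h1 : U.ι = S.homOfLE hUV ≫ V.ι := (Scheme.homOfLE_ι S hUV).symm
  -- square: pullback H.hom U.ι → pullback H.hom V.ι over pullback G.hom U.ι → pullback G.hom V.ι
  have hw : ∀ K : Over S, (pullback.fst K.hom U.ι) ≫ K.hom =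
      (pullback.snd K.hom U.ι ≫ S.homOfLE hUV) ≫ V.ι := by
    intro K
    rw [Category.assoc, ← h1, pullback.condition]
  -- pasting
  have hG : IsPullback (pullback.lift (pullback.fst G.hom U.ι)
      (pullback.snd G.hom U.ι ≫ S.homOfLE hUV) (hw G)) (pullback.snd G.hom U.ι)
      (pullback.snd G.hom V.ι) (S.homOfLE hUV) := by
    refine IsPullback.of_right ?_ (pullback.lift_snd _ _ _) (IsPullback.of_hasPullback G.hom V.ι)
    rw [pullback.lift_fst, ← h1]
    exact IsPullback.of_hasPullback G.hom U.ι
  have hH : IsPullback (pullback.lift (pullback.fst H.hom U.ι)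
      (pullback.snd H.hom U.ι ≫ S.homOfLE hUV) (hw H)) (pullback.snd H.hom U.ι)
      (pullback.snd H.hom V.ι) (S.homOfLE hUV) := by
    refine IsPullback.of_right ?_ (pullback.lift_snd _ _ _) (IsPullback.of_hasPullback H.hom V.ι)
    rw [pullback.lift_fst, ← h1]
    exact IsPullback.of_hasPullback H.hom U.ι
  have hsq : IsPullback (pullback.lift (pullback.fst H.hom U.ι)
      (pullback.snd H.hom U.ι ≫ S.homOfLE hUV) (hw H)) ((Over.pullback U.ι).map i).left
      ((Over.pullback V.ι).map i).left (pullback.lift (pullback.fst G.hom U.ι)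
      (pullback.snd G.hom U.ι ≫ S.homOfLE hUV) (hw G)) := by
    refine IsPullback.of_bot ?_ ?_ hG
    · rw [map_left_snd, map_left_snd]
      exact hH
    · apply pullback.hom_ext
      · rw [Category.assoc, map_left_fst, pullback.lift_fst_assoc, Category.assoc,
          pullback.lift_fst, map_left_fst]
      · rw [Category.assoc, map_left_snd, pullback.lift_snd, Category.assoc,
          pullback.lift_snd, ← Category.assoc, map_left_snd]
  exact MorphismProperty.of_isPullback (P := Q) hsq h
  /-
  · have e1 : ((Over.pullback U.ι).map i).left ≫ pullback.snd G.hom U.ι = pullback.snd H.hom U.ι := by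
      simp
    have e2 : ((Over.pullback V.ι).map i).left ≫ pullback.snd G.hom V.ι = pullback.snd H.hom V.ι := by
      simp
    rw [e1, e2]
    exact hH
  · apply pullback.hom_ext <;> simp
  -/

end Groth.Agent.Lib.Helper13.GenSpread
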