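import Mathlib

set_option autoImplicit false
universe u

namespace Groth.Agent.Lib.Helper13.Glue

open CategoryTheory CategoryTheory.Limits AlgebraicGeometry

theorem isLocalization_of_injective {R S : Type*} [CommRing R] [CommRing S] [Algebra R S]
    (M : Submonoid R) (hinj : Function.Injective (algebraMap R S))
    (hu : ∀ m ∈ M, IsUnit (algebraMap R S m))
    (hs : ∀ z : S, ∃ m ∈ M, ∃ r : R, z * algebraMap R S m = algebraMap R S r) :
    IsLocalization M S := by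
  rw [isLocalization_iff]
  refine ⟨fun m => hu m m.2, fun z => ?_, fun {a b} h => ⟨1, by rw [hinj h]⟩⟩
  obtain ⟨m, hm, r, h⟩ := hs z
  exact ⟨(r, ⟨m, hm⟩), h⟩

variable {K : Type u} [Field K]

/-- `A` is the localization of its subring `R` away from `x`. -/
theorem isLocalization_away_subring (R A : Subring K) (h : R ≤ A) (x : K) (hxR : x ∈ R)
    (hx0 : x ≠ 0) (hxi : x⁻¹ ∈ A) (hpow : ∀ α ∈ A, ∃ n : ℕ, x ^ n * α ∈ R) :
    @IsLocalization.Away R _ ⟨x, hxR⟩ A _ (Subring.inclusion h).toAlgebra := by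
  let _ : Algebra R A := (Subring.inclusion h).toAlgebra
  have hmap : ∀ r : R, ((algebraMap R A r : A) : K) = (r : K) := fun r => rfl
  refine isLocalization_of_injective _ (Subring.inclusion_injective h) ?_ ?_
  · rintro m ⟨n, rfl⟩
    refine IsUnit.of_mul_eq_one (⟨x⁻¹, hxi⟩ ^ n) ?_
    apply Subtype.ext
    simp only [map_pow, Subring.coe_mul, Subring.coe_pow, hmap, Subring.coe_one]
    rw [← mul_pow, mul_inv_cancel₀ hx0, one_pow]
  · intro α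
    obtain ⟨n, hn⟩ := hpow α α.2
    refine ⟨⟨x, hxR⟩ ^ n, ⟨n, rfl⟩, ⟨x ^ n * α, hn⟩, ?_⟩
    apply Subtype.ext
    simp only [map_pow, Subring.coe_mul, Subring.coe_pow, hmap]
    ring

/-- a nonzero element of the Jacobson radical of a one-dimensional domain inverts to `K` -/
theorem exists_pow_mul_mem (A : Subring K) [IsFractionRing A K] [Ring.KrullDimLE 1 A]
    (a : A) (ha : a ∈ Ideal.jacobson (⊥ : Ideal A)) (z : K) :
    ∃ n : ℕ, (a : K) ^ n * z ∈ A := by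
  obtain ⟨p, q, hq, rfl⟩ := IsFractionRing.div_surjective (A := A) z
  have hq0 : q ≠ 0 := nonZeroDivisors.ne_zero hq
  have hrad : a ∈ (Ideal.span {q}).radical := by
    rw [Ideal.radical_eq_sInf, Ideal.mem_sInf]
    rintro P ⟨hqP, hP⟩
    have hPbot : P ≠ ⊥ := by
      intro h
      rw [h, Ideal.span_le, Set.singleton_subset_iff] at hqP
      exact hq0 (by simpa using hqP)
    have hmax : P.IsMaximal := hP.isMaximal_of_ne_bot hPbot
    exact (Ideal.mem_sInf.mp ha) ⟨bot_le, hmax⟩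
  obtain ⟨n, hn⟩ := hrad
  obtain ⟨c, hc⟩ := Ideal.mem_span_singleton'.mp hn
  refine ⟨n, ?_⟩
  have hqK : (algebraMap A K q) ≠ 0 := by
    simpa using (IsFractionRing.injective A K).ne hq0
  have : (a : K) ^ n * (algebraMap A K p / algebraMap A K q) = ((c * p : A) : K) := by
    have h1 : ((a ^ n : A) : K) = ((c * q : A) : K) := by rw [hc]
    simp only [Subring.coe_pow, Subring.coe_mul] at h1
    rw [h1]
    change (c : K) * (q : K) * ((p : K) / (q : K)) = ((c * p : A) : K)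
    have hqK' : (q : K) ≠ 0 := hqK
    rw [Subring.coe_mul]
    field_simp
  rw [this]
  exact (c * p).2

/-- the Jacobson radical of a semi-local domain that is not a field is nonzero -/
theorem exists_ne_zero_mem_jacobson (A : Type*) [CommRing A] [IsDomain A] (hf : ¬ IsField A)
    [Finite (MaximalSpectrum A)] : ∃ a : A, a ≠ 0 ∧ a ∈ Ideal.jacobson (⊥ : Ideal A) := by
  classical
  have := Fintype.ofFinite (MaximalSpectrum A)
  have hex : ∀ m : MaximalSpectrum A, ∃ a : A, a ≠ 0 ∧ a ∈ m.asIdeal := by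
    intro m
    have hne := Ring.ne_bot_of_isMaximal_of_not_isField m.isMaximal hf
    obtain ⟨a, ha, ha0⟩ := Submodule.exists_mem_ne_zero_of_ne_bot hne
    exact ⟨a, ha0, ha⟩
  choose f hf0 hfm using hex
  refine ⟨∏ m, f m, Finset.prod_ne_zero_iff.mpr (fun m _ => hf0 m), ?_⟩
  rw [Ideal.jacobson, Ideal.mem_sInf]
  rintro J ⟨-, hJ⟩
  have hdvd : f ⟨J, hJ⟩ ∣ ∏ m, f m := Finset.dvd_prod_of_mem f (Finset.mem_univ _)
  exact Ideal.mem_of_dvd _ hdvd (hfm ⟨J, hJ⟩)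

/-- a unit plus an element of the Jacobson radical is a unit (subring of a field version) -/
theorem unit_add_jacobson (A : Subring K) (u : K) (hui : u⁻¹ ∈ A) (hu0 : u ≠ 0)
    (j : K) (hj : j ∈ A) (hjJ : (⟨j, hj⟩ : A) ∈ Ideal.jacobson (⊥ : Ideal A)) :
    u + j ≠ 0 ∧ (u + j)⁻¹ ∈ A := by
  have h1 := Ideal.mem_jacobson_bot.mp hjJ ⟨u⁻¹, hui⟩
  obtain ⟨w, hw⟩ := h1.exists_right_inv
  have hw' : (j * u⁻¹ + 1) * (w : K) = 1 := by
    have := congrArg (Subtype.val) hw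
    simpa using this
  have hne : u + j ≠ 0 := by
    intro h0
    have : j * u⁻¹ + 1 = 0 := by
      have : j = -u := by linear_combination h0
      rw [this]; field_simp; ring
    rw [this, zero_mul] at hw'
    exact zero_ne_one hw'
  refine ⟨hne, ?_⟩
  have : (u + j)⁻¹ = u⁻¹ * (w : K) := by
    rw [inv_eq_iff_eq_inv, mul_inv, inv_inv]
    have hw0 : (w : K) ≠ 0 := by
      intro h; rw [h, mul_zero] at hw'; exact zero_ne_one hw'
    field_simp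
    have : (j * u⁻¹ + 1) * (w : K) * u = u := by rw [hw', one_mul]
    field_simp at this
    linear_combination this
  rw [this]
  exact A.mul_mem hui w.2

/-- the data needed to glue `Spec A` and `Spec B` along `Spec K` -/
structure GlueData (A B : Subring K) (x y : K) : Prop where
  x0 : x ≠ 0
  y0 : y ≠ 0
  xA : x ∈ A
  xB : x ∈ B
  xiA : x⁻¹ ∈ A
  yA : y ∈ A
  yB : y ∈ B
  yiB : y⁻¹ ∈ B
  powB : ∀ z : K, ∃ n : ℕ, x ^ n * z ∈ B
  powA : ∀ z : K, ∃ n : ℕ, y ^ n * z ∈ A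
  s0 : x + y ≠ 0
  sA : (x + y)⁻¹ ∈ A
  sB : (x + y)⁻¹ ∈ B

namespace GlueData

variable {A B : Subring K} {x y : K}

theorem symm (h : GlueData A B x y) : GlueData B A y x where
  x0 := h.y0
  y0 := h.x0
  xA := h.yB
  xB := h.yA
  xiA := h.yiB
  yA := h.xB
  yB := h.xA
  yiB := h.xiA
  powB := h.powA
  powA := h.powB
  s0 := by rw [add_comm]; exact h.s0
  sA := by rw [add_comm]; exact h.sB
  sB := by rw [add_comm]; exact h.sA

theorem awayA (h : GlueData A B x y) :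
    @IsLocalization.Away ↥(A ⊓ B) _ ⟨x, ⟨h.xA, h.xB⟩⟩ A _
      (Subring.inclusion (inf_le_left : A ⊓ B ≤ A)).toAlgebra := by
  refine isLocalization_away_subring (A ⊓ B) A inf_le_left x ⟨h.xA, h.xB⟩ h.x0 h.xiA ?_
  intro α hα
  obtain ⟨n, hn⟩ := h.powB α
  exact ⟨n, ⟨A.mul_mem (A.pow_mem h.xA n) hα, hn⟩⟩

theorem awayB (h : GlueData A B x y) :
    @IsLocalization.Away ↥(A ⊓ B) _ ⟨y, ⟨h.yA, h.yB⟩⟩ B _
      (Subring.inclusion (inf_le_right : A ⊓ B ≤ B)).toAlgebra := by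
  refine isLocalization_away_subring (A ⊓ B) B inf_le_right y ⟨h.yA, h.yB⟩ h.y0 h.yiB ?_
  intro β hβ
  obtain ⟨n, hn⟩ := h.powA β
  exact ⟨n, ⟨hn, B.mul_mem (B.pow_mem h.yB n) hβ⟩⟩

theorem isOpenImmersionA (h : GlueData A B x y) :
    IsOpenImmersion (Spec.map (CommRingCat.ofHom
      (Subring.inclusion (inf_le_left : A ⊓ B ≤ A)))) := by
  let _ : Algebra ↥(A ⊓ B) A := (Subring.inclusion (inf_le_left : A ⊓ B ≤ A)).toAlgebra
  have := h.awayA
  exact IsOpenImmersion.of_isLocalization (R := ↥(A ⊓ B)) (S := A) ⟨x, ⟨h.xA, h.xB⟩⟩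

theorem isOpenImmersionB (h : GlueData A B x y) :
    IsOpenImmersion (Spec.map (CommRingCat.ofHom
      (Subring.inclusion (inf_le_right : A ⊓ B ≤ B)))) := by
  let _ : Algebra ↥(A ⊓ B) B := (Subring.inclusion (inf_le_right : A ⊓ B ≤ B)).toAlgebra
  have := h.awayB
  exact IsOpenImmersion.of_isLocalization (R := ↥(A ⊓ B)) (S := B) ⟨y, ⟨h.yA, h.yB⟩⟩

theorem rangeA (h : GlueData A B x y) :
    Set.range (Spec.map (CommRingCat.ofHom
      (Subring.inclusion (inf_le_left : A ⊓ B ≤ A)))).base =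
      (PrimeSpectrum.basicOpen (⟨x, ⟨h.xA, h.xB⟩⟩ : ↥(A ⊓ B)) : Set (PrimeSpectrum ↥(A ⊓ B))) := by
  let _ : Algebra ↥(A ⊓ B) A := (Subring.inclusion (inf_le_left : A ⊓ B ≤ A)).toAlgebra
  have := h.awayA
  exact PrimeSpectrum.localization_away_comap_range A (⟨x, ⟨h.xA, h.xB⟩⟩ : ↥(A ⊓ B))

theorem rangeB (h : GlueData A B x y) :
    Set.range (Spec.map (CommRingCat.ofHom
      (Subring.inclusion (inf_le_right : A ⊓ B ≤ B)))).base =
      (PrimeSpectrum.basicOpen (⟨y, ⟨h.yA, h.yB⟩⟩ : ↥(A ⊓ B)) : Set (PrimeSpectrum ↥(A ⊓ B))) := by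
  let _ : Algebra ↥(A ⊓ B) B := (Subring.inclusion (inf_le_right : A ⊓ B ≤ B)).toAlgebra
  have := h.awayB
  exact PrimeSpectrum.localization_away_comap_range B (⟨y, ⟨h.yA, h.yB⟩⟩ : ↥(A ⊓ B))

theorem range_union (h : GlueData A B x y) :
    Set.range (Spec.map (CommRingCat.ofHom
      (Subring.inclusion (inf_le_left : A ⊓ B ≤ A)))).base ∪
    Set.range (Spec.map (CommRingCat.ofHom
      (Subring.inclusion (inf_le_right : A ⊓ B ≤ B)))).base = Set.univ := by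
  rw [h.rangeA, h.rangeB, Set.eq_univ_iff_forall]
  intro p
  by_contra hcon
  rw [Set.mem_union, not_or] at hcon
  obtain ⟨h1, h2⟩ := hcon
  have h1' : (⟨x, ⟨h.xA, h.xB⟩⟩ : ↥(A ⊓ B)) ∈ p.asIdeal := by
    by_contra hh; exact h1 hh
  have h2' : (⟨y, ⟨h.yA, h.yB⟩⟩ : ↥(A ⊓ B)) ∈ p.asIdeal := by
    by_contra hh; exact h2 hh
  have h3 : (⟨x + y, ⟨A.add_mem h.xA h.yA, B.add_mem h.xB h.yB⟩⟩ : ↥(A ⊓ B)) ∈ p.asIdeal := by
    have := p.asIdeal.add_mem h1' h2'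
    exact this
  have h4 := p.asIdeal.mul_mem_left (⟨(x + y)⁻¹, ⟨h.sA, h.sB⟩⟩ : ↥(A ⊓ B)) h3
  have h5 : (⟨(x + y)⁻¹, ⟨h.sA, h.sB⟩⟩ : ↥(A ⊓ B)) *
      ⟨x + y, ⟨A.add_mem h.xA h.yA, B.add_mem h.xB h.yB⟩⟩ = 1 := by
    apply Subtype.ext
    simp only [Subring.coe_mul, Subring.coe_one]
    exact inv_mul_cancel₀ h.s0
  rw [h5] at h4
  exact p.2.ne_top ((Ideal.eq_top_iff_one _).mpr h4)

theorem isPushout (h : GlueData A B x y) :
    IsPushout (CommRingCat.ofHom (Subring.inclusion (inf_le_left : A ⊓ B ≤ A)))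
      (CommRingCat.ofHom (Subring.inclusion (inf_le_right : A ⊓ B ≤ B)))
      (CommRingCat.ofHom A.subtype) (CommRingCat.ofHom B.subtype) := by
  let _ : Algebra ↥(A ⊓ B) A := (Subring.inclusion (inf_le_left : A ⊓ B ≤ A)).toAlgebra
  let _ : Algebra ↥(A ⊓ B) B := (Subring.inclusion (inf_le_right : A ⊓ B ≤ B)).toAlgebra
  let _ : Algebra A K := A.subtype.toAlgebra
  let _ : Algebra B K := B.subtype.toAlgebra
  let _ : Algebra ↥(A ⊓ B) K := (A ⊓ B).subtype.toAlgebra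
  have : IsScalarTower ↥(A ⊓ B) A K := IsScalarTower.of_algebraMap_eq (fun _ => rfl)
  have : IsScalarTower ↥(A ⊓ B) B K := IsScalarTower.of_algebraMap_eq (fun _ => rfl)
  have hB := h.awayB
  have hK : IsLocalization (Algebra.algebraMapSubmonoid A
      (Submonoid.powers (⟨y, ⟨h.yA, h.yB⟩⟩ : ↥(A ⊓ B)))) K := by
    refine isLocalization_of_injective _ Subtype.val_injective ?_ ?_
    · rintro m ⟨_, ⟨n, rfl⟩, rfl⟩
      refine IsUnit.mk0 _ ?_
      change ((⟨y, ⟨h.yA, h.yB⟩⟩ : ↥(A ⊓ B)) ^ n : ↥(A ⊓ B)).1 ≠ 0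
      simpa using pow_ne_zero n h.y0
    · intro z
      obtain ⟨n, hn⟩ := h.powA z
      refine ⟨algebraMap ↥(A ⊓ B) A ((⟨y, ⟨h.yA, h.yB⟩⟩ : ↥(A ⊓ B)) ^ n),
        ⟨_, ⟨n, rfl⟩, rfl⟩, ⟨y ^ n * z, hn⟩, ?_⟩
      change z * ((⟨y, ⟨h.yA, h.yB⟩⟩ : ↥(A ⊓ B)) ^ n : ↥(A ⊓ B)).1 = y ^ n * z
      simp only [Subring.coe_pow]
      ring
  have hP : Algebra.IsPushout ↥(A ⊓ B) A B K :=
    Algebra.isPushout_of_isLocalization
      (Submonoid.powers (⟨y, ⟨h.yA, h.yB⟩⟩ : ↥(A ⊓ B))) B A K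
  exact CommRingCat.isPushout_of_isPushout ↥(A ⊓ B) A B K

theorem main (h : GlueData A B x y) :
    IsOpenImmersion (Spec.map (CommRingCat.ofHom
      (Subring.inclusion (inf_le_left : A ⊓ B ≤ A)))) ∧
    IsOpenImmersion (Spec.map (CommRingCat.ofHom
      (Subring.inclusion (inf_le_right : A ⊓ B ≤ B)))) ∧
    Set.range (Spec.map (CommRingCat.ofHom
      (Subring.inclusion (inf_le_left : A ⊓ B ≤ A)))).base ∪
    Set.range (Spec.map (CommRingCat.ofHom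
      (Subring.inclusion (inf_le_right : A ⊓ B ≤ B)))).base = Set.univ ∧
    IsPushout (CommRingCat.ofHom (Subring.inclusion (inf_le_left : A ⊓ B ≤ A)))
      (CommRingCat.ofHom (Subring.inclusion (inf_le_right : A ⊓ B ≤ B)))
      (CommRingCat.ofHom A.subtype) (CommRingCat.ofHom B.subtype) :=
  ⟨h.isOpenImmersionA, h.isOpenImmersionB, h.range_union, h.isPushout⟩

end GlueData

theorem inv_one_add_inv {j : K} (hj0 : j ≠ 0) (h1 : 1 + j ≠ 0) :
    (1 + j⁻¹)⁻¹ = j * (1 + j)⁻¹ := by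
  have h2 : j + 1 ≠ 0 := by rwa [add_comm]
  field_simp
  ring

/-- Key construction: a unit `x` of `A` lying in the Jacobson radical of `B` yields glueing data. -/
theorem exists_glueData (A B : Subring K) [IsFractionRing A K] [IsFractionRing B K]
    [Ring.KrullDimLE 1 A] [Ring.KrullDimLE 1 B]
    (a : A) (ha : a ∈ Ideal.jacobson (⊥ : Ideal A)) (ha0 : a ≠ 0)
    (x : K) (hx0 : x ≠ 0) (hxA : x ∈ A) (hxiA : x⁻¹ ∈ A) (hxB : x ∈ B)
    (hxJ : (⟨x, hxB⟩ : B) ∈ Ideal.jacobson (⊥ : Ideal B)) :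
    ∃ y : K, GlueData A B x y := by
  have haK : (a : K) ≠ 0 := fun h => ha0 (Subtype.ext h)
  have powB : ∀ z : K, ∃ n : ℕ, x ^ n * z ∈ B := fun z => exists_pow_mul_mem B ⟨x, hxB⟩ hxJ z
  obtain ⟨M, hM⟩ := powB (a : K)⁻¹
  -- j = a * x^{-(M+1)}
  set j : K := (a : K) * (x⁻¹) ^ (M + 1) with hj
  have hj0 : j ≠ 0 := mul_ne_zero haK (pow_ne_zero _ (inv_ne_zero hx0))
  have hjA : j ∈ A := A.mul_mem a.2 (A.pow_mem hxiA _)
  have hjJ : (⟨j, hjA⟩ : A) ∈ Ideal.jacobson (⊥ : Ideal A) := by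
    have : (⟨j, hjA⟩ : A) = a * (⟨x⁻¹, hxiA⟩ : A) ^ (M + 1) := Subtype.ext (by simp [hj])
    rw [this]
    exact Ideal.mul_mem_right _ _ ha
  have hjiB : j⁻¹ ∈ B := by
    have : j⁻¹ = x * (x ^ M * (a : K)⁻¹) := by
      rw [hj, mul_inv, ← inv_pow, inv_inv, pow_succ]; ring
    rw [this]
    exact B.mul_mem hxB hM
  have hjiJ : (⟨j⁻¹, hjiB⟩ : B) ∈ Ideal.jacobson (⊥ : Ideal B) := by
    have : (⟨j⁻¹, hjiB⟩ : B) = (⟨x, hxB⟩ : B) * ⟨x ^ M * (a : K)⁻¹, hM⟩ := by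
      apply Subtype.ext
      simp only [Subring.coe_mul]
      rw [hj, mul_inv, ← inv_pow, inv_inv, pow_succ]; ring
    rw [this]
    exact Ideal.mul_mem_right _ _ hxJ
  -- 1 + j is a unit of A, 1 + j⁻¹ is a unit of B
  obtain ⟨h1j0, h1jA⟩ := unit_add_jacobson A 1 (by simp) one_ne_zero j hjA hjJ
  obtain ⟨h1ji0, h1jiB⟩ := unit_add_jacobson B 1 (by simp) one_ne_zero j⁻¹ hjiB hjiJ
  -- y = (1 + j⁻¹)⁻¹ = j * (1 + j)⁻¹
  have hy_eq : (1 + j⁻¹)⁻¹ = j * (1 + j)⁻¹ := inv_one_add_inv hj0 h1j0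
  set y : K := (1 + j⁻¹)⁻¹ with hy
  have hy0 : y ≠ 0 := inv_ne_zero h1ji0
  have hyA : y ∈ A := by rw [hy_eq]; exact A.mul_mem hjA h1jA
  have hyJ : (⟨y, hyA⟩ : A) ∈ Ideal.jacobson (⊥ : Ideal A) := by
    have : (⟨y, hyA⟩ : A) = (⟨j, hjA⟩ : A) * ⟨(1 + j)⁻¹, h1jA⟩ :=
      Subtype.ext (by simp only [Subring.coe_mul]; rw [hy_eq])
    rw [this]
    exact Ideal.mul_mem_right _ _ hjJ
  have hyB : y ∈ B := h1jiB
  have hyiB : y⁻¹ ∈ B := by
    rw [hy, inv_inv]; exact B.add_mem B.one_mem hjiB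
  obtain ⟨hs0, hsA⟩ := unit_add_jacobson A x hxiA hx0 y hyA hyJ
  obtain ⟨hs0', hsB⟩ := unit_add_jacobson B y hyiB hy0 x hxB hxJ
  refine ⟨y, ⟨hx0, hy0, hxA, hxB, hxiA, hyA, hyB, hyiB, powB,
    fun z => exists_pow_mul_mem A ⟨y, hyA⟩ hyJ z, hs0, hsA, ?_⟩⟩
  rw [add_comm]; exact hsB

end Groth.Agent.Lib.Helper13.Glue
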