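import Groth.Agent.Lib.Helper13.GlueSemiLocal

set_option autoImplicit false
universe u

namespace Groth.Agent.Lib.Helper13.Glue

variable {K : Type u} [Field K]

/-- prime correspondence for a subring localization `A = R[1/x]` -/
theorem exists_prime_over (R A : Subring K) (h : R ≤ A) (x : K) (hxR : x ∈ R)
    (away : @IsLocalization.Away R _ ⟨x, hxR⟩ A _ (Subring.inclusion h).toAlgebra)
    (P : Ideal R) (hP : P.IsPrime) (hxP : (⟨x, hxR⟩ : R) ∉ P) :
    ∃ Q : Ideal A, Q.IsPrime ∧ Q.comap (Subring.inclusion h) = P := by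
  let _ : Algebra R A := (Subring.inclusion h).toAlgebra
  have hd : Disjoint (Submonoid.powers (⟨x, hxR⟩ : R) : Set R) ↑P :=
    (Ideal.disjoint_powers_iff_notMem_of_isPrime _).mpr hxP
  exact ⟨Ideal.map (algebraMap R A) P,
    IsLocalization.isPrime_of_isPrime_disjoint (Submonoid.powers (⟨x, hxR⟩ : R)) A P hP hd,
    IsLocalization.under_map_of_isPrime_disjoint (Submonoid.powers (⟨x, hxR⟩ : R)) A hP hd⟩

/-- the subring `C[1/x]` of `K` -/
def awaySubring (C : Subring K) (x : K) (hx : x ∈ C) : Subring K where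
  carrier := {z | ∃ n : ℕ, x ^ n * z ∈ C}
  mul_mem' := by
    rintro a b ⟨n, hn⟩ ⟨m, hm⟩
    refine ⟨n + m, ?_⟩
    have : x ^ (n + m) * (a * b) = (x ^ n * a) * (x ^ m * b) := by rw [pow_add]; ring
    rw [this]; exact C.mul_mem hn hm
  one_mem' := ⟨0, by simp [C.one_mem]⟩
  add_mem' := by
    rintro a b ⟨n, hn⟩ ⟨m, hm⟩
    refine ⟨n + m, ?_⟩
    have : x ^ (n + m) * (a + b) = x ^ m * (x ^ n * a) + x ^ n * (x ^ m * b) := by
      rw [pow_add]; ring
    rw [this]
    exact C.add_mem (C.mul_mem (C.pow_mem hx m) hn) (C.mul_mem (C.pow_mem hx n) hm)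
  zero_mem' := ⟨0, by simp [C.zero_mem]⟩
  neg_mem' := by
    rintro a ⟨n, hn⟩
    exact ⟨n, by rw [mul_neg]; exact C.neg_mem hn⟩

section fam

variable {ι : Type*} (A : ι → Subring K)

/-- the inductive invariant: `R = ⋂_{i ∈ S} A i` with `A i = R[1/x i]` -/
structure Fam (S : Finset ι) (R : Subring K) (x : ι → K) : Prop where
  le : ∀ i ∈ S, R ≤ A i
  ge : ∀ z, (∀ i ∈ S, z ∈ A i) → z ∈ R
  xR : ∀ i ∈ S, x i ∈ R
  x0 : ∀ i ∈ S, x i ≠ 0
  xi : ∀ i ∈ S, (x i)⁻¹ ∈ A i
  pow : ∀ i ∈ S, ∀ α ∈ A i, ∃ n : ℕ, (x i) ^ n * α ∈ R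
  cover : ∀ P : Ideal R, P.IsPrime → ∃ i, ∃ hi : i ∈ S, (⟨x i, xR i hi⟩ : R) ∉ P
  pole : ∀ i ∈ S, ∀ j ∈ S, i ≠ j → ∀ z : K, ∃ n : ℕ, (x j) ^ n * z ∈ A i

variable {A} {S : Finset ι} {R : Subring K} {x : ι → K}

namespace Fam

theorem away (h : Fam A S R x) (i : ι) (hi : i ∈ S) :
    @IsLocalization.Away R _ ⟨x i, h.xR i hi⟩ (A i) _ (Subring.inclusion (h.le i hi)).toAlgebra :=
  isLocalization_away_subring R (A i) (h.le i hi) (x i) (h.xR i hi) (h.x0 i hi) (h.xi i hi)
    (h.pow i hi)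

theorem isFractionRing (h : Fam A S R x) (i : ι) (hi : i ∈ S) [IsFractionRing (A i) K] :
    IsFractionRing R K := by
  refine (isLocalization_iff (nonZeroDivisors R) K).mpr ⟨?_, ?_, ?_⟩
  · intro y
    refine IsUnit.mk0 _ ?_
    intro h0
    exact nonZeroDivisors.ne_zero y.2 (Subtype.ext h0)
  · intro z
    obtain ⟨p, q, hq, rfl⟩ := IsFractionRing.div_surjective (A := A i) z
    have hq0 : (q : K) ≠ 0 := fun h0 => nonZeroDivisors.ne_zero hq (Subtype.ext h0)
    obtain ⟨n, hn⟩ := h.pow i hi p p.2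
    obtain ⟨m, hm⟩ := h.pow i hi q q.2
    have hx0 := h.x0 i hi
    have hxR := h.xR i hi
    refine ⟨(⟨x i ^ m * (x i ^ n * p), R.mul_mem (R.pow_mem hxR m) hn⟩,
      ⟨⟨x i ^ n * (x i ^ m * q), R.mul_mem (R.pow_mem hxR n) hm⟩, ?_⟩), ?_⟩
    · apply mem_nonZeroDivisors_of_ne_zero
      intro h0
      have := congrArg (fun z : R => (z : K)) h0
      simp only [Subring.coe_zero] at this
      exact mul_ne_zero (pow_ne_zero n hx0) (mul_ne_zero (pow_ne_zero m hx0) hq0) this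
    · change (p : K) / (q : K) * (x i ^ n * (x i ^ m * q)) = x i ^ m * (x i ^ n * p)
      field_simp
  · intro a b hab
    exact ⟨1, by rw [Subtype.ext hab]⟩

theorem krullDimLE_one (h : Fam A S R x) [∀ i, Ring.KrullDimLE 1 (A i)] :
    Ring.KrullDimLE 1 R := by
  apply Ring.KrullDimLE.mk₁'
  intro P hP0 hP
  obtain ⟨M, hM, hPM⟩ := Ideal.exists_le_maximal P hP.ne_top
  obtain ⟨i, hi, hxM⟩ := h.cover M hM.isPrime
  have hxP : (⟨x i, h.xR i hi⟩ : R) ∉ P := fun hx => hxM (hPM hx)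
  obtain ⟨Q, hQ, hQP⟩ := exists_prime_over R (A i) (h.le i hi) (x i) (h.xR i hi) (h.away i hi)
    P hP hxP
  obtain ⟨N, hN, hNM⟩ := exists_prime_over R (A i) (h.le i hi) (x i) (h.xR i hi) (h.away i hi)
    M hM.isPrime hxM
  have hinj := Subring.inclusion_injective (h.le i hi)
  have hQ0 : Q ≠ ⊥ := by
    intro hb
    apply hP0
    rw [← hQP, hb]
    ext t
    rw [Ideal.mem_comap, Ideal.mem_bot, Ideal.mem_bot]
    constructor
    · intro ht; exact hinj (by rw [map_zero]; exact ht)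
    · intro ht; rw [ht]; exact map_zero _
  have hQmax : Q.IsMaximal := hQ.isMaximal_of_ne_bot hQ0
  -- Q ≤ N : both are the extensions; use contraction and the localization
  have hQN : Q ≤ N := by
    let _ : Algebra R (A i) := (Subring.inclusion (h.le i hi)).toAlgebra
    have := h.away i hi
    have e1 : Q = Ideal.map (algebraMap R (A i)) P := by
      rw [← hQP]
      exact (IsLocalization.map_comap (Submonoid.powers (⟨x i, h.xR i hi⟩ : R)) (A i) Q).symm
    have e2 : N = Ideal.map (algebraMap R (A i)) M := by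
      rw [← hNM]
      exact (IsLocalization.map_comap (Submonoid.powers (⟨x i, h.xR i hi⟩ : R)) (A i) N).symm
    rw [e1, e2]
    exact Ideal.map_mono hPM
  have hQN' : Q = N := hQmax.eq_of_le hN.ne_top hQN
  have : P = M := by rw [← hQP, ← hNM, hQN']
  rw [this]; exact hM

theorem not_isField (h : Fam A S R x) (i : ι) (hi : i ∈ S) (hnf : ¬ IsField (A i)) :
    ¬ IsField R := by
  intro hf
  apply hnf
  have hxR := h.xR i hi
  have hx0 := h.x0 i hi
  obtain ⟨w, hw⟩ := hf.mul_inv_cancel (a := ⟨x i, hxR⟩) (fun h0 => hx0 (congrArg Subtype.val h0))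
  have hwK : x i * (w : K) = 1 := by
    have := congrArg (fun z : R => (z : K)) hw
    simpa using this
  have hwinv : (w : K) = (x i)⁻¹ := eq_inv_of_mul_eq_one_right hwK
  have hle : A i ≤ R := by
    intro α hα
    obtain ⟨n, hn⟩ := h.pow i hi α hα
    have : α = (w : K) ^ n * (x i ^ n * α) := by
      rw [hwinv, inv_pow]; field_simp
    rw [this]
    exact R.mul_mem (R.pow_mem w.2 n) hn
  have heq : R = A i := le_antisymm (h.le i hi) hle
  rw [← heq]; exact hf

theorem finite_primeSpectrum (h : Fam A S R x) (hfin : ∀ i, Finite (PrimeSpectrum (A i))) :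
    Finite (PrimeSpectrum R) := by
  classical
  have hcov : (Set.univ : Set (PrimeSpectrum R)) ⊆
      ⋃ i : S, Set.range (PrimeSpectrum.comap (Subring.inclusion (h.le i.1 i.2))) := by
    intro P _
    obtain ⟨i, hi, hxP⟩ := h.cover P.asIdeal P.2
    obtain ⟨Q, hQ, hQP⟩ := exists_prime_over R (A i) (h.le i hi) (x i) (h.xR i hi) (h.away i hi)
      P.asIdeal P.2 hxP
    rw [Set.mem_iUnion]
    exact ⟨⟨i, hi⟩, ⟨⟨Q, hQ⟩, PrimeSpectrum.ext hQP⟩⟩
  have hfinU : (⋃ i : S, Set.range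
      (PrimeSpectrum.comap (Subring.inclusion (h.le i.1 i.2)))).Finite :=
    Set.finite_iUnion (fun i => Set.finite_range _)
  exact Set.finite_univ_iff.mp (hfinU.subset hcov)

theorem sup_eq_top (h : Fam A S R x) (i₀ : ι) (hi₀ : i₀ ∈ S) [IsFractionRing (A i₀) K]
    (B : Subring K) (hgen : ∀ i ∈ S, A i ⊔ B = ⊤) : R ⊔ B = ⊤ := by
  by_contra hne
  have hRf : IsFractionRing R K := h.isFractionRing i₀ hi₀
  have hRC : R ≤ R ⊔ B := le_sup_left
  have hBC : B ≤ R ⊔ B := le_sup_right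
  have hnf : ¬ IsField ↥(R ⊔ B) := by
    intro hf
    apply hne
    rw [eq_top_iff]
    intro z _
    obtain ⟨p, q, hq, rfl⟩ := IsFractionRing.div_surjective (A := R) z
    have hq0 : (q : K) ≠ 0 := fun h0 => nonZeroDivisors.ne_zero hq (Subtype.ext h0)
    obtain ⟨w, hw⟩ := hf.mul_inv_cancel (a := ⟨(q : K), hRC q.2⟩)
      (fun h0 => hq0 (congrArg Subtype.val h0))
    have hwK : (q : K) * (w : K) = 1 := by
      have := congrArg (fun z : ↥(R ⊔ B) => (z : K)) hw
      simpa using this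
    have hwinv : (w : K) = ((q : K))⁻¹ := eq_inv_of_mul_eq_one_right hwK
    change (p : K) / (q : K) ∈ R ⊔ B
    rw [div_eq_mul_inv, ← hwinv]
    exact Subring.mul_mem _ (hRC p.2) w.2
  obtain ⟨M, hM⟩ := Ideal.exists_maximal ↥(R ⊔ B)
  have hM0 : M ≠ ⊥ := Ring.ne_bot_of_isMaximal_of_not_isField hM hnf
  have hmprime : (M.comap (Subring.inclusion hRC)).IsPrime := Ideal.comap_isPrime _ _
  obtain ⟨i, hi, hxm⟩ := h.cover _ hmprime
  have hxC : x i ∈ R ⊔ B := hRC (h.xR i hi)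
  have hxM : (⟨x i, hxC⟩ : ↥(R ⊔ B)) ∉ M := fun hx => hxm (Ideal.mem_comap.mpr hx)
  have hAD : A i ≤ awaySubring (R ⊔ B) (x i) hxC := by
    intro α hα
    obtain ⟨n, hn⟩ := h.pow i hi α hα
    exact ⟨n, hRC hn⟩
  have hBD : B ≤ awaySubring (R ⊔ B) (x i) hxC := by
    intro β hβ
    exact ⟨0, by simpa using hBC hβ⟩
  have htop : (⊤ : Subring K) ≤ awaySubring (R ⊔ B) (x i) hxC := by
    rw [← hgen i hi]; exact sup_le hAD hBD
  obtain ⟨π, hπM, hπ0⟩ := Submodule.exists_mem_ne_zero_of_ne_bot hM0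
  have hπK : (π : K) ≠ 0 := fun h0 => hπ0 (Subtype.ext h0)
  obtain ⟨n, hn⟩ := htop (Subring.mem_top ((π : K))⁻¹)
  have hpow : (⟨x i, hxC⟩ : ↥(R ⊔ B)) ^ n ∈ M := by
    have : (⟨x i, hxC⟩ : ↥(R ⊔ B)) ^ n = ⟨x i ^ n * ((π : K))⁻¹, hn⟩ * π := by
      apply Subtype.ext
      simp only [Subring.coe_pow, Subring.coe_mul]
      field_simp
    rw [this]
    exact M.mul_mem_left _ hπM
  exact hxM (hM.isPrime.mem_of_pow_mem n hpow)

theorem singleton (A : ι → Subring K) (i : ι) : Fam A {i} (A i) (fun _ => 1) where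
  le := fun j hj => by rw [Finset.mem_singleton.mp hj]
  ge := fun z hz => hz i (Finset.mem_singleton_self i)
  xR := fun _ _ => (A i).one_mem
  x0 := fun _ _ => one_ne_zero
  xi := fun j _ => by simp [(A j).one_mem]
  pow := fun j hj α hα => ⟨0, by
    rw [Finset.mem_singleton.mp hj] at hα
    simpa using hα⟩
  cover := fun P hP => ⟨i, Finset.mem_singleton_self i, fun h1 => hP.ne_top
    ((Ideal.eq_top_iff_one P).mpr h1)⟩
  pole := fun a ha b hb hab => by
    rw [Finset.mem_singleton.mp ha, Finset.mem_singleton.mp hb] at hab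
    exact absurd rfl hab

theorem step [DecidableEq ι] (h : Fam A S R x) (k : ι) (hk : k ∉ S) (x₀ y₀ : K)
    (hG : GlueData R (A k) x₀ y₀) : ∃ x' : ι → K, Fam A (insert k S) (R ⊓ A k) x' := by
  choose n hn using fun i => hG.powB (x i)
  have hne : ∀ i ∈ S, i ≠ k := fun i hi hik => hk (hik ▸ hi)
  have hx₀R : x₀ ∈ R := hG.xA
  have hx₀k : x₀ ∈ A k := hG.xB
  obtain ⟨x', hval_k, hval⟩ : ∃ x' : ι → K, x' k = y₀ ∧
      ∀ i ∈ S, x' i = x₀ ^ (n i + 1) * x i :=
    ⟨fun i => if i = k then y₀ else x₀ ^ (n i + 1) * x i, if_pos rfl,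
      fun i hi => if_neg (hne i hi)⟩
  refine ⟨x', ?_⟩
  have hxR' : ∀ i ∈ insert k S, x' i ∈ R ⊓ A k := by
    intro i hi
    rcases Finset.mem_insert.mp hi with rfl | hiS
    · rw [hval_k]; exact ⟨hG.yA, hG.yB⟩
    · rw [hval i hiS]
      refine ⟨R.mul_mem (R.pow_mem hx₀R _) (h.xR i hiS), ?_⟩
      have : x₀ ^ (n i + 1) * x i = x₀ * (x₀ ^ n i * x i) := by rw [pow_succ]; ring
      rw [this]
      exact (A k).mul_mem hx₀k (hn i)
  refine ⟨?_, ?_, hxR', ?_, ?_, ?_, ?_, ?_⟩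
  · -- le
    intro i hi
    rcases Finset.mem_insert.mp hi with rfl | hiS
    · exact inf_le_right
    · exact inf_le_left.trans (h.le i hiS)
  · -- ge
    intro z hz
    exact ⟨h.ge z (fun i hi => hz i (Finset.mem_insert_of_mem hi)),
      hz k (Finset.mem_insert_self k S)⟩
  · -- x0
    intro i hi
    rcases Finset.mem_insert.mp hi with rfl | hiS
    · rw [hval_k]; exact hG.y0
    · rw [hval i hiS]; exact mul_ne_zero (pow_ne_zero _ hG.x0) (h.x0 i hiS)
  · -- xi
    intro i hi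
    rcases Finset.mem_insert.mp hi with rfl | hiS
    · rw [hval_k]; exact hG.yiB
    · rw [hval i hiS, mul_inv, ← inv_pow]
      exact (A i).mul_mem ((A i).pow_mem (h.le i hiS hG.xiA) _) (h.xi i hiS)
  · -- pow
    intro i hi α hα
    rcases Finset.mem_insert.mp hi with rfl | hiS
    · rw [hval_k]
      obtain ⟨m, hm⟩ := hG.powA α
      exact ⟨m, hm, (A i).mul_mem ((A i).pow_mem hG.yB m) hα⟩
    · rw [hval i hiS]
      obtain ⟨a, ha⟩ := h.pow i hiS α hα
      obtain ⟨b, hb⟩ := hG.powB α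
      refine ⟨a + b, ?_, ?_⟩
      · have : (x₀ ^ (n i + 1) * x i) ^ (a + b) * α =
            (x₀ ^ (n i + 1)) ^ (a + b) * x i ^ b * (x i ^ a * α) := by
          rw [mul_pow, pow_add (x i)]; ring
        rw [this]
        exact R.mul_mem (R.mul_mem (R.pow_mem (R.pow_mem hx₀R _) _) (R.pow_mem (h.xR i hiS) _)) ha
      · have : (x₀ ^ (n i + 1) * x i) ^ (a + b) * α =
            (x₀ ^ n i * x i) ^ (a + b) * x₀ ^ a * (x₀ ^ b * α) := by
          rw [mul_pow, mul_pow, pow_succ, mul_pow, pow_add x₀ a b]; ring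
        rw [this]
        exact (A k).mul_mem ((A k).mul_mem ((A k).pow_mem (hn i) _) ((A k).pow_mem hx₀k _)) hb
  · -- cover
    intro P hP
    by_contra hcon
    push Not at hcon
    have hyP : (⟨y₀, ⟨hG.yA, hG.yB⟩⟩ : ↥(R ⊓ A k)) ∈ P := by
      have := hcon k (Finset.mem_insert_self k S)
      simpa only [hval_k] using this
    have hxP : (⟨x₀, ⟨hG.xA, hG.xB⟩⟩ : ↥(R ⊓ A k)) ∉ P := by
      intro hx
      have h3 : (⟨x₀ + y₀, ⟨R.add_mem hG.xA hG.yA, (A k).add_mem hG.xB hG.yB⟩⟩ :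
          ↥(R ⊓ A k)) ∈ P := P.add_mem hx hyP
      have h4 := P.mul_mem_left (⟨(x₀ + y₀)⁻¹, ⟨hG.sA, hG.sB⟩⟩ : ↥(R ⊓ A k)) h3
      have h5 : (⟨(x₀ + y₀)⁻¹, ⟨hG.sA, hG.sB⟩⟩ : ↥(R ⊓ A k)) *
          ⟨x₀ + y₀, ⟨R.add_mem hG.xA hG.yA, (A k).add_mem hG.xB hG.yB⟩⟩ = 1 := by
        apply Subtype.ext
        simp only [Subring.coe_mul, Subring.coe_one]
        exact inv_mul_cancel₀ hG.s0
      rw [h5] at h4
      exact hP.ne_top ((Ideal.eq_top_iff_one _).mpr h4)
    obtain ⟨Q, hQ, hQP⟩ := exists_prime_over (R ⊓ A k) R inf_le_left x₀ ⟨hG.xA, hG.xB⟩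
      hG.awayA P hP hxP
    obtain ⟨i, hiS, hxQ⟩ := h.cover Q hQ
    have hmem := hcon i (Finset.mem_insert_of_mem hiS)
    have hmemQ : (⟨x₀ ^ (n i + 1) * x i, R.mul_mem (R.pow_mem hx₀R _) (h.xR i hiS)⟩ : R) ∈ Q := by
      rw [← hQP, Ideal.mem_comap] at hmem
      convert hmem using 1
      apply Subtype.ext
      change x₀ ^ (n i + 1) * x i = x' i
      rw [hval i hiS]
    have hsplit : (⟨x₀ ^ (n i + 1) * x i, R.mul_mem (R.pow_mem hx₀R _) (h.xR i hiS)⟩ : R) =
        (⟨x₀, hx₀R⟩ : R) ^ (n i + 1) * ⟨x i, h.xR i hiS⟩ := Subtype.ext (by simp)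
    rw [hsplit] at hmemQ
    rcases hQ.mem_or_mem hmemQ with h1 | h1
    · have h2 := hQ.mem_of_pow_mem _ h1
      apply hxP
      rw [← hQP, Ideal.mem_comap]
      exact h2
    · exact hxQ h1
  · -- pole
    intro i hi j hj hij z
    rcases Finset.mem_insert.mp hj with rfl | hjS
    · -- j = k, so i ∈ S
      rcases Finset.mem_insert.mp hi with rfl | hiS
      · exact absurd rfl hij
      · rw [hval_k]
        obtain ⟨m, hm⟩ := hG.powA z
        exact ⟨m, h.le i hiS hm⟩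
    · rw [hval j hjS]
      rcases Finset.mem_insert.mp hi with rfl | hiS
      · -- i = k
        obtain ⟨m, hm⟩ := hG.powB z
        refine ⟨m, ?_⟩
        have : (x₀ ^ (n j + 1) * x j) ^ m * z = (x₀ ^ n j * x j) ^ m * (x₀ ^ m * z) := by
          rw [pow_succ, mul_pow, mul_pow, mul_pow]; ring
        rw [this]
        exact (A i).mul_mem ((A i).pow_mem (hn j) _) hm
      · obtain ⟨m, hm⟩ := h.pole i hiS j hjS hij z
        refine ⟨m, ?_⟩
        have : (x₀ ^ (n j + 1) * x j) ^ m * z = (x₀ ^ (n j + 1)) ^ m * (x j ^ m * z) := by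
          rw [mul_pow]; ring
        rw [this]
        exact (A i).mul_mem ((A i).pow_mem ((A i).pow_mem (h.le i hiS hx₀R) _) _) hm

end Fam

end fam

theorem ringKrullDim_eq_one_of (R : Type*) [CommRing R] [IsDomain R] [Ring.KrullDimLE 1 R]
    (h : ¬ IsField R) : ringKrullDim R = 1 := by
  apply eq_of_le_of_not_lt ?_ fun h' ↦ h ?_
  · rw [← Nat.cast_one, ← Ring.krullDimLE_iff]; infer_instance
  · have h'' : ringKrullDim R ≤ 0 := Order.le_of_lt_succ h'
    rw [← Nat.cast_zero, ← Ring.krullDimLE_iff] at h''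
    exact Ring.KrullDimLE.isField_of_isDomain

theorem finite_primeSpectrum_of_finite_maximalSpectrum (R : Type*) [CommRing R] [IsDomain R]
    [Ring.KrullDimLE 1 R] [Finite (MaximalSpectrum R)] : Finite (PrimeSpectrum R) := by
  classical
  let f : PrimeSpectrum R → Option (MaximalSpectrum R) := fun p =>
    if h : p.asIdeal = ⊥ then none else some ⟨p.asIdeal, p.2.isMaximal_of_ne_bot h⟩
  refine Finite.of_injective f ?_
  intro p q hpq
  by_cases hp : p.asIdeal = ⊥
  · by_cases hq : q.asIdeal = ⊥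
    · exact PrimeSpectrum.ext (hp.trans hq.symm)
    · simp only [f, dif_pos hp, dif_neg hq] at hpq
      exact absurd hpq (by simp)
  · by_cases hq : q.asIdeal = ⊥
    · simp only [f, dif_neg hp, dif_pos hq] at hpq
      exact absurd hpq (by simp)
    · simp only [f, dif_neg hp, dif_neg hq, Option.some.injEq, MaximalSpectrum.mk.injEq] at hpq
      exact PrimeSpectrum.ext hpq

section induction

variable {ι : Type*} [DecidableEq ι] (A : ι → Subring K) [∀ i, IsFractionRing (A i) K]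
  [∀ i, IsNoetherianRing (A i)] [∀ i, Ring.KrullDimLE 1 (A i)]

theorem exists_fam (hfin : ∀ i, Finite (MaximalSpectrum (A i))) (hnf : ∀ i, ¬ IsField (A i))
    (hgen : ∀ i j, i ≠ j → A i ⊔ A j = ⊤) (S : Finset ι) (hS : S.Nonempty) :
    ∃ (R : Subring K) (x : ι → K), Fam A S R x := by
  have hfinP : ∀ i, Finite (PrimeSpectrum (A i)) := fun i =>
    finite_primeSpectrum_of_finite_maximalSpectrum (A i)
  induction hS using Finset.Nonempty.cons_induction with
  | singleton i => exact ⟨A i, fun _ => 1, Fam.singleton A i⟩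
  | cons k S hk hS ih =>
    obtain ⟨R, x, h⟩ := ih
    obtain ⟨i₀, hi₀⟩ := hS
    have hRf : IsFractionRing R K := h.isFractionRing i₀ hi₀
    have hRd : Ring.KrullDimLE 1 R := h.krullDimLE_one
    have hRp : Finite (PrimeSpectrum R) := h.finite_primeSpectrum hfinP
    have hRm : Finite (MaximalSpectrum R) :=
      Finite.of_injective _ MaximalSpectrum.toPrimeSpectrum_injective
    have hRnf : ¬ IsField R := h.not_isField i₀ hi₀ (hnf i₀)
    have hsup : R ⊔ A k = ⊤ := h.sup_eq_top i₀ hi₀ (A k)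
      (fun i hi => hgen i k (fun hik => hk (hik ▸ hi)))
    have := hfin k
    obtain ⟨x₀, y₀, hG⟩ := exists_glueData_of_sup_eq_top R (A k) hRnf (hnf k) hsup
    obtain ⟨x', h'⟩ := h.step k hk x₀ y₀ hG
    rw [Finset.cons_eq_insert]
    exact ⟨R ⊓ A k, x', h'⟩

open CategoryTheory CategoryTheory.Limits AlgebraicGeometry in
theorem main_family {ι : Type} [Fintype ι] [Nonempty ι] (A : ι → Subring K)
    [∀ i, IsFractionRing (A i) K] [∀ i, IsNoetherianRing (A i)]
    (hdim : ∀ i, ringKrullDim (A i) = 1)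
    (hfin : ∀ i, Finite (MaximalSpectrum (A i)))
    (hgen : ∀ i j, i ≠ j → A i ⊔ A j = ⊤) :
    IsNoetherianRing ↥(⨅ i, A i) ∧ ringKrullDim ↥(⨅ i, A i) = 1 ∧
      Finite (MaximalSpectrum ↥(⨅ i, A i)) ∧ IsFractionRing ↥(⨅ i, A i) K ∧
      (∀ i, IsOpenImmersion (Spec.map (CommRingCat.ofHom
        (Subring.inclusion (iInf_le A i))))) ∧
      (⋃ i, Set.range (Spec.map (CommRingCat.ofHom
        (Subring.inclusion (iInf_le A i)))).base) = Set.univ ∧
      (∀ m : PrimeSpectrum ↥(⨅ i, A i), m.asIdeal.IsMaximal →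
        ∃! i, m ∈ Set.range (Spec.map (CommRingCat.ofHom
          (Subring.inclusion (iInf_le A i)))).base) := by
  classical
  have hK1 : ∀ i, Ring.KrullDimLE 1 (A i) := fun i =>
    Ring.krullDimLE_iff.mpr (by rw [hdim i]; exact le_rfl)
  have hnf : ∀ i, ¬ IsField (A i) := fun i hf => by
    have := ringKrullDim_eq_zero_of_isField hf
    rw [hdim i] at this
    exact one_ne_zero this
  obtain ⟨R, x, h⟩ := exists_fam A hfin hnf hgen Finset.univ Finset.univ_nonempty
  have hR : R = ⨅ i, A i := le_antisymm (le_iInf fun i => h.le i (Finset.mem_univ i))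
    (fun z hz => h.ge z (fun i _ => (Subring.mem_iInf.mp hz) i))
  subst hR
  have i₀ : ι := Classical.arbitrary ι
  have hRf : IsFractionRing ↥(⨅ i, A i) K := h.isFractionRing i₀ (Finset.mem_univ _)
  have hRd : Ring.KrullDimLE 1 ↥(⨅ i, A i) := h.krullDimLE_one
  have hfinP : ∀ i, Finite (PrimeSpectrum (A i)) := fun i =>
    finite_primeSpectrum_of_finite_maximalSpectrum (A i)
  have hRp : Finite (PrimeSpectrum ↥(⨅ i, A i)) := h.finite_primeSpectrum hfinP
  have hRnf : ¬ IsField ↥(⨅ i, A i) := h.not_isField i₀ (Finset.mem_univ _) (hnf i₀)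
  have hxR : ∀ i, x i ∈ ⨅ i, A i := fun i => h.xR i (Finset.mem_univ i)
  have haway : ∀ i, @IsLocalization.Away ↥(⨅ i, A i) _ ⟨x i, hxR i⟩ (A i) _
      (Subring.inclusion (iInf_le A i)).toAlgebra := fun i => h.away i (Finset.mem_univ i)
  have hrange : ∀ i, Set.range (Spec.map (CommRingCat.ofHom
      (Subring.inclusion (iInf_le A i)))).base =
      (PrimeSpectrum.basicOpen (⟨x i, hxR i⟩ : ↥(⨅ i, A i)) :
        Set (PrimeSpectrum ↥(⨅ i, A i))) := by
    intro i
    let _ : Algebra ↥(⨅ i, A i) (A i) := (Subring.inclusion (iInf_le A i)).toAlgebra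
    have := haway i
    exact PrimeSpectrum.localization_away_comap_range (A i) (⟨x i, hxR i⟩ : ↥(⨅ i, A i))
  refine ⟨?_, ringKrullDim_eq_one_of _ hRnf,
    Finite.of_injective _ MaximalSpectrum.toPrimeSpectrum_injective, hRf, ?_, ?_, ?_⟩
  · -- noetherian
    let s : Finset ↥(⨅ i, A i) :=
      Finset.univ.image (fun i => (⟨x i, hxR i⟩ : ↥(⨅ i, A i)))
    have hspan : Ideal.span (s : Set ↥(⨅ i, A i)) = ⊤ := by
      by_contra hne
      obtain ⟨M, hM, hle⟩ := Ideal.exists_le_maximal _ hne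
      obtain ⟨i, hi, hxM⟩ := h.cover M hM.isPrime
      exact hxM (hle (Ideal.subset_span (Finset.mem_coe.mpr
        (Finset.mem_image_of_mem _ (Finset.mem_univ i)))))
    refine isNoetherianRing_of_away s hspan ?_
    rintro ⟨t, ht⟩
    obtain ⟨i, -, rfl⟩ := Finset.mem_image.mp ht
    let _ : Algebra ↥(⨅ i, A i) (A i) := (Subring.inclusion (iInf_le A i)).toAlgebra
    have := haway i
    exact isNoetherianRing_of_ringEquiv (A i)
      (IsLocalization.algEquiv (Submonoid.powers (⟨x i, hxR i⟩ : ↥(⨅ i, A i))) (A i)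
        (Localization.Away (⟨x i, hxR i⟩ : ↥(⨅ i, A i)))).toRingEquiv
  · -- open immersions
    intro i
    let _ : Algebra ↥(⨅ i, A i) (A i) := (Subring.inclusion (iInf_le A i)).toAlgebra
    have := haway i
    exact IsOpenImmersion.of_isLocalization (R := ↥(⨅ i, A i)) (S := A i) ⟨x i, hxR i⟩
  · -- cover
    rw [Set.eq_univ_iff_forall]
    intro P
    obtain ⟨i, hi, hxP⟩ := h.cover P.asIdeal P.2
    rw [Set.mem_iUnion]
    exact ⟨i, (Set.ext_iff.mp (hrange i) P).mpr hxP⟩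
  · -- exactly one
    intro m hm
    obtain ⟨i, hi, hxm⟩ := h.cover m.asIdeal m.2
    refine ⟨i, (Set.ext_iff.mp (hrange i) m).mpr hxm, ?_⟩
    intro j hj
    by_contra hji
    have hxjm : (⟨x j, hxR j⟩ : ↥(⨅ i, A i)) ∉ m.asIdeal := (Set.ext_iff.mp (hrange j) m).mp hj
    obtain ⟨Q, hQ, hQm⟩ := exists_prime_over (⨅ i, A i) (A i) (iInf_le A i) (x i) (hxR i)
      (haway i) m.asIdeal m.2 hxm
    have hm0 : m.asIdeal ≠ ⊥ := Ring.ne_bot_of_isMaximal_of_not_isField hm hRnf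
    have hQ0 : Q ≠ ⊥ := by
      intro hb
      apply hm0
      rw [← hQm, hb]
      ext t
      rw [Ideal.mem_comap, Ideal.mem_bot, Ideal.mem_bot]
      constructor
      · intro ht
        exact Subring.inclusion_injective (iInf_le A i) (by rw [map_zero]; exact ht)
      · intro ht; rw [ht]; exact map_zero _
    obtain ⟨p, hpQ, hp0⟩ := Submodule.exists_mem_ne_zero_of_ne_bot hQ0
    have hpK : (p : K) ≠ 0 := fun h0 => hp0 (Subtype.ext h0)
    obtain ⟨n, hn⟩ := h.pole i (Finset.mem_univ i) j (Finset.mem_univ j)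
      (fun hij => hji hij.symm) ((p : K))⁻¹
    have hxjA : x j ∈ A i := iInf_le A i (hxR j)
    have hpow : (⟨x j, hxjA⟩ : A i) ^ n ∈ Q := by
      have : (⟨x j, hxjA⟩ : A i) ^ n = ⟨x j ^ n * ((p : K))⁻¹, hn⟩ * p := by
        apply Subtype.ext
        simp only [Subring.coe_pow, Subring.coe_mul]
        field_simp
      rw [this]
      exact Q.mul_mem_left _ hpQ
    have hxjQ : (⟨x j, hxjA⟩ : A i) ∈ Q := hQ.mem_of_pow_mem n hpow
    apply hxjm
    rw [← hQm, Ideal.mem_comap]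
    exact hxjQ

end induction

end Groth.Agent.Lib.Helper13.Glue
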