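import Mathlib

/-!
# Gluing two schemes along an open and pullback squares

Pure scheme theory (no limits): pushouts of open immersions, a criterion for a commutative square
to be a pullback square that is local on the source (two pieces), and quasi-separatedness of a
scheme glued from two quasi-separated pieces along a quasi-compact open.
-/

set_option autoImplicit false
universe u

open CategoryTheory CategoryTheory.Limits AlgebraicGeometry TopologicalSpace Topology

namespace Groth.Agent.Lib.Helper13.LimModel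

section pushout

variable {T U V : Scheme.{u}} (ι₁ : T ⟶ U) (ι₂ : T ⟶ V) [IsOpenImmersion ι₁] [IsOpenImmersion ι₂]

instance span_isOpenImmersion {i j : WalkingSpan} (f : i ⟶ j) :
    IsOpenImmersion ((span ι₁ ι₂).map f) := by
  rcases f with _ | j
  · rw [WidePushoutShape.hom_id, CategoryTheory.Functor.map_id]; infer_instance
  · cases j with
    | left => exact inferInstanceAs (IsOpenImmersion ι₁)
    | right => exact inferInstanceAs (IsOpenImmersion ι₂)

instance hasPushout_of_isOpenImmersion : HasPushout ι₁ ι₂ :=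
  inferInstanceAs (HasColimit (span ι₁ ι₂))

instance inl_isOpenImmersion : IsOpenImmersion (pushout.inl ι₁ ι₂) :=
  inferInstanceAs (IsOpenImmersion (colimit.ι (span ι₁ ι₂) WalkingSpan.left))

instance inr_isOpenImmersion : IsOpenImmersion (pushout.inr ι₁ ι₂) :=
  inferInstanceAs (IsOpenImmersion (colimit.ι (span ι₁ ι₂) WalkingSpan.right))

theorem inl_eq_inr_iff (x : U) (y : V) :
    (pushout.inl ι₁ ι₂).base x = (pushout.inr ι₁ ι₂).base y ↔
      ∃ t : T, ι₁.base t = x ∧ ι₂.base t = y := by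
  constructor
  · intro h
    obtain ⟨k, fi, fj, t, h1, h2⟩ := (Scheme.IsLocallyDirected.ι_eq_ι_iff (F := span ι₁ ι₂)
      (i := WalkingSpan.left) (j := WalkingSpan.right) (xi := x) (xj := y)).mp h
    rcases fi with _ | j
    · rcases fj with _ | j'
    · rcases fj with _ | j'
      exact ⟨t, h1, h2⟩
  · rintro ⟨t, rfl, rfl⟩
    rw [← Scheme.Hom.comp_apply, ← Scheme.Hom.comp_apply, pushout.condition]

theorem inl_inr_jointly_surjective (x : (pushout ι₁ ι₂ : Scheme.{u})) :
    x ∈ Set.range (pushout.inl ι₁ ι₂).base ∨ x ∈ Set.range (pushout.inr ι₁ ι₂).base := by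
  obtain ⟨i, xi, rfl⟩ := Scheme.IsLocallyDirected.ι_jointly_surjective (span ι₁ ι₂) x
  rcases i with _ | _ | _
  · left
    refine ⟨ι₁.base xi, ?_⟩
    have := colimit.w (span ι₁ ι₂) WalkingSpan.Hom.fst
    change (ι₁ ≫ pushout.inl ι₁ ι₂).base xi = _
    exact congrArg (fun φ : T ⟶ pushout ι₁ ι₂ => φ.base xi) this
  · left; exact ⟨xi, rfl⟩
  · right; exact ⟨xi, rfl⟩

end pushout

section cover

variable {X U V : Scheme.{u}} (u : U ⟶ X) (v : V ⟶ X) [IsOpenImmersion u] [IsOpenImmersion v]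

/-- The open cover given by two jointly surjective open immersions. -/
noncomputable def coverOfTwo
    (hcov : ∀ x : X, x ∈ Set.range u.base ∨ x ∈ Set.range v.base) : X.OpenCover :=
  Scheme.Cover.mkOfCovers Bool (fun b => match b with | true => U | false => V)
    (fun b => match b with | true => u | false => v)
    (by
      intro x
      rcases hcov x with ⟨y, h⟩ | ⟨y, h⟩
      · exact ⟨true, y, h⟩
      · exact ⟨false, y, h⟩)
    (fun b => by
      rcases b with _ | _
      · exact inferInstanceAs (IsOpenImmersion v)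
      · exact inferInstanceAs (IsOpenImmersion u))

variable (hcov : ∀ x : X, x ∈ Set.range u.base ∨ x ∈ Set.range v.base)

include hcov in
theorem hom_ext_of_two {Y : Scheme.{u}} (a b : X ⟶ Y) (h1 : u ≫ a = u ≫ b) (h2 : v ≫ a = v ≫ b) :
    a = b := by
  apply (coverOfTwo u v hcov).hom_ext
  rintro (_ | _)
  · exact h2
  · exact h1

include hcov in
theorem exists_glue_of_two {Y : Scheme.{u}} (a : U ⟶ Y) (b : V ⟶ Y)
    (h : pullback.fst u v ≫ a = pullback.snd u v ≫ b) :
    ∃ g : X ⟶ Y, u ≫ g = a ∧ v ≫ g = b := by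
  let 𝒰 := coverOfTwo u v hcov
  let gW : ∀ b' : Bool, 𝒰.X b' ⟶ Y := fun b' => match b' with
    | true => a
    | false => b
  have hb' : ∀ (T : Scheme.{u}) (p : T ⟶ U) (q : T ⟶ V), p ≫ u = q ≫ v → p ≫ a = q ≫ b := by
    intro T p q hpq
    have h1 := congrArg (fun ξ => pullback.lift p q hpq ≫ ξ) h
    simpa only [pullback.lift_fst_assoc, pullback.lift_snd_assoc] using h1
  have hcompat : ∀ i j : Bool, pullback.fst (𝒰.f i) (𝒰.f j) ≫ gW i =
      pullback.snd (𝒰.f i) (𝒰.f j) ≫ gW j := by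
    intro i j
    have hc : pullback.fst (𝒰.f i) (𝒰.f j) ≫ 𝒰.f i = pullback.snd (𝒰.f i) (𝒰.f j) ≫ 𝒰.f j :=
      pullback.condition
    rcases i with _ | _ <;> rcases j with _ | _
    · have : pullback.fst (𝒰.f false) (𝒰.f false) = pullback.snd (𝒰.f false) (𝒰.f false) :=
        (cancel_mono v).mp hc
      rw [this]
    · exact (hb' _ _ _ hc.symm).symm
    · exact hb' _ _ _ hc
    · have : pullback.fst (𝒰.f true) (𝒰.f true) = pullback.snd (𝒰.f true) (𝒰.f true) :=
        (cancel_mono u).mp hc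
      rw [this]
  exact ⟨𝒰.glueMorphisms gW hcompat, 𝒰.ι_glueMorphisms gW hcompat true,
    𝒰.ι_glueMorphisms gW hcompat false⟩

end cover

section iso

/-- One piece of the target-local criterion for isomorphisms. -/
theorem isIso_snd_of_piece {X P Q U : Scheme.{u}} (θ : X ⟶ P) (j : Q ⟶ P) [IsOpenImmersion j]
    (u : U ⟶ X) [IsOpenImmersion u] (α : U ⟶ Q) [IsIso α] (hα : u ≫ θ = α ≫ j)
    (h : ∀ x : X, θ.base x ∈ Set.range j.base → x ∈ Set.range u.base) :
    IsIso (pullback.snd θ j) := by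
  let l : U ⟶ pullback θ j := pullback.lift u α hα
  have hl1 : l ≫ pullback.fst θ j = u := pullback.lift_fst _ _ _
  have hl2 : l ≫ pullback.snd θ j = α := pullback.lift_snd _ _ _
  haveI : IsOpenImmersion (l ≫ pullback.fst θ j) := by rw [hl1]; infer_instance
  haveI : IsOpenImmersion l := IsOpenImmersion.of_comp l (pullback.fst θ j)
  haveI : IsIso l := by
    apply isIso_of_isOpenImmersion_of_opensRange_eq_top
    rw [eq_top_iff]
    rintro z -
    have hz : θ.base ((pullback.fst θ j).base z) = j.base ((pullback.snd θ j).base z) := by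
      rw [← Scheme.Hom.comp_apply, ← Scheme.Hom.comp_apply, pullback.condition]
    obtain ⟨y, hy⟩ := h _ ⟨_, hz.symm⟩
    refine ⟨y, ?_⟩
    apply (pullback.fst θ j).isOpenEmbedding.injective
    rw [← Scheme.Hom.comp_apply, hl1, hy]
  have : pullback.snd θ j = inv l ≫ α := by rw [IsIso.eq_inv_comp, hl2]
  rw [this]
  infer_instance

end iso

section pullback

theorem isIso_snd_of_isPullback {S S' X X' Q' W : Scheme.{u}} (π : S ⟶ S') (f : X ⟶ S)
    (f' : X' ⟶ S') (g : X ⟶ X') (w : g ≫ f' = f ≫ π)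
    (j' : Q' ⟶ X') [IsOpenImmersion j'] (k : W ⟶ X) [IsOpenImmersion k] (gW : W ⟶ Q')
    (hgW : k ≫ g = gW ≫ j') (hW : IsPullback gW (k ≫ f) (j' ≫ f') π)
    (h : ∀ x : X, g.base x ∈ Set.range j'.base → x ∈ Set.range k.base) :
    IsIso (pullback.snd (pullback.lift g f w) (pullback.fst (pullback.fst f' π) j')) := by
  have sqQ : IsPullback (pullback.snd (pullback.fst f' π) j')
      (pullback.fst (pullback.fst f' π) j' ≫ pullback.snd f' π) (j' ≫ f') π :=
    (IsPullback.of_hasPullback (pullback.fst f' π) j').flip.paste_vert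
      (IsPullback.of_hasPullback f' π)
  let α : W ≅ pullback (pullback.fst f' π) j' := hW.isoIsPullback _ _ sqQ
  have hα1 : α.hom ≫ pullback.snd (pullback.fst f' π) j' = gW := hW.isoIsPullback_hom_fst _ _ sqQ
  have hα2 : α.hom ≫ pullback.fst (pullback.fst f' π) j' ≫ pullback.snd f' π = k ≫ f :=
    hW.isoIsPullback_hom_snd _ _ sqQ
  refine isIso_snd_of_piece (pullback.lift g f w) (pullback.fst (pullback.fst f' π) j') k α.hom
    ?_ ?_
  · apply pullback.hom_ext
    · rw [Category.assoc, pullback.lift_fst, Category.assoc, pullback.condition,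
        ← Category.assoc, hα1, hgW]
    · rw [Category.assoc, pullback.lift_snd, Category.assoc, hα2]
  · rintro x ⟨q, hq⟩
    apply h
    refine ⟨(pullback.snd (pullback.fst f' π) j').base q, ?_⟩
    have e1 : g.base x = (pullback.fst f' π).base ((pullback.lift g f w).base x) := by
      rw [← Scheme.Hom.comp_apply, pullback.lift_fst]
    rw [e1, ← hq, ← Scheme.Hom.comp_apply, ← Scheme.Hom.comp_apply, pullback.condition]

/-- A commutative square is a pullback square if it is so on two pieces covering the source,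
mapping to two pieces covering the corner, with exact preimages. -/
theorem isPullback_of_two {S S' X X' U V U' V' : Scheme.{u}} (π : S ⟶ S') (f : X ⟶ S)
    (f' : X' ⟶ S') (g : X ⟶ X') (w : g ≫ f' = f ≫ π)
    (u : U ⟶ X) (v : V ⟶ X) [IsOpenImmersion u] [IsOpenImmersion v]
    (u' : U' ⟶ X') (v' : V' ⟶ X') [IsOpenImmersion u'] [IsOpenImmersion v']
    (hcov' : ∀ x : X', x ∈ Set.range u'.base ∨ x ∈ Set.range v'.base)
    (gU : U ⟶ U') (gV : V ⟶ V') (hgU : u ≫ g = gU ≫ u') (hgV : v ≫ g = gV ≫ v')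
    (hU : IsPullback gU (u ≫ f) (u' ≫ f') π) (hV : IsPullback gV (v ≫ f) (v' ≫ f') π)
    (h₁ : ∀ x : X, g.base x ∈ Set.range u'.base → x ∈ Set.range u.base)
    (h₂ : ∀ x : X, g.base x ∈ Set.range v'.base → x ∈ Set.range v.base) :
    IsPullback g f f' π := by
  suffices IsIso (pullback.lift g f w) from
    IsPullback.of_iso_pullback ⟨w⟩ (asIso (pullback.lift g f w)) (pullback.lift_fst _ _ _)
      (pullback.lift_snd _ _ _)
  have : MorphismProperty.isomorphisms Scheme.{u} (pullback.lift g f w) := by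
    apply IsZariskiLocalAtTarget.of_openCover (P := MorphismProperty.isomorphisms Scheme.{u})
      ((coverOfTwo u' v' hcov').pullback₁ (pullback.fst f' π))
    rintro (_ | _)
    · exact isIso_snd_of_isPullback π f f' g w v' v gV hgV hV h₂
    · exact isIso_snd_of_isPullback π f f' g w u' u gU hgU hU h₁
  exact this

end pullback

section glue

variable {S S' X U V U' V' T' : Scheme.{u}}

/-- Gluing two pullback squares along an open. -/
theorem exists_glue_pullback (π : S ⟶ S') (f : X ⟶ S)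
    (u : U ⟶ X) (v : V ⟶ X) [IsOpenImmersion u] [IsOpenImmersion v]
    (hcov : ∀ x : X, x ∈ Set.range u.base ∨ x ∈ Set.range v.base)
    (a : U' ⟶ S') (b : V' ⟶ S') (gU : U ⟶ U') (gV : V ⟶ V')
    (hU : IsPullback gU (u ≫ f) a π) (hV : IsPullback gV (v ≫ f) b π)
    (ι₁ : T' ⟶ U') (ι₂ : T' ⟶ V') [IsOpenImmersion ι₁] [IsOpenImmersion ι₂]
    (hι : ι₁ ≫ a = ι₂ ≫ b)
    (h₁ : ∀ y : U, gU.base y ∈ Set.range ι₁.base → u.base y ∈ Set.range v.base)
    (h₂ : ∀ y : V, gV.base y ∈ Set.range ι₂.base → v.base y ∈ Set.range u.base)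
    (s : pullback u v ⟶ T') (hs₁ : s ≫ ι₁ = pullback.fst u v ≫ gU)
    (hs₂ : s ≫ ι₂ = pullback.snd u v ≫ gV) :
    ∃ g : X ⟶ pushout ι₁ ι₂, IsPullback g f (pushout.desc a b hι) π := by
  obtain ⟨g, hg1, hg2⟩ := exists_glue_of_two u v hcov (gU ≫ pushout.inl ι₁ ι₂)
    (gV ≫ pushout.inr ι₁ ι₂) (by
      rw [← Category.assoc, ← hs₁, ← Category.assoc, ← hs₂, Category.assoc, Category.assoc,
        pushout.condition])
  have w : g ≫ pushout.desc a b hι = f ≫ π := by
    apply hom_ext_of_two u v hcov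
    · rw [← Category.assoc, hg1, Category.assoc, pushout.inl_desc, ← Category.assoc, hU.w]
    · rw [← Category.assoc, hg2, Category.assoc, pushout.inr_desc, ← Category.assoc, hV.w]
  refine ⟨g, isPullback_of_two π f (pushout.desc a b hι) g w u v (pushout.inl ι₁ ι₂)
    (pushout.inr ι₁ ι₂) (inl_inr_jointly_surjective ι₁ ι₂) gU gV hg1 hg2 ?_ ?_ ?_ ?_⟩
  · rw [pushout.inl_desc]; exact hU
  · rw [pushout.inr_desc]; exact hV
  · intro x hx
    rcases hcov x with hxu | ⟨y, rfl⟩
    · exact hxu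
    · obtain ⟨z, hz⟩ := hx
      have e1 : g.base (v.base y) = (pushout.inr ι₁ ι₂).base (gV.base y) := by
        rw [← Scheme.Hom.comp_apply, hg2, Scheme.Hom.comp_apply]
      rw [e1] at hz
      obtain ⟨t, -, ht⟩ := (inl_eq_inr_iff ι₁ ι₂ z (gV.base y)).mp hz
      exact h₂ y ⟨t, ht⟩
  · intro x hx
    rcases hcov x with ⟨y, rfl⟩ | hxv
    · obtain ⟨z, hz⟩ := hx
      have e1 : g.base (u.base y) = (pushout.inl ι₁ ι₂).base (gU.base y) := by
        rw [← Scheme.Hom.comp_apply, hg1, Scheme.Hom.comp_apply]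
      rw [e1] at hz
      obtain ⟨t, ht, -⟩ := (inl_eq_inr_iff ι₁ ι₂ (gU.base y) z).mp hz.symm
      exact h₁ y ⟨t, ht⟩
    · exact hxv

variable (ι₁ : T' ⟶ U') (ι₂ : T' ⟶ V') [IsOpenImmersion ι₁] [IsOpenImmersion ι₂]

theorem desc_of_isZariskiLocalAtSource (P : MorphismProperty Scheme.{u}) [IsZariskiLocalAtSource P]
    (a : U' ⟶ S') (b : V' ⟶ S') (hι : ι₁ ≫ a = ι₂ ≫ b) (ha : P a) (hb : P b) :
    P (pushout.desc a b hι) := by
  rw [IsZariskiLocalAtSource.iff_of_openCover (P := P)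
    (coverOfTwo (pushout.inl ι₁ ι₂) (pushout.inr ι₁ ι₂) (inl_inr_jointly_surjective ι₁ ι₂))]
  rintro (_ | _)
  · change P (pushout.inr ι₁ ι₂ ≫ pushout.desc a b hι)
    rw [pushout.inr_desc]; exact hb
  · change P (pushout.inl ι₁ ι₂ ≫ pushout.desc a b hι)
    rw [pushout.inl_desc]; exact ha

theorem compactSpace_pushout [CompactSpace U'] [CompactSpace V'] :
    CompactSpace (pushout ι₁ ι₂ : Scheme.{u}) := by
  constructor
  have : (Set.univ : Set (pushout ι₁ ι₂ : Scheme.{u})) =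
      Set.range (pushout.inl ι₁ ι₂).base ∪ Set.range (pushout.inr ι₁ ι₂).base := by
    ext x
    simpa using inl_inr_jointly_surjective ι₁ ι₂ x
  rw [this]
  exact (isCompact_range (pushout.inl ι₁ ι₂).continuous).union
    (isCompact_range (pushout.inr ι₁ ι₂).continuous)

end glue

section qs

theorem quasiSeparatedSpace_of_two {α : Type*} [TopologicalSpace α] (A B : Set α)
    (hA : IsOpen A) (hB : IsOpen B) (hAB : ∀ x, x ∈ A ∨ x ∈ B)
    (hqA : IsQuasiSeparated A) (hqB : IsQuasiSeparated B) (hc : IsCompact (A ∩ B))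
    (hbasis : ∀ (x : α) (O : Set α), IsOpen O → x ∈ O →
      ∃ K, IsOpen K ∧ IsCompact K ∧ x ∈ K ∧ K ⊆ O) : QuasiSeparatedSpace α := by
  let ι := {K : Set α // IsOpen K ∧ IsCompact K ∧ (K ⊆ A ∨ K ⊆ B)}
  have hAB_open : IsOpen (A ∩ B) := hA.inter hB
  have mixed : ∀ K L : Set α, IsOpen K → IsCompact K → K ⊆ A → IsOpen L → IsCompact L → L ⊆ B →
      IsCompact (K ∩ L) := by
    intro K L hKo hKc hKA hLo hLc hLB
    have e : K ∩ L = (K ∩ (A ∩ B)) ∩ (L ∩ (A ∩ B)) := by
      ext x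
      constructor
      · rintro ⟨hxK, hxL⟩
        exact ⟨⟨hxK, hKA hxK, hLB hxL⟩, ⟨hxL, hKA hxK, hLB hxL⟩⟩
      · rintro ⟨⟨hxK, -⟩, ⟨hxL, -⟩⟩
        exact ⟨hxK, hxL⟩
    rw [e]
    have c1 : IsCompact (K ∩ (A ∩ B)) :=
      hqA K (A ∩ B) hKA hKo hKc Set.inter_subset_left hAB_open hc
    have c2 : IsCompact (L ∩ (A ∩ B)) :=
      hqB L (A ∩ B) hLB hLo hLc Set.inter_subset_right hAB_open hc
    exact hqA _ _ (Set.inter_subset_left.trans hKA) (hKo.inter hAB_open) c1
      (Set.inter_subset_right.trans Set.inter_subset_left) (hLo.inter hAB_open) c2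
  refine QuasiSeparatedSpace.of_isTopologicalBasis (b := fun K : ι => K.1) ?_ ?_
  · refine isTopologicalBasis_of_isOpen_of_nhds ?_ ?_
    · rintro _ ⟨K, rfl⟩
      exact K.2.1
    · intro x O hxO hO
      rcases hAB x with hx | hx
      · obtain ⟨K, hKo, hKc, hxK, hKO⟩ := hbasis x (O ∩ A) (hO.inter hA) ⟨hxO, hx⟩
        exact ⟨K, ⟨⟨K, hKo, hKc, Or.inl (hKO.trans Set.inter_subset_right)⟩, rfl⟩, hxK,
          hKO.trans Set.inter_subset_left⟩
      · obtain ⟨K, hKo, hKc, hxK, hKO⟩ := hbasis x (O ∩ B) (hO.inter hB) ⟨hxO, hx⟩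
        exact ⟨K, ⟨⟨K, hKo, hKc, Or.inr (hKO.trans Set.inter_subset_right)⟩, rfl⟩, hxK,
          hKO.trans Set.inter_subset_left⟩
  · rintro ⟨K, hKo, hKc, hK⟩ ⟨L, hLo, hLc, hL⟩
    rcases hK with hK | hK <;> rcases hL with hL | hL
    · exact hqA K L hK hKo hKc hL hLo hLc
    · exact mixed K L hKo hKc hK hLo hLc hL
    · rw [Set.inter_comm]
      exact mixed L K hLo hLc hL hKo hKc hK
    · exact hqB K L hK hKo hKc hL hLo hLc

theorem quasiSeparatedSpace_pushout {U' V' T' : Scheme.{u}} (ι₁ : T' ⟶ U') (ι₂ : T' ⟶ V')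
    [IsOpenImmersion ι₁] [IsOpenImmersion ι₂] [QuasiSeparatedSpace U'] [QuasiSeparatedSpace V']
    [CompactSpace T'] : QuasiSeparatedSpace (pushout ι₁ ι₂ : Scheme.{u}) := by
  refine quasiSeparatedSpace_of_two (Set.range (pushout.inl ι₁ ι₂).base)
    (Set.range (pushout.inr ι₁ ι₂).base) (pushout.inl ι₁ ι₂).isOpenEmbedding.isOpen_range
    (pushout.inr ι₁ ι₂).isOpenEmbedding.isOpen_range (inl_inr_jointly_surjective ι₁ ι₂) ?_ ?_ ?_ ?_
  · rw [← Set.image_univ, ← (pushout.inl ι₁ ι₂).isOpenEmbedding.isQuasiSeparated_iff]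
    exact isQuasiSeparated_univ
  · rw [← Set.image_univ, ← (pushout.inr ι₁ ι₂).isOpenEmbedding.isQuasiSeparated_iff]
    exact isQuasiSeparated_univ
  · have : Set.range (pushout.inl ι₁ ι₂).base ∩ Set.range (pushout.inr ι₁ ι₂).base =
        Set.range (ι₁ ≫ pushout.inl ι₁ ι₂).base := by
      ext x
      constructor
      · rintro ⟨⟨y, rfl⟩, ⟨z, hz⟩⟩
        obtain ⟨t, ht, -⟩ := (inl_eq_inr_iff ι₁ ι₂ y z).mp hz.symm
        exact ⟨t, by rw [Scheme.Hom.comp_apply, ht]⟩
      · rintro ⟨t, rfl⟩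
        refine ⟨⟨ι₁.base t, by rw [Scheme.Hom.comp_apply]⟩, ⟨ι₂.base t, ?_⟩⟩
        rw [← Scheme.Hom.comp_apply, ← pushout.condition]
    rw [this]
    exact isCompact_range (ι₁ ≫ pushout.inl ι₁ ι₂).continuous
  · intro x O hO hxO
    obtain ⟨_, ⟨W, hW, rfl⟩, hxW, hWO⟩ :=
      (pushout ι₁ ι₂ : Scheme.{u}).isBasis_affineOpens.exists_subset_of_mem_open hxO hO
    exact ⟨W, W.isOpen, IsAffineOpen.isCompact hW, hxW, hWO⟩

end qs

end Groth.Agent.Lib.Helper13.LimModel
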