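import Mathlib

set_option autoImplicit false
universe u
open TensorProduct Module

namespace Groth.Agent.Lib.Helper13.GrassStab

section coeff
variable {A : Type u} [CommRing A] {Q : Type u} [AddCommGroup Q] [Module A Q]

/-- coefficient ideal of a set of elements of a module -/
def coeffIdeal (T : Set Q) : Ideal A := Ideal.span {a | ∃ q ∈ T, ∃ φ : Q →ₗ[A] A, φ q = a}

theorem tmul_eq_zero_iff [Module.Projective A Q] (T : Set Q) (C : Type u) [CommRing C]
    [Algebra A C] :
    (∀ q ∈ T, (1 : C) ⊗ₜ[A] q = 0) ↔ coeffIdeal (A := A) T ≤ RingHom.ker (algebraMap A C) := by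
  constructor
  · intro h
    unfold coeffIdeal
    rw [Ideal.span_le]
    rintro a ⟨p, hp, φ, rfl⟩
    have h1 := h p hp
    have h2 := congrArg (fun z => (TensorProduct.rid A C) (LinearMap.lTensor C φ z)) h1
    simp only [LinearMap.lTensor_tmul, TensorProduct.rid_tmul, map_zero] at h2
    change algebraMap A C (φ p) = 0
    rw [Algebra.algebraMap_eq_smul_one]
    exact h2
  · intro h p hp
    obtain ⟨s, hs⟩ := (Module.projective_def'.mp (inferInstance : Module.Projective A Q))
    have hp' : p = Finsupp.linearCombination A id (s p) := (congrArg (fun g => g p) hs).symm ▸ rfl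
    rw [hp', Finsupp.linearCombination_apply, Finsupp.sum, TensorProduct.tmul_sum]
    apply Finset.sum_eq_zero
    intro b _
    rw [id, TensorProduct.tmul_smul, TensorProduct.smul_tmul', Algebra.smul_def, mul_one]
    have : (s p) b ∈ coeffIdeal (A := A) T :=
      Ideal.subset_span ⟨p, hp, (Finsupp.lapply b).comp s, rfl⟩
    have h0 : algebraMap A C ((s p) b) = 0 := h this
    rw [h0, TensorProduct.zero_tmul]

end coeff

section exact
variable {A : Type u} [CommRing A] {P : Type u} [AddCommGroup P] [Module A P]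
  (C : Type u) [CommRing C] [Algebra A C]

theorem ker_baseChange_le (N : Submodule A P) {z : C ⊗[A] P}
    (hz : N.mkQ.baseChange C z = 0) :
    z ∈ Submodule.span C ((fun u : P => (1 : C) ⊗ₜ[A] u) '' (N : Set P)) := by
  have hex : Function.Exact (N.subtype.lTensor C) (N.mkQ.lTensor C) :=
    lTensor_exact C (LinearMap.exact_subtype_mkQ N) (Submodule.mkQ_surjective N)
  have hz' : N.mkQ.lTensor C z = 0 := hz
  obtain ⟨w, rfl⟩ := (hex z).mp hz'
  clear hz hz'
  induction w using TensorProduct.induction_on with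
  | zero => simp
  | tmul c u =>
    rw [LinearMap.lTensor_tmul]
    have : c ⊗ₜ[A] (N.subtype u) = c • ((1 : C) ⊗ₜ[A] (u : P)) := by
      rw [TensorProduct.smul_tmul', smul_eq_mul, mul_one]; rfl
    rw [this]
    exact Submodule.smul_mem _ _ (Submodule.subset_span ⟨u, u.2, rfl⟩)
  | add x y hx hy =>
    rw [map_add]
    exact Submodule.add_mem _ hx hy

end exact

section main

variable {R : Type u} [CommRing R] {M : Type u} [AddCommGroup M] [Module R M]
  {ι : Type*} (Φ : ι → M →ₗ[R] M) {e : ℕ}

/-- stability of a submodule of `A ⊗ M` under the base changes of the endomorphisms `Φ i` -/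
def Stab {A : Type u} [CommRing A] [Algebra R A] (U : Submodule A (A ⊗[R] M)) : Prop :=
  ∀ i x, x ∈ U → (Φ i).baseChange A x ∈ U

/-- the ideal cutting out the stability locus -/
noncomputable def I {A : Type u} [CommRing A] [Algebra R A]
    (N : Grassmannian A (A ⊗[R] M) e) : Ideal A :=
  coeffIdeal {q | ∃ i, ∃ u ∈ N.toSubmodule, q = N.toSubmodule.mkQ ((Φ i).baseChange A u)}

section
variable {A C : Type u} [CommRing A] [Algebra R A] [CommRing C] [Algebra R C]
  [Algebra A C] [IsScalarTower R A C]

/-- the canonical map `A ⊗ M → C ⊗ M` -/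
noncomputable def incl : A ⊗[R] M →ₗ[A] C ⊗[R] M :=
  AlgebraTensorModule.map (Algebra.linearMap A C) (LinearMap.id : M →ₗ[R] M)

@[simp] theorem incl_tmul (a : A) (m : M) :
    (incl (R := R) (M := M) (A := A) (C := C)) (a ⊗ₜ m) = algebraMap A C a ⊗ₜ m := by
  simp [incl]

theorem baseChange_incl (φ : M →ₗ[R] M) (x : A ⊗[R] M) :
    φ.baseChange C (incl (C := C) x) = incl (C := C) (φ.baseChange A x) := by
  induction x using TensorProduct.induction_on with
  | zero => simp
  | tmul a m => rw [incl_tmul, LinearMap.baseChange_tmul, LinearMap.baseChange_tmul, incl_tmul]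
  | add x y hx hy => simp [hx, hy]

theorem cancel_tmul (c : C) (x : A ⊗[R] M) :
    AlgebraTensorModule.cancelBaseChange R A C C M (c ⊗ₜ[A] x) = c • incl (C := C) x := by
  induction x using TensorProduct.induction_on with
  | zero => simp
  | tmul a m =>
    rw [AlgebraTensorModule.cancelBaseChange_tmul, incl_tmul, TensorProduct.smul_tmul',
      Algebra.smul_def, smul_eq_mul, mul_comm]
  | add x y hx hy => rw [TensorProduct.tmul_add, map_add, hx, hy, map_add, smul_add]

theorem q_incl (N : Submodule A (A ⊗[R] M)) (x : A ⊗[R] M) :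
    Grassmannian.baseChangeMkQ C N (incl (C := C) x) = (1 : C) ⊗ₜ[A] N.mkQ x := by
  induction x using TensorProduct.induction_on with
  | zero => simp
  | tmul a m =>
    rw [incl_tmul, Grassmannian.baseChangeMkQ, LinearMap.comp_apply, LinearEquiv.coe_coe,
      AlgebraTensorModule.cancelBaseChange_symm_tmul, LinearMap.baseChange_tmul,
      Algebra.algebraMap_eq_smul_one, TensorProduct.smul_tmul, ← map_smul,
      TensorProduct.smul_tmul', smul_eq_mul, mul_one]
  | add x y hx hy => rw [map_add, map_add, hx, hy, map_add, TensorProduct.tmul_add]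

theorem ker_q_le (N : Submodule A (A ⊗[R] M)) :
    LinearMap.ker (Grassmannian.baseChangeMkQ C N) ≤
      Submodule.span C (incl (C := C) '' (N : Set (A ⊗[R] M))) := by
  intro y hy
  rw [LinearMap.mem_ker, Grassmannian.baseChangeMkQ, LinearMap.comp_apply,
    LinearEquiv.coe_coe] at hy
  have h1 := ker_baseChange_le C N hy
  have h2 : y = AlgebraTensorModule.cancelBaseChange R A C C M
      ((AlgebraTensorModule.cancelBaseChange R A C C M).symm y) := by
    rw [LinearEquiv.apply_symm_apply]
  rw [h2]
  have h3 : Submodule.span C ((fun u : A ⊗[R] M => (1 : C) ⊗ₜ[A] u) '' (N : Set (A ⊗[R] M))) ≤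
      (Submodule.span C (incl (C := C) '' (N : Set (A ⊗[R] M)))).comap
        (AlgebraTensorModule.cancelBaseChange R A C C M).toLinearMap := by
    rw [Submodule.span_le]
    rintro _ ⟨u, hu, rfl⟩
    rw [SetLike.mem_coe, Submodule.mem_comap, LinearEquiv.coe_coe, cancel_tmul, one_smul]
    exact Submodule.subset_span ⟨u, hu, rfl⟩
  exact h3 h1

end

theorem stab_map_iff {A C : Type u} [CommRing A] [Algebra R A] [CommRing C] [Algebra R C]
    (f : A →ₐ[R] C) (N : Grassmannian A (A ⊗[R] M) e) :
    Stab Φ (Grassmannian.map f N).toSubmodule ↔ I Φ N ≤ RingHom.ker (f : A →+* C) := by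
  letI : Algebra A C := f.toAlgebra
  haveI : IsScalarTower R A C := IsScalarTower.of_algebraMap_eq' f.comp_algebraMap.symm
  have hmap : (Grassmannian.map f N).toSubmodule =
      LinearMap.ker (Grassmannian.baseChangeMkQ C N.toSubmodule) := rfl
  have hker : RingHom.ker (f : A →+* C) = RingHom.ker (algebraMap A C) := rfl
  rw [hmap, hker, I, ← tmul_eq_zero_iff]
  constructor
  · rintro h q ⟨i, u, hu, rfl⟩
    have h1 : incl (C := C) u ∈ LinearMap.ker (Grassmannian.baseChangeMkQ C N.toSubmodule) := by
      rw [LinearMap.mem_ker, q_incl, Submodule.mkQ_apply, (Submodule.Quotient.mk_eq_zero _).mpr hu,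
        TensorProduct.tmul_zero]
    have h2 := h i _ h1
    rw [baseChange_incl, LinearMap.mem_ker, q_incl] at h2
    exact h2
  · intro h i y hy
    have hy' := ker_q_le N.toSubmodule hy
    have : Submodule.span C (incl (C := C) '' (N.toSubmodule : Set (A ⊗[R] M))) ≤
        (LinearMap.ker (Grassmannian.baseChangeMkQ C N.toSubmodule)).comap
          ((Φ i).baseChange C) := by
      rw [Submodule.span_le]
      rintro _ ⟨u, hu, rfl⟩
      rw [SetLike.mem_coe, Submodule.mem_comap, baseChange_incl, LinearMap.mem_ker, q_incl]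
      exact h _ ⟨i, u, hu, rfl⟩
    exact this hy'

theorem stab_iff (A : CommAlgCat.{u} R) (N : Grassmannian A (A ⊗[R] M) e) :
    Stab Φ N.toSubmodule ↔ I Φ N = ⊥ := by
  have := stab_map_iff Φ (AlgHom.id R A) N
  rw [Grassmannian.map_id] at this
  rw [this]
  have hk : RingHom.ker ((AlgHom.id R A : A →ₐ[R] A) : A →+* A) = ⊥ := by
    ext x; simp [RingHom.mem_ker]
  rw [hk, le_bot_iff]

end main

end Groth.Agent.Lib.Helper13.GrassStab
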