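import Mathlib
import Groth.Agent.Lib.Helper13.GrassStab
import Groth.Agent.Lib.Helper13.ClosedChart

set_option autoImplicit false
universe u
open CategoryTheory CategoryTheory.Limits AlgebraicGeometry TensorProduct Module
open Groth.Agent.Lib.Helper13.GrassStab Groth.Agent.Lib.Helper13

namespace Groth.Agent.Lib.Helper13.GrassClosed

variable {R : Type u} [CommRing R] {M : Type u} [AddCommGroup M] [Module R M]
  {ι : Type*} (Φ : ι → M →ₗ[R] M) {e : ℕ} {X : Over (Spec (CommRingCat.of R))}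
  (eX : ∀ A : CommAlgCat.{u} R,
      ((Over.mk (Spec.map (CommRingCat.ofHom (algebraMap R A)))) ⟶ X) ≃
        (Module.Grassmannian.functor (R := R) (M := M) e).obj A)
  (heX : ∀ (A C : CommAlgCat.{u} R) (φ : A ⟶ C)
      (g : Over.mk (Spec.map (CommRingCat.ofHom (algebraMap R A))) ⟶ X)
      (g' : Over.mk (Spec.map (CommRingCat.ofHom (algebraMap R C))) ⟶ X),
      g'.left = Spec.map (CommRingCat.ofHom φ.hom.toRingHom) ≫ g.left →
        eX C g' = (Module.Grassmannian.functor (R := R) (M := M) e).map φ (eX A g))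

/-- the point of the Grassmannian attached to `g : Spec A ⟶ X` and a compatible algebra
structure. -/
noncomputable def pt (A : CommRingCat.{u}) [Algebra R A] (g : Spec A ⟶ X.left)
    (hg : g ≫ X.hom = Spec.map (CommRingCat.ofHom (algebraMap R A))) :
    Module.Grassmannian A (A ⊗[R] M) e :=
  eX (CommAlgCat.of R A) (Over.homMk g hg)

/-- the stability property of a point -/
def P (A : CommRingCat.{u}) (g : Spec A ⟶ X.left) : Prop :=
  ∀ (inst : Algebra R A) (hg : g ≫ X.hom = Spec.map (CommRingCat.ofHom (algebraMap R A))),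
    Stab Φ (pt eX A g hg).toSubmodule

theorem alg_ext {A : Type u} [CommRing A] (i₁ i₂ : Algebra R A)
    (h : Spec.map (CommRingCat.ofHom (@algebraMap R A _ _ i₁)) =
      Spec.map (CommRingCat.ofHom (@algebraMap R A _ _ i₂))) : i₁ = i₂ := by
  have h1 := Spec.map_injective h
  apply Algebra.algebra_ext
  intro r
  exact congrArg (fun f => f.hom r) h1

theorem P_iff (A : CommRingCat.{u}) [inst : Algebra R A] (g : Spec A ⟶ X.left)
    (hg : g ≫ X.hom = Spec.map (CommRingCat.ofHom (algebraMap R A))) :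
    P Φ eX A g ↔ Stab Φ (pt eX A g hg).toSubmodule := by
  constructor
  · intro h
    exact h inst hg
  · intro h inst' hg'
    have : inst' = inst := alg_ext inst' inst (hg'.symm.trans hg)
    subst this
    exact h

theorem alg_compat {A C : CommRingCat.{u}} [Algebra R A] [Algebra R C] (φ : A ⟶ C)
    (g : Spec A ⟶ X.left)
    (hg : g ≫ X.hom = Spec.map (CommRingCat.ofHom (algebraMap R A)))
    (hg' : (Spec.map φ ≫ g) ≫ X.hom = Spec.map (CommRingCat.ofHom (algebraMap R C))) (r : R) :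
    φ.hom (algebraMap R A r) = algebraMap R C r := by
  have h1 : Spec.map (CommRingCat.ofHom (algebraMap R A) ≫ φ) =
      Spec.map (CommRingCat.ofHom (algebraMap R C)) := by
    rw [Spec.map_comp, ← hg, ← hg', Category.assoc]
  have h2 := Spec.map_injective h1
  exact congrArg (fun f => f.hom r) h2

include heX in
theorem pt_nat {A C : CommRingCat.{u}} [Algebra R A] [Algebra R C] (φ : A ⟶ C)
    (g : Spec A ⟶ X.left)
    (hg : g ≫ X.hom = Spec.map (CommRingCat.ofHom (algebraMap R A)))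
    (hg' : (Spec.map φ ≫ g) ≫ X.hom = Spec.map (CommRingCat.ofHom (algebraMap R C))) :
    pt eX C (Spec.map φ ≫ g) hg' =
      Module.Grassmannian.map ({ φ.hom with commutes' := alg_compat φ g hg hg' } : A →ₐ[R] C)
        (pt eX A g hg) := by
  exact heX (CommAlgCat.of R A) (CommAlgCat.of R C)
    (CommAlgCat.ofHom ({ φ.hom with commutes' := alg_compat φ g hg hg' } : A →ₐ[R] C))
    (Over.homMk g hg) (Over.homMk (Spec.map φ ≫ g) hg') rfl

include heX in
theorem P_bc (A C : CommRingCat.{u}) (φ : A ⟶ C) (g : Spec A ⟶ X.left) (h : P Φ eX A g) :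
    P Φ eX C (Spec.map φ ≫ g) := by
  intro instC hg'
  letI instA : Algebra R A := (Spec.preimage (g ≫ X.hom)).hom.toAlgebra
  have hg : g ≫ X.hom = Spec.map (CommRingCat.ofHom (algebraMap R A)) := by
    change _ = Spec.map (CommRingCat.ofHom (Spec.preimage (g ≫ X.hom)).hom)
    rw [CommRingCat.ofHom_hom, Spec.map_preimage]
  rw [pt_nat eX heX φ g hg hg', stab_map_iff]
  have h1 := h instA hg
  have h2 := (stab_iff Φ (CommAlgCat.of R A) (pt eX A g hg)).mp h1
  rw [h2]
  exact bot_le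

include heX in
theorem P_chart (U : X.left.Opens) (hU : IsAffineOpen U) :
    ∃ J : Ideal Γ(X.left, U), ∀ (A : CommRingCat.{u}) (ψ : Γ(X.left, U) ⟶ A),
      P Φ eX A (Spec.map ψ ≫ hU.fromSpec) ↔ J ≤ RingHom.ker ψ.hom := by
  letI instU : Algebra R Γ(X.left, U) := (Spec.preimage (hU.fromSpec ≫ X.hom)).hom.toAlgebra
  have hgU : hU.fromSpec ≫ X.hom = Spec.map (CommRingCat.ofHom (algebraMap R Γ(X.left, U))) := by
    change _ = Spec.map (CommRingCat.ofHom (Spec.preimage (hU.fromSpec ≫ X.hom)).hom)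
    rw [CommRingCat.ofHom_hom, Spec.map_preimage]
  refine ⟨I Φ (pt eX Γ(X.left, U) hU.fromSpec hgU), ?_⟩
  intro A ψ
  letI instA : Algebra R A := (ψ.hom.comp (algebraMap R Γ(X.left, U))).toAlgebra
  have hg' : (Spec.map ψ ≫ hU.fromSpec) ≫ X.hom = Spec.map (CommRingCat.ofHom (algebraMap R A)) := by
    change _ = Spec.map (CommRingCat.ofHom (algebraMap R Γ(X.left, U)) ≫ ψ)
    rw [Spec.map_comp, Category.assoc, hgU]
  rw [P_iff Φ eX A _ hg', pt_nat eX heX ψ hU.fromSpec hgU hg', stab_map_iff]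
  rfl

include heX in
theorem P_loc (A : CommRingCat.{u}) (g : Spec A ⟶ X.left)
    (h : ∀ x : Spec A, ∃ (W : (Spec A).Opens) (hW : IsAffineOpen W),
      x ∈ W ∧ P Φ eX Γ(Spec A, W) (hW.fromSpec ≫ g)) : P Φ eX A g := by
  intro instA hg
  rw [stab_iff Φ (CommAlgCat.of R A) (pt eX A g hg), eq_bot_iff]
  intro s hs
  rw [Ideal.mem_bot]
  -- pass to global sections of `Spec A`
  have hinj : Function.Injective (Scheme.ΓSpecIso A).inv.hom :=
    (ConcreteCategory.bijective_of_isIso (Scheme.ΓSpecIso A).inv).1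
  apply hinj
  rw [map_zero]
  apply (Spec A).IsSheaf.section_ext
  intro t _
  obtain ⟨W, hW, htW, hPW⟩ := h t
  refine ⟨W, le_top, htW, ?_⟩
  rw [map_zero]
  -- the ring map of the chart
  obtain ⟨φW, hφW⟩ : ∃ φW : A ⟶ Γ(Spec A, W), φW =
    (Scheme.ΓSpecIso A).inv ≫ (Spec A).presheaf.map (homOfLE (le_top : W ≤ ⊤)).op := ⟨_, rfl⟩
  have hfs : hW.fromSpec = Spec.map φW := by
    rw [hφW, Spec.map_comp, ← Scheme.isoSpec_Spec_inv, ← IsAffineOpen.fromSpec_top,
      IsAffineOpen.map_fromSpec]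
  rw [hfs] at hPW
  letI instW : Algebra R Γ(Spec A, W) := (φW.hom.comp (algebraMap R A)).toAlgebra
  have hg' : (Spec.map φW ≫ g) ≫ X.hom =
      Spec.map (CommRingCat.ofHom (algebraMap R Γ(Spec A, W))) := by
    change _ = Spec.map (CommRingCat.ofHom (algebraMap R A) ≫ φW)
    rw [Spec.map_comp, Category.assoc, hg]
  have h1 := hPW instW hg'
  rw [pt_nat eX heX φW g hg hg', stab_map_iff] at h1
  have h2 := h1 hs
  rw [RingHom.mem_ker] at h2
  have h3 : φW.hom s = 0 := h2
  rw [hφW] at h3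
  exact h3

include heX in
/-- **Stable submodules form a closed subfunctor of the Grassmannian.** -/
theorem main :
    ∃ (Z : Scheme.{u}) (j : Z ⟶ X.left), IsClosedImmersion j ∧
      ∀ (A : CommAlgCat.{u} R) (g : Over.mk (Spec.map (CommRingCat.ofHom (algebraMap R A))) ⟶ X),
        (∃ h : (Over.mk (Spec.map (CommRingCat.ofHom (algebraMap R A)))).left ⟶ Z,
          h ≫ j = g.left) ↔
          ∀ (i : ι) (x : ↑A ⊗[R] M), x ∈ (eX A g).toSubmodule →
            (Φ i).baseChange A x ∈ (eX A g).toSubmodule := by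
  choose J hJ using P_chart Φ eX heX
  obtain ⟨Z, j, hj, hZ⟩ := ClosedChart.exists_closed (P Φ eX) J hJ (P_bc Φ eX heX) (P_loc Φ eX heX)
  refine ⟨Z, j, hj, ?_⟩
  intro A g
  have h1 := hZ (CommRingCat.of A) g.left
  have h2 := P_iff Φ eX (CommRingCat.of A) g.left (Over.w g)
  exact h1.trans h2

end Groth.Agent.Lib.Helper13.GrassClosed
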