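import Mathlib
import Groth.Agent.Lib.Helper4.CartierFinal
import Groth.Agent.Lib.Helper4.GrpdCalc
import Groth.Prelude.Def_Grpd

/-! Cartier's theorem for groupoid schemes over a field of characteristic zero: the local ring of `R` at the
identity point is reduced (adaptation of helper4's `CartierMain.exists_lift` / `CartierFinal`, transporting tangent
vectors along the `t`-structure). -/

set_option autoImplicit false
universe u
open CategoryTheory AlgebraicGeometry Limits IsLocalRing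

namespace Groth.Agent.Lib.Helper13.GrpdCartier
open Grpd Groth.Agent.Lib.Helper4.CartierGeom Groth.Agent.Lib.Helper4.CartierDual
  Groth.Agent.Lib.Helper4.GrpdCalc

variable {S : Scheme.{u}} (G : GroupoidScheme S) (k : Type u) [Field k]
  (eU : G.U ≅ Spec (CommRingCat.of k))

/-- `R` as a `k`-scheme via `s`. -/
noncomputable abbrev GS : Over (Spec (CommRingCat.of k)) := Over.mk (G.s ≫ eU.hom)

noncomputable def uHom : Spec (CommRingCat.of k) ⟶ G.R := eU.inv ≫ G.e

noncomputable def uPt : G.R := uHom G k eU (closedPoint k)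

noncomputable def evG : G.R.presheaf.stalk (uPt G k eU) ⟶ CommRingCat.of k :=
  Scheme.stalkClosedPointTo (uHom G k eU)

lemma Spec_evG : Spec.map (evG G k eU) ≫ G.R.fromSpecStalk (uPt G k eU) = uHom G k eU :=
  Scheme.Spec_stalkClosedPointTo_fromSpecStalk (uHom G k eU)

noncomputable def sMap : CommRingCat.of k ⟶ G.R.presheaf.stalk (uPt G k eU) :=
  strMap (GS G k eU) (uPt G k eU)

noncomputable def tMap : CommRingCat.of k ⟶ G.R.presheaf.stalk (uPt G k eU) :=
  Spec.preimage (G.R.fromSpecStalk (uPt G k eU) ≫ G.t ≫ eU.hom)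

lemma F_s : G.R.fromSpecStalk (uPt G k eU) ≫ G.s = Spec.map (sMap G k eU) ≫ eU.inv := by
  have := Spec_map_strMap (GS G k eU) (uPt G k eU)
  rw [Iso.eq_comp_inv, Category.assoc]
  exact this.symm

lemma F_t : G.R.fromSpecStalk (uPt G k eU) ≫ G.t = Spec.map (tMap G k eU) ≫ eU.inv := by
  rw [Iso.eq_comp_inv, tMap, Spec.map_preimage, Category.assoc]

lemma sMap_ev : sMap G k eU ≫ evG G k eU = 𝟙 _ := by
  apply Spec.map_injective
  rw [Spec.map_comp, ← cancel_mono eU.inv, Category.assoc, ← F_s, ← Category.assoc, Spec_evG,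
    uHom, Category.assoc, G.e_s, Spec.map_id]
  simp

lemma tMap_ev : tMap G k eU ≫ evG G k eU = 𝟙 _ := by
  apply Spec.map_injective
  rw [Spec.map_comp, ← cancel_mono eU.inv, Category.assoc, ← F_t, ← Category.assoc, Spec_evG,
    uHom, Category.assoc, G.e_t, Spec.map_id]
  simp


/-- a morphism from a local scheme hitting `uPt` factors through the stalk -/
lemma exists_stalk_map {D : CommRingCat.{u}} [IsLocalRing D] (p : Spec D ⟶ G.R)
    (hp : p (closedPoint D) = uPt G k eU) :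
    ∃ φ : G.R.presheaf.stalk (uPt G k eU) ⟶ D,
      Spec.map φ ≫ G.R.fromSpecStalk (uPt G k eU) = p := by
  have key : ∀ (x : G.R) (hx : p (closedPoint D) = x),
      ∃ φ : G.R.presheaf.stalk x ⟶ D, Spec.map φ ≫ G.R.fromSpecStalk x = p := by
    intro x hx
    subst hx
    exact ⟨Scheme.stalkClosedPointTo p, Scheme.Spec_stalkClosedPointTo_fromSpecStalk p⟩
  exact key _ hp

lemma stalk_map_inj {D : CommRingCat.{u}} (φ φ' : G.R.presheaf.stalk (uPt G k eU) ⟶ D)
    (h : Spec.map φ ≫ G.R.fromSpecStalk (uPt G k eU) =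
      Spec.map φ' ≫ G.R.fromSpecStalk (uPt G k eU)) : φ = φ' := by
  rw [cancel_mono] at h
  exact Spec.map_injective h

theorem exists_lift {R D KD : CommRingCat.{u}} [IsLocalRing D]
    (q : G.R.presheaf.stalk (uPt G k eU) ⟶ R) (i₁ : R ⟶ D) (ρ₁ : D ⟶ R)
    (evR : R ⟶ CommRingCat.of k) (j : KD ⟶ D) (ρ₂ : D ⟶ KD)
    (vc : G.R.presheaf.stalk (uPt G k eU) ⟶ KD) (fstK : KD ⟶ CommRingCat.of k)
    (sKD : CommRingCat.of k ⟶ KD)
    (h1 : i₁ ≫ ρ₁ = 𝟙 R) (h2 : q ≫ evR = evG G k eU)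
    (h3 : sKD ≫ j = tMap G k eU ≫ q ≫ i₁) (h4 : sMap G k eU ≫ vc = sKD)
    (h5 : j ≫ ρ₁ = fstK ≫ tMap G k eU ≫ q) (h6 : vc ≫ fstK = evG G k eU)
    (h7 : i₁ ≫ ρ₂ = evR ≫ sKD) (h8 : j ≫ ρ₂ = 𝟙 KD)
    [IsLocalHom (ρ₁ ≫ evR).hom] :
    ∃ Φc : G.R.presheaf.stalk (uPt G k eU) ⟶ D,
      sMap G k eU ≫ Φc = sMap G k eU ≫ q ≫ i₁ ∧ Φc ≫ ρ₁ = q ∧ Φc ≫ ρ₂ = vc := by
  set F := G.R.fromSpecStalk (uPt G k eU) with hF
  obtain ⟨uu, huu⟩ : ∃ uu : Spec D ⟶ G.R, uu = Spec.map (q ≫ i₁) ≫ F := ⟨_, rfl⟩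
  obtain ⟨ww, hww⟩ : ∃ ww : Spec D ⟶ G.R, ww = Spec.map (vc ≫ j) ≫ F := ⟨_, rfl⟩
  have hcomp : ww ≫ G.s = uu ≫ G.t := by
    rw [huu, hww, Category.assoc, Category.assoc, F_s, F_t, ← Category.assoc, ← Spec.map_comp, ← Category.assoc (Spec.map _),
      ← Spec.map_comp]
    congr 2
    rw [← Category.assoc, h4, h3]
  let p : Spec D ⟶ G.R := cmp G ww uu hcomp
  -- restriction along ρ₁
  have e1 : Spec.map ρ₁ ≫ p = Spec.map q ≫ F := by
    have hu : Spec.map ρ₁ ≫ uu = Spec.map q ≫ F := by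
      rw [huu, ← Category.assoc, ← Spec.map_comp, Category.assoc, h1, Category.comp_id]
    have hw : Spec.map ρ₁ ≫ ww = (Spec.map q ≫ F) ≫ G.t ≫ G.e := by
      rw [hww, ← Category.assoc, ← Spec.map_comp, Category.assoc, h5, ← Category.assoc vc, h6,
        Category.assoc (Spec.map q), ← Category.assoc F, F_t, Spec.map_comp, Spec.map_comp,
        Category.assoc, Category.assoc, Category.assoc, Spec_evG, uHom]
    have hh : (Spec.map ρ₁ ≫ ww) ≫ G.s = (Spec.map ρ₁ ≫ uu) ≫ G.t := by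
      rw [Category.assoc, Category.assoc, hcomp]
    rw [precomp G (Spec.map ρ₁) ww uu hcomp hh]
    have hh' : ((Spec.map q ≫ F) ≫ G.t ≫ G.e) ≫ G.s = (Spec.map q ≫ F) ≫ G.t := by
      simp [G.e_s]
    rw [cmp_congr G hw hu hh hh']
    exact e_cmp G _ _ rfl hh'
  have e2 : Spec.map ρ₂ ≫ p = Spec.map vc ≫ F := by
    have hw : Spec.map ρ₂ ≫ ww = Spec.map vc ≫ F := by
      rw [hww, ← Category.assoc, ← Spec.map_comp, Category.assoc, h8, Category.comp_id]
    have hu : Spec.map ρ₂ ≫ uu = (Spec.map vc ≫ F) ≫ G.s ≫ G.e := by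
      rw [huu, ← Category.assoc, ← Spec.map_comp, Category.assoc, h7, ← Category.assoc q, h2,
        Category.assoc (Spec.map vc), ← Category.assoc F, F_s, ← Category.assoc (Spec.map vc),
        ← Category.assoc (Spec.map vc), ← Spec.map_comp, h4, Spec.map_comp, Category.assoc,
        Category.assoc, Spec_evG, uHom]
    have hh : (Spec.map ρ₂ ≫ ww) ≫ G.s = (Spec.map ρ₂ ≫ uu) ≫ G.t := by
      rw [Category.assoc, Category.assoc, hcomp]
    rw [precomp G (Spec.map ρ₂) ww uu hcomp hh]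
    have hh' : (Spec.map vc ≫ F) ≫ G.s = ((Spec.map vc ≫ F) ≫ G.s ≫ G.e) ≫ G.t := by
      simp [G.e_t]
    rw [cmp_congr G hw hu hh hh']
    exact cmp_e G _ _ rfl hh'
  have hcl : p (closedPoint D) = uPt G k eU := by
    have hc : (Spec.map (ρ₁ ≫ evR)) (closedPoint k) = closedPoint D :=
      IsLocalRing.comap_closedPoint (ρ₁ ≫ evR).hom
    have : Spec.map (ρ₁ ≫ evR) ≫ p = uHom G k eU := by
      rw [Spec.map_comp, Category.assoc, e1, ← Category.assoc, ← Spec.map_comp, h2, Spec_evG]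
    calc p (closedPoint D) = p ((Spec.map (ρ₁ ≫ evR)) (closedPoint k)) := by rw [hc]
      _ = (Spec.map (ρ₁ ≫ evR) ≫ p) (closedPoint k) := rfl
      _ = uHom G k eU (closedPoint k) := by rw [this]
      _ = uPt G k eU := rfl
  obtain ⟨Φc, hΦ⟩ := exists_stalk_map G k eU p hcl
  refine ⟨Φc, ?_, ?_, ?_⟩
  · apply Spec.map_injective
    rw [← cancel_mono eU.inv, Spec.map_comp, Category.assoc, ← F_s, ← Category.assoc, hΦ]
    simp only [p]
    rw [cmp_s, huu, Category.assoc, F_s, ← Category.assoc, ← Spec.map_comp]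
  · apply stalk_map_inj G k eU
    rw [Spec.map_comp, Category.assoc, hΦ, e1]
  · apply stalk_map_inj G k eU
    rw [Spec.map_comp, Category.assoc, hΦ, e2]


local notation "A" => (G.R.presheaf.stalk (uPt G k eU))

open Groth.Agent.Lib.Helper4 in
theorem isReduced_stalk_uPt [CharZero k] [LocallyOfFiniteType G.s] :
    _root_.IsReduced (G.R.presheaf.stalk (uPt G k eU)) := by
  let _ : Algebra k (G.R.presheaf.stalk (uPt G k eU)) := (sMap G k eU).hom.toAlgebra
  haveI : LocallyOfFiniteType (G.s ≫ eU.hom) := inferInstance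
  have : IsLocallyNoetherian G.R := LocallyOfFiniteType.isLocallyNoetherian (G.s ≫ eU.hom)
  have : IsNoetherianRing (G.R.presheaf.stalk (uPt G k eU)) := inferInstance
  have hσev : ∀ c : k, (evG G k eU).hom ((sMap G k eU).hom c) = c := fun c =>
    congrArg (fun f => f.hom c) (sMap_ev G k eU)
  have hτev : ∀ c : k, (evG G k eU).hom ((tMap G k eU).hom c) = c := fun c =>
    congrArg (fun f => f.hom c) (tMap_ev G k eU)
  let evA : (G.R.presheaf.stalk (uPt G k eU)) →ₐ[k] k :=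
    { (evG G k eU).hom with commutes' := hσev }
  refine CartierAlg3.isReduced_of_translations evA ?_
  intro N v hv
  have hmne : (maximalIdeal A) ^ (N + 1) ≠ ⊤ := by
    intro h
    have : (maximalIdeal A) ^ (N + 1) ≤ maximalIdeal A := Ideal.pow_le_self (Nat.succ_ne_zero N)
    rw [h, top_le_iff] at this
    exact Ideal.IsPrime.ne_top' this
  have : Nontrivial (A ⧸ (maximalIdeal A) ^ (N + 1)) := Ideal.Quotient.nontrivial_iff.mpr hmne
  have : IsLocalRing (A ⧸ (maximalIdeal A) ^ (N + 1)) :=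
    IsLocalRing.of_surjective' (Ideal.Quotient.mk _) Ideal.Quotient.mk_surjective
  let R : CommRingCat.{u} := .of (A ⧸ (maximalIdeal A) ^ (N + 1))
  let D : CommRingCat.{u} := .of (DualNumber (A ⧸ (maximalIdeal A) ^ (N + 1)))
  let KD : CommRingCat.{u} := .of (DualNumber k)
  let q : A ⟶ R := CommRingCat.ofHom (Ideal.Quotient.mk ((maximalIdeal A) ^ (N + 1)))
  let i₁ : R ⟶ D := CommRingCat.ofHom (TrivSqZeroExt.inlHom (A ⧸ (maximalIdeal A) ^ (N + 1)) (A ⧸ (maximalIdeal A) ^ (N + 1)))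
  let ρ₁ : D ⟶ R := CommRingCat.ofHom (TrivSqZeroExt.fstHom (A ⧸ (maximalIdeal A) ^ (N + 1)) (A ⧸ (maximalIdeal A) ^ (N + 1)) (A ⧸ (maximalIdeal A) ^ (N + 1))).toRingHom
  have hker : ∀ a ∈ (maximalIdeal A) ^ (N + 1), (evG G k eU).hom a = 0 := by
    intro a ha
    exact CartierAlg2.ev_eq_zero_of_mem evA (Ideal.pow_le_self (Nat.succ_ne_zero N) ha)
  let evR : R ⟶ .of k := CommRingCat.ofHom (Ideal.Quotient.lift ((maximalIdeal A) ^ (N + 1)) (evG G k eU).hom hker)
  let sR : CommRingCat.of k ⟶ R := sMap G k eU ≫ q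
  let tR : CommRingCat.of k ⟶ R := tMap G k eU ≫ q
  let j : KD ⟶ D := CommRingCat.ofHom (dmap tR.hom)
  let ρ₂ : D ⟶ KD := CommRingCat.ofHom (dmap evR.hom)
  let vc : A ⟶ KD := CommRingCat.ofHom v.toRingHom
  let fstK : KD ⟶ .of k := CommRingCat.ofHom (TrivSqZeroExt.fstHom k k k).toRingHom
  let sKD : CommRingCat.of k ⟶ KD := CommRingCat.ofHom (TrivSqZeroExt.inlHom k k)
  have : IsLocalRing D := isLocalRing_dualNumber (R := A ⧸ (maximalIdeal A) ^ (N + 1))
  have hsurj : Function.Surjective (ρ₁ ≫ evR).hom := by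
    intro c
    refine ⟨TrivSqZeroExt.inl (Ideal.Quotient.mk _ ((sMap G k eU).hom c)), ?_⟩
    exact hσev c
  have : IsLocalHom (ρ₁ ≫ evR).hom := IsLocalHom.of_surjective _ hsurj
  have h1 : i₁ ≫ ρ₁ = 𝟙 R := CommRingCat.hom_ext (RingHom.ext fun x => rfl)
  have h2 : q ≫ evR = evG G k eU := CommRingCat.hom_ext (RingHom.ext fun x => rfl)
  have h3 : sKD ≫ j = tMap G k eU ≫ q ≫ i₁ := by
    refine CommRingCat.hom_ext (RingHom.ext fun c => ?_)
    exact dmap_inl tR.hom c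
  have h4 : sMap G k eU ≫ vc = sKD := by
    refine CommRingCat.hom_ext (RingHom.ext fun c => ?_)
    exact v.commutes c
  have h5 : j ≫ ρ₁ = fstK ≫ tMap G k eU ≫ q := by
    refine CommRingCat.hom_ext (RingHom.ext fun x => ?_)
    exact dmap_fst tR.hom x
  have h6 : vc ≫ fstK = evG G k eU := by
    refine CommRingCat.hom_ext (RingHom.ext fun a => ?_)
    exact hv a
  have h7 : i₁ ≫ ρ₂ = evR ≫ sKD := by
    refine CommRingCat.hom_ext (RingHom.ext fun x => ?_)
    exact dmap_inl evR.hom x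
  have h8 : j ≫ ρ₂ = 𝟙 KD := by
    refine CommRingCat.hom_ext (RingHom.ext fun x => ?_)
    change dmap evR.hom (dmap tR.hom x) = x
    rw [dmap_comp_apply]
    have : evR.hom.comp tR.hom = RingHom.id k := by
      ext c
      exact hτev c
    rw [this, dmap_id_apply]
  obtain ⟨Φc, hΦ0, hΦ1, hΦ2⟩ := exists_lift G k eU q i₁ ρ₁ evR j ρ₂ vc fstK sKD h1 h2 h3 h4 h5 h6 h7 h8
  refine ⟨{ Φc.hom with commutes' := fun c => ?_ }, fun a => ?_, fun a b hab => ?_⟩
  · exact congrArg (fun f => f.hom c) hΦ0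
  · exact congrArg (fun f => f.hom a) hΦ1
  · have h := congrArg (fun f => (f.hom a).snd) hΦ2
    change (dmap evR.hom (Φc.hom a)).snd = (v a).snd at h
    rw [dmap_snd] at h
    rw [← h]
    change _ = evR.hom ((Φc.hom a).snd)
    rw [show (Φc.hom a).snd = _ from hab]
    rfl

end Groth.Agent.Lib.Helper13.GrpdCartier
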