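import Mathlib
import Groth.Prelude.Def_HilbD
import Groth.Agent.Lib.Helper9.Hilb1
import Groth.Agent.Lib.Helper13.WeilProj

set_option autoImplicit false
universe u
open CategoryTheory CategoryTheory.Limits AlgebraicGeometry

namespace Groth.Agent.Lib.Helper13.HilbClosed

open Groth.Agent.Lib.Helper9.Hilb1

variable {X S : Scheme.{u}} (f : X ⟶ S)

/-- `X_{T'} ⟶ X_T` is the base change of `T' ⟶ T` -/
theorem isPullback_XTmap {T T' : Over S} (g : T' ⟶ T) :
    IsPullback (PicF.XTmap f g) (PicF.XTproj f T') (PicF.XTproj f T) g.left := by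
  have hr : IsPullback (pullback.fst f T.hom) (PicF.XTproj f T) f T.hom :=
    IsPullback.of_hasPullback f T.hom
  have ho : IsPullback (PicF.XTmap f g ≫ pullback.fst f T.hom) (PicF.XTproj f T') f
      (g.left ≫ T.hom) := by
    rw [XTmap_fst, Over.w g]
    exact IsPullback.of_hasPullback f T'.hom
  exact IsPullback.of_right ho (XTmap_snd f g) hr

theorem XTmap_comp {T T' T'' : Over S} (g : T' ⟶ T) (g' : T'' ⟶ T') :
    PicF.XTmap f (g' ≫ g) = PicF.XTmap f g' ≫ PicF.XTmap f g := by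
  apply pullback.hom_ext
  · rw [Category.assoc, XTmap_fst, XTmap_fst, XTmap_fst]
  · rw [Category.assoc, XTmap_snd, XTmap_snd, XTmap_snd_assoc, Over.comp_left]

theorem pull_comp {T T' T'' : Over S} (g : T' ⟶ T) (g' : T'' ⟶ T')
    (I : (PicF.XT f T).IdealSheafData) :
    HilbD.pull f (g' ≫ g) I = HilbD.pull f g' (HilbD.pull f g I) := by
  rw [pull_eq_comap, pull_eq_comap, pull_eq_comap, XTmap_comp, Scheme.IdealSheafData.comap_comp]

theorem XTmap_id (T : Over S) : PicF.XTmap f (𝟙 T) = 𝟙 _ := by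
  apply pullback.hom_ext
  · rw [XTmap_fst, Category.id_comp]
  · rw [XTmap_snd, Category.id_comp]; simp

theorem pull_id (T : Over S) (I : (PicF.XT f T).IdealSheafData) : HilbD.pull f (𝟙 T) I = I := by
  rw [pull_eq_comap, XTmap_id, Scheme.IdealSheafData.comap_id]

/-- the base change square of the closed subscheme -/
theorem isPullback_comap {T T' : Over S} (g : T' ⟶ T) (I : (PicF.XT f T).IdealSheafData) :
    IsPullback ((I.comapIso (PicF.XTmap f g)).hom ≫ pullback.snd (PicF.XTmap f g) I.subschemeι)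
      ((I.comap (PicF.XTmap f g)).subschemeι ≫ PicF.XTproj f T')
      (I.subschemeι ≫ PicF.XTproj f T) g.left := by
  set G := PicF.XTmap f g
  let Zf : (I.comap G).subscheme ⟶ I.subscheme := (I.comapIso G).hom ≫ pullback.snd G I.subschemeι
  have hcomm : (I.comap G).subschemeι ≫ G = Zf ≫ I.subschemeι := by
    change _ = ((I.comapIso G).hom ≫ pullback.snd G I.subschemeι) ≫ I.subschemeι
    rw [Category.assoc, ← pullback.condition, Scheme.IdealSheafData.comapIso_hom_fst_assoc]
  have hL : IsPullback (I.comap G).subschemeι Zf G I.subschemeι :=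
    isPullback_of_isClosedImmersion _ _ Zf G hcomm (by
      rw [Scheme.IdealSheafData.ker_subschemeι, Scheme.IdealSheafData.ker_subschemeι])
  exact (hL.paste_horiz (isPullback_XTmap f g).flip).flip

/-- `Hilb^d` is stable under base change -/
theorem pull_mem (d : ℕ) {T T' : Over S} (g : T' ⟶ T) (I : (PicF.XT f T).IdealSheafData)
    (hI : Mor2.IsFinLocFreeOfDeg d (I.subschemeι ≫ PicF.XTproj f T)) :
    Mor2.IsFinLocFreeOfDeg d ((HilbD.pull f g I).subschemeι ≫ PicF.XTproj f T') := by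
  rw [pull_eq_comap]
  have hsq := isPullback_comap f g I
  obtain ⟨⟨h1, h2, h3⟩, h4⟩ := hI
  haveI := h1
  haveI := h2
  haveI := h3
  refine ⟨⟨MorphismProperty.of_isPullback (P := @IsFinite) hsq h1,
    MorphismProperty.of_isPullback (P := @Flat) hsq h2,
    MorphismProperty.of_isPullback (P := @LocallyOfFinitePresentation) hsq h3⟩, ?_⟩
  intro y
  rw [Scheme.Hom.finrank_of_isPullback _ _ _ _ hsq y, h4]

/-- **the locus where `W₁ ⊆ W₂` is closed** (for `W₁` finite locally free over the base). -/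
theorem exists_closed_le (T : Over S) (I₁ I₂ : (PicF.XT f T).IdealSheafData)
    (h1 : Mor2.IsFinLocFree (I₁.subschemeι ≫ PicF.XTproj f T)) :
    ∃ (D : Scheme.{u}) (j : D ⟶ T.left), IsClosedImmersion j ∧
      ∀ (T' : Over S) (g : T' ⟶ T), (∃ z : T'.left ⟶ D, z ≫ j = g.left) ↔
        I₂.comap (PicF.XTmap f g) ≤ I₁.comap (PicF.XTmap f g) := by
  obtain ⟨hf1, hf2, hf3⟩ := h1
  haveI := hf1
  haveI := hf2
  haveI := hf3
  obtain ⟨D, j, hj, -, hD⟩ := Groth.Agent.Lib.Helper13.WeilProj.exists_closed_of_finite_flat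
    (I₁.subschemeι ≫ PicF.XTproj f T) (pullback.fst I₁.subschemeι I₂.subschemeι)
  refine ⟨D, j, hj, ?_⟩
  intro T' g
  obtain ⟨G, hG⟩ : ∃ G, G = PicF.XTmap f g := ⟨_, rfl⟩
  have hsq := isPullback_comap f g I₁
  rw [← hG] at hsq ⊢
  obtain ⟨Zf, hZf⟩ : ∃ Zf, Zf = (I₁.comapIso G).hom ≫ pullback.snd G I₁.subschemeι := ⟨_, rfl⟩
  rw [← hZf] at hsq
  rw [hD g.left _ _ hsq]
  have hcomm : (I₁.comap G).subschemeι ≫ G = Zf ≫ I₁.subschemeι := by
    rw [hZf, Category.assoc, ← pullback.condition, Scheme.IdealSheafData.comapIso_hom_fst_assoc]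
  rw [← Scheme.IdealSheafData.le_map_iff_comap_le, Scheme.IdealSheafData.map, hcomm]
  constructor
  · rintro ⟨w, hw⟩
    have h2 : Zf ≫ I₁.subschemeι = (w ≫ pullback.snd I₁.subschemeι I₂.subschemeι) ≫
        I₂.subschemeι := by
      rw [Category.assoc, ← pullback.condition, ← Category.assoc, hw]
    rw [h2]
    calc I₂ = I₂.subschemeι.ker := (Scheme.IdealSheafData.ker_subschemeι I₂).symm
      _ ≤ _ := Scheme.Hom.le_ker_comp _ _
  · intro h
    let w' : (I₁.comap G).subscheme ⟶ I₂.subscheme :=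
      IsClosedImmersion.lift I₂.subschemeι (Zf ≫ I₁.subschemeι)
        (by rw [Scheme.IdealSheafData.ker_subschemeι]; exact h)
    have hw' : w' ≫ I₂.subschemeι = Zf ≫ I₁.subschemeι := IsClosedImmersion.lift_fac _ _ _
    exact ⟨pullback.lift Zf w' hw'.symm, pullback.lift_fst _ _ _⟩

/-- **the locus where `W₁ = W₂` is closed.** -/
theorem exists_closed_eq (T : Over S) (I₁ I₂ : (PicF.XT f T).IdealSheafData)
    (h1 : Mor2.IsFinLocFree (I₁.subschemeι ≫ PicF.XTproj f T))
    (h2 : Mor2.IsFinLocFree (I₂.subschemeι ≫ PicF.XTproj f T)) :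
    ∃ (D : Scheme.{u}) (j : D ⟶ T.left), IsClosedImmersion j ∧
      ∀ (T' : Over S) (g : T' ⟶ T), (∃ z : T'.left ⟶ D, z ≫ j = g.left) ↔
        HilbD.pull f g I₁ = HilbD.pull f g I₂ := by
  obtain ⟨D₁, j₁, hj₁, hD₁⟩ := exists_closed_le f T I₁ I₂ h1
  obtain ⟨D₂, j₂, hj₂, hD₂⟩ := exists_closed_le f T I₂ I₁ h2
  refine ⟨pullback j₁ j₂, pullback.fst j₁ j₂ ≫ j₁, inferInstance, ?_⟩
  intro T' g
  rw [pull_eq_comap, pull_eq_comap]
  constructor
  · rintro ⟨z, hz⟩
    apply le_antisymm
    · exact (hD₂ T' g).mp ⟨z ≫ pullback.snd j₁ j₂, by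
        rw [Category.assoc, ← pullback.condition, ← Category.assoc, ← hz, Category.assoc]⟩
    · exact (hD₁ T' g).mp ⟨z ≫ pullback.fst j₁ j₂, by rw [Category.assoc, hz]⟩
  · intro h
    obtain ⟨z₁, hz₁⟩ := (hD₁ T' g).mpr h.ge
    obtain ⟨z₂, hz₂⟩ := (hD₂ T' g).mpr h.le
    exact ⟨pullback.lift z₁ z₂ (by rw [hz₁, hz₂]), by rw [pullback.lift_fst_assoc, hz₁]⟩

section ideals

variable {X' Y' : Scheme.{u}} (ι : X' ⟶ Y') [IsClosedImmersion ι]

/-- the subscheme of the pushforward ideal -/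
theorem exists_iso_map (I : X'.IdealSheafData) :
    ∃ e : I.subscheme ≅ (I.map ι).subscheme, e.hom ≫ (I.map ι).subschemeι = I.subschemeι ≫ ι := by
  have h1 : (I.map ι).subschemeι.ker = (I.subschemeι ≫ ι).ker := by
    rw [Scheme.IdealSheafData.ker_subschemeι]; rfl
  let e : I.subscheme ⟶ (I.map ι).subscheme :=
    IsClosedImmersion.lift (I.map ι).subschemeι (I.subschemeι ≫ ι) h1.le
  have he : e ≫ (I.map ι).subschemeι = I.subschemeι ≫ ι := IsClosedImmersion.lift_fac _ _ _
  haveI : IsIso e := IsClosedImmersion.isIso_of_ker_eq (I.subschemeι ≫ ι) (I.map ι).subschemeι e he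
    h1.symm
  exact ⟨asIso e, he⟩

/-- for a closed immersion, `comap ∘ map = id` -/
theorem comap_map (I : X'.IdealSheafData) : (I.map ι).comap ι = I := by
  obtain ⟨e, he⟩ := exists_iso_map ι I
  let l : I.subscheme ⟶ pullback ι (I.map ι).subschemeι := pullback.lift I.subschemeι e.hom he.symm
  have hl : l ≫ pullback.fst ι (I.map ι).subschemeι = I.subschemeι := pullback.lift_fst _ _ _
  have hl2 : l ≫ pullback.snd ι (I.map ι).subschemeι = e.hom := pullback.lift_snd _ _ _
  haveI : IsIso l := by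
    refine ⟨pullback.snd ι (I.map ι).subschemeι ≫ e.inv, ?_, ?_⟩
    · rw [← Category.assoc, hl2, Iso.hom_inv_id]
    · apply pullback.hom_ext
      · rw [Category.assoc, Category.assoc, hl, Category.id_comp, ← cancel_mono ι, Category.assoc,
          Category.assoc, ← he, Iso.inv_hom_id_assoc, pullback.condition]
      · rw [Category.assoc, Category.assoc, hl2, Iso.inv_hom_id, Category.comp_id, Category.id_comp]
  calc (I.map ι).comap ι = (pullback.fst ι (I.map ι).subschemeι).ker := rfl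
    _ = (l ≫ pullback.fst ι (I.map ι).subschemeι).ker := (Scheme.Hom.ker_comp_of_isIso l _).symm
    _ = I.subschemeι.ker := by rw [hl]
    _ = I := Scheme.IdealSheafData.ker_subschemeι I

/-- for a closed immersion, `map ∘ comap = id` on ideals containing the kernel -/
theorem map_comap_of_le (J : Y'.IdealSheafData) (h : ι.ker ≤ J) : (J.comap ι).map ι = J := by
  apply le_antisymm _ (Scheme.IdealSheafData.le_map_comap J ι)
  -- `J.subschemeι` factors through `ι`
  let t : J.subscheme ⟶ X' := IsClosedImmersion.lift ι J.subschemeι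
    (by rw [Scheme.IdealSheafData.ker_subschemeι]; exact h)
  have ht : t ≫ ι = J.subschemeι := IsClosedImmersion.lift_fac _ _ _
  -- `t` factors through `V(J.comap ι)`
  let l : J.subscheme ⟶ pullback ι J.subschemeι := pullback.lift t (𝟙 _) (by rw [ht, Category.id_comp])
  have hl : l ≫ pullback.fst ι J.subschemeι = t := pullback.lift_fst _ _ _
  have h2 : t = (l ≫ (J.comapIso ι).inv) ≫ (J.comap ι).subschemeι := by
    rw [Category.assoc, Scheme.IdealSheafData.comapIso_inv_subschemeι, hl]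
  calc (J.comap ι).map ι = ((J.comap ι).subschemeι ≫ ι).ker := rfl
    _ ≤ ((l ≫ (J.comapIso ι).inv) ≫ (J.comap ι).subschemeι ≫ ι).ker := Scheme.Hom.le_ker_comp _ _
    _ = J.subschemeι.ker := by rw [← Category.assoc, ← h2, ht]
    _ = J := Scheme.IdealSheafData.ker_subschemeι J

end ideals

end Groth.Agent.Lib.Helper13.HilbClosed
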