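import Mathlib

/-! Helper13: families of group homomorphisms in a cartesian monoidal category as an equalizer condition. -/

set_option autoImplicit false
set_option linter.unusedSectionVars false
universe v u
open CategoryTheory MonoidalCategory CartesianMonoidalCategory MonObj GrpObj

namespace Groth.Agent.Lib.Helper13.HomFam

variable {𝒞 : Type u} [Category.{v} 𝒞] [CartesianMonoidalCategory 𝒞] [BraidedCategory 𝒞]
  (H G : 𝒞) [GrpObj H] [GrpObj G]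

/-- left-handed family of homomorphisms -/
def IsHomFamilyL {T : 𝒞} (φ : T ⊗ H ⟶ G) : Prop :=
  ∀ (X : 𝒞) (t : X ⟶ T) (g₁ g₂ : X ⟶ H),
    lift t (g₁ * g₂) ≫ φ = (lift t g₁ ≫ φ) * (lift t g₂ ≫ φ)

/-- `(w, h₁, h₂) ↦ υ(w, h₁ h₂)` -/
def f₁ {W : 𝒞} (υ : W ⊗ H ⟶ G) : W ⊗ (H ⊗ H) ⟶ G := (W ◁ μ[H]) ≫ υ

/-- `(w, h₁, h₂) ↦ υ(w, h₁) υ(w, h₂)` -/
def f₂ {W : 𝒞} (υ : W ⊗ H ⟶ G) : W ⊗ (H ⊗ H) ⟶ G :=
  (lift (fst W (H ⊗ H)) (snd W (H ⊗ H) ≫ fst H H) ≫ υ) *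
    (lift (fst W (H ⊗ H)) (snd W (H ⊗ H) ≫ snd H H) ≫ υ)

theorem lift_f₁ {W X : 𝒞} (υ : W ⊗ H ⟶ G) (w : X ⟶ W) (g₁ g₂ : X ⟶ H) :
    lift w (lift g₁ g₂) ≫ f₁ H G υ = lift w (g₁ * g₂) ≫ υ := by
  rw [f₁, lift_whiskerLeft_assoc, Hom.mul_def]

theorem lift_f₂ {W X : 𝒞} (υ : W ⊗ H ⟶ G) (w : X ⟶ W) (g₁ g₂ : X ⟶ H) :
    lift w (lift g₁ g₂) ≫ f₂ H G υ = (lift w g₁ ≫ υ) * (lift w g₂ ≫ υ) := by
  rw [f₂, MonObj.comp_mul, ← Category.assoc, ← Category.assoc, comp_lift, comp_lift]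
  simp only [lift_fst, lift_snd_assoc, lift_snd]

theorem isHomFamilyL_iff {W T : 𝒞} (υ : W ⊗ H ⟶ G) (x : T ⟶ W) :
    IsHomFamilyL H G ((x ▷ H) ≫ υ) ↔
      (x ▷ (H ⊗ H)) ≫ f₁ H G υ = (x ▷ (H ⊗ H)) ≫ f₂ H G υ := by
  constructor
  · intro h
    have hx : x ▷ (H ⊗ H) = lift (fst T (H ⊗ H) ≫ x)
        (lift (snd T (H ⊗ H) ≫ fst H H) (snd T (H ⊗ H) ≫ snd H H)) := by
      apply CartesianMonoidalCategory.hom_ext
      · rw [whiskerRight_fst, lift_fst]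
      · rw [whiskerRight_snd, lift_snd, lift_comp_fst_snd]
    rw [hx, lift_f₁, lift_f₂]
    have := h (T ⊗ (H ⊗ H)) (fst _ _) (snd _ _ ≫ fst H H) (snd _ _ ≫ snd H H)
    simp only [lift_whiskerRight_assoc] at this
    exact this
  · intro h X t g₁ g₂
    have h1 := congrArg (fun k => lift t (lift g₁ g₂) ≫ k) h
    simp only [lift_whiskerRight_assoc] at h1
    rw [lift_f₁, lift_f₂] at h1
    simp only [lift_whiskerRight_assoc]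
    exact h1

/-- conversion between left- and right-handed families -/
theorem isHomFamilyL_braiding {T : 𝒞} (φ : H ⊗ T ⟶ G) :
    IsHomFamilyL H G ((β_ T H).hom ≫ φ) ↔
      ∀ (X : 𝒞) (g₁ g₂ : X ⟶ H) (t : X ⟶ T),
        lift (g₁ * g₂) t ≫ φ = (lift g₁ t ≫ φ) * (lift g₂ t ≫ φ) := by
  constructor
  · intro h X g₁ g₂ t
    have := h X t g₁ g₂
    simp only [lift_braiding_hom_assoc] at this
    exact this
  · intro h X t g₁ g₂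
    simp only [lift_braiding_hom_assoc]
    exact h X g₁ g₂ t

end Groth.Agent.Lib.Helper13.HomFam
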