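import Mathlib

/-!
# Zariski-local representability over a base (helper13)

For `F : (Over S)ᵒᵖ ⥤ Type u` satisfying the Zariski sheaf condition `IsZarSheaf`, representability of
the restrictions `(Over.map (q a)).op ⋙ F` to an open cover `q a : S' a ⟶ S` gives representability of
`F` (`exists_representableBy_of_local`), with the representing object restricting to the local ones.
Pattern adapted from helper9's `DescSec6` (total functor `T ↦ Σ t, F(T, t)` and Mathlib's
`Scheme.LocalRepresentability`).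
-/

set_option backward.isDefEq.respectTransparency false
set_option autoImplicit false
set_option linter.unusedSectionVars false
set_option linter.unusedVariables false
universe u
open CategoryTheory CategoryTheory.Limits AlgebraicGeometry Opposite

namespace Groth.Agent.Lib.Helper13.RelLocRep

variable {S : Scheme.{u}} (F : (Over S)ᵒᵖ ⥤ Type u)

/-- pull back a section along a morphism of `S`-schemes given by raw data -/
def pull {T T' : Scheme.{u}} {t : T ⟶ S} (x : F.obj (op (Over.mk t))) (g : T' ⟶ T) (t' : T' ⟶ S)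
    (h : g ≫ t = t') : F.obj (op (Over.mk t')) :=
  F.map (Over.homMk g h : Over.mk t' ⟶ Over.mk t).op x

variable {F}

theorem pull_id {T : Scheme.{u}} {t : T ⟶ S} (x : F.obj (op (Over.mk t))) (h : 𝟙 T ≫ t = t) :
    pull F x (𝟙 T) t h = x := by
  have : (Over.homMk (𝟙 T) h : Over.mk t ⟶ Over.mk t) = 𝟙 _ := rfl
  simp [pull, this]

theorem pull_pull {T T' T'' : Scheme.{u}} {t : T ⟶ S} (x : F.obj (op (Over.mk t))) (g : T' ⟶ T)
    (t' : T' ⟶ S) (h : g ≫ t = t') (g' : T'' ⟶ T') (t'' : T'' ⟶ S) (h' : g' ≫ t' = t'')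
    (h'' : (g' ≫ g) ≫ t = t'') :
    pull F (pull F x g t' h) g' t'' h' = pull F x (g' ≫ g) t'' h'' := by
  have : (Over.homMk (g' ≫ g) h'' : Over.mk t'' ⟶ Over.mk t) =
      (Over.homMk g' h' : Over.mk t'' ⟶ Over.mk t') ≫ (Over.homMk g h : Over.mk t' ⟶ Over.mk t) := rfl
  simp [pull, this]

theorem pull_congr {T T' : Scheme.{u}} {t : T ⟶ S} (x : F.obj (op (Over.mk t))) {g g' : T' ⟶ T}
    (hgg : g = g') (t' : T' ⟶ S) (h : g ≫ t = t') (h' : g' ≫ t = t') :
    pull F x g t' h = pull F x g' t' h' := by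
  subst hgg; rfl

variable (F)

/-- the elements of the total functor -/
abbrev El (T : Scheme.{u}) : Type u := Σ t : T ⟶ S, F.obj (op (Over.mk t))

variable {F}

theorem El.ext {T : Scheme.{u}} {a b : El F T} (h1 : a.1 = b.1)
    (h2 : pull F a.2 (𝟙 T) b.1 (by rw [Category.id_comp, h1]) = b.2) : a = b := by
  obtain ⟨t, σ⟩ := a
  obtain ⟨t', σ'⟩ := b
  dsimp only at h1
  subst h1
  rw [pull_id] at h2
  dsimp only at h2
  subst h2
  rfl

/-- restriction of elements -/
def El.res {T T' : Scheme.{u}} (g : T' ⟶ T) (a : El F T) : El F T' :=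
  ⟨g ≫ a.1, pull F a.2 g _ rfl⟩

theorem El.res_id {T : Scheme.{u}} (a : El F T) : El.res (𝟙 T) a = a := by
  apply El.ext (Category.id_comp _)
  change pull F (pull F a.2 (𝟙 T) (𝟙 T ≫ a.1) rfl) (𝟙 T) a.1 _ = a.2
  rw [pull_pull _ _ _ _ _ _ _ (by simp)]
  exact (pull_congr _ (Category.id_comp _) _ _ (Category.id_comp _)).trans (pull_id _ _)

theorem El.res_res {T T' T'' : Scheme.{u}} (g : T' ⟶ T) (g' : T'' ⟶ T') (a : El F T) :
    El.res g' (El.res g a) = El.res (g' ≫ g) a := by
  apply El.ext (Category.assoc _ _ _).symm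
  change pull F (pull F (pull F a.2 g (g ≫ a.1) rfl) g' (g' ≫ g ≫ a.1) rfl) (𝟙 T'')
    ((g' ≫ g) ≫ a.1) _ = pull F a.2 (g' ≫ g) _ rfl
  rw [pull_pull _ _ _ _ _ _ _ (by simp), pull_pull _ _ _ _ _ _ _ (by simp)]
  exact pull_congr _ (by simp) _ _ _

variable (F)

/-- the total functor on all schemes -/
def totF : Scheme.{u}ᵒᵖ ⥤ Type u where
  obj T := El F T.unop
  map g := ↾fun a => El.res g.unop a
  map_id T := by
    apply ConcreteCategory.hom_ext
    intro a
    exact El.res_id a
  map_comp g g' := by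
    apply ConcreteCategory.hom_ext
    intro a
    exact (El.res_res g.unop g'.unop a).symm

variable {F}

theorem El.eq_iff {T : Scheme.{u}} {a b : El F T} (h : a = b) :
    ∃ h1 : a.1 = b.1, pull F a.2 (𝟙 T) b.1 (by rw [Category.id_comp, h1]) = b.2 := by
  subst h
  exact ⟨rfl, pull_id _ _⟩

theorem pull_eq_pull_of {T T₁ T₂ : Scheme.{u}} {t₁ : T₁ ⟶ S} {t₂ : T₂ ⟶ S}
    (x₁ : F.obj (op (Over.mk t₁))) (x₂ : F.obj (op (Over.mk t₂))) (g₁ : T ⟶ T₁) (g₂ : T ⟶ T₂)
    (t t' : T ⟶ S) (e : t = t') (h₁ : g₁ ≫ t₁ = t) (h₂ : g₂ ≫ t₂ = t)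
    (H : pull F x₁ g₁ t h₁ = pull F x₂ g₂ t h₂) :
    pull F x₁ g₁ t' (h₁.trans e) = pull F x₂ g₂ t' (h₂.trans e) := by
  subst e; exact H

variable (F)

/-- the Zariski sheaf condition for a presheaf on `Over S` -/
def IsZarSheaf : Prop :=
  ∀ (T : Scheme.{u}) (t : T ⟶ S) (𝓤 : Scheme.OpenCover.{u + 1} T)
    (x : ∀ k, F.obj (op (Over.mk (𝓤.f k ≫ t)))),
    (∀ k k', pull F (x k) (pullback.fst (𝓤.f k) (𝓤.f k'))
        (pullback.fst (𝓤.f k) (𝓤.f k') ≫ 𝓤.f k ≫ t) rfl =
      pull F (x k') (pullback.snd (𝓤.f k) (𝓤.f k'))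
        (pullback.fst (𝓤.f k) (𝓤.f k') ≫ 𝓤.f k ≫ t)
        (by rw [← Category.assoc, ← pullback.condition, Category.assoc])) →
    ∃! a : F.obj (op (Over.mk t)), ∀ k, pull F a (𝓤.f k) _ rfl = x k

variable {F}

theorem isSheaf_totF (hF : IsZarSheaf F) :
    Presheaf.IsSheaf Scheme.zariskiTopology (totF F) := by
  rw [isSheaf_iff_isSheaf_of_type]
  rw [Precoverage.isSheaf_toGrothendieck_iff_of_isStableUnderBaseChange]
  rintro Y R hR
  obtain ⟨(𝓤 : Scheme.OpenCover Y), rfl⟩ := Scheme.exists_cover_of_mem_pretopology hR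
  rw [Presieve.isSheafFor_arrows_iff]
  intro x hx
  have hx' : ∀ (k k' : 𝓤.I₀) (Z : Scheme.{u}) (gk : Z ⟶ 𝓤.X k) (gk' : Z ⟶ 𝓤.X k'),
      gk ≫ 𝓤.f k = gk' ≫ 𝓤.f k' → El.res gk (x k) = El.res gk' (x k') :=
    fun k k' Z gk gk' e => hx k k' Z gk gk' e
  have hcompat : ∀ k k', pullback.fst (𝓤.f k) (𝓤.f k') ≫ (x k).1 =
      pullback.snd (𝓤.f k) (𝓤.f k') ≫ (x k').1 := fun k k' =>
    (El.eq_iff (hx' k k' _ _ _ pullback.condition)).1
  let t : Y ⟶ S := 𝓤.glueMorphisms (fun k => (x k).1) hcompat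
  have ht : ∀ k, 𝓤.f k ≫ t = (x k).1 := fun k => 𝓤.ι_glueMorphisms _ hcompat k
  let σ : ∀ k, F.obj (op (Over.mk (𝓤.f k ≫ t))) := fun k =>
    pull F (x k).2 (𝟙 _) (𝓤.f k ≫ t) (by rw [Category.id_comp, ht k])
  have hσ : ∀ k k', pull F (σ k) (pullback.fst (𝓤.f k) (𝓤.f k'))
        (pullback.fst (𝓤.f k) (𝓤.f k') ≫ 𝓤.f k ≫ t) rfl =
      pull F (σ k') (pullback.snd (𝓤.f k) (𝓤.f k'))
        (pullback.fst (𝓤.f k) (𝓤.f k') ≫ 𝓤.f k ≫ t)
        (by rw [← Category.assoc, ← pullback.condition, Category.assoc]) := by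
    intro k k'
    obtain ⟨h1, h2⟩ := El.eq_iff (hx' k k' _ _ _ (pullback.condition (f := 𝓤.f k) (g := 𝓤.f k')))
    change pull F (pull F (x k).2 _ _ rfl) (𝟙 _) _ _ = pull F (x k').2 _ _ rfl at h2
    rw [pull_pull _ _ _ _ _ _ _ (by
      rw [Category.id_comp]; exact h1)] at h2
    have e : pullback.snd (𝓤.f k) (𝓤.f k') ≫ (x k').1 =
        pullback.fst (𝓤.f k) (𝓤.f k') ≫ 𝓤.f k ≫ t := by rw [ht k]; exact h1.symm
    have h3 := pull_eq_pull_of _ _ _ _ _ _ e _ _ h2
    change pull F (pull F (x k).2 (𝟙 _) _ _) _ _ rfl = pull F (pull F (x k').2 (𝟙 _) _ _) _ _ _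
    rw [pull_pull _ _ _ _ _ _ _ (by rw [Category.comp_id, ← ht k]),
      pull_pull _ _ _ _ _ _ _ (by
        rw [Category.comp_id, ← ht k', ← Category.assoc, ← pullback.condition, Category.assoc])]
    refine (pull_congr _ ?_ _ _ _).trans (h3.trans (pull_congr _ ?_ _ _ _))
    · rw [Category.comp_id, Category.id_comp]
    · rw [Category.comp_id]
  obtain ⟨a, ha, hau⟩ := hF Y t 𝓤 σ hσ
  refine ⟨⟨t, a⟩, fun k => ?_, fun b hb => ?_⟩
  · change El.res (𝓤.f k) ⟨t, a⟩ = x k
    apply El.ext (ht k)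
    change pull F (pull F a (𝓤.f k) (𝓤.f k ≫ t) rfl) (𝟙 _) (x k).1 _ = (x k).2
    rw [ha k]
    change pull F (pull F (x k).2 (𝟙 _) (𝓤.f k ≫ t) _) (𝟙 _) (x k).1 _ = (x k).2
    rw [pull_pull _ _ _ _ _ _ _ (by simp)]
    exact (pull_congr _ (Category.id_comp _) _ _ (Category.id_comp _)).trans (pull_id _ _)
  · have hb' : ∀ k, El.res (𝓤.f k) b = x k := hb
    obtain ⟨t', a'⟩ := b
    have e1 : t' = t := by
      refine 𝓤.hom_ext _ _ fun k => ?_
      rw [ht k]
      exact (El.eq_iff (hb' k)).1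
    subst e1
    congr 1
    apply hau
    intro k
    obtain ⟨h1, h2⟩ := El.eq_iff (hb' k)
    change pull F (pull F a' (𝓤.f k) _ rfl) (𝟙 _) _ _ = _ at h2
    change _ = pull F (x k).2 (𝟙 _) _ _
    rw [← h2, pull_pull _ _ _ _ _ _ _ (by simp)]
    exact ((pull_congr _ (Category.id_comp _) _ _ (Category.id_comp _)).trans (pull_id _ _)).symm

/-- the morphism from a representable functor given by an element -/
def homOfEl {T : Scheme.{u}} (e : El F T) : yoneda.obj T ⟶ totF F where
  app T' := ↾fun b => El.res b e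
  naturality := by
    intro T' T'' c
    apply ConcreteCategory.hom_ext
    intro b
    exact (El.res_res b c.unop e).symm

theorem homOfEl_app {T T' : Scheme.{u}} (e : El F T) (b : T' ⟶ T) :
    (homOfEl e).app (op T') b = El.res b e := rfl

theorem g_app {T T' : Scheme.{u}} (g : yoneda.obj T ⟶ totF F) (b : T' ⟶ T) :
    g.app (op T') b = El.res b (yonedaEquiv g) := by
  have h1 : g.app (op T') b = (totF F).map b.op (yonedaEquiv g) := by
    rw [yonedaEquiv_naturality]
    simp [yonedaEquiv]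
  rw [h1]
  rfl

section loc

variable {A : Type u} {S' : A → Scheme.{u}} (q : ∀ a, S' a ⟶ S) [∀ a, IsOpenImmersion (q a)]
  (W : ∀ a, Over (S' a)) (r : ∀ a, ((Over.map (q a)).op ⋙ F).RepresentableBy (W a))

/-- the local universal sections -/
def univ (a : A) : F.obj (op (Over.mk ((W a).hom ≫ q a))) := (r a).homEquiv (𝟙 (W a))

/-- the local universal elements -/
def elOf (a : A) : El F (W a).left := ⟨(W a).hom ≫ q a, univ q W r a⟩

theorem homEquiv_eq_pull (a : A) {T : Scheme.{u}} (t' : T ⟶ S' a) (c : Over.mk t' ⟶ W a) :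
    (r a).homEquiv c = pull F (univ q W r a) c.left (t' ≫ q a) (by
      rw [← Category.assoc]; exact congrArg (· ≫ q a) (Over.w c)) := by
  rw [(r a).homEquiv_eq]
  rfl

theorem existsUnique_res_eq (a : A) {T : Scheme.{u}} (e : El F T) (t' : T ⟶ S' a)
    (ht' : t' ≫ q a = e.1) : ∃! g : T ⟶ (W a).left, El.res g (elOf q W r a) = e := by
  let x' : F.obj (op (Over.mk (t' ≫ q a))) :=
    pull F e.2 (𝟙 T) (t' ≫ q a) (by rw [Category.id_comp, ht'])
  let c : Over.mk t' ⟶ W a := ((r a).homEquiv (X := Over.mk t')).symm x'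
  have hc0 : (r a).homEquiv c = x' := ((r a).homEquiv (X := Over.mk t')).apply_symm_apply x'
  have hc := hc0
  rw [homEquiv_eq_pull] at hc
  have hcw : c.left ≫ (W a).hom = t' := Over.w c
  refine ⟨c.left, ?_, ?_⟩
  · apply El.ext (by
      change c.left ≫ (W a).hom ≫ q a = e.1
      rw [← Category.assoc, hcw, ht'])
    change pull F (pull F (univ q W r a) c.left (c.left ≫ (W a).hom ≫ q a) rfl) (𝟙 T) e.1 _ = e.2
    rw [pull_pull _ _ _ _ _ _ _ (by
      rw [Category.id_comp, ← Category.assoc, hcw, ht'])]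
    have h3 := pull_eq_pull_of _ _ _ _ _ _ ht' _ _ hc
    exact (pull_congr _ (Category.id_comp _) _ _ _).trans (h3.trans (pull_id _ _))
  · intro g' hg'
    obtain ⟨h1, h2⟩ := El.eq_iff hg'
    have hg'1 : g' ≫ (W a).hom = t' := by
      rw [← cancel_mono (q a), Category.assoc, ht']
      exact h1
    let c' : Over.mk t' ⟶ W a := Over.homMk g' hg'1
    have hc' : (r a).homEquiv c' = x' := by
      rw [homEquiv_eq_pull]
      change pull F (univ q W r a) g' (t' ≫ q a) _ = pull F e.2 (𝟙 T) (t' ≫ q a) _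
      change pull F (pull F (univ q W r a) g' (g' ≫ (W a).hom ≫ q a) rfl) (𝟙 T) e.1 _ = e.2 at h2
      rw [← h2, pull_pull _ _ _ _ _ _ _ (by
        simp only [Category.id_comp]; rw [← Category.assoc, hg'1]),
        pull_pull _ _ _ _ _ _ _ (by
        simp only [Category.id_comp]; rw [← Category.assoc, hg'1])]
      exact pull_congr _ (by simp) _ _ _
    have : c' = c := (r a).homEquiv.injective (hc'.trans hc0.symm)
    exact congrArg (fun d => d.left) this

/-- the open where an element comes from the `a`-th piece -/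
def Wof (a : A) {T : Scheme.{u}} (e : El F T) : T.Opens := e.1 ⁻¹ᵁ (q a).opensRange

/-- the factorisation through `S' a` on `Wof` -/
noncomputable def tW (a : A) {T : Scheme.{u}} (e : El F T) : (Wof q a e).toScheme ⟶ S' a :=
  IsOpenImmersion.lift (q a) ((Wof q a e).ι ≫ e.1) (by
    rintro _ ⟨w, rfl⟩
    have : (e.1) ((Wof q a e).ι w) ∈ (q a).opensRange := w.2
    rw [Scheme.Hom.comp_apply]
    exact this)

theorem tW_q (a : A) {T : Scheme.{u}} (e : El F T) : tW q a e ≫ q a = (Wof q a e).ι ≫ e.1 :=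
  IsOpenImmersion.lift_fac _ _ _

theorem exists_liftW (a : A) {T : Scheme.{u}} (e : El F T) :
    ∃ l : (Wof q a e).toScheme ⟶ (W a).left,
      El.res l (elOf q W r a) = El.res (Wof q a e).ι e :=
  (existsUnique_res_eq q W r a (El.res (Wof q a e).ι e) (tW q a e) (tW_q q a e)).exists

/-- the local lift -/
noncomputable def liftW (a : A) {T : Scheme.{u}} (e : El F T) :
    (Wof q a e).toScheme ⟶ (W a).left := (exists_liftW q W r a e).choose

theorem liftW_spec (a : A) {T : Scheme.{u}} (e : El F T) :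
    El.res (liftW q W r a e) (elOf q W r a) = El.res (Wof q a e).ι e :=
  (exists_liftW q W r a e).choose_spec

theorem comm_sq (a : A) {T T' : Scheme.{u}} (e : El F T) (c : T' ⟶ (Wof q a e).toScheme) :
    El.res (c ≫ liftW q W r a e) (elOf q W r a) = El.res (c ≫ (Wof q a e).ι) e := by
  rw [← El.res_res, liftW_spec, El.res_res]

theorem exists_lift_sq (a : A) {T T' : Scheme.{u}} (e : El F T) (b : T' ⟶ (W a).left)
    (c' : T' ⟶ T) (h : El.res b (elOf q W r a) = El.res c' e) :
    ∃ c : T' ⟶ (Wof q a e).toScheme, c ≫ liftW q W r a e = b ∧ c ≫ (Wof q a e).ι = c' := by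
  have h1 : b ≫ (W a).hom ≫ q a = c' ≫ e.1 := (El.eq_iff h).1
  have hr : Set.range c' ⊆ Set.range (Wof q a e).ι := by
    rw [Scheme.Opens.range_ι]
    rintro _ ⟨x, rfl⟩
    change e.1 (c' x) ∈ Set.range (q a)
    rw [← Scheme.Hom.comp_apply, ← h1]
    exact ⟨(b ≫ (W a).hom) x, by simp⟩
  refine ⟨IsOpenImmersion.lift (Wof q a e).ι c' hr, ?_, IsOpenImmersion.lift_fac _ _ _⟩
  have huniq := existsUnique_res_eq q W r a (El.res c' e) (b ≫ (W a).hom) (by
    rw [Category.assoc]; exact h1)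
  apply huniq.unique
  · rw [comm_sq, IsOpenImmersion.lift_fac]
  · exact h

theorem isPullback_liftW (a : A) {T : Scheme.{u}} (g : yoneda.obj T ⟶ totF F) :
    IsPullback (yoneda.map (liftW q W r a (yonedaEquiv g)))
      (yoneda.map (Wof q a (yonedaEquiv g)).ι) (homOfEl (elOf q W r a)) g := by
  apply IsPullback.of_forall_isPullback_app
  rintro ⟨T'⟩
  rw [Types.isPullback_iff]
  refine ⟨?_, ?_, ?_⟩
  · ext c
    have := comm_sq q W r a (T' := T') (yonedaEquiv g) c
    rw [← g_app] at this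
    exact this
  · intro c₁ c₂ h
    have h2 : c₁ ≫ (Wof q a (yonedaEquiv g)).ι = c₂ ≫ (Wof q a (yonedaEquiv g)).ι := h.2
    exact (cancel_mono _).1 h2
  · intro b c' h
    have h0 : El.res b (elOf q W r a) = El.res c' (yonedaEquiv g) := by
      rw [← g_app]
      exact h
    obtain ⟨c, hc1, hc2⟩ := exists_lift_sq q W r a (yonedaEquiv g) b c' h0
    exact ⟨c, hc1, hc2⟩

theorem homOfEl_isOpenImmersion (a : A) :
    IsOpenImmersion.presheaf (homOfEl (elOf q W r a)) := by
  apply MorphismProperty.relative.of_exists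
  intro T g
  exact ⟨(Wof q a (yonedaEquiv g)).toScheme, yoneda.map (liftW q W r a (yonedaEquiv g)),
    (Wof q a (yonedaEquiv g)).ι, isPullback_liftW q W r a g, inferInstance⟩

variable (hsurj : ∀ s : S, ∃ a, s ∈ Set.range (q a))

include hsurj in
theorem isOpenCover_Wof {T : Scheme.{u}} (e : El F T) :
    TopologicalSpace.IsOpenCover (fun a : A => Wof q a e) := by
  rw [TopologicalSpace.IsOpenCover]
  apply top_le_iff.1
  intro x _
  obtain ⟨a, ha⟩ := hsurj (e.1 x)
  exact TopologicalSpace.Opens.mem_iSup.2 ⟨a, ha⟩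

/-- the total functor as a sheaf -/
def totSheaf (hF : IsZarSheaf F) : Sheaf Scheme.zariskiTopology (Type u) :=
  ⟨totF F, isSheaf_totF hF⟩

include hsurj r in
theorem isLocallySurjective_sigmaDesc (hF : IsZarSheaf F) :
    Presheaf.IsLocallySurjective Scheme.zariskiTopology
      (Sigma.desc (fun a => homOfEl (elOf q W r a)) : _ ⟶ (totSheaf hF).1) where
  imageSieve_mem {T} s := by
    let e : El F T := s
    refine Scheme.zariskiTopology.superset_covering ?_
      (T.openCoverOfIsOpenCover _ (isOpenCover_Wof q hsurj e)).mem_grothendieckTopology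
    refine (Sieve.generate_le_iff _ _).2 ?_
    rintro V c ⟨a⟩
    refine ⟨(Sigma.ι (fun a => yoneda.obj (W a).left) a).app (op (Wof q a e).toScheme)
      (liftW q W r a e), ?_⟩
    have h1 : (Sigma.ι (fun a => yoneda.obj (W a).left) a ≫
        Sigma.desc (fun a => homOfEl (elOf q W r a))) = homOfEl (elOf q W r a) :=
      Sigma.ι_desc _ _
    have h2 := comm_sq q W r a e (𝟙 (Wof q a e).toScheme)
    rw [Category.id_comp, Category.id_comp] at h2
    have h3 : (Sigma.ι (fun a => yoneda.obj (W a).left) a ≫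
        Sigma.desc (fun a => homOfEl (elOf q W r a))).app
        (op (Wof q a e).toScheme) (liftW q W r a e) = El.res (Wof q a e).ι e := by
      rw [h1]; exact h2
    exact h3

include hsurj r in
/-- **Zariski-local representability over a base.** -/
theorem exists_representableBy_of_local (hF : IsZarSheaf F) :
    ∃ (W₀ : Over S) (_ : F.RepresentableBy W₀),
      ∀ a, ∃ j : (W a).left ⟶ W₀.left, IsPullback j (W a).hom W₀.hom (q a) := by
  haveI := isLocallySurjective_sigmaDesc q W r hsurj hF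
  have hrep : (totSheaf hF).1.IsRepresentable :=
    Scheme.LocalRepresentability.isRepresentable (F := totSheaf hF)
      (f := fun a => homOfEl (elOf q W r a)) (fun a => homOfEl_isOpenImmersion q W r a)
  obtain ⟨Y, ⟨h⟩⟩ := hrep
  let e₀ : El F Y := h.homEquiv (𝟙 Y)
  have hres : ∀ {T : Scheme.{u}} (g : T ⟶ Y), El.res g e₀ = h.homEquiv g := by
    intro T g
    have := h.homEquiv_comp g (𝟙 Y)
    rw [Category.comp_id] at this
    exact this.symm
  have hinj : ∀ {T : Scheme.{u}} (g g' : T ⟶ Y), El.res g e₀ = El.res g' e₀ → g = g' := by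
    intro T g g' hgg
    rw [hres, hres] at hgg
    exact h.homEquiv.injective hgg
  have hmap : ∀ {T : Over S} (φ : T ⟶ Over.mk e₀.1),
      F.map φ.op e₀.2 = pull F e₀.2 φ.left T.hom (Over.w φ) := fun φ => rfl
  refine ⟨Over.mk e₀.1, ?_, ?_⟩
  · refine
      { homEquiv := fun {T} => Equiv.ofBijective (fun φ => F.map φ.op e₀.2) ⟨?_, ?_⟩
        homEquiv_comp := fun {T T'} a b => by
          change F.map (a ≫ b).op e₀.2 = F.map a.op (F.map b.op e₀.2)
          rw [op_comp, Functor.map_comp_apply] }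
    · intro φ φ' hφ
      dsimp only at hφ
      rw [hmap, hmap] at hφ
      apply Over.OverMorphism.ext
      apply hinj
      apply El.ext (by
        change φ.left ≫ e₀.1 = φ'.left ≫ e₀.1
        exact (Over.w φ).trans (Over.w φ').symm)
      change pull F (pull F e₀.2 φ.left (φ.left ≫ e₀.1) rfl) (𝟙 _) (φ'.left ≫ e₀.1) _ =
        pull F e₀.2 φ'.left (φ'.left ≫ e₀.1) rfl
      rw [pull_pull _ _ _ _ _ _ _ (by
        rw [Category.id_comp]; exact (Over.w φ).trans (Over.w φ').symm)]
      have h3 := pull_eq_pull_of _ _ _ _ _ _ (Over.w φ').symm _ _ hφ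
      exact (pull_congr _ (Category.id_comp _) _ _ _).trans h3
    · intro x
      let el : El F T.left := ⟨T.hom, x⟩
      let g : T.left ⟶ Y := h.homEquiv.symm el
      have hg : El.res g e₀ = el := by rw [hres]; exact h.homEquiv.apply_symm_apply _
      obtain ⟨h1, h2⟩ := El.eq_iff hg
      have h1' : g ≫ e₀.1 = T.hom := h1
      refine ⟨Over.homMk g h1', ?_⟩
      dsimp only
      rw [hmap]
      change pull F (pull F e₀.2 g (g ≫ e₀.1) rfl) (𝟙 _) T.hom _ = x at h2
      rw [← h2, pull_pull _ _ _ _ _ _ _ (by rw [Category.id_comp]; exact h1')]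
      exact pull_congr _ (Category.id_comp _).symm _ _ _
  · intro a
    let j : (W a).left ⟶ Y := h.homEquiv.symm (elOf q W r a)
    have hj : El.res j e₀ = elOf q W r a := by rw [hres]; exact h.homEquiv.apply_symm_apply _
    have hw : j ≫ e₀.1 = (W a).hom ≫ q a := (El.eq_iff hj).1
    refine ⟨j, ⟨⟨hw⟩, ⟨PullbackCone.IsLimit.mk _ (fun s =>
      (existsUnique_res_eq q W r a (El.res s.fst e₀) s.snd s.condition.symm).exists.choose)
      ?_ ?_ ?_⟩⟩⟩
    · intro s
      have hl := (existsUnique_res_eq q W r a (El.res s.fst e₀) s.snd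
        s.condition.symm).exists.choose_spec
      apply hinj
      rw [← El.res_res, hj]
      exact hl
    · intro s
      have hl := (existsUnique_res_eq q W r a (El.res s.fst e₀) s.snd
        s.condition.symm).exists.choose_spec
      rw [← cancel_mono (q a), Category.assoc]
      exact (El.eq_iff hl).1.trans s.condition
    · intro s m hm1 hm2
      have hl := (existsUnique_res_eq q W r a (El.res s.fst e₀) s.snd
        s.condition.symm).exists.choose_spec
      refine (existsUnique_res_eq q W r a (El.res s.fst e₀) s.snd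
        s.condition.symm).unique ?_ hl
      rw [← hj, El.res_res, hm1]

end loc

end Groth.Agent.Lib.Helper13.RelLocRep
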