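import Mathlib
import Groth.Prelude.Def_Flatn
import Groth.Agent.Lib.Helper13.RelLocRep

set_option autoImplicit false
set_option linter.unusedSectionVars false
universe u
open CategoryTheory CategoryTheory.Limits AlgebraicGeometry Opposite

namespace Groth.Agent.Lib.Helper13.MorSSheaf

open Groth.Agent.Lib.Helper13.RelLocRep

variable {Z X S : Scheme.{u}} (g : Z ⟶ S) (f : X ⟶ S)

theorem map_left_fst' {T : Scheme.{u}} {H G : Over S} (i : H ⟶ G) (b : T ⟶ S) :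
    ((Over.pullback b).map i).left ≫ pullback.fst G.hom b = pullback.fst H.hom b ≫ i.left := by
  simp
  exact pullback.lift_fst _ _ _

theorem map_left_snd' {T : Scheme.{u}} {H G : Over S} (i : H ⟶ G) (b : T ⟶ S) :
    ((Over.pullback b).map i).left ≫ pullback.snd G.hom b = pullback.snd H.hom b := by
  simp
  exact pullback.lift_snd _ _ _

theorem pull_left {T T' : Scheme.{u}} {t : T ⟶ S} (x : (Flatn.morS g f).obj (op (Over.mk t)))
    (h : T' ⟶ T) (t' : T' ⟶ S) (ht : h ≫ t = t') :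
    (pull (Flatn.morS g f) x h t' ht).left =
      ((Over.pullback g).map (Over.homMk h ht : Over.mk t' ⟶ Over.mk t)).left ≫ x.left := rfl

/-- the cover maps of `T ×_S Z` induced by a cover of `T` -/
noncomputable abbrev v {T : Scheme.{u}} (t : T ⟶ S) (𝓤 : Scheme.OpenCover.{u + 1} T) (k : 𝓤.I₀) :
    pullback (𝓤.f k ≫ t) g ⟶ pullback t g :=
  pullback.map (𝓤.f k ≫ t) g t g (𝓤.f k) (𝟙 Z) (𝟙 S) (by simp) (by simp)

theorem v_fst {T : Scheme.{u}} (t : T ⟶ S) (𝓤 : Scheme.OpenCover.{u + 1} T) (k : 𝓤.I₀) :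
    v g t 𝓤 k ≫ pullback.fst t g = pullback.fst (𝓤.f k ≫ t) g ≫ 𝓤.f k :=
  pullback.lift_fst _ _ _

theorem v_snd {T : Scheme.{u}} (t : T ⟶ S) (𝓤 : Scheme.OpenCover.{u + 1} T) (k : 𝓤.I₀) :
    v g t 𝓤 k ≫ pullback.snd t g = pullback.snd (𝓤.f k ≫ t) g :=
  (pullback.lift_snd _ _ _).trans (Category.comp_id _)

theorem pullback_map_homMk_left {T : Scheme.{u}} (t : T ⟶ S) (𝓤 : Scheme.OpenCover.{u + 1} T)
    (k : 𝓤.I₀) :
    ((Over.pullback g).map (Over.homMk (𝓤.f k) rfl : Over.mk (𝓤.f k ≫ t) ⟶ Over.mk t)).left =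
      v g t 𝓤 k := by
  apply pullback.hom_ext
  · rw [map_left_fst']
    exact (v_fst g t 𝓤 k).symm
  · rw [map_left_snd']
    exact (v_snd g t 𝓤 k).symm

theorem compat_of {T : Scheme.{u}} (t : T ⟶ S) (𝓤 : Scheme.OpenCover.{u + 1} T)
    (x : ∀ k, (Flatn.morS g f).obj (op (Over.mk (𝓤.f k ≫ t))))
    (k k' : 𝓤.I₀)
    (hx : pull (Flatn.morS g f) (x k) (pullback.fst (𝓤.f k) (𝓤.f k'))
        (pullback.fst (𝓤.f k) (𝓤.f k') ≫ 𝓤.f k ≫ t) rfl =
      pull (Flatn.morS g f) (x k') (pullback.snd (𝓤.f k) (𝓤.f k'))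
        (pullback.fst (𝓤.f k) (𝓤.f k') ≫ 𝓤.f k ≫ t)
        (by rw [← Category.assoc, ← pullback.condition, Category.assoc])) :
    pullback.fst (v g t 𝓤 k) (v g t 𝓤 k') ≫ (x k).left =
      pullback.snd (v g t 𝓤 k) (v g t 𝓤 k') ≫ (x k').left := by
  have h1 := congrArg (fun c => c.left) hx
  simp only [pull_left] at h1
  have c1 : (pullback.fst (v g t 𝓤 k) (v g t 𝓤 k') ≫ pullback.fst (𝓤.f k ≫ t) g) ≫ 𝓤.f k =
      (pullback.snd (v g t 𝓤 k) (v g t 𝓤 k') ≫ pullback.fst (𝓤.f k' ≫ t) g) ≫ 𝓤.f k' := by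
    rw [Category.assoc, Category.assoc, ← v_fst, ← v_fst, ← Category.assoc, ← Category.assoc,
      pullback.condition]
  have c2 : pullback.lift _ _ c1 ≫ pullback.fst (𝓤.f k) (𝓤.f k') ≫ 𝓤.f k ≫ t =
      (pullback.fst (v g t 𝓤 k) (v g t 𝓤 k') ≫ pullback.snd (𝓤.f k ≫ t) g) ≫ g := by
    rw [pullback.lift_fst_assoc, Category.assoc, Category.assoc, pullback.condition]
  let κ : pullback (v g t 𝓤 k) (v g t 𝓤 k') ⟶
      pullback (pullback.fst (𝓤.f k) (𝓤.f k') ≫ 𝓤.f k ≫ t) g := pullback.lift _ _ c2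
  have hκ1 : κ ≫ ((Over.pullback g).map (Over.homMk (pullback.fst (𝓤.f k) (𝓤.f k')) rfl :
      Over.mk (pullback.fst (𝓤.f k) (𝓤.f k') ≫ 𝓤.f k ≫ t) ⟶ Over.mk (𝓤.f k ≫ t))).left =
      pullback.fst (v g t 𝓤 k) (v g t 𝓤 k') := by
    apply pullback.hom_ext
    · rw [Category.assoc, map_left_fst']
      change κ ≫ pullback.fst _ _ ≫ pullback.fst (𝓤.f k) (𝓤.f k') = _
      rw [pullback.lift_fst_assoc, pullback.lift_fst]
      rfl
    · rw [Category.assoc, map_left_snd']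
      exact pullback.lift_snd _ _ _
  have hκ2 : κ ≫ ((Over.pullback g).map (Over.homMk (pullback.snd (𝓤.f k) (𝓤.f k'))
      (by
        change pullback.snd _ _ ≫ 𝓤.f k' ≫ t = pullback.fst _ _ ≫ 𝓤.f k ≫ t
        rw [← Category.assoc, ← pullback.condition, Category.assoc]) :
      Over.mk (pullback.fst (𝓤.f k) (𝓤.f k') ≫ 𝓤.f k ≫ t) ⟶ Over.mk (𝓤.f k' ≫ t))).left =
      pullback.snd (v g t 𝓤 k) (v g t 𝓤 k') := by
    apply pullback.hom_ext
    · rw [Category.assoc, map_left_fst']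
      change κ ≫ pullback.fst _ _ ≫ pullback.snd (𝓤.f k) (𝓤.f k') = _
      rw [pullback.lift_fst_assoc, pullback.lift_snd]
      rfl
    · rw [Category.assoc, map_left_snd']
      change κ ≫ pullback.snd _ _ =
        pullback.snd (v g t 𝓤 k) (v g t 𝓤 k') ≫ pullback.snd (𝓤.f k' ≫ t) g
      rw [pullback.lift_snd, ← v_snd g t 𝓤 k, ← v_snd g t 𝓤 k',
        ← Category.assoc, ← Category.assoc, pullback.condition]
  rw [← hκ1, ← hκ2, Category.assoc, Category.assoc, h1]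

theorem morS_isZarSheaf : IsZarSheaf (Flatn.morS g f) := by
  intro T t 𝓤 x hx
  let 𝒱 := Scheme.Pullback.openCoverOfLeft 𝓤 t g
  have hcompat : ∀ k k' : 𝓤.I₀, pullback.fst (v g t 𝓤 k) (v g t 𝓤 k') ≫ (x k).left =
      pullback.snd (v g t 𝓤 k) (v g t 𝓤 k') ≫ (x k').left := fun k k' =>
    compat_of g f t 𝓤 x k k' (hx k k')
  let b : pullback t g ⟶ X := 𝒱.glueMorphisms (fun k => (x k).left) hcompat
  have hb : ∀ k : 𝓤.I₀, v g t 𝓤 k ≫ b = (x k).left := fun k =>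
    𝒱.ι_glueMorphisms (fun k => (x k).left) hcompat k
  have hover : b ≫ f = pullback.snd t g ≫ g := by
    refine 𝒱.hom_ext _ _ fun (k : 𝓤.I₀) => ?_
    change v g t 𝓤 k ≫ b ≫ f = v g t 𝓤 k ≫ pullback.snd t g ≫ g
    rw [← Category.assoc, hb, ← Category.assoc, v_snd]
    exact Over.w (x k)
  let a : (Flatn.morS g f).obj (op (Over.mk t)) :=
    Over.homMk (U := (Over.map g).obj ((Over.pullback g).obj (Over.mk t))) (V := Over.mk f) b hover
  refine ⟨a, fun k => ?_, fun a' ha' => ?_⟩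
  · apply Over.OverMorphism.ext
    rw [pull_left, pullback_map_homMk_left]
    exact hb k
  · apply Over.OverMorphism.ext
    change a'.left = b
    refine 𝒱.hom_ext _ _ fun (k : 𝓤.I₀) => ?_
    change v g t 𝓤 k ≫ a'.left = v g t 𝓤 k ≫ b
    rw [hb]
    have := congrArg (fun c => c.left) (ha' k)
    simp only [pull_left] at this
    rw [pullback_map_homMk_left] at this
    exact this

end Groth.Agent.Lib.Helper13.MorSSheaf
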