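import Mathlib

/-!
# Weil restriction along a finite free algebra: the algebra (helper13)

For `A → B` finite free and an `A`-algebra `C`, the `A`-algebra `Pol ⧸ J` represents
`R ↦ Hom_A(C, R ⊗_A B)`.  The universal property is stated against arbitrary pushouts
(`Algebra.IsPushout`) and an arbitrary presentation `π : Pol → W'` with kernel `J`.
-/

set_option autoImplicit false
set_option linter.unusedSectionVars false
universe u
open TensorProduct

namespace Groth.Agent.Lib.Helper13.WeilFreeAlg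

section defs

variable (A B C : Type u) [CommRing A] [CommRing B] [CommRing C] [Algebra A B] [Algebra A C]
  [Module.Free A B] [Module.Finite A B]

/-- index set of the chosen basis -/
abbrev Idx : Type u := Module.Free.ChooseBasisIndex A B

/-- the chosen basis -/
noncomputable abbrev bas : Module.Basis (Idx A B) A B := Module.Free.chooseBasis A B

/-- polynomial ring on the coordinates of a point -/
abbrev Pol : Type u := MvPolynomial (C × Idx A B) A

/-- the universal point -/
noncomputable def Y (c : C) : Pol A B C ⊗[A] B :=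
  ∑ i, (MvPolynomial.X (c, i) : Pol A B C) ⊗ₜ[A] bas A B i

/-- the basis of `Pol ⊗ B` over `Pol` -/
noncomputable abbrev tbas : Module.Basis (Idx A B) (Pol A B C) (Pol A B C ⊗[A] B) :=
  Algebra.TensorProduct.basis (Pol A B C) (bas A B)

/-- the defects of the universal point from being an algebra homomorphism -/
def E : Set (Pol A B C ⊗[A] B) :=
  {e | (∃ c c', e = Y A B C (c + c') - Y A B C c - Y A B C c') ∨
       (∃ c c', e = Y A B C (c * c') - Y A B C c * Y A B C c') ∨
       (∃ a : A, e = Y A B C (algebraMap A C a) - algebraMap A _ a)}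

/-- the ideal of coordinates of the defects -/
noncomputable def J : Ideal (Pol A B C) :=
  Ideal.span {p | ∃ e ∈ E A B C, ∃ i, (tbas A B C).repr e i = p}

end defs

section eval

variable {A B C : Type u} [CommRing A] [CommRing B] [CommRing C] [Algebra A B] [Algebra A C]
  [Module.Free A B] [Module.Finite A B]
variable {R Q : Type u} [CommRing R] [CommRing Q] [Algebra A R] [Algebra R Q] [Algebra B Q]
  [Algebra A Q] [IsScalarTower A R Q] [IsScalarTower A B Q]

/-- evaluation of `Pol ⊗ B` in `Q` along `θ₀ : Pol → R` -/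
noncomputable def ev (θ₀ : Pol A B C →ₐ[A] R) : Pol A B C ⊗[A] B →ₐ[A] Q :=
  Algebra.TensorProduct.productMap ((IsScalarTower.toAlgHom A R Q).comp θ₀)
    (IsScalarTower.toAlgHom A B Q)

theorem ev_tmul (θ₀ : Pol A B C →ₐ[A] R) (p : Pol A B C) (x : B) :
    ev (Q := Q) θ₀ (p ⊗ₜ x) = algebraMap R Q (θ₀ p) * algebraMap B Q x := by
  simp [ev]

theorem ev_eq_sum (θ₀ : Pol A B C →ₐ[A] R) (x : Pol A B C ⊗[A] B) :
    ev (Q := Q) θ₀ x =
      ∑ i, algebraMap R Q (θ₀ ((tbas A B C).repr x i)) * algebraMap B Q (bas A B i) := by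
  conv_lhs => rw [← (tbas A B C).sum_repr x]
  rw [map_sum]
  refine Finset.sum_congr rfl fun i _ => ?_
  rw [Algebra.TensorProduct.basis_apply, TensorProduct.smul_tmul', smul_eq_mul, mul_one, ev_tmul]

theorem ev_Y (θ₀ : Pol A B C →ₐ[A] R) (c : C) :
    ev (Q := Q) θ₀ (Y A B C c) =
      ∑ i, algebraMap R Q (θ₀ (MvPolynomial.X (c, i))) * algebraMap B Q (bas A B i) := by
  rw [Y, map_sum]
  exact Finset.sum_congr rfl fun i _ => ev_tmul _ _ _

theorem ev_eq_zero_of_J_le (θ₀ : Pol A B C →ₐ[A] R) (h : J A B C ≤ RingHom.ker θ₀.toRingHom)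
    {e : Pol A B C ⊗[A] B} (he : e ∈ E A B C) : ev (Q := Q) θ₀ e = 0 := by
  rw [ev_eq_sum]
  refine Finset.sum_eq_zero fun i _ => ?_
  have : θ₀ ((tbas A B C).repr e i) = 0 := h (Ideal.subset_span ⟨e, he, i, rfl⟩)
  rw [this, map_zero, zero_mul]

theorem J_le_ker_of_ev [Algebra.IsPushout A R B Q] (θ₀ : Pol A B C →ₐ[A] R)
    (h : ∀ e ∈ E A B C, ev (Q := Q) θ₀ e = 0) : J A B C ≤ RingHom.ker θ₀.toRingHom := by
  rw [J, Ideal.span_le]
  rintro p ⟨e, he, i, rfl⟩
  have h1 := h e he
  rw [ev_eq_sum] at h1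
  let bR := (Algebra.IsPushout.out (R := A) (S := R) (R' := B) (S' := Q)).basis (bas A B)
  have h2 : ∑ i, θ₀ ((tbas A B C).repr e i) • bR i = 0 := by
    rw [← h1]
    refine Finset.sum_congr rfl fun i _ => ?_
    rw [Algebra.smul_def, IsBaseChange.basis_apply]
    rfl
  exact Fintype.linearIndependent_iff.mp bR.linearIndependent _ h2 i

end eval

section univ

variable {A B C : Type u} [CommRing A] [CommRing B] [CommRing C] [Algebra A B] [Algebra A C]
  [Module.Free A B] [Module.Finite A B]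
variable {W' : Type u} [CommRing W'] [Algebra A W'] (π : Pol A B C →ₐ[A] W')

section yuniv

variable {Q : Type u} [CommRing Q] [Algebra W' Q] [Algebra B Q] [Algebra A Q]
  [IsScalarTower A W' Q] [IsScalarTower A B Q]

theorem ev_algHom_of_forall {R : Type u} [CommRing R] [Algebra A R] [Algebra R Q]
    [IsScalarTower A R Q] (θ₀ : Pol A B C →ₐ[A] R)
    (h : ∀ e ∈ E A B C, ev (Q := Q) θ₀ e = 0) :
    (∀ c c', ev (Q := Q) θ₀ (Y A B C (c + c')) =
        ev (Q := Q) θ₀ (Y A B C c) + ev (Q := Q) θ₀ (Y A B C c')) ∧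
    (∀ c c', ev (Q := Q) θ₀ (Y A B C (c * c')) =
        ev (Q := Q) θ₀ (Y A B C c) * ev (Q := Q) θ₀ (Y A B C c')) ∧
    (∀ a : A, ev (Q := Q) θ₀ (Y A B C (algebraMap A C a)) = algebraMap A Q a) := by
  refine ⟨fun c c' => ?_, fun c c' => ?_, fun a => ?_⟩
  · have := h _ (Or.inl ⟨c, c', rfl⟩)
    rw [map_sub, map_sub, sub_sub, sub_eq_zero] at this
    exact this
  · have := h _ (Or.inr (Or.inl ⟨c, c', rfl⟩))
    rw [map_sub, map_mul, sub_eq_zero] at this
    exact this
  · have := h _ (Or.inr (Or.inr ⟨a, rfl⟩))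
    rw [map_sub, sub_eq_zero, AlgHom.commutes] at this
    exact this

/-- the universal point with values in any "pushout" `Q` of `W'` and `B` -/
noncomputable def yuniv (hπ : J A B C ≤ RingHom.ker π.toRingHom) : C →ₐ[A] Q :=
  have H := ev_algHom_of_forall (Q := Q) π (fun _ he => ev_eq_zero_of_J_le π hπ he)
  { toFun := fun c => ev (Q := Q) π (Y A B C c)
    map_one' := by
      have := H.2.2 1
      rwa [map_one, map_one] at this
    map_mul' := H.2.1
    map_zero' := by
      have := H.2.2 0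
      rwa [map_zero, map_zero] at this
    map_add' := H.1
    commutes' := H.2.2 }

theorem yuniv_apply (hπ : J A B C ≤ RingHom.ker π.toRingHom) (c : C) :
    yuniv (Q := Q) π hπ c =
      ∑ i, algebraMap W' Q (π (MvPolynomial.X (c, i))) * algebraMap B Q (bas A B i) :=
  ev_Y π c

end yuniv

/-- **universal property** against any pushout `Q` of `R` and `B` over `A`. -/
theorem existsUnique_of_isPushout (hπs : Function.Surjective π)
    (hπ : RingHom.ker π.toRingHom = J A B C)
    {R Q : Type u} [CommRing R] [CommRing Q] [Algebra A R] [Algebra R Q] [Algebra B Q]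
    [Algebra A Q] [IsScalarTower A R Q] [IsScalarTower A B Q] [Algebra.IsPushout A R B Q]
    (β : C →ₐ[A] Q) :
    ∃! θ : W' →ₐ[A] R, ∀ c, ∑ i, algebraMap R Q (θ (π (MvPolynomial.X (c, i)))) *
      algebraMap B Q (bas A B i) = β c := by
  let bR := (Algebra.IsPushout.out (R := A) (S := R) (R' := B) (S' := Q)).basis (bas A B)
  have hbR : ∀ i, bR i = algebraMap B Q (bas A B i) := fun i => by
    rw [IsBaseChange.basis_apply]; rfl
  have hsum : ∀ (r : Idx A B → R), ∑ i, algebraMap R Q (r i) * algebraMap B Q (bas A B i) =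
      ∑ i, r i • bR i := fun r =>
    Finset.sum_congr rfl fun i _ => by rw [Algebra.smul_def, hbR]
  let θ₀ : Pol A B C →ₐ[A] R := MvPolynomial.aeval (fun ci : C × Idx A B => bR.repr (β ci.1) ci.2)
  have hθ₀ : ∀ c, ev (Q := Q) θ₀ (Y A B C c) = β c := fun c => by
    rw [ev_Y, hsum]
    simp only [θ₀, MvPolynomial.aeval_X]
    exact bR.sum_repr (β c)
  have hE : ∀ e ∈ E A B C, ev (Q := Q) θ₀ e = 0 := by
    rintro e (⟨c, c', rfl⟩ | ⟨c, c', rfl⟩ | ⟨a, rfl⟩)
    · rw [map_sub, map_sub, hθ₀, hθ₀, hθ₀, map_add]; ring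
    · rw [map_sub, map_mul, hθ₀, hθ₀, hθ₀, map_mul]; ring
    · rw [map_sub, hθ₀, AlgHom.commutes, AlgHom.commutes, sub_self]
  have hJ : J A B C ≤ RingHom.ker θ₀.toRingHom := J_le_ker_of_ev (Q := Q) θ₀ hE
  -- descend θ₀ along π
  have hker : RingHom.ker π.toRingHom ≤ RingHom.ker θ₀.toRingHom := hπ ▸ hJ
  let θ : W' →ₐ[A] R := AlgHom.liftOfSurjective π hπs θ₀ hker
  have hθ : ∀ p, θ (π p) = θ₀ p := fun p => AlgHom.liftOfSurjective_apply _ _ _ _ _
  refine ⟨θ, fun c => ?_, fun θ' hθ' => ?_⟩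
  · rw [← hθ₀ c, ev_Y]
    exact Finset.sum_congr rfl fun i _ => by rw [hθ]
  · have key : ∀ c i, θ' (π (MvPolynomial.X (c, i))) = θ₀ (MvPolynomial.X (c, i)) := by
      intro c i
      have h1 := hθ' c
      rw [hsum] at h1
      have h2 : bR.repr (β c) i = θ' (π (MvPolynomial.X (c, i))) := by
        rw [← h1, bR.repr_sum_self]
      simp only [θ₀, MvPolynomial.aeval_X]
      exact h2.symm
    have h3 : θ'.comp π = θ₀ := by
      apply MvPolynomial.algHom_ext
      rintro ⟨c, i⟩
      exact key c i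
    apply AlgHom.ext
    intro w
    obtain ⟨p, rfl⟩ := hπs w
    rw [hθ]
    exact congrArg (fun f => f p) h3

end univ

end Groth.Agent.Lib.Helper13.WeilFreeAlg
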