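import Mathlib
import Groth.Agent.Lib.Helper13.WeilFreeAlg

/-! Helper13: finiteness of the Weil restriction algebra `Pol ⧸ J`. -/

set_option autoImplicit false
set_option linter.unusedSectionVars false
universe u
open TensorProduct

namespace Groth.Agent.Lib.Helper13.WeilFinAlg

open Groth.Agent.Lib.Helper13.WeilFreeAlg

attribute [local instance] Algebra.TensorProduct.rightAlgebra

variable (A B C : Type u) [CommRing A] [CommRing B] [CommRing C] [Algebra A B] [Algebra A C]
  [Module.Free A B] [Module.Finite A B]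

/-- the Weil restriction algebra -/
abbrev Q : Type u := Pol A B C ⧸ J A B C

/-- the presentation -/
noncomputable abbrev pr : Pol A B C →ₐ[A] Q A B C := Ideal.Quotient.mkₐ A (J A B C)

theorem pr_surjective : Function.Surjective (pr A B C) := Ideal.Quotient.mkₐ_surjective A _

theorem pr_ker : RingHom.ker (pr A B C).toRingHom = J A B C := Ideal.Quotient.mkₐ_ker A _

variable {A B C}

section coord

variable (R : Type u) [CommRing R] [Algebra A R]

/-- coordinates on `R ⊗ B` -/
noncomputable def coord : R ⊗[A] B ≃ₗ[R] (Idx A B → R) :=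
  (Algebra.TensorProduct.basis R (bas A B)).equivFun

theorem sum_coord (z : R ⊗[A] B) : ∑ i, coord R z i ⊗ₜ[A] bas A B i = z := by
  conv_rhs => rw [← (Algebra.TensorProduct.basis R (bas A B)).sum_equivFun z]
  refine Finset.sum_congr rfl fun i _ => ?_
  rw [Algebra.TensorProduct.basis_apply, TensorProduct.smul_tmul', smul_eq_mul, mul_one]
  rfl

theorem coord_sum (r : Idx A B → R) : coord R (∑ i, r i ⊗ₜ[A] bas A B i) = r := by
  have h : ∑ i, r i ⊗ₜ[A] bas A B i =
      (Algebra.TensorProduct.basis R (bas A B)).equivFun.symm r := by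
    rw [Module.Basis.equivFun_symm_apply]
    refine Finset.sum_congr rfl fun i _ => ?_
    rw [Algebra.TensorProduct.basis_apply, TensorProduct.smul_tmul', smul_eq_mul, mul_one]
  rw [h]
  exact (Algebra.TensorProduct.basis R (bas A B)).equivFun.apply_symm_apply r

variable {R}

theorem coord_map {R' : Type u} [CommRing R'] [Algebra A R'] (φ : R →ₐ[A] R') (z : R ⊗[A] B)
    (i : Idx A B) :
    coord R' (Algebra.TensorProduct.map φ (AlgHom.id A B) z) i = φ (coord R z i) := by
  conv_lhs => rw [← sum_coord R z, map_sum]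
  have : ∑ x, (Algebra.TensorProduct.map φ (AlgHom.id A B)) (coord R z x ⊗ₜ[A] bas A B x) =
      ∑ x, φ (coord R z x) ⊗ₜ[A] bas A B x :=
    Finset.sum_congr rfl fun x _ => by simp
  rw [this, coord_sum]

end coord

section univ

/-- the universal property in coordinates -/
theorem univ (R : Type u) [CommRing R] [Algebra A R] (β : C →ₐ[A] R ⊗[A] B) :
    ∃! θ : Q A B C →ₐ[A] R, ∀ c i, θ (pr A B C (MvPolynomial.X (c, i))) = coord R (β c) i := by
  obtain ⟨θ, hθ, huniq⟩ := existsUnique_of_isPushout (pr A B C) (pr_surjective A B C)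
    (pr_ker A B C) (R := R) (Q := R ⊗[A] B) β
  have conv : ∀ (θ' : Q A B C →ₐ[A] R) (c : C),
      ∑ i, algebraMap R (R ⊗[A] B) (θ' (pr A B C (MvPolynomial.X (c, i)))) *
        algebraMap B (R ⊗[A] B) (bas A B i) =
      ∑ i, θ' (pr A B C (MvPolynomial.X (c, i))) ⊗ₜ[A] bas A B i := by
    intro θ' c
    refine Finset.sum_congr rfl fun i _ => ?_
    rw [Algebra.TensorProduct.algebraMap_apply, Algebra.TensorProduct.right_algebraMap_apply,
      Algebra.TensorProduct.tmul_mul_tmul, mul_one, one_mul]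
    rfl
  refine ⟨θ, fun c i => ?_, fun θ' hθ' => huniq θ' fun c => ?_⟩
  · have := hθ c
    rw [conv] at this
    rw [← this, coord_sum]
  · rw [conv]
    have : (fun i => θ' (pr A B C (MvPolynomial.X (c, i)))) = coord R (β c) := funext (hθ' c)
    rw [← sum_coord R (β c)]
    exact Finset.sum_congr rfl fun i _ => by rw [← this]

/-- the universal point -/
noncomputable def y : C →ₐ[A] Q A B C ⊗[A] B :=
  yuniv (Q := Q A B C ⊗[A] B) (pr A B C) (pr_ker A B C).ge

theorem y_apply (c : C) : y (A := A) (B := B) c =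
    ∑ i, pr A B C (MvPolynomial.X (c, i)) ⊗ₜ[A] bas A B i := by
  rw [y, yuniv_apply]
  refine Finset.sum_congr rfl fun i _ => ?_
  rw [Algebra.TensorProduct.algebraMap_apply, Algebra.TensorProduct.right_algebraMap_apply,
    Algebra.TensorProduct.tmul_mul_tmul, mul_one, one_mul]
  rfl

theorem coord_y (c : C) (i : Idx A B) :
    coord (Q A B C) (y (A := A) (B := B) c) i = pr A B C (MvPolynomial.X (c, i)) := by
  rw [y_apply, coord_sum]

end univ

section ft

set_option synthInstance.maxHeartbeats 200000 in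
theorem finiteType [Algebra.FiniteType A C] : Algebra.FiniteType A (Q A B C) := by
  obtain ⟨s, hs⟩ := (Algebra.FiniteType.out : (⊤ : Subalgebra A C).FG)
  let gen : Set (Q A B C) := {q | ∃ c ∈ s, ∃ i, q = pr A B C (MvPolynomial.X (c, i))}
  have hgenfin : gen.Finite := by
    have : gen = (fun ci : C × Idx A B => pr A B C (MvPolynomial.X ci)) ''
        ((s : Set C) ×ˢ Set.univ) := by
      ext q
      constructor
      · rintro ⟨c, hc, i, rfl⟩
        exact ⟨(c, i), ⟨hc, trivial⟩, rfl⟩
      · rintro ⟨⟨c, i⟩, ⟨hc, -⟩, rfl⟩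
        exact ⟨c, hc, i, rfl⟩
    rw [this]
    exact (s.finite_toSet.prod Set.finite_univ).image _
  let Q₁ : Subalgebra A (Q A B C) := Algebra.adjoin A gen
  let ι₁ : Q₁ ⊗[A] B →ₐ[A] Q A B C ⊗[A] B := Algebra.TensorProduct.map Q₁.val (AlgHom.id A B)
  let C₁ : Subalgebra A C := ι₁.range.comap (y (A := A) (B := B))
  have hC₁ : C₁ = ⊤ := by
    rw [eq_top_iff, ← hs, Algebra.adjoin_le_iff]
    intro c hc
    change y (A := A) (B := B) (C := C) c ∈ ι₁.range
    rw [AlgHom.mem_range]
    refine ⟨∑ i, (⟨pr A B C (MvPolynomial.X (c, i)),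
      Algebra.subset_adjoin ⟨c, hc, i, rfl⟩⟩ : Q₁) ⊗ₜ[A] bas A B i, ?_⟩
    rw [map_sum, y_apply]
    refine Finset.sum_congr rfl fun i _ => ?_
    exact Algebra.TensorProduct.map_tmul _ _ _ _
  have hmem : ∀ c i, pr A B C (MvPolynomial.X (c, i)) ∈ Q₁ := by
    intro c i
    have hc : c ∈ C₁ := hC₁ ▸ Algebra.mem_top
    obtain ⟨z, hz⟩ := hc
    have hz' : Algebra.TensorProduct.map Q₁.val (AlgHom.id A B) z =
        y (A := A) (B := B) (C := C) c := hz
    rw [← coord_y, ← hz', coord_map]
    exact (coord Q₁ z i).2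
  have htop : Q₁ = ⊤ := by
    rw [eq_top_iff]
    rintro q -
    obtain ⟨p, rfl⟩ := pr_surjective A B C q
    induction p using MvPolynomial.induction_on with
    | C a => exact Q₁.algebraMap_mem a
    | add p q hp hq => rw [map_add]; exact Q₁.add_mem hp hq
    | mul_X p ci hp => rw [map_mul]; exact Q₁.mul_mem hp (hmem ci.1 ci.2)
  exact ⟨⟨hgenfin.toFinset, by rw [Set.Finite.coe_toFinset]; exact htop⟩⟩

end ft

section fp

theorem map_map {R R' R'' : Type u} [CommRing R] [CommRing R'] [CommRing R''] [Algebra A R]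
    [Algebra A R'] [Algebra A R''] (φ : R →ₐ[A] R') (ψ : R' →ₐ[A] R'') (z : R ⊗[A] B) :
    Algebra.TensorProduct.map ψ (AlgHom.id A B) (Algebra.TensorProduct.map φ (AlgHom.id A B) z) =
      Algebra.TensorProduct.map (ψ.comp φ) (AlgHom.id A B) z := by
  induction z using TensorProduct.induction_on with
  | zero => simp
  | tmul r b => simp
  | add a b ha hb => simp only [map_add, ha, hb]

/-- a retract of a finitely presented algebra is finitely presented -/
theorem finitePresentation_of_retract {Q₀ Q' : Type u} [CommRing Q₀] [CommRing Q'] [Algebra A Q₀]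
    [Algebra A Q'] [Algebra.FinitePresentation A Q₀] (p : Q₀ →ₐ[A] Q') (s : Q' →ₐ[A] Q₀)
    (hps : ∀ q, p (s q) = q) : Algebra.FinitePresentation A Q' := by
  haveI : Algebra.FiniteType A Q₀ := inferInstance
  obtain ⟨t, ht⟩ := (Algebra.FiniteType.out : (⊤ : Subalgebra A Q₀).FG)
  have hsurj : Function.Surjective p := fun q => ⟨s q, hps q⟩
  refine Algebra.FinitePresentation.of_surjective hsurj ?_
  let L : Ideal Q₀ := Ideal.span ((fun x => x - s (p x)) '' (t : Set Q₀))
  have key : ∀ x : Q₀, x - s (p x) ∈ L := by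
    intro x
    have hx : x ∈ Algebra.adjoin A (t : Set Q₀) := ht ▸ Algebra.mem_top
    induction hx using Algebra.adjoin_induction with
    | mem x hx => exact Ideal.subset_span ⟨x, hx, rfl⟩
    | algebraMap a =>
      rw [AlgHom.commutes, AlgHom.commutes, sub_self]
      exact L.zero_mem
    | add x y _ _ hx hy =>
      have : x + y - s (p (x + y)) = (x - s (p x)) + (y - s (p y)) := by
        rw [map_add, map_add]; ring
      rw [this]
      exact L.add_mem hx hy
    | mul x y _ _ hx hy =>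
      have : x * y - s (p (x * y)) = (x - s (p x)) * y + s (p x) * (y - s (p y)) := by
        rw [map_mul, map_mul]; ring
      rw [this]
      exact L.add_mem (L.mul_mem_right _ hx) (L.mul_mem_left _ hy)
  have hL : RingHom.ker p.toRingHom = L := by
    apply le_antisymm
    · intro x hx
      have h0 : p x = 0 := hx
      have := key x
      rwa [h0, map_zero, sub_zero] at this
    · rw [Ideal.span_le]
      rintro _ ⟨x, -, rfl⟩
      change p (x - s (p x)) = 0
      rw [map_sub, hps, sub_self]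
  rw [hL]
  classical
  exact ⟨t.image (fun x => x - s (p x)), by rw [Finset.coe_image]⟩

section aux

variable {P M : Type u} [CommRing P] [CommRing M] [Algebra A P] [Algebra A M]

/-- descending a lift of the universal point to a quotient of `P` -/
theorem exists_y₀ (c₀ : M →ₐ[A] C) (hc₀ : Function.Surjective c₀)
    (yy : M →ₐ[A] P ⊗[A] B) (K₀ : Ideal P) (F : Set M)
    (hF : Ideal.span F = RingHom.ker c₀.toRingHom)
    (hK : ∀ f ∈ F, ∀ i, coord P (yy f) i ∈ K₀) :
    ∃ y₀ : C →ₐ[A] (P ⧸ K₀) ⊗[A] B, ∀ f,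
      y₀ (c₀ f) = Algebra.TensorProduct.map (Ideal.Quotient.mkₐ A K₀) (AlgHom.id A B) (yy f) := by
  have hkill : RingHom.ker c₀.toRingHom ≤ RingHom.ker
      ((Algebra.TensorProduct.map (Ideal.Quotient.mkₐ A K₀) (AlgHom.id A B)).comp yy).toRingHom := by
    rw [← hF, Ideal.span_le]
    intro f hf
    change Algebra.TensorProduct.map (Ideal.Quotient.mkₐ A K₀) (AlgHom.id A B) (yy f) = 0
    apply (coord (P ⧸ K₀)).injective
    funext i
    rw [coord_map, map_zero]
    exact Ideal.Quotient.eq_zero_iff_mem.mpr (hK f hf i)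
  exact ⟨AlgHom.liftOfSurjective c₀ hc₀ _ hkill,
    fun f => AlgHom.liftOfSurjective_apply _ _ _ _ _⟩

/-- the retract argument -/
theorem fp_of_lift [Algebra.FinitePresentation A P] (p : P →ₐ[A] Q A B C)
    (K₀ : Ideal P) (hK₀fg : K₀.FG) (hK₀ : K₀ ≤ RingHom.ker p.toRingHom)
    (y₀ : C →ₐ[A] (P ⧸ K₀) ⊗[A] B)
    (hy₀ : ∀ c, Algebra.TensorProduct.map (Ideal.Quotient.liftₐ K₀ p (fun a ha => hK₀ ha))
      (AlgHom.id A B) (y₀ c) = y (A := A) (B := B) (C := C) c) :
    Algebra.FinitePresentation A (Q A B C) := by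
  haveI : Algebra.FinitePresentation A (P ⧸ K₀) := Algebra.FinitePresentation.quotient hK₀fg
  obtain ⟨θ, hθ, -⟩ := univ (P ⧸ K₀) y₀
  have hid : (Ideal.Quotient.liftₐ K₀ p (fun a ha => hK₀ ha)).comp θ = AlgHom.id A (Q A B C) := by
    obtain ⟨θ', -, huniq⟩ := univ (Q A B C) (y (A := A) (B := B) (C := C))
    have h1 : (Ideal.Quotient.liftₐ K₀ p (fun a ha => hK₀ ha)).comp θ = θ' := by
      refine huniq _ (fun c i => ?_)
      change (Ideal.Quotient.liftₐ K₀ p (fun a ha => hK₀ ha))
        (θ (pr A B C (MvPolynomial.X (c, i)))) = _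
      rw [hθ, ← coord_map, hy₀]
    have h2 : AlgHom.id A (Q A B C) = θ' := huniq _ (fun c i => by rw [coord_y]; rfl)
    rw [h1, h2]
  exact finitePresentation_of_retract (Ideal.Quotient.liftₐ K₀ p (fun a ha => hK₀ ha)) θ
    (fun q => congrArg (fun h => h q) hid)

end aux

set_option synthInstance.maxHeartbeats 200000 in
theorem finitePresentation [Algebra.FinitePresentation A C] :
    Algebra.FinitePresentation A (Q A B C) := by
  haveI : Algebra.FiniteType A C := inferInstance
  obtain ⟨n, p, hp⟩ := Algebra.FiniteType.iff_quotient_mvPolynomial''.mp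
    (finiteType (A := A) (B := B) (C := C))
  obtain ⟨m, c₀, hc₀, F, hF⟩ := (Algebra.FinitePresentation.out :
    ∃ (n : ℕ) (f : MvPolynomial (Fin n) A →ₐ[A] C), Function.Surjective f ∧
      (RingHom.ker f.toRingHom).FG)
  have hpB : Function.Surjective (Algebra.TensorProduct.map p (AlgHom.id A B)) := by
    intro z
    choose r hr using fun i => hp (coord (Q A B C) z i)
    refine ⟨∑ i, r i ⊗ₜ[A] bas A B i, ?_⟩
    rw [map_sum, ← sum_coord _ z]
    refine Finset.sum_congr rfl fun i _ => ?_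
    rw [← hr i]
    exact Algebra.TensorProduct.map_tmul _ _ _ _
  choose yt hyt using fun k : Fin m => hpB (y (A := A) (B := B) (C := C) (c₀ (MvPolynomial.X k)))
  obtain ⟨yy, hyy0⟩ : ∃ yy : MvPolynomial (Fin m) A →ₐ[A] MvPolynomial (Fin n) A ⊗[A] B,
      ∀ k, yy (MvPolynomial.X k) = yt k := ⟨MvPolynomial.aeval yt, fun k => MvPolynomial.aeval_X _ _⟩
  have hyy : ∀ f, Algebra.TensorProduct.map p (AlgHom.id A B) (yy f) =
      y (A := A) (B := B) (C := C) (c₀ f) := by
    have : (Algebra.TensorProduct.map p (AlgHom.id A B)).comp yy =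
        (y (A := A) (B := B) (C := C)).comp c₀ := by
      apply MvPolynomial.algHom_ext
      intro k
      simp only [AlgHom.comp_apply, hyy0]
      exact hyt k
    intro f
    exact congrArg (fun h => h f) this
  have hκ : ∀ f ∈ RingHom.ker c₀.toRingHom, ∀ i,
      p (coord (MvPolynomial (Fin n) A) (yy f) i) = 0 := by
    intro f hf i
    have h1 : Algebra.TensorProduct.map p (AlgHom.id A B) (yy f) = 0 := by
      have := hyy f
      rw [(show c₀ f = 0 from hf), map_zero] at this
      exact this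
    have h2 := coord_map p (yy f) i
    rw [h1, map_zero] at h2
    exact h2.symm
  obtain ⟨K₀, hK₀def⟩ : ∃ K₀ : Ideal (MvPolynomial (Fin n) A), K₀ =
    Ideal.span ((fun fi : MvPolynomial (Fin m) A × Idx A B =>
      coord (MvPolynomial (Fin n) A) (yy fi.1) fi.2) ''
      ((F : Set (MvPolynomial (Fin m) A)) ×ˢ Set.univ)) := ⟨_, rfl⟩
  have hK₀fg : K₀.FG := by
    classical
    have hfin : ((fun fi : MvPolynomial (Fin m) A × Idx A B =>
      coord (MvPolynomial (Fin n) A) (yy fi.1) fi.2) ''
      ((F : Set (MvPolynomial (Fin m) A)) ×ˢ Set.univ)).Finite :=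
      (F.finite_toSet.prod Set.finite_univ).image _
    exact ⟨hfin.toFinset, by rw [Set.Finite.coe_toFinset, hK₀def]⟩
  have hK₀ : K₀ ≤ RingHom.ker p.toRingHom := by
    rw [hK₀def, Ideal.span_le]
    rintro _ ⟨⟨f, i⟩, ⟨hf, -⟩, rfl⟩
    exact hκ f (hF ▸ Ideal.subset_span hf) i
  obtain ⟨y₀, hy₀⟩ := exists_y₀ c₀ hc₀ yy K₀ (F : Set (MvPolynomial (Fin m) A)) hF
    (fun f hf i => by
      rw [hK₀def]
      exact Ideal.subset_span ⟨(f, i), ⟨hf, trivial⟩, rfl⟩)
  refine fp_of_lift p K₀ hK₀fg hK₀ y₀ (fun c => ?_)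
  obtain ⟨f, rfl⟩ := hc₀ c
  rw [hy₀, map_map, ← hyy f]
  rfl

end fp

end Groth.Agent.Lib.Helper13.WeilFinAlg
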