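import Mathlib
import Groth.Prelude.Def_Flatn
import Groth.Agent.Lib.Helper13.WeilFreeAlg

/-!
# Weil restriction along a finite free affine morphism (helper13)

`main`: for affine `Z, X, S` with `Γ(Z)` finite free over `Γ(S)`, the functor `Flatn.morS g f`
(`T ↦ Hom_S(T ×_S Z, X)`) is represented by the affine `S`-scheme `W Z X S`.
Proof: algebra (`WeilFreeAlg`) for affine `T`, Zariski gluing for general `T`.
-/

set_option autoImplicit false
set_option linter.unusedSectionVars false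
set_option linter.style.haveILetI false
universe u
open CategoryTheory CategoryTheory.Limits AlgebraicGeometry Opposite

namespace Groth.Agent.Lib.Helper13.WeilFree

open Groth.Agent.Lib.Helper13.WeilFreeAlg

theorem isoSpec_inv_appTop (X : Scheme.{u}) [IsAffine X] :
    X.isoSpec.inv.appTop = (Scheme.ΓSpecIso Γ(X, ⊤)).inv := by
  have h1 : X.isoSpec.inv.appTop ≫ X.toSpecΓ.appTop = 𝟙 _ := by
    rw [← Scheme.Hom.comp_appTop, Scheme.toSpecΓ_isoSpec_inv]; rfl
  rw [Scheme.toSpecΓ_appTop] at h1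
  rw [← cancel_mono (Scheme.ΓSpecIso Γ(X, ⊤)).hom, h1, Iso.inv_hom_id]

theorem exists_hom_of_appTop {Y X S : Scheme.{u}} [IsAffine X] [IsAffine S] (f : X ⟶ S) (q : Y ⟶ S)
    (β : Γ(X, ⊤) ⟶ Γ(Y, ⊤)) (hβ : f.appTop ≫ β = q.appTop) :
    ∃ h : Y ⟶ X, h ≫ f = q ∧ h.appTop = β := by
  have h2 : (Y.toSpecΓ ≫ Spec.map β ≫ X.isoSpec.inv).appTop = β := by
    rw [Scheme.Hom.comp_appTop, Scheme.Hom.comp_appTop, isoSpec_inv_appTop, Scheme.toSpecΓ_appTop,
      Category.assoc, Scheme.ΓSpecIso_naturality, Iso.inv_hom_id_assoc]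
  refine ⟨Y.toSpecΓ ≫ Spec.map β ≫ X.isoSpec.inv, ?_, h2⟩
  apply ext_of_isAffine
  rw [Scheme.Hom.comp_appTop, h2, hβ]

theorem map_left_fst {S T : Scheme.{u}} {H G : Over S} (i : H ⟶ G) (b : T ⟶ S) :
    ((Over.pullback b).map i).left ≫ pullback.fst G.hom b = pullback.fst H.hom b ≫ i.left := by
  simp
  exact pullback.lift_fst _ _ _

theorem map_left_snd {S T : Scheme.{u}} {H G : Over S} (i : H ⟶ G) (b : T ⟶ S) :
    ((Over.pullback b).map i).left ≫ pullback.snd G.hom b = pullback.snd H.hom b := by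
  simp
  exact pullback.lift_snd _ _ _

section main

variable {Z X S : Scheme.{u}} [IsAffine Z] [IsAffine X] [IsAffine S] (g : Z ⟶ S) (f : X ⟶ S)
  [Algebra Γ(S, ⊤) Γ(Z, ⊤)] [Algebra Γ(S, ⊤) Γ(X, ⊤)]
  (hB : algebraMap Γ(S, ⊤) Γ(Z, ⊤) = g.appTop.hom) (hC : algebraMap Γ(S, ⊤) Γ(X, ⊤) = f.appTop.hom)
  [Module.Free Γ(S, ⊤) Γ(Z, ⊤)] [Module.Finite Γ(S, ⊤) Γ(Z, ⊤)]

/-- the coordinate ring of the representing scheme -/
abbrev WaT (Z X S : Scheme.{u}) [Algebra Γ(S, ⊤) Γ(Z, ⊤)] [Algebra Γ(S, ⊤) Γ(X, ⊤)]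
    [Module.Free Γ(S, ⊤) Γ(Z, ⊤)] [Module.Finite Γ(S, ⊤) Γ(Z, ⊤)] : Type u :=
  Pol Γ(S, ⊤) Γ(Z, ⊤) Γ(X, ⊤) ⧸ J Γ(S, ⊤) Γ(Z, ⊤) Γ(X, ⊤)

/-- the representing scheme -/
noncomputable def W (Z X S : Scheme.{u}) [IsAffine S] [Algebra Γ(S, ⊤) Γ(Z, ⊤)]
    [Algebra Γ(S, ⊤) Γ(X, ⊤)]
    [Module.Free Γ(S, ⊤) Γ(Z, ⊤)] [Module.Finite Γ(S, ⊤) Γ(Z, ⊤)] : Over S :=
  Over.mk (Spec.map (CommRingCat.ofHom (algebraMap Γ(S, ⊤) (WaT Z X S))) ≫ S.isoSpec.inv)

instance : IsAffine (W Z X S).left := inferInstanceAs (IsAffine (Spec _))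

theorem W_hom_appTop : (W Z X S).hom.appTop =
    CommRingCat.ofHom (algebraMap Γ(S, ⊤) (WaT Z X S)) ≫
      (Scheme.ΓSpecIso (CommRingCat.of (WaT Z X S))).inv := by
  change (Spec.map _ ≫ S.isoSpec.inv).appTop = _
  rw [Scheme.Hom.comp_appTop, isoSpec_inv_appTop, Scheme.ΓSpecIso_inv_naturality]
  rfl

/-- `A`-algebra structure on `Γ(T)` -/
@[reducible] noncomputable def algT (T : Over S) : Algebra Γ(S, ⊤) Γ(T.left, ⊤) :=
  T.hom.appTop.hom.toAlgebra

/-- the presentation of `Γ(W)` -/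
noncomputable def piW : letI := algT (W Z X S)
    Pol Γ(S, ⊤) Γ(Z, ⊤) Γ(X, ⊤) →ₐ[Γ(S, ⊤)] Γ((W Z X S).left, ⊤) :=
  letI := algT (W Z X S)
  { toRingHom := (Scheme.ΓSpecIso (CommRingCat.of (WaT Z X S))).inv.hom.comp
      (Ideal.Quotient.mk (J Γ(S, ⊤) Γ(Z, ⊤) Γ(X, ⊤)))
    commutes' := fun a => by
      change _ = (W Z X S).hom.appTop.hom a
      rw [W_hom_appTop]
      rfl }

theorem piW_surjective : Function.Surjective (piW (Z := Z) (X := X) (S := S)) := by
  intro w
  obtain ⟨p, hp⟩ := Ideal.Quotient.mk_surjective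
    ((Scheme.ΓSpecIso (CommRingCat.of (WaT Z X S))).hom.hom w)
  refine ⟨p, ?_⟩
  change (Scheme.ΓSpecIso (CommRingCat.of (WaT Z X S))).inv.hom (Ideal.Quotient.mk _ p) = w
  rw [hp]
  exact congrArg (fun h => h.hom w) (Scheme.ΓSpecIso (CommRingCat.of (WaT Z X S))).hom_inv_id

theorem piW_ker : letI := algT (W Z X S)
    RingHom.ker (piW (Z := Z) (X := X) (S := S)).toRingHom = J Γ(S, ⊤) Γ(Z, ⊤) Γ(X, ⊤) := by
  ext p
  rw [RingHom.mem_ker]
  change (Scheme.ΓSpecIso (CommRingCat.of (WaT Z X S))).inv.hom (Ideal.Quotient.mk _ p) = 0 ↔ _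
  rw [← Ideal.Quotient.eq_zero_iff_mem]
  constructor
  · intro h
    have := congrArg (Scheme.ΓSpecIso (CommRingCat.of (WaT Z X S))).hom.hom h
    rw [map_zero] at this
    rw [← this]
    exact (congrArg (fun h => h.hom (Ideal.Quotient.mk _ p))
      (Scheme.ΓSpecIso (CommRingCat.of (WaT Z X S))).inv_hom_id).symm
  · intro h
    rw [h, map_zero]

/-- algebra structures on `Γ(T ×_S Z)` -/
@[reducible] noncomputable def algQ1 (T : Over S) : Algebra Γ(T.left, ⊤) Γ(pullback T.hom g, ⊤) :=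
  (pullback.fst T.hom g).appTop.hom.toAlgebra

/-- algebra structures on `Γ(T ×_S Z)` -/
@[reducible] noncomputable def algQ2 (T : Over S) : Algebra Γ(Z, ⊤) Γ(pullback T.hom g, ⊤) :=
  (pullback.snd T.hom g).appTop.hom.toAlgebra

/-- algebra structures on `Γ(T ×_S Z)` -/
@[reducible] noncomputable def algQ (T : Over S) : Algebra Γ(S, ⊤) Γ(pullback T.hom g, ⊤) :=
  ((pullback.fst T.hom g).appTop.hom.comp T.hom.appTop.hom).toAlgebra

theorem tower1 (T : Over S) : letI := algT T; letI := algQ1 g T; letI := algQ g T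
    IsScalarTower Γ(S, ⊤) Γ(T.left, ⊤) Γ(pullback T.hom g, ⊤) := by
  letI := algT T; letI := algQ1 g T; letI := algQ g T
  exact IsScalarTower.of_algebraMap_eq' rfl

include hB in
theorem tower2 (T : Over S) : letI := algQ2 g T; letI := algQ g T
    IsScalarTower Γ(S, ⊤) Γ(Z, ⊤) Γ(pullback T.hom g, ⊤) := by
  letI := algQ2 g T; letI := algQ g T
  refine IsScalarTower.of_algebraMap_eq' ?_
  change (pullback.fst T.hom g).appTop.hom.comp T.hom.appTop.hom =
    (pullback.snd T.hom g).appTop.hom.comp (algebraMap _ _)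
  rw [hB]
  have h := pullback.condition (f := T.hom) (g := g)
  have h' : T.hom.appTop ≫ (pullback.fst T.hom g).appTop =
      g.appTop ≫ (pullback.snd T.hom g).appTop := by
    rw [← Scheme.Hom.comp_appTop, ← Scheme.Hom.comp_appTop, h]
  exact congrArg CommRingCat.Hom.hom h'

/-- the universal point as an algebra map -/
noncomputable def yW : letI := algQ g (W Z X S)
    Γ(X, ⊤) →ₐ[Γ(S, ⊤)] Γ(pullback (W Z X S).hom g, ⊤) :=
  letI := algT (W Z X S); letI := algQ1 g (W Z X S); letI := algQ2 g (W Z X S)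
  letI := algQ g (W Z X S)
  haveI := tower1 g (W Z X S); haveI := tower2 g hB (W Z X S)
  (yuniv (piW (Z := Z) (X := X) (S := S)) (piW_ker (Z := Z) (X := X) (S := S)).ge :
    Γ(X, ⊤) →ₐ[Γ(S, ⊤)] Γ(pullback (W Z X S).hom g, ⊤))

theorem yW_apply (c : Γ(X, ⊤)) : yW g hB c =
    ∑ i, (pullback.fst (W Z X S).hom g).appTop.hom
        (piW (Z := Z) (X := X) (S := S) (MvPolynomial.X (c, i))) *
      (pullback.snd (W Z X S).hom g).appTop.hom (bas Γ(S, ⊤) Γ(Z, ⊤) i) := by
  letI := algT (W Z X S); letI := algQ1 g (W Z X S); letI := algQ2 g (W Z X S)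
  letI := algQ g (W Z X S)
  haveI := tower1 g (W Z X S); haveI := tower2 g hB (W Z X S)
  exact yuniv_apply (piW (Z := Z) (X := X) (S := S)) (piW_ker (Z := Z) (X := X) (S := S)).ge c

include hC in
theorem exists_xi : ∃ ξ : (Flatn.morS g f).obj (op (W Z X S)),
    ∀ c : Γ(X, ⊤), ξ.left.appTop.hom c = yW g hB c := by
  letI := algQ g (W Z X S)
  obtain ⟨h, h1, h2⟩ := exists_hom_of_appTop f (pullback.snd (W Z X S).hom g ≫ g)
    (CommRingCat.ofHom (yW g hB).toRingHom) (by
      ext a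
      have h3 : (yW g hB) (algebraMap Γ(S, ⊤) Γ(X, ⊤) a) = algebraMap _ _ a := (yW g hB).commutes a
      rw [hC] at h3
      have h4 := congrArg (fun h => h.appTop.hom a) (pullback.condition (f := (W Z X S).hom) (g := g))
      simp only [Scheme.Hom.comp_appTop, CommRingCat.hom_comp, RingHom.comp_apply] at h4
      simp only [Scheme.Hom.comp_appTop, CommRingCat.hom_comp, RingHom.comp_apply]
      rw [← h4]
      exact h3)
  refine ⟨(Over.homMk (U := (Over.map g).obj ((Over.pullback g).obj (W Z X S))) (V := Over.mk f) h h1), fun c => ?_⟩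
  change h.appTop.hom c = _
  rw [h2]
  rfl

theorem key (ξ : (Flatn.morS g f).obj (op (W Z X S)))
    (hξ : ∀ c : Γ(X, ⊤), ξ.left.appTop.hom c = yW g hB c)
    {T : Over S} (φ : T ⟶ W Z X S) (c : Γ(X, ⊤)) :
    ((Flatn.morS g f).map φ.op ξ).left.appTop.hom c =
      ∑ i, (pullback.fst T.hom g).appTop.hom (φ.left.appTop.hom
          (piW (Z := Z) (X := X) (S := S) (MvPolynomial.X (c, i)))) *
        (pullback.snd T.hom g).appTop.hom (bas Γ(S, ⊤) Γ(Z, ⊤) i) := by
  have h0 : ((Flatn.morS g f).map φ.op ξ).left = ((Over.pullback g).map φ).left ≫ ξ.left := rfl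
  rw [h0, Scheme.Hom.comp_appTop, CommRingCat.hom_comp, RingHom.comp_apply, hξ, yW_apply, map_sum]
  refine Finset.sum_congr rfl fun i _ => ?_
  rw [map_mul]
  congr 1
  · have h1 : (pullback.fst (W Z X S).hom g).appTop ≫ ((Over.pullback g).map φ).left.appTop =
        φ.left.appTop ≫ (pullback.fst T.hom g).appTop := by
      rw [← Scheme.Hom.comp_appTop, ← Scheme.Hom.comp_appTop, map_left_fst]
    exact congrArg (fun h => h.hom (piW (Z := Z) (X := X) (S := S) (MvPolynomial.X (c, i)))) h1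
  · have h1 : (pullback.snd (W Z X S).hom g).appTop ≫ ((Over.pullback g).map φ).left.appTop =
        (pullback.snd T.hom g).appTop := by
      rw [← Scheme.Hom.comp_appTop, map_left_snd]
    exact congrArg (fun h => h.hom (bas Γ(S, ⊤) Γ(Z, ⊤) i)) h1

theorem cond_appTop (T : Over S) : T.hom.appTop ≫ (pullback.fst T.hom g).appTop =
    g.appTop ≫ (pullback.snd T.hom g).appTop := by
  rw [← Scheme.Hom.comp_appTop, ← Scheme.Hom.comp_appTop, pullback.condition]

include hB in
theorem isPushout_T (T : Over S) [IsAffine T.left] :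
    letI := algT T; letI := algQ1 g T; letI := algQ2 g T; letI := algQ g T
    haveI := tower1 g T; haveI := tower2 g hB T
    Algebra.IsPushout Γ(S, ⊤) Γ(T.left, ⊤) Γ(Z, ⊤) Γ(pullback T.hom g, ⊤) := by
  letI := algT T; letI := algQ1 g T; letI := algQ2 g T; letI := algQ g T
  haveI := tower1 g T; haveI := tower2 g hB T
  have hpo := isPushout_appTop_of_isPullback (IsPullback.of_hasPullback T.hom g)
  rw [← CommRingCat.isPushout_iff_isPushout]
  have h1 : CommRingCat.ofHom (algebraMap Γ(S, ⊤) Γ(Z, ⊤)) = g.appTop := by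
    rw [hB]; rfl
  rw [h1]
  exact hpo

include hB hC in
theorem existsUnique_affine (ξ : (Flatn.morS g f).obj (op (W Z X S)))
    (hξ : ∀ c : Γ(X, ⊤), ξ.left.appTop.hom c = yW g hB c)
    (T : Over S) [IsAffine T.left] (b : (Flatn.morS g f).obj (op T)) :
    ∃! φ : T ⟶ W Z X S, (Flatn.morS g f).map φ.op ξ = b := by
  letI := algT T; letI := algQ1 g T; letI := algQ2 g T; letI := algQ g T
  haveI := tower1 g T; haveI := tower2 g hB T
  haveI := isPushout_T g hB T
  letI := algT (W Z X S)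
  have hb1 : f.appTop ≫ b.left.appTop = g.appTop ≫ (pullback.snd T.hom g).appTop := by
    rw [← Scheme.Hom.comp_appTop, ← Scheme.Hom.comp_appTop]
    exact congrArg Scheme.Hom.appTop (Over.w b)
  let β : Γ(X, ⊤) →ₐ[Γ(S, ⊤)] Γ(pullback T.hom g, ⊤) :=
    { toRingHom := b.left.appTop.hom
      commutes' := fun a => by
        have h2 := congrArg (fun h => h.hom a) (hb1.trans (cond_appTop g T).symm)
        rw [hC]
        exact h2 }
  obtain ⟨θ, hθ, hθu⟩ := existsUnique_of_isPushout (R := Γ(T.left, ⊤))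
    (piW (Z := Z) (X := X) (S := S)) piW_surjective piW_ker β
  -- uniqueness helper
  have huniq : ∀ φ' : T ⟶ W Z X S, (Flatn.morS g f).map φ'.op ξ = b →
      φ'.left.appTop.hom = θ.toRingHom := by
    intro φ' hφ'
    let θ' : Γ((W Z X S).left, ⊤) →ₐ[Γ(S, ⊤)] Γ(T.left, ⊤) :=
      { toRingHom := φ'.left.appTop.hom
        commutes' := fun a => by
          have h3 : (W Z X S).hom.appTop ≫ φ'.left.appTop = T.hom.appTop := by
            rw [← Scheme.Hom.comp_appTop]
            exact congrArg Scheme.Hom.appTop (Over.w φ')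
          exact congrArg (fun h => h.hom a) h3 }
    have h4 : θ' = θ := by
      apply hθu
      intro c
      have := key g f hB ξ hξ φ' c
      rw [hφ'] at this
      exact this.symm
    rw [← h4]
  -- existence
  obtain ⟨φl, h5, h6⟩ := exists_hom_of_appTop (W Z X S).hom T.hom
    (CommRingCat.ofHom (R := Γ((W Z X S).left, ⊤)) (S := Γ(T.left, ⊤)) θ.toRingHom) (by
    ext a
    exact θ.commutes a)
  let φ : T ⟶ W Z X S := Over.homMk φl h5
  haveI : IsAffine (Over.mk f).left := ‹IsAffine X›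
  have h7 : ∀ w : Γ((W Z X S).left, ⊤), φ.left.appTop.hom w = θ w := fun w => by
    change φl.appTop.hom w = _
    rw [h6]; rfl
  have hφ : (Flatn.morS g f).map φ.op ξ = b := by
    apply Over.OverMorphism.ext
    apply ext_of_isAffine
    apply CommRingCat.hom_ext
    apply RingHom.ext
    intro c
    rw [key g f hB ξ hξ φ c]
    rw [← show β c = b.left.appTop.hom c from rfl, ← hθ c]
    refine Finset.sum_congr rfl fun i _ => ?_
    rw [h7]
    rfl
  refine ⟨φ, hφ, fun φ' hφ' => ?_⟩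
  apply Over.OverMorphism.ext
  apply ext_of_isAffine
  apply CommRingCat.hom_ext
  rw [huniq φ' hφ', huniq φ hφ]

end main

section glue

variable {Z X S : Scheme.{u}} (g : Z ⟶ S) (f : X ⟶ S)

/-- the chart of `T` over `S` -/
noncomputable abbrev chart (T : Over S) (j : T.left.affineCover.I₀) : Over S :=
  Over.mk (T.left.affineCover.f j ≫ T.hom)

/-- the chart inclusion -/
noncomputable abbrev chartι (T : Over S) (j : T.left.affineCover.I₀) : chart T j ⟶ T :=
  Over.homMk (T.left.affineCover.f j) rfl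

instance (T : Over S) (j : T.left.affineCover.I₀) : IsAffine (chart T j).left :=
  inferInstanceAs (IsAffine (Spec _))

theorem pullback_map_chartι_left (T : Over S) (j : T.left.affineCover.I₀) :
    ((Over.pullback g).map (chartι T j)).left =
      (Scheme.Pullback.openCoverOfLeft T.left.affineCover T.hom g).f j := by
  apply pullback.hom_ext
  · rw [map_left_fst]
    exact (pullback.lift_fst _ _ _).symm
  · rw [map_left_snd]
    exact ((pullback.lift_snd _ _ _).trans (Category.comp_id _)).symm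

/-- `morS` is separated for the affine cover of `T` -/
theorem morS_sep (T : Over S) (b b' : (Flatn.morS g f).obj (op T))
    (h : ∀ j, (Flatn.morS g f).map (chartι T j).op b = (Flatn.morS g f).map (chartι T j).op b') :
    b = b' := by
  apply Over.OverMorphism.ext
  refine (Scheme.Pullback.openCoverOfLeft T.left.affineCover T.hom g).hom_ext _ _ fun j => ?_
  have h1 := congrArg (fun c => c.left) (h j)
  have h2 : ∀ c : (Flatn.morS g f).obj (op T), ((Flatn.morS g f).map (chartι T j).op c).left =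
      ((Over.pullback g).map (chartι T j)).left ≫ c.left := fun c => rfl
  simp only [h2] at h1
  exact h1

end glue

section main2

variable {Z X S : Scheme.{u}} [IsAffine Z] [IsAffine X] [IsAffine S] (g : Z ⟶ S) (f : X ⟶ S)
  [Algebra Γ(S, ⊤) Γ(Z, ⊤)] [Algebra Γ(S, ⊤) Γ(X, ⊤)]
  (hB : algebraMap Γ(S, ⊤) Γ(Z, ⊤) = g.appTop.hom) (hC : algebraMap Γ(S, ⊤) Γ(X, ⊤) = f.appTop.hom)
  [Module.Free Γ(S, ⊤) Γ(Z, ⊤)] [Module.Finite Γ(S, ⊤) Γ(Z, ⊤)]

include hB hC in
theorem injective_general (ξ : (Flatn.morS g f).obj (op (W Z X S)))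
    (hξ : ∀ c : Γ(X, ⊤), ξ.left.appTop.hom c = yW g hB c)
    (T : Over S) (φ φ' : T ⟶ W Z X S)
    (h : (Flatn.morS g f).map φ.op ξ = (Flatn.morS g f).map φ'.op ξ) : φ = φ' := by
  apply Over.OverMorphism.ext
  refine T.left.affineCover.hom_ext _ _ fun j => ?_
  have h1 : (Flatn.morS g f).map (chartι T j ≫ φ).op ξ =
      (Flatn.morS g f).map (chartι T j ≫ φ').op ξ := by
    rw [op_comp, op_comp, Functor.map_comp_apply, Functor.map_comp_apply, h]
  obtain ⟨φ₀, -, hu⟩ := existsUnique_affine g f hB hC ξ hξ (chart T j)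
    ((Flatn.morS g f).map (chartι T j ≫ φ').op ξ)
  have h2 := (hu _ h1).trans (hu _ rfl).symm
  exact congrArg (fun c => c.left) h2

include hB hC in
theorem surjective_general (ξ : (Flatn.morS g f).obj (op (W Z X S)))
    (hξ : ∀ c : Γ(X, ⊤), ξ.left.appTop.hom c = yW g hB c)
    (T : Over S) (b : (Flatn.morS g f).obj (op T)) :
    ∃ φ : T ⟶ W Z X S, (Flatn.morS g f).map φ.op ξ = b := by
  have hex : ∀ j, ∃ φj : chart T j ⟶ W Z X S,
      (Flatn.morS g f).map φj.op ξ = (Flatn.morS g f).map (chartι T j).op b := fun j =>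
    (existsUnique_affine g f hB hC ξ hξ (chart T j) _).exists
  choose φj hφj using hex
  have hcompat : ∀ i j, pullback.fst (T.left.affineCover.f i) (T.left.affineCover.f j) ≫ (φj i).left =
      pullback.snd _ _ ≫ (φj j).left := by
    intro i j
    let Tij : Over S := Over.mk (pullback.fst (T.left.affineCover.f i) (T.left.affineCover.f j) ≫
      T.left.affineCover.f i ≫ T.hom)
    let p1 : Tij ⟶ chart T i := Over.homMk (pullback.fst _ _) rfl
    let p2 : Tij ⟶ chart T j := Over.homMk (pullback.snd _ _) (by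
      change pullback.snd _ _ ≫ T.left.affineCover.f j ≫ T.hom = _
      rw [← Category.assoc, ← pullback.condition, Category.assoc]
      rfl)
    have hp : p1 ≫ chartι T i = p2 ≫ chartι T j := by
      apply Over.OverMorphism.ext
      exact pullback.condition
    have h1 : (Flatn.morS g f).map (p1 ≫ φj i).op ξ = (Flatn.morS g f).map (p2 ≫ φj j).op ξ := by
      rw [op_comp, op_comp, Functor.map_comp_apply, Functor.map_comp_apply,
        hφj, hφj, ← Functor.map_comp_apply, ← Functor.map_comp_apply,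
        ← op_comp, ← op_comp, hp]
    exact congrArg (fun c => c.left) (injective_general g f hB hC ξ hξ Tij _ _ h1)
  let φl : T.left ⟶ (W Z X S).left :=
    T.left.affineCover.glueMorphisms (fun j => (φj j).left) hcompat
  have hφl : ∀ j, T.left.affineCover.f j ≫ φl = (φj j).left := fun j =>
    T.left.affineCover.ι_glueMorphisms _ hcompat j
  have hover : φl ≫ (W Z X S).hom = T.hom := by
    refine T.left.affineCover.hom_ext _ _ fun j => ?_
    rw [← Category.assoc, hφl]
    exact Over.w (φj j)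
  let φ : T ⟶ W Z X S := Over.homMk φl hover
  refine ⟨φ, ?_⟩
  apply morS_sep g f T
  intro j
  have h3 : chartι T j ≫ φ = φj j := by
    apply Over.OverMorphism.ext
    exact hφl j
  rw [← Functor.map_comp_apply, ← op_comp, h3, hφj]

include hB hC in
theorem main : ∃ W' : Over S, IsAffine W'.left ∧
    Nonempty ((Flatn.morS g f).RepresentableBy W') := by
  obtain ⟨ξ, hξ⟩ := exists_xi g f hB hC
  refine ⟨W Z X S, inferInstance, ⟨?_⟩⟩
  exact
    { homEquiv := fun {T} => Equiv.ofBijective (fun φ => (Flatn.morS g f).map φ.op ξ)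
        ⟨fun φ φ' h => injective_general g f hB hC ξ hξ T φ φ' h,
          fun b => surjective_general g f hB hC ξ hξ T b⟩
      homEquiv_comp := fun {T T'} a b => by
        change (Flatn.morS g f).map (a ≫ b).op ξ = (Flatn.morS g f).map a.op _
        rw [op_comp, Functor.map_comp_apply]
        rfl }

end main2

end Groth.Agent.Lib.Helper13.WeilFree
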