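import Mathlib
import Groth.Prelude.Def_Flatn
import Groth.Prelude.Def_Mor2
import Groth.Prelude.Def_AutFam
import Groth.Agent.Lib.Helper13.WeilFin
import Groth.Agent.Lib.Helper13.WeilProjOver
import Groth.Agent.Lib.Helper13.HomFam

/-! Helper13: representability of the functor of group homomorphisms `Hom_{S-gr}(H, G)` for `H`
finite locally free and `G` affine over `S`. -/

set_option autoImplicit false
set_option linter.unusedSectionVars false
set_option linter.style.haveILetI false
universe u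
open CategoryTheory MonoidalCategory CartesianMonoidalCategory MonObj GrpObj AlgebraicGeometry Limits
  Opposite

namespace Groth.Agent.Lib.Helper13.HomRep

open Groth.Agent.Lib.Helper13.MorSSheaf

variable {S : Scheme.{u}} (H G : Over S)

/-- morphisms out of `T ⊗ H` as sections of `morS` -/
noncomputable def toMorS (T : Over S) (φ : T ⊗ H ⟶ G) : (Flatn.morS H.hom G.hom).obj (op T) :=
  (Over.homMk φ.left (by
    change φ.left ≫ G.hom = pullback.snd T.hom H.hom ≫ H.hom
    rw [Over.w φ, Over.tensorObj_hom, pullback.condition]) :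
    (Over.map H.hom).obj ((Over.pullback H.hom).obj T) ⟶ Over.mk G.hom)

/-- sections of `morS` as morphisms out of `T ⊗ H` -/
noncomputable def ofMorS (T : Over S) (b : (Flatn.morS H.hom G.hom).obj (op T)) : T ⊗ H ⟶ G :=
  Over.homMk b.left (by
    rw [Over.tensorObj_hom, pullback.condition]
    exact Over.w b)

theorem toMorS_left (T : Over S) (φ : T ⊗ H ⟶ G) : (toMorS H G T φ).left = φ.left := rfl

theorem ofMorS_left (T : Over S) (b : (Flatn.morS H.hom G.hom).obj (op T)) :
    (ofMorS H G T b).left = b.left := rfl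

theorem ofMorS_toMorS (T : Over S) (φ : T ⊗ H ⟶ G) : ofMorS H G T (toMorS H G T φ) = φ :=
  Over.OverMorphism.ext rfl

theorem toMorS_ofMorS (T : Over S) (b : (Flatn.morS H.hom G.hom).obj (op T)) :
    toMorS H G T (ofMorS H G T b) = b :=
  Over.OverMorphism.ext rfl

theorem pullback_map_left {T T' : Over S} (a : T' ⟶ T) :
    ((Over.pullback H.hom).map a).left = (a ▷ H).left := by
  apply pullback.hom_ext
  · rw [map_left_fst']
    have := congrArg (fun c => c.left) (whiskerRight_fst a H)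
    simp only [Over.comp_left] at this
    exact this.symm
  · rw [map_left_snd']
    have := congrArg (fun c => c.left) (whiskerRight_snd a H)
    simp only [Over.comp_left] at this
    exact this.symm

theorem map_toMorS {T T' : Over S} (a : T' ⟶ T) (φ : T ⊗ H ⟶ G) :
    (Flatn.morS H.hom G.hom).map a.op (toMorS H G T φ) = toMorS H G T' ((a ▷ H) ≫ φ) := by
  apply Over.OverMorphism.ext
  rw [toMorS_left, Over.comp_left, ← pullback_map_left]
  rfl

/-- the universal property of a representing object in terms of `T ⊗ H` -/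
theorem exists_univ {W : Over S} (r : (Flatn.morS H.hom G.hom).RepresentableBy W) :
    ∃ υ : W ⊗ H ⟶ G, ∀ (T : Over S) (φ : T ⊗ H ⟶ G), ∃! a : T ⟶ W, (a ▷ H) ≫ υ = φ := by
  refine ⟨ofMorS H G W (r.homEquiv (𝟙 W)), fun T φ => ?_⟩
  have key : ∀ a : T ⟶ W, (a ▷ H) ≫ ofMorS H G W (r.homEquiv (𝟙 W)) = ofMorS H G T (r.homEquiv a) := by
    intro a
    have h1 : r.homEquiv a = (Flatn.morS H.hom G.hom).map a.op (r.homEquiv (𝟙 W)) := by
      rw [r.homEquiv_eq]
    have h2 : (Flatn.morS H.hom G.hom).map a.op (r.homEquiv (𝟙 W)) =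
        toMorS H G T ((a ▷ H) ≫ ofMorS H G W (r.homEquiv (𝟙 W))) := by
      conv_lhs => rw [← toMorS_ofMorS H G W (r.homEquiv (𝟙 W))]
      exact map_toMorS H G a _
    rw [h1, h2, ofMorS_toMorS]
  refine ⟨r.homEquiv.symm (toMorS H G T φ), ?_, ?_⟩
  · dsimp only
    rw [key, Equiv.apply_symm_apply, ofMorS_toMorS]
  · intro a ha
    rw [key] at ha
    rw [← ha, toMorS_ofMorS, Equiv.symm_apply_apply]

section main

open Groth.Agent.Lib.Helper13.HomFam

variable [GrpObj H] [GrpObj G]

theorem braiding_braiding (X Y : Over S) : (β_ X Y).hom ≫ (β_ Y X).hom = 𝟙 _ := by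
  apply CartesianMonoidalCategory.hom_ext
  · rw [Category.assoc, braiding_hom_fst, braiding_hom_snd, Category.id_comp]
  · rw [Category.assoc, braiding_hom_snd, braiding_hom_fst, Category.id_comp]

theorem exists_representsHom (hH : Mor2.IsFinLocFree H.hom) [IsAffineHom G.hom] :
    ∃ (A : Over S) (υ : H ⊗ A ⟶ G), AutFam.RepresentsHom H G A υ ∧ IsAffineHom A.hom ∧
      (LocallyOfFiniteType G.hom → LocallyOfFiniteType A.hom) ∧
      (LocallyOfFinitePresentation G.hom → LocallyOfFinitePresentation A.hom) := by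
  haveI := hH.1
  haveI := hH.2.1
  haveI := hH.2.2
  obtain ⟨W, hWaff, ⟨r⟩, hWft, hWfp⟩ := WeilFin.main H.hom G.hom hH
  obtain ⟨υ', hυ'⟩ := exists_univ H G r
  haveI : IsFinite (H ⊗ H).hom :=
    inferInstanceAs (IsFinite (pullback.fst H.hom H.hom ≫ H.hom))
  haveI : Flat (H ⊗ H).hom :=
    inferInstanceAs (Flat (pullback.fst H.hom H.hom ≫ H.hom))
  haveI : LocallyOfFinitePresentation (H ⊗ H).hom :=
    inferInstanceAs (LocallyOfFinitePresentation (pullback.fst H.hom H.hom ≫ H.hom))
  haveI : IsSeparated G.hom := inferInstance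
  obtain ⟨Z, j, hj, hjfp, hZ⟩ :=
    WeilProjOver.exists_closed_eq W (H ⊗ H) G (f₁ H G υ') (f₂ H G υ')
  haveI : Mono j.left := inferInstance
  haveI : Mono j := (Over.forget S).mono_of_mono_map ‹Mono j.left›
  have hZhom : Z.hom = j.left ≫ W.hom := (Over.w j).symm
  have hfam : ∀ {T : Over S} (x : T ⟶ W),
      IsHomFamilyL H G ((x ▷ H) ≫ υ') ↔ ∃ z : T ⟶ Z, z ≫ j = x := by
    intro T x
    rw [isHomFamilyL_iff, hZ]
  have hbr : ∀ {T : Over S} (a : T ⟶ Z),
      (β_ T H).hom ≫ (H ◁ a) ≫ (β_ H Z).hom ≫ (j ▷ H) ≫ υ' = ((a ≫ j) ▷ H) ≫ υ' := by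
    intro T a
    rw [BraidedCategory.braiding_naturality_right_assoc, ← Category.assoc,
      braiding_braiding, Category.id_comp, ← Category.assoc, ← comp_whiskerRight]
  refine ⟨Z, (β_ H Z).hom ≫ (j ▷ H) ≫ υ', ⟨?_, ?_⟩, ?_, ?_, ?_⟩
  · change ∀ (X : Over S) (g₁ g₂ : X ⟶ H) (t : X ⟶ Z), _
    rw [← isHomFamilyL_braiding, ← Category.assoc, braiding_braiding, Category.id_comp, hfam]
    exact ⟨𝟙 Z, Category.id_comp j⟩
  · intro T φ hφ
    have hφ' : IsHomFamilyL H G ((β_ T H).hom ≫ φ) := (isHomFamilyL_braiding H G φ).mpr hφ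
    obtain ⟨x, hx, hxuniq⟩ := hυ' T ((β_ T H).hom ≫ φ)
    dsimp only at hx hxuniq
    rw [← hx] at hφ'
    obtain ⟨z, hz⟩ := (hfam x).mp hφ'
    refine ⟨z, ?_, ?_⟩
    · dsimp only
      have h1 := hbr z
      rw [hz, hx] at h1
      exact (cancel_epi (β_ T H).hom).mp h1
    · intro a' ha'
      have h1 := hbr a'
      rw [ha'] at h1
      have h2 : a' ≫ j = x := hxuniq _ h1.symm
      rw [← cancel_mono j, h2, hz]
  · rw [hZhom]
    infer_instance
  · intro hG
    haveI := hWft hG
    rw [hZhom]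
    infer_instance
  · intro hG
    haveI := hWfp hG
    haveI : LocallyOfFiniteType G.hom := inferInstance
    haveI := hjfp inferInstance
    rw [hZhom]
    infer_instance

end main

end Groth.Agent.Lib.Helper13.HomRep
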