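import Groth.Agent.Lib.lead.GenFiniteSep
import Groth.Agent.Lib.Helper13.ZMTFinMain

set_option autoImplicit false
universe u
open CategoryTheory AlgebraicGeometry CategoryTheory.Limits

namespace Groth.Agent.Lib.Helper13.ImmFinFac

theorem topologicalKrullDim_le_zero_of_no_specialization (Z : Type*) [TopologicalSpace Z]
    [QuasiSober Z] (h : ∀ z₁ z₂ : Z, z₁ ⤳ z₂ → z₁ = z₂) : topologicalKrullDim Z ≤ 0 := by
  rw [topologicalKrullDim, Order.krullDim_nonpos_iff_forall_isMax]
  intro C C' hCC'
  obtain ⟨ξ, hξ⟩ := QuasiSober.sober C.isIrreducible C.isClosed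
  obtain ⟨ξ', hξ'⟩ := QuasiSober.sober C'.isIrreducible C'.isClosed
  have hξC : ξ ∈ (C : Set Z) := by
    rw [← hξ.def]
    exact subset_closure rfl
  have h1 : ξ ∈ closure {ξ'} := by
    rw [hξ'.def]
    exact hCC' hξC
  have h2 : ξ' = ξ := h _ _ (specializes_iff_mem_closure.mpr h1)
  intro x hx
  have hx' : x ∈ (C' : Set Z) := hx
  rw [← hξ'.def, h2, hξ.def] at hx'
  exact hx'

theorem isDiscrete_preimage_of_no_specialization {X Y : Scheme.{u}} (f : X ⟶ Y)
    [LocallyOfFiniteType f] (y : Y)
    (h : ∀ x₁ x₂ : X, f x₁ = y → f x₂ = y → x₁ ⤳ x₂ → x₁ = x₂) : _root_.IsDiscrete (f ⁻¹' {y}) := by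
  haveI : LocallyOfFiniteType (f.fiberToSpecResidueField y) :=
    inferInstanceAs (LocallyOfFiniteType (pullback.snd f (Y.fromSpecResidueField y)))
  haveI : IsLocallyNoetherian (f.fiber y) :=
    LocallyOfFiniteType.isLocallyNoetherian (f.fiberToSpecResidueField y)
  have hmem : ∀ z : f.fiber y, f (f.fiberι y z) = y := fun z => by
    have : f.fiberι y z ∈ Set.range (f.fiberι y) := ⟨z, rfl⟩
    rw [f.range_fiberι y] at this
    exact this
  have hdim : topologicalKrullDim (f.fiber y) ≤ 0 := by
    apply topologicalKrullDim_le_zero_of_no_specialization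
    intro z₁ z₂ hz
    apply (f.fiberι y).isEmbedding.injective
    exact h _ _ (hmem z₁) (hmem z₂) (hz.map (f.fiberι y).continuous)
  haveI := IsLocallyArtinian.of_topologicalKrullDim_le_zero hdim
  haveI : DiscreteTopology (f.fiber y) := inferInstance
  rw [isDiscrete_iff_discreteTopology]
  exact (f.fiberHomeo y).symm.isEmbedding.discreteTopology

open Groth.Agent.Lib.lead.GenFiniteSep in
theorem main {X Y : Scheme.{u}} (f : X ⟶ Y)
    [CompactSpace Y] [QuasiSeparatedSpace Y] [IsSeparated f] [LocallyOfFiniteType f]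
    [QuasiCompact f] :
    (∃ (Y' : Scheme.{u}) (f' : X ⟶ Y') (u : Y' ⟶ Y), IsImmersion f' ∧ IsFinite u ∧ f' ≫ u = f) ↔
      IsImmersion f.toNormalization := by
  constructor
  · rintro ⟨Y', f', u, hf', hu, hfac⟩
    haveI : IsImmersion (f.toNormalization ≫ f.normalizationDesc f' u hfac.symm) := by
      rw [f.toNormalization_normalizationDesc]; exact hf'
    exact IsImmersion.of_comp _ (f.normalizationDesc f' u hfac.symm)
  · intro hg
    haveI : LocallyQuasiFinite f := by
      rw [locallyQuasiFinite_iff_isDiscrete_preimage_singleton]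
      intro y
      apply isDiscrete_preimage_of_no_specialization
      intro x₁ x₂ h₁ h₂ hsp
      apply f.toNormalization.isEmbedding.injective
      apply eq_of_specializes_of_isIntegralHom f.fromNormalization
        (hsp.map f.toNormalization.continuous)
      rw [← Scheme.Hom.comp_apply, ← Scheme.Hom.comp_apply, f.toNormalization_fromNormalization,
        h₁, h₂]
    obtain ⟨T, j, π, hj, -, -, hπ, hfac⟩ :=
      Groth.Agent.Lib.Helper13.ZMTFin.exists_finite_factorization f
    exact ⟨T, j, π, inferInstance, hπ, hfac⟩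

end Groth.Agent.Lib.Helper13.ImmFinFac
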