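import Groth.Agent.Lib.Helper13.PolyLie

/-!
# Jacobson's sum is a symmetric 2-cocycle, in any Lie algebra of characteristic `p`
(helper13 library for the `PLie` area).
-/

set_option autoImplicit false

attribute [local instance 100] LieRing.ofAssociativeRing

open Polynomial PLie

namespace Groth.Agent.Lib.Helper13.JCocycle

open PolyLie JLemmas

variable {R : Type*} [CommRing R] (p : ℕ) [hp : Fact p.Prime] [CharP R p]
variable {L : Type*} [LieRing L] [LieAlgebra R L]

theorem ev_one_tm_X (x : L) : ev R L 1 (tm (X : R[X]) x) = x := by simp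
theorem ev_zero_tm_X (x : L) : ev R L 0 (tm (X : R[X]) x) = 0 := by simp
theorem ev_tm_one (a : R) (x : L) : ev R L a (tm (1 : R[X]) x) = x := by simp

/-- Jacobson's sum is symmetric. -/
theorem jacobson_symm (x y : L) : jacobson R p x y = jacobson R p y x := by
  set a : PolyL R L := tm (X : R[X]) x with ha
  set b : PolyL R L := tm (1 : R[X]) y with hb
  set w : PolyL R L := jacobson R p a b - jacobson R p b a with hw
  have hρ : rho R L w = 0 := by
    rw [hw, map_sub, rho_jacobson, rho_jacobson, add_comm (rho R L b) (rho R L a)]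
    abel
  have hdeg : degLE R L (p - 1) w :=
    degLE_sub (degLE_jacobson_A p (degLE_tm_X x) (degLE_tm_one y))
      (degLE_jacobson_B p (degLE_tm_one y) (degLE_tm_X x))
  have h := ev_one_eq_ev_zero p w hρ hdeg
  rw [hw, map_sub, map_sub, jacobson_map, jacobson_map, jacobson_map, jacobson_map, ha, hb,
    ev_one_tm_X, ev_zero_tm_X, ev_tm_one, ev_tm_one, jacobson_zero_left, jacobson_zero_right,
    sub_zero] at h
  exact sub_eq_zero.1 h

/-- Jacobson's sum satisfies the 2-cocycle identity. -/
theorem jacobson_cocycle (x y z : L) :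
    jacobson R p x y + jacobson R p (x + y) z = jacobson R p y z + jacobson R p x (y + z) := by
  set a : PolyL R L := tm (X : R[X]) x with ha
  set b : PolyL R L := tm (1 : R[X]) y with hb
  set c : PolyL R L := tm (1 : R[X]) z with hc
  set w : PolyL R L := jacobson R p a b + jacobson R p (a + b) c - jacobson R p b c
    - jacobson R p a (b + c) with hw
  have hρ : rho R L w = 0 := by
    rw [hw, map_sub, map_sub, map_add, rho_jacobson, rho_jacobson, rho_jacobson, rho_jacobson,
      map_add, map_add, add_assoc]
    abel
  have da : degLE R L 1 a := degLE_tm_X x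
  have db : degLE R L 0 b := degLE_tm_one y
  have dc : degLE R L 0 c := degLE_tm_one z
  have hdeg : degLE R L (p - 1) w := by
    refine degLE_sub (degLE_sub (degLE_add ?_ ?_) ?_) ?_
    · exact degLE_jacobson_A p da db
    · exact degLE_jacobson_A p (degLE_add da (degLE_mono (Nat.zero_le 1) db)) dc
    · exact degLE_jacobson_A p (degLE_mono (Nat.zero_le 1) db) dc
    · exact degLE_jacobson_A p da (degLE_add db dc)
  have h := ev_one_eq_ev_zero p w hρ hdeg
  rw [hw] at h
  simp only [map_sub, map_add, jacobson_map, ha, hb, hc, ev_one_tm_X, ev_zero_tm_X, ev_tm_one,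
    jacobson_zero_left, zero_add, sub_zero, add_sub_cancel_left, sub_self] at h
  rw [sub_sub, sub_eq_zero] at h
  exact h

end Groth.Agent.Lib.Helper13.JCocycle
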