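import Groth.Agent.Lib.Helper13.Jacobson

/-!
# Basic properties of Jacobson's sum `PLie.jacobson` (helper13 library for the `PLie` area).
-/

set_option autoImplicit false

attribute [local instance 100] LieRing.ofAssociativeRing

namespace Groth.Agent.Lib.Helper13.JLemmas

open PLie

section

variable {R : Type*} [CommRing R] (p : ℕ) [CharP R p]
variable {L : Type*} [LieRing L] [LieAlgebra R L] {L' : Type*} [LieRing L'] [LieAlgebra R L']

omit [CharP R p] in
theorem bracketWord_map (f : L →ₗ⁅R⁆ L') {ι : Type*} (x : ι → L) (x₁ : L) (l : List ι) :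
    f (bracketWord x x₁ l) = bracketWord (fun i => f (x i)) (f x₁) l := by
  induction l with
  | nil => simp
  | cons i l ih => rw [bracketWord_cons, LieHom.map_lie, ih, bracketWord_cons]

omit [CharP R p] [LieAlgebra R L] [LieRing L] in
theorem pair_map {M : Type*} (f : L → M) (x₀ x₁ : L) :
    (fun i => f (pair x₀ x₁ i)) = pair (f x₀) (f x₁) := by
  funext i
  cases i <;> simp [pair]

theorem jacobson_map (f : L →ₗ⁅R⁆ L') (x₀ x₁ : L) :
    f (jacobson R p x₀ x₁) = jacobson R p (f x₀) (f x₁) := by
  unfold jacobson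
  rw [map_sum]
  refine Finset.sum_congr rfl fun t _ => ?_
  rw [map_smul, bracketWord_map, pair_map]

omit [CharP R p] [LieAlgebra R L] in
theorem bracketWord_zero_right {ι : Type*} (x : ι → L) (l : List ι) :
    bracketWord x 0 l = 0 := by
  induction l with
  | nil => simp
  | cons i l ih => rw [bracketWord_cons, ih, lie_zero]

omit [CharP R p] [LieAlgebra R L] in
theorem bracketWord_eq_zero_of_mem {ι : Type*} (x : ι → L) (x₁ : L) (l : List ι) (i : ι)
    (hi : i ∈ l) (hx : x i = 0) : bracketWord x x₁ l = 0 := by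
  induction l with
  | nil => simp at hi
  | cons j l ih =>
    rw [bracketWord_cons]
    rcases List.mem_cons.1 hi with h | h
    · rw [← h, hx, zero_lie]
    · rw [ih h, lie_zero]

theorem jacobson_zero_right (x₀ : L) : jacobson R p x₀ 0 = 0 := by
  unfold jacobson
  refine Finset.sum_eq_zero fun t _ => ?_
  rw [bracketWord_zero_right, smul_zero]

theorem jacobson_zero_left (x₁ : L) : jacobson R p 0 x₁ = 0 := by
  unfold jacobson
  refine Finset.sum_eq_zero fun t _ => ?_
  by_cases h : Fintype.card {i // t i = false} = 0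
  · rw [h, Nat.cast_zero, ZMod.inv_zero, map_zero, zero_smul]
  · have : Nonempty {i // t i = false} := by
      rw [← Fintype.card_pos_iff]; omega
    obtain ⟨i, hi⟩ := this
    rw [bracketWord_eq_zero_of_mem (pair 0 x₁) x₁ (List.ofFn t) false, smul_zero]
    · rw [List.mem_ofFn]; exact ⟨i, hi⟩
    · simp [pair]

omit [CharP R p] [LieAlgebra R L] in
/-- a bracket word of positive length ending in two commuting letters vanishes -/
theorem bracketWord_eq_zero_of_lie_eq_zero (x₀ x₁ : L) (h : ⁅x₀, x₁⁆ = 0) (l : List Bool)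
    (hl : l ≠ []) : bracketWord (pair x₀ x₁) x₁ l = 0 := by
  induction l with
  | nil => exact absurd rfl hl
  | cons i l ih =>
    rw [bracketWord_cons]
    by_cases hl' : l = []
    · subst hl'
      cases i <;> simp [pair, h]
    · rw [ih hl', lie_zero]

theorem jacobson_eq_zero_of_lie_eq_zero [hp : Fact p.Prime] (x₀ x₁ : L) (h : ⁅x₀, x₁⁆ = 0) :
    jacobson R p x₀ x₁ = 0 := by
  unfold jacobson
  refine Finset.sum_eq_zero fun t _ => ?_
  rw [bracketWord_eq_zero_of_lie_eq_zero x₀ x₁ h, smul_zero]
  intro hnil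
  have := congrArg List.length hnil
  rw [List.length_ofFn, List.length_nil] at this
  have := hp.out.two_le
  omega

omit [CharP R p] in
theorem bracketWord_smul (c : R) (x₀ x₁ : L) (l : List Bool) :
    bracketWord (pair (c • x₀) (c • x₁)) (c • x₁) l =
      c ^ (l.length + 1) • bracketWord (pair x₀ x₁) x₁ l := by
  induction l with
  | nil => simp
  | cons i l ih =>
    rw [bracketWord_cons, ih, bracketWord_cons, List.length_cons]
    cases i <;> simp [pair, smul_lie, lie_smul, smul_smul, pow_succ, mul_comm]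

theorem jacobson_smul [hp : Fact p.Prime] (c : R) (x₀ x₁ : L) :
    jacobson R p (c • x₀) (c • x₁) = c ^ p • jacobson R p x₀ x₁ := by
  unfold jacobson
  rw [Finset.smul_sum]
  refine Finset.sum_congr rfl fun t _ => ?_
  rw [bracketWord_smul, List.length_ofFn, Nat.sub_add_cancel hp.out.one_le, smul_comm]

end

section Assoc

variable {R : Type*} [CommRing R] (p : ℕ) [hp : Fact p.Prime] [CharP R p]
variable {L : Type*} [LieRing L] [LieAlgebra R L] {A : Type*} [Ring A] [Algebra R A]

/-- image of Jacobson's sum under a Lie homomorphism into an associative algebra -/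
theorem map_jacobson_assoc (ρ : L →ₗ⁅R⁆ A) (x₀ x₁ : L) :
    ρ (jacobson R p x₀ x₁) = ρ x₀ ^ p + ρ x₁ ^ p - (ρ x₀ + ρ x₁) ^ p := by
  rw [jacobson_map, Jacobson.add_pow_eq (R := R) p (ρ x₀) (ρ x₁)]
  abel

theorem ad_jacobson (x₀ x₁ : L) :
    LieAlgebra.ad R L (jacobson R p x₀ x₁) =
      LieAlgebra.ad R L x₀ ^ p + LieAlgebra.ad R L x₁ ^ p - LieAlgebra.ad R L (x₀ + x₁) ^ p := by
  rw [map_jacobson_assoc, map_add]

end Assoc

end Groth.Agent.Lib.Helper13.JLemmas
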