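import Groth.Prelude.Def_PLie
import Mathlib

/-!
# Jacobson's formula `(a + b)^p = a^p + b^p - J_p(a, b)` in associative algebras of characteristic `p`
(helper13 library for the `PLie` area).
-/

set_option autoImplicit false

attribute [local instance 100] LieRing.ofAssociativeRing

namespace Groth.Agent.Lib.Helper13.Jacobson

open PLie Polynomial

section Words

variable {L : Type*} [LieRing L]

/-- Expansion of an iterated bracket with a sum into bracket words. -/
theorem iterate_lie_add (u v w : L) (n : ℕ) :
    (fun z => ⁅u + v, z⁆)^[n] w = ∑ t : Fin n → Bool, bracketWord (pair u v) w (List.ofFn t) := by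
  induction n with
  | zero => simp
  | succ n ih =>
    rw [Function.iterate_succ_apply', ih, lie_sum]
    rw [← (Fin.consEquiv (fun _ => Bool)).sum_comp]
    rw [Fintype.sum_prod_type, Fintype.sum_bool]
    simp only [Fin.consEquiv, Equiv.coe_fn_mk, List.ofFn_succ, Fin.cons_zero, Fin.cons_succ,
      bracketWord_cons, pair, if_true, Bool.false_eq_true, if_false]
    rw [← Finset.sum_add_distrib]
    refine Finset.sum_congr rfl fun t _ => ?_
    rw [add_lie, add_comm]

end Words

theorem count_ofFn_eq_card {n : ℕ} (t : Fin n → Bool) (b : Bool) :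
    (List.ofFn t).count b = Fintype.card {i // t i = b} := by
  induction n with
  | zero => simp
  | succ n ih =>
    rw [List.ofFn_succ, List.count_cons, ih, Fintype.card_subtype, Fintype.card_subtype,
      Fin.card_filter_univ_succ]
    by_cases h : t 0 = b
    · simp [h]
    · simp [h]

theorem count_true_add_card_false {n : ℕ} (t : Fin n → Bool) :
    (List.ofFn t).count true + Fintype.card {i // t i = false} = n := by
  rw [← count_ofFn_eq_card, List.count_true_add_count_false, List.length_ofFn]

theorem choose_pred_prime_cast {B : Type*} [Ring B] (p : ℕ) [hp : Fact p.Prime] (hpB : (p : B) = 0)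
    (m : ℕ) (hm : m ≤ p - 1) : (((p - 1).choose m : ℕ) : B) = (-1) ^ m := by
  induction m with
  | zero => simp
  | succ m ih =>
    have hp1 : p - 1 + 1 = p := Nat.sub_add_cancel hp.out.one_le
    have h1 : (p - 1).choose m + (p - 1).choose (m + 1) = p.choose (m + 1) := by
      conv_rhs => rw [← hp1]
      rw [Nat.choose_succ_succ]
    have h2 : ((p.choose (m + 1) : ℕ) : B) = 0 := by
      obtain ⟨c, hc⟩ := hp.out.dvd_choose_self (Nat.succ_ne_zero m) (by omega)
      rw [hc, Nat.cast_mul, hpB, zero_mul]
    have h3 := congrArg (Nat.cast : ℕ → B) h1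
    rw [Nat.cast_add, h2, ih (by omega)] at h3
    rw [pow_succ, mul_neg_one]
    exact eq_neg_of_add_eq_zero_right h3

theorem neg_one_pow_pred_prime {B : Type*} [Ring B] (p : ℕ) [hp : Fact p.Prime] (hpB : (p : B) = 0) :
    (-1 : B) ^ (p - 1) = 1 := by
  rcases hp.out.eq_two_or_odd' with h | h
  · subst h
    have : (2 : B) = 0 := by exact_mod_cast hpB
    have h2 : (-1 : B) = 1 := by
      rw [neg_eq_iff_add_eq_zero]; rw [one_add_one_eq_two]; exact this
    simp [h2]
  · have : Even (p - 1) := by
      obtain ⟨k, hk⟩ := h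
      exact ⟨k, by omega⟩
    exact this.neg_one_pow

theorem sum_pow_mul_pow_eq_iterate {B : Type*} [Ring B] (p : ℕ) [hp : Fact p.Prime] (hpB : (p : B) = 0)
    (Y w : B) :
    ∑ k ∈ Finset.range p, Y ^ k * w * Y ^ (p - 1 - k) = (fun z => ⁅Y, z⁆)^[p - 1] w := by
  have hp1 : p - 1 + 1 = p := Nat.sub_add_cancel hp.out.one_le
  set Λ : Module.End ℤ B := LinearMap.mulLeft ℤ Y with hΛ
  set P : Module.End ℤ B := LinearMap.mulRight ℤ Y with hP
  have hcomm : Commute Λ (-P) := (LinearMap.commute_mulLeft_right (R := ℤ) Y Y).neg_right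
  have hfun : (fun z => ⁅Y, z⁆) = ⇑(Λ + -P) := by
    funext z
    simp [hΛ, hP, LieRing.of_associative_ring_bracket, sub_eq_add_neg]
  rw [hfun, ← Module.End.pow_apply, hcomm.add_pow, hp1, LinearMap.sum_apply]
  refine Finset.sum_congr rfl fun k hk => ?_
  have hk' : k ≤ p - 1 := by have := Finset.mem_range.1 hk; omega
  rw [Module.End.mul_apply, Module.End.mul_apply, neg_pow, hΛ, hP, LinearMap.pow_mulLeft,
    LinearMap.pow_mulRight]
  have hc : ((((p - 1).choose k : ℕ) : Module.End ℤ B)) w = (-1 : B) ^ k * w := by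
    rw [← choose_pred_prime_cast p hpB k hk']
    simp [Module.End.natCast_apply]
  rw [hc]
  simp only [Module.End.mul_apply, LinearMap.mulLeft_apply, LinearMap.mulRight_apply]
  have hneg : ∀ (j : ℕ) (z : B), ((-1 : Module.End ℤ B) ^ j) z = (-1 : B) ^ j * z := by
    intro j z
    rcases Nat.even_or_odd j with h | h
    · simp [h.neg_one_pow]
    · simp [h.neg_one_pow]
  rw [hneg]
  have h1 : (-1 : B) ^ (p - 1 - k) * (-1) ^ k = 1 := by
    rw [← pow_add, Nat.sub_add_cancel hk', neg_one_pow_pred_prime p hpB]
  have hcen : ∀ (j : ℕ) (z : B), (-1 : B) ^ j * z = z * (-1) ^ j := by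
    intro j z
    rcases Nat.even_or_odd j with h | h
    · simp [h.neg_one_pow]
    · simp [h.neg_one_pow]
  calc Y ^ k * w * Y ^ (p - 1 - k)
      = Y ^ k * (((-1 : B) ^ (p - 1 - k) * (-1) ^ k) * w * Y ^ (p - 1 - k)) := by
        rw [h1, one_mul, mul_assoc]
    _ = _ := by
        simp only [mul_assoc]

theorem derivative_pow_noncomm {A : Type*} [Ring A] (Y : A[X]) (n : ℕ) :
    derivative (Y ^ n) = ∑ k ∈ Finset.range n, Y ^ k * derivative Y * Y ^ (n - 1 - k) := by
  induction n with
  | zero => simp
  | succ n ih =>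
    rw [pow_succ, derivative_mul, ih, Finset.sum_range_succ, Finset.sum_mul]
    congr 1
    · refine Finset.sum_congr rfl fun k hk => ?_
      have := Finset.mem_range.1 hk
      rw [mul_assoc, ← pow_succ]
      congr 2
      omega
    · simp

theorem bracketWord_poly {A : Type*} [Ring A] (x₀ x₁ w : A) (l : List Bool) :
    bracketWord (pair (C x₀) (X * C x₁)) (C w) l =
      X ^ (l.count true) * C (bracketWord (pair x₀ x₁) w l) := by
  induction l with
  | nil => simp
  | cons i l ih =>
    rw [bracketWord_cons, ih, bracketWord_cons]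
    cases i with
    | false =>
      simp only [pair, Bool.false_eq_true, if_false, LieRing.of_associative_ring_bracket]
      rw [List.count_cons_of_ne (by simp)]
      rw [C_sub, C_mul, C_mul, mul_sub]
      congr 1
      · rw [← mul_assoc, ← mul_assoc, (commute_X_pow (C x₀) _).eq]
      · rw [mul_assoc]
    | true =>
      simp only [pair, if_true, LieRing.of_associative_ring_bracket]
      rw [List.count_cons_self, pow_succ]
      rw [C_sub, C_mul, C_mul, mul_sub]
      congr 1
      · have h1 := (commute_X_pow (C x₁) (l.count true)).eq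
        have h2 := (commute_X (X ^ (l.count true) : A[X])).eq
        calc X * C x₁ * (X ^ l.count true * C (bracketWord (pair x₀ x₁) w l))
            = X * (C x₁ * X ^ l.count true) * C (bracketWord (pair x₀ x₁) w l) := by
              simp only [mul_assoc]
          _ = X * (X ^ l.count true * C x₁) * C (bracketWord (pair x₀ x₁) w l) := by rw [h1]
          _ = (X * X ^ l.count true) * C x₁ * C (bracketWord (pair x₀ x₁) w l) := by
              simp only [mul_assoc]
          _ = _ := by rw [h2]; simp only [mul_assoc]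
      · have h2 := (commute_X (C (bracketWord (pair x₀ x₁) w l) : A[X])).eq
        calc X ^ l.count true * C (bracketWord (pair x₀ x₁) w l) * (X * C x₁)
            = X ^ l.count true * (C (bracketWord (pair x₀ x₁) w l) * X) * C x₁ := by
              simp only [mul_assoc]
          _ = X ^ l.count true * (X * C (bracketWord (pair x₀ x₁) w l)) * C x₁ := by rw [h2]
          _ = _ := by simp only [mul_assoc]

section
variable {A : Type*} [Ring A]

/-- the generic element `x₀ + X x₁` -/
noncomputable def genY (x₀ x₁ : A) : A[X] := C x₀ + X * C x₁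

theorem derivative_genY (x₀ x₁ : A) : derivative (genY x₀ x₁) = C x₁ := by
  simp [genY, derivative_mul]

theorem natDegree_genY_le (x₀ x₁ : A) : (genY x₀ x₁).natDegree ≤ 1 := by
  unfold genY
  refine (natDegree_add_le _ _).trans ?_
  rw [max_le_iff]
  constructor
  · simp
  · refine (natDegree_mul_le).trans ?_
    have := natDegree_X_le (R := A)
    simp only [natDegree_C, add_zero]
    exact this

theorem natDegree_genY_pow_le (x₀ x₁ : A) (n : ℕ) : ((genY x₀ x₁) ^ n).natDegree ≤ n := by
  refine (natDegree_pow_le).trans ?_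
  have := natDegree_genY_le x₀ x₁
  nlinarith

theorem coeff_genY_pow_zero (x₀ x₁ : A) (n : ℕ) : ((genY x₀ x₁) ^ n).coeff 0 = x₀ ^ n := by
  induction n with
  | zero => simp
  | succ n ih =>
    rw [pow_succ, mul_coeff_zero, ih, pow_succ]
    simp [genY]

theorem coeff_genY_pow_self (x₀ x₁ : A) (n : ℕ) : ((genY x₀ x₁) ^ n).coeff n = x₁ ^ n := by
  induction n with
  | zero => simp
  | succ n ih =>
    have h0 : ((genY x₀ x₁) ^ n).coeff (n + 1) = 0 :=
      coeff_eq_zero_of_natDegree_lt (by have := natDegree_genY_pow_le x₀ x₁ n; omega)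
    rw [pow_succ]
    conv_lhs => rw [genY, mul_add, ← mul_assoc]
    rw [← genY, coeff_add, coeff_mul_C, coeff_mul_C, coeff_mul_X, h0, ih, zero_mul, zero_add,
      pow_succ]

end


section Main

variable {R : Type*} [CommRing R] (p : ℕ) [hp : Fact p.Prime] [CharP R p]
variable {A : Type*} [Ring A] [Algebra R A]

omit hp in
include R in
theorem natCast_p_eq_zero : ((p : ℕ) : A) = 0 := by
  rw [← map_natCast (algebraMap R A), CharP.cast_eq_zero, map_zero]

include R in
theorem derivative_genY_pow (x₀ x₁ : A) :
    derivative ((genY x₀ x₁) ^ p) = ∑ t : Fin (p - 1) → Bool,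
      X ^ ((List.ofFn t).count true) * C (bracketWord (pair x₀ x₁) x₁ (List.ofFn t)) := by
  have hpB : ((p : ℕ) : A[X]) = 0 := by
    rw [← C_eq_natCast, natCast_p_eq_zero (R := R) p, C_0]
  rw [derivative_pow_noncomm, derivative_genY, sum_pow_mul_pow_eq_iterate p hpB, genY,
    iterate_lie_add]
  refine Finset.sum_congr rfl fun t _ => ?_
  rw [bracketWord_poly]

include R in
theorem coeff_succ_mul (x₀ x₁ : A) (m : ℕ) :
    ((genY x₀ x₁) ^ p).coeff (m + 1) * ((m : A) + 1) = ∑ t : Fin (p - 1) → Bool,
      if (List.ofFn t).count true = m then bracketWord (pair x₀ x₁) x₁ (List.ofFn t) else 0 := by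
  rw [← coeff_derivative, derivative_genY_pow (R := R) p, finsetSum_coeff]
  refine Finset.sum_congr rfl fun t _ => ?_
  rw [X_pow_mul_C, coeff_C_mul_X_pow]
  by_cases h : (List.ofFn t).count true = m
  · rw [if_pos h, if_pos h.symm]
  · rw [if_neg h, if_neg (Ne.symm h)]


/-- **Jacobson's formula** in an associative algebra of characteristic `p`. -/
theorem add_pow_eq (x₀ x₁ : A) :
    (x₀ + x₁) ^ p = x₀ ^ p + x₁ ^ p - jacobson R p x₀ x₁ := by
  classical
  have hp1 : p - 1 + 1 = p := Nat.sub_add_cancel hp.out.one_le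
  set q := (genY x₀ x₁) ^ p with hq
  let ev₁ : A[X] →+* A := eval₂RingHom' (RingHom.id A) (1 : A) (fun a => Commute.one_right a)
  have hev : ∀ f : A[X], ev₁ f = eval₂ (RingHom.id A) 1 f := fun _ => rfl
  have hY : ev₁ (genY x₀ x₁) = x₀ + x₁ := by
    rw [genY, map_add, map_mul, hev, hev, hev, eval₂_C, eval₂_C, eval₂_X]
    simp
  have hsum : ev₁ q = ∑ i ∈ Finset.range (p + 1), q.coeff i := by
    have hdeg : q.natDegree ≤ p := natDegree_genY_pow_le x₀ x₁ p
    rw [hev, eval₂_eq_sum_range' (RingHom.id A) (n := p + 1) (by omega)]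
    simp
  have h1 : (x₀ + x₁) ^ p = ∑ i ∈ Finset.range (p + 1), q.coeff i := by
    rw [← hsum, hq, map_pow, hY]
  -- the middle coefficients
  set κ : ℕ → R := fun m => (ZMod.castHom (dvd_refl p) R) (((m + 1 : ℕ) : ZMod p)⁻¹) with hκ
  set W : (Fin (p - 1) → Bool) → A := fun t => bracketWord (pair x₀ x₁) x₁ (List.ofFn t) with hW
  have hmid : ∀ m ∈ Finset.range (p - 1), q.coeff (m + 1) =
      κ m • ∑ t : Fin (p - 1) → Bool, if (List.ofFn t).count true = m then W t else 0 := by
    intro m hm
    have hm' : m + 1 < p := by have := Finset.mem_range.1 hm; omega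
    rw [← coeff_succ_mul (R := R) p x₀ x₁ m, ← mul_smul_comm]
    have hne : ((m + 1 : ℕ) : ZMod p) ≠ 0 := by
      rw [Ne, ZMod.natCast_eq_zero_iff]
      intro hdvd
      exact absurd (Nat.le_of_dvd (Nat.succ_pos m) hdvd) (by omega)
    have : κ m • ((m : A) + 1) = 1 := by
      have h2 : ((m : A) + 1) = algebraMap R A ((m + 1 : ℕ) : R) := by simp
      rw [h2, Algebra.smul_def, ← map_mul, hκ]
      have h3 : (((m + 1 : ℕ) : R)) = (ZMod.castHom (dvd_refl p) R) (((m + 1 : ℕ) : ZMod p)) := by
        simp
      rw [h3, ← map_mul, inv_mul_cancel₀ hne, map_one, map_one]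
    rw [this, mul_one]
  have key : ∑ m ∈ Finset.range (p - 1), q.coeff (m + 1) = -jacobson R p x₀ x₁ := by
    rw [Finset.sum_congr rfl hmid]
    simp only [Finset.smul_sum]
    rw [Finset.sum_comm, jacobson, ← Finset.sum_neg_distrib]
    refine Finset.sum_congr rfl fun t _ => ?_
    have hcnt := count_true_add_card_false t
    simp only [smul_ite, smul_zero]
    rw [Finset.sum_ite_eq]
    by_cases hlt : (List.ofFn t).count true ∈ Finset.range (p - 1)
    · rw [if_pos hlt, ← neg_smul]
      congr 1
      rw [hκ]
      simp only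
      rw [← map_neg, ← inv_neg]
      congr 2
      have h4 : (((List.ofFn t).count true + 1 : ℕ) : ZMod p) +
          ((Fintype.card {i // t i = false} : ℕ) : ZMod p) = 0 := by
        rw [← Nat.cast_add]
        have : (List.ofFn t).count true + 1 + Fintype.card {i // t i = false} = p := by omega
        rw [this, ZMod.natCast_self]
      exact eq_neg_of_add_eq_zero_left h4
    · rw [if_neg hlt]
      have h0 : Fintype.card {i // t i = false} = 0 := by
        have := Finset.mem_range.not.1 hlt
        omega
      rw [h0]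
      simp
  have hsplit : ∀ c : ℕ → A, ∑ i ∈ Finset.range (p + 1), c i =
      c 0 + ∑ m ∈ Finset.range (p - 1), c (m + 1) + c p := by
    intro c
    have e : p + 1 = (p - 1) + 1 + 1 := by omega
    rw [e, Finset.sum_range_succ, Finset.sum_range_succ', hp1]
    abel
  rw [h1, hsplit, key, hq, coeff_genY_pow_zero, coeff_genY_pow_self]
  abel

end Main

end Groth.Agent.Lib.Helper13.Jacobson
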