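import Mathlib

/-!
# Polynomial rings over a field are Japanese: the purely inseparable case

`phi : k[X₁..Xₙ] → k'[X₁..Xₙ]`, `Xᵢ ↦ Xᵢ^q`, for a finite extension `k'/k`, is injective and finite,
and a polynomial all of whose coefficients have `q`-th roots in `k'` becomes a `q`-th power.
-/

set_option autoImplicit false
universe u
noncomputable section

namespace Groth.Agent.Lib.Helper13.Japanese

open MvPolynomial

variable (k : Type u) [Field k] (n : ℕ) (p : ℕ) [ExpChar k p] (e : ℕ)
  (k' : Type u) [Field k'] [Algebra k k']

/-- `Xᵢ ↦ Xᵢ^(p^e)` composed with the extension of coefficients -/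
def phi : MvPolynomial (Fin n) k →+* MvPolynomial (Fin n) k' :=
  (expand (p ^ e) : MvPolynomial (Fin n) k' →ₐ[k'] MvPolynomial (Fin n) k').toRingHom.comp
    (map (algebraMap k k'))

theorem phi_apply (f : MvPolynomial (Fin n) k) :
    phi k n p e k' f = expand (p ^ e) (map (algebraMap k k') f) := rfl

include k in
theorem q_pos : 0 < p ^ e := pow_pos (expChar_pos k p) e

theorem phi_injective : Function.Injective (phi k n p e k') := by
  intro f g h
  rw [phi_apply, phi_apply] at h
  exact map_injective _ (algebraMap k k').injective (expand_injective (q_pos k p e) h)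

theorem phi_C (c : k) : phi k n p e k' (C c) = C (algebraMap k k' c) := by
  rw [phi_apply, map_C, expand_C]

theorem phi_X (i : Fin n) : phi k n p e k' (X i) = X i ^ (p ^ e) := by
  rw [phi_apply, map_X, expand_X]

theorem phi_isIntegral [FiniteDimensional k k'] : (phi k n p e k').IsIntegral := by
  intro b
  induction b using MvPolynomial.induction_on with
  | C c =>
    have hc : IsIntegral k c := Algebra.IsIntegral.isIntegral c
    obtain ⟨m, hm, hmc⟩ := hc
    refine ⟨m.map (C : k →+* MvPolynomial (Fin n) k), hm.map _, ?_⟩
    rw [Polynomial.eval₂_map]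
    have h1 : (phi k n p e k').comp (C : k →+* MvPolynomial (Fin n) k) =
        (C : k' →+* MvPolynomial (Fin n) k').comp (algebraMap k k') := by
      ext c
      simp [phi_C]
    rw [h1, ← Polynomial.hom_eval₂, hmc, map_zero]
  | add f g hf hg => exact RingHom.IsIntegralElem.add _ hf hg
  | mul_X f i hf =>
    refine RingHom.IsIntegralElem.mul _ hf ?_
    refine ⟨Polynomial.X ^ (p ^ e) - Polynomial.C (X i),
      Polynomial.monic_X_pow_sub_C _ (q_pos k p e).ne', ?_⟩
    simp [phi_X]

theorem phi_finiteType [FiniteDimensional k k'] : (phi k n p e k').FiniteType := by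
  have h1 : ((phi k n p e k').comp (C : k →+* MvPolynomial (Fin n) k)).FiniteType := by
    have h2 : (phi k n p e k').comp (C : k →+* MvPolynomial (Fin n) k) =
        (C : k' →+* MvPolynomial (Fin n) k').comp (algebraMap k k') := by
      ext c
      simp [phi_C]
    rw [h2]
    refine RingHom.FiniteType.comp ?_ ?_
    · change (algebraMap k' (MvPolynomial (Fin n) k')).FiniteType
      rw [RingHom.finiteType_algebraMap]
      infer_instance
    · apply RingHom.Finite.to_finiteType
      rw [RingHom.finite_algebraMap]
      infer_instance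
  exact RingHom.FiniteType.of_comp_finiteType h1

theorem phi_finite [FiniteDimensional k k'] : (phi k n p e k').Finite :=
  RingHom.IsIntegral.to_finite (phi_isIntegral k n p e k') (phi_finiteType k n p e k')

include k in
theorem expChar_k' : ExpChar k' p := expChar_of_injective_algebraMap (algebraMap k k').injective p

/-- a polynomial whose coefficients have `p^e`-th roots in `k'` becomes a `p^e`-th power -/
theorem exists_pow_eq_phi (f : MvPolynomial (Fin n) k)
    (h : ∀ α : Fin n →₀ ℕ, ∃ d : k', d ^ (p ^ e) = algebraMap k k' (f.coeff α)) :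
    ∃ F : MvPolynomial (Fin n) k', F ^ (p ^ e) = phi k n p e k' f := by
  haveI : ExpChar k' p := expChar_k' k p k'
  choose d hd using h
  refine ⟨∑ α ∈ f.support, monomial α (d α), ?_⟩
  rw [← map_iterateFrobenius_expand, phi_apply, map_expand]
  congr 1
  rw [map_sum]
  conv_rhs => rw [← f.support_sum_monomial_coeff, map_sum]
  refine Finset.sum_congr rfl (fun α _ => ?_)
  rw [map_monomial, map_monomial, iterateFrobenius_def, hd]

omit [ExpChar k p] in
/-- a finite extension containing `q`-th roots of finitely many given elements -/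
theorem exists_finite_ext_with_roots (T : Finset k) (q : ℕ) (hq : 0 < q) :
    ∃ (k'' : Type u) (_ : Field k'') (_ : Algebra k k''), FiniteDimensional k k'' ∧
      ∀ c ∈ T, ∃ d : k'', d ^ q = algebraMap k k'' c := by
  classical
  let g : Polynomial k := ∏ c ∈ T, (Polynomial.X ^ q - Polynomial.C c)
  have hg0 : g ≠ 0 := by
    rw [Finset.prod_ne_zero_iff]
    intro c _
    exact Polynomial.X_pow_sub_C_ne_zero hq c
  refine ⟨g.SplittingField, inferInstance, inferInstance, inferInstance, fun c hc => ?_⟩
  have hsp := Polynomial.SplittingField.splits g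
  have hdvd : (Polynomial.X ^ q - Polynomial.C c : Polynomial k) ∣ g :=
    Finset.dvd_prod_of_mem _ hc
  have hsp' : ((Polynomial.X ^ q - Polynomial.C c : Polynomial k).map
      (algebraMap k g.SplittingField)).Splits :=
    hsp.of_dvd (Polynomial.map_ne_zero hg0) (Polynomial.map_dvd _ hdvd)
  have hdeg : ((Polynomial.X ^ q - Polynomial.C c : Polynomial k).map
      (algebraMap k g.SplittingField)).degree ≠ 0 := by
    rw [Polynomial.degree_map, Polynomial.degree_X_pow_sub_C hq]
    exact_mod_cast hq.ne'
  obtain ⟨d, hd⟩ := hsp'.exists_eval_eq_zero hdeg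
  refine ⟨d, ?_⟩
  simpa [sub_eq_zero] using hd

end Groth.Agent.Lib.Helper13.Japanese
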