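import Groth.Agent.Lib.Helper13.Japanese

/-!
# Polynomial rings over a field: integral closure in a finite purely inseparable extension
-/

set_option autoImplicit false
universe u
noncomputable section

namespace Groth.Agent.Lib.Helper13.Japanese

open MvPolynomial

/-- data extracted from a finite purely inseparable extension `L` of `k(X₁..Xₙ)` -/
theorem exists_data (k : Type u) [Field k] (n : ℕ)
    (L : Type u) [Field L] [Algebra (MvPolynomial (Fin n) k) L]
    [Algebra (FractionRing (MvPolynomial (Fin n) k)) L]
    [IsScalarTower (MvPolynomial (Fin n) k) (FractionRing (MvPolynomial (Fin n) k)) L]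
    [FiniteDimensional (FractionRing (MvPolynomial (Fin n) k)) L]
    [IsPurelyInseparable (FractionRing (MvPolynomial (Fin n) k)) L]
    (p : ℕ) [ExpChar k p] :
    ∃ (e m : ℕ) (b : Fin m → L) (f g : Fin m → MvPolynomial (Fin n) k),
      Submodule.span (FractionRing (MvPolynomial (Fin n) k)) (Set.range b) = ⊤ ∧
      (∀ i, g i ≠ 0) ∧
      (∀ i, b i ^ p ^ e * algebraMap (MvPolynomial (Fin n) k) L (g i) =
        algebraMap (MvPolynomial (Fin n) k) L (f i)) := by
  classical
  haveI : ExpChar (FractionRing (MvPolynomial (Fin n) k)) p :=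
    expChar_of_injective_ringHom (f := (algebraMap (MvPolynomial (Fin n) k)
      (FractionRing (MvPolynomial (Fin n) k))).comp (C : k →+* MvPolynomial (Fin n) k))
      (RingHom.injective _) p
  obtain ⟨m, b, hb⟩ := Module.Finite.exists_fin (R := FractionRing (MvPolynomial (Fin n) k)) (M := L)
  have h1 : ∀ i, ∃ f g : MvPolynomial (Fin n) k, g ≠ 0 ∧
      b i ^ p ^ IsPurelyInseparable.exponent (FractionRing (MvPolynomial (Fin n) k)) L *
        algebraMap (MvPolynomial (Fin n) k) L g = algebraMap (MvPolynomial (Fin n) k) L f := by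
    intro i
    obtain ⟨y, hy⟩ := IsPurelyInseparable.exponent_def'
      (FractionRing (MvPolynomial (Fin n) k)) p (b i)
    obtain ⟨f, g, hg, hfg⟩ := IsFractionRing.div_surjective (A := MvPolynomial (Fin n) k) y
    refine ⟨f, g, nonZeroDivisors.ne_zero hg, ?_⟩
    rw [← hy, ← hfg, IsScalarTower.algebraMap_apply (MvPolynomial (Fin n) k)
      (FractionRing (MvPolynomial (Fin n) k)) L g, ← map_mul, div_mul_cancel₀,
      ← IsScalarTower.algebraMap_apply]
    rw [Ne, map_eq_zero_iff _ (IsFractionRing.injective _ _)]
    exact nonZeroDivisors.ne_zero hg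
  choose f g hg hfg using h1
  exact ⟨_, m, b, f, g, hb, hg, hfg⟩


/-- a ring hom whose values on a spanning family and on scalars lie in a subfield has all its
values in the subfield -/
theorem mem_subfield_of_span {K₀ L Ω ι : Type*} [Field K₀] [Field L] [Field Ω] [Algebra K₀ L]
    (ψ : L →+* Ω) (S : Subfield Ω) (hK : ∀ c : K₀, ψ (algebraMap K₀ L c) ∈ S)
    (b : ι → L) (hb : Submodule.span K₀ (Set.range b) = ⊤) (hbS : ∀ i, ψ (b i) ∈ S) (x : L) :
    ψ x ∈ S := by
  have hx : x ∈ Submodule.span K₀ (Set.range b) := by rw [hb]; trivial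
  induction hx using Submodule.span_induction with
  | mem y hy =>
    obtain ⟨i, rfl⟩ := hy
    exact hbS i
  | zero => rw [map_zero]; exact S.zero_mem
  | add y z _ _ hy hz => rw [map_add]; exact S.add_mem hy hz
  | smul c y _ hy =>
    rw [Algebra.smul_def, map_mul]
    exact S.mul_mem (hK c) hy

/-- an element of `L` integral over `P` maps into the integrally closed domain `B` -/
theorem exists_of_integral {P B M L Ω : Type*} [CommRing P] [CommRing B] [IsDomain B]
    [IsIntegrallyClosed B] [Field M] [Algebra B M] [IsFractionRing B M] [Field L] [Field Ω]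
    [Algebra P L] [Algebra M Ω] [Algebra B Ω] [IsScalarTower B M Ω]
    (φ : P →+* B) (ψ : L →+* Ω) (hψ : ∀ a, ψ (algebraMap P L a) = algebraMap B Ω (φ a))
    (hM : ∀ x, ψ x ∈ (algebraMap M Ω).fieldRange) (x : L) (hx : IsIntegral P x) :
    ∃ β : B, algebraMap B Ω β = ψ x := by
  obtain ⟨pl, hmonic, hpl⟩ := hx
  have h1 : IsIntegral B (ψ x) := by
    refine ⟨pl.map φ, hmonic.map φ, ?_⟩
    rw [Polynomial.eval₂_map]
    have h2 : (algebraMap B Ω).comp φ = ψ.comp (algebraMap P L) := by
      ext a
      exact (hψ a).symm
    rw [h2, ← Polynomial.hom_eval₂, hpl, map_zero]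
  obtain ⟨y, hy⟩ := hM x
  rw [← hy, isIntegral_algebraMap_iff (algebraMap M Ω).injective] at h1
  obtain ⟨β, hβ⟩ := IsIntegrallyClosed.algebraMap_eq_of_integral h1
  exact ⟨β, by rw [IsScalarTower.algebraMap_apply B M Ω, hβ, hy]⟩

/-- the integral closure embeds into a finite module -/
theorem finite_of_embedding {P B L Ω : Type*} [CommRing P] [IsNoetherianRing P] [CommRing B]
    [Field L] [Field Ω] [Algebra P L]
    (φ : P →+* B) (hφ : φ.Finite) (j : B →+* Ω) (hj : Function.Injective j) (ψ : L →+* Ω)
    (hψ : ∀ a, ψ (algebraMap P L a) = j (φ a))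
    (h : ∀ x : L, IsIntegral P x → ∃ β, j β = ψ x) :
    Module.Finite P (integralClosure P L) := by
  letI : Algebra P B := φ.toAlgebra
  haveI : Module.Finite P B := hφ
  haveI : IsNoetherian P B := isNoetherian_of_isNoetherianRing_of_finite P B
  have h' : ∀ x : integralClosure P L, ∃ β, j β = ψ x.1 := fun x => h x.1 x.2
  choose β hβ using h'
  let F : integralClosure P L →ₗ[P] B :=
    { toFun := β
      map_add' := fun x y => hj (by
        rw [map_add, hβ, hβ, hβ]
        exact map_add ψ x.1 y.1)
      map_smul' := fun a x => hj (by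
        rw [RingHom.id_apply, hβ]
        have e1 : a • β x = φ a * β x := by
          rw [Algebra.smul_def]; rfl
        rw [e1, map_mul, hβ]
        change ψ (a • x.1) = j (φ a) * ψ x.1
        rw [Algebra.smul_def, map_mul, hψ]) }
  refine Module.Finite.of_injective F ?_
  intro x y hxy
  apply Subtype.ext
  apply ψ.injective
  rw [← hβ, ← hβ]
  exact congrArg j hxy


/-- **Polynomial rings over a field, purely inseparable case**: the integral closure of
`k[X₁..Xₙ]` in a finite purely inseparable extension of `k(X₁..Xₙ)` is a finite module. -/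
theorem finite_integralClosure_of_purelyInseparable (k : Type u) [Field k] (n : ℕ)
    (L : Type u) [Field L] [Algebra (MvPolynomial (Fin n) k) L]
    [Algebra (FractionRing (MvPolynomial (Fin n) k)) L]
    [IsScalarTower (MvPolynomial (Fin n) k) (FractionRing (MvPolynomial (Fin n) k)) L]
    [FiniteDimensional (FractionRing (MvPolynomial (Fin n) k)) L]
    [IsPurelyInseparable (FractionRing (MvPolynomial (Fin n) k)) L] :
    Module.Finite (MvPolynomial (Fin n) k) (integralClosure (MvPolynomial (Fin n) k) L) := by
  classical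
  obtain ⟨p, hp⟩ := ExpChar.exists k
  haveI : ExpChar k p := hp
  obtain ⟨e, m, b, f, g, hb, hg, hfg⟩ := exists_data k n L p
  -- the finite extension `k'` containing the `q`-th roots of all coefficients
  let T : Finset k := Finset.univ.biUnion (fun i => (f i).coeffs ∪ (g i).coeffs)
  obtain ⟨k', _, _, hfin, hroots⟩ := exists_finite_ext_with_roots k T (p ^ e) (q_pos k p e)
  haveI : FiniteDimensional k k' := hfin
  have hroots' : ∀ (h : MvPolynomial (Fin n) k), h.coeffs ⊆ T →
      ∀ α : Fin n →₀ ℕ, ∃ d : k', d ^ (p ^ e) = algebraMap k k' (h.coeff α) := by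
    intro h hh α
    by_cases h0 : h.coeff α = 0
    · exact ⟨0, by rw [h0, map_zero, zero_pow (q_pos k p e).ne']⟩
    · exact hroots _ (hh (MvPolynomial.coeff_mem_coeffs _ h0))
  have hF : ∀ i, ∃ F : MvPolynomial (Fin n) k', F ^ (p ^ e) = phi k n p e k' (f i) := fun i =>
    exists_pow_eq_phi k n p e k' (f i) (hroots' (f i) (fun c hc =>
      Finset.mem_biUnion.mpr ⟨i, Finset.mem_univ i, Finset.mem_union_left _ hc⟩))
  have hG : ∀ i, ∃ G : MvPolynomial (Fin n) k', G ^ (p ^ e) = phi k n p e k' (g i) := fun i =>
    exists_pow_eq_phi k n p e k' (g i) (hroots' (g i) (fun c hc =>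
      Finset.mem_biUnion.mpr ⟨i, Finset.mem_univ i, Finset.mem_union_right _ hc⟩))
  choose F hF using hF
  choose G hG using hG
  -- the target rings
  haveI : ExpChar k' p := expChar_k' k p k'
  have hj : Function.Injective (algebraMap (MvPolynomial (Fin n) k')
      (AlgebraicClosure (FractionRing (MvPolynomial (Fin n) k')))) := by
    rw [IsScalarTower.algebraMap_eq (MvPolynomial (Fin n) k')
      (FractionRing (MvPolynomial (Fin n) k'))
      (AlgebraicClosure (FractionRing (MvPolynomial (Fin n) k')))]
    exact (algebraMap (FractionRing (MvPolynomial (Fin n) k'))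
      (AlgebraicClosure (FractionRing (MvPolynomial (Fin n) k')))).injective.comp
      (IsFractionRing.injective _ _)
  have hjP : Function.Injective ((algebraMap (MvPolynomial (Fin n) k')
      (AlgebraicClosure (FractionRing (MvPolynomial (Fin n) k')))).comp (phi k n p e k')) :=
    hj.comp (phi_injective k n p e k')
  letI : Algebra (FractionRing (MvPolynomial (Fin n) k))
      (AlgebraicClosure (FractionRing (MvPolynomial (Fin n) k'))) :=
    (IsFractionRing.lift hjP).toAlgebra
  let ψ : L →ₐ[FractionRing (MvPolynomial (Fin n) k)]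
      (AlgebraicClosure (FractionRing (MvPolynomial (Fin n) k'))) := IsAlgClosed.lift
  have hψK : ∀ c : FractionRing (MvPolynomial (Fin n) k),
      ψ (algebraMap (FractionRing (MvPolynomial (Fin n) k)) L c) = IsFractionRing.lift hjP c :=
    fun c => ψ.commutes c
  have hψP : ∀ a : MvPolynomial (Fin n) k, ψ.toRingHom (algebraMap (MvPolynomial (Fin n) k) L a) =
      algebraMap (MvPolynomial (Fin n) k')
        (AlgebraicClosure (FractionRing (MvPolynomial (Fin n) k'))) (phi k n p e k' a) := by
    intro a
    change ψ _ = _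
    rw [IsScalarTower.algebraMap_apply (MvPolynomial (Fin n) k)
      (FractionRing (MvPolynomial (Fin n) k)) L, hψK]
    exact IsFractionRing.lift_algebraMap hjP a
  haveI : ExpChar (AlgebraicClosure (FractionRing (MvPolynomial (Fin n) k'))) p :=
    expChar_of_injective_ringHom (f := ((algebraMap (MvPolynomial (Fin n) k')
      (AlgebraicClosure (FractionRing (MvPolynomial (Fin n) k')))).comp
        (C : k' →+* MvPolynomial (Fin n) k'))) (RingHom.injective _) p
  -- claim 1
  have h1 : ∀ i, ψ (b i) * algebraMap (MvPolynomial (Fin n) k')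
      (AlgebraicClosure (FractionRing (MvPolynomial (Fin n) k'))) (G i) =
      algebraMap (MvPolynomial (Fin n) k')
      (AlgebraicClosure (FractionRing (MvPolynomial (Fin n) k'))) (F i) := by
    intro i
    apply iterateFrobenius_inj (AlgebraicClosure (FractionRing (MvPolynomial (Fin n) k'))) p e
    rw [iterateFrobenius_def, iterateFrobenius_def, mul_pow, ← map_pow, ← map_pow, ← map_pow,
      hG, hF, ← hψP, ← hψP]
    change ψ _ * ψ _ = ψ _
    rw [← map_mul, hfg]
  have hG0 : ∀ i, algebraMap (MvPolynomial (Fin n) k')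
      (AlgebraicClosure (FractionRing (MvPolynomial (Fin n) k'))) (G i) ≠ 0 := by
    intro i h0
    have h3 : G i = 0 := hj (by rw [h0, map_zero])
    have h4 := hG i
    rw [h3, zero_pow (q_pos k p e).ne'] at h4
    exact hg i (phi_injective k n p e k' (by rw [← h4, map_zero]))
  have hBM : ∀ β : MvPolynomial (Fin n) k', algebraMap (MvPolynomial (Fin n) k')
      (AlgebraicClosure (FractionRing (MvPolynomial (Fin n) k'))) β ∈
      (algebraMap (FractionRing (MvPolynomial (Fin n) k'))
        (AlgebraicClosure (FractionRing (MvPolynomial (Fin n) k')))).fieldRange := fun β =>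
    ⟨algebraMap _ _ β, (IsScalarTower.algebraMap_apply _ _ _ β).symm⟩
  -- claim 2
  have h2 : ∀ x, ψ.toRingHom x ∈ (algebraMap (FractionRing (MvPolynomial (Fin n) k'))
      (AlgebraicClosure (FractionRing (MvPolynomial (Fin n) k')))).fieldRange := by
    apply mem_subfield_of_span (K₀ := FractionRing (MvPolynomial (Fin n) k)) ψ.toRingHom _ ?_ b hb ?_
    · intro c
      obtain ⟨a, s, hs, rfl⟩ := IsFractionRing.div_surjective (A := MvPolynomial (Fin n) k) c
      change ψ _ ∈ _
      rw [hψK, map_div₀, IsFractionRing.lift_algebraMap, IsFractionRing.lift_algebraMap]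
      exact Subfield.div_mem _ (hBM _) (hBM _)
    · intro i
      have h5 : ψ (b i) = algebraMap (MvPolynomial (Fin n) k')
          (AlgebraicClosure (FractionRing (MvPolynomial (Fin n) k'))) (F i) /
          algebraMap (MvPolynomial (Fin n) k')
          (AlgebraicClosure (FractionRing (MvPolynomial (Fin n) k'))) (G i) := by
        rw [eq_div_iff (hG0 i)]
        exact h1 i
      change ψ _ ∈ _
      rw [h5]
      exact Subfield.div_mem _ (hBM _) (hBM _)
  exact finite_of_embedding (phi k n p e k') (phi_finite k n p e k') _ hj ψ.toRingHom hψP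
    (fun x hx => exists_of_integral (M := FractionRing (MvPolynomial (Fin n) k'))
      (phi k n p e k') ψ.toRingHom hψP h2 x hx)

end Groth.Agent.Lib.Helper13.Japanese
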