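import Groth.Agent.Lib.Helper13.Japanese2

/-!
# Polynomial rings in one variable over an N-2 domain: the Frobenius twist

`phi : R[X] → R'[X]`, `X ↦ X^q`, for a finite extension of rings `R ⊆ R'`, is injective and finite,
and a polynomial all of whose coefficients have `q`-th roots in `R'` becomes a `q`-th power.
-/

set_option autoImplicit false
universe u
noncomputable section

namespace Groth.Agent.Lib.Helper13.JapanesePoly

open Polynomial

variable (R : Type u) [CommRing R] (p : ℕ) (e : ℕ) (R' : Type u) [CommRing R'] [Algebra R R']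

/-- `X ↦ X^(p^e)` composed with the extension of coefficients -/
def phi : R[X] →+* R'[X] :=
  (expand R' (p ^ e) : R'[X] →ₐ[R'] R'[X]).toRingHom.comp (mapRingHom (algebraMap R R'))

theorem phi_apply (f : R[X]) : phi R p e R' f = expand R' (p ^ e) (f.map (algebraMap R R')) := rfl

theorem phi_injective (hq : 0 < p ^ e) (hinj : Function.Injective (algebraMap R R')) :
    Function.Injective (phi R p e R') := by
  intro f g h
  rw [phi_apply, phi_apply] at h
  exact map_injective _ hinj (expand_injective hq h)

theorem phi_C (c : R) : phi R p e R' (C c) = C (algebraMap R R' c) := by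
  rw [phi_apply, map_C, expand_C]

theorem phi_X : phi R p e R' X = X ^ (p ^ e) := by
  rw [phi_apply, map_X, expand_X]

theorem phi_comp_C : (phi R p e R').comp (C : R →+* R[X]) =
    (C : R' →+* R'[X]).comp (algebraMap R R') := by
  ext c
  simp [phi_C]

theorem phi_isIntegral (hq : 0 < p ^ e) [Algebra.IsIntegral R R'] :
    (phi R p e R').IsIntegral := by
  intro b
  induction b using Polynomial.induction_on with
  | C c =>
    have hc : IsIntegral R c := Algebra.IsIntegral.isIntegral c
    obtain ⟨m, hm, hmc⟩ := hc
    refine ⟨m.map (C : R →+* R[X]), hm.map _, ?_⟩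
    rw [Polynomial.eval₂_map, phi_comp_C, ← Polynomial.hom_eval₂, hmc, map_zero]
  | add f g hf hg => exact RingHom.IsIntegralElem.add _ hf hg
  | monomial n c hf =>
    rw [pow_succ, ← mul_assoc]
    refine RingHom.IsIntegralElem.mul _ hf ?_
    refine ⟨Polynomial.X ^ (p ^ e) - Polynomial.C (X : R[X]),
      Polynomial.monic_X_pow_sub_C _ hq.ne', ?_⟩
    simp [phi_X]

theorem phi_finiteType [Module.Finite R R'] : (phi R p e R').FiniteType := by
  have h1 : ((phi R p e R').comp (C : R →+* R[X])).FiniteType := by
    rw [phi_comp_C]
    refine RingHom.FiniteType.comp ?_ ?_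
    · change (algebraMap R' R'[X]).FiniteType
      rw [RingHom.finiteType_algebraMap]
      infer_instance
    · apply RingHom.Finite.to_finiteType
      rw [RingHom.finite_algebraMap]
      infer_instance
  exact RingHom.FiniteType.of_comp_finiteType h1

theorem phi_finite (hq : 0 < p ^ e) [Module.Finite R R'] : (phi R p e R').Finite :=
  haveI : Algebra.IsIntegral R R' := Algebra.IsIntegral.of_finite R R'
  RingHom.IsIntegral.to_finite (phi_isIntegral R p e R' hq) (phi_finiteType R p e R')

/-- a polynomial whose coefficients have `p^e`-th roots in `R'` becomes a `p^e`-th power -/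
theorem exists_pow_eq_phi [ExpChar R' p] (f : R[X])
    (h : ∀ n : ℕ, ∃ d : R', d ^ (p ^ e) = algebraMap R R' (f.coeff n)) :
    ∃ F : R'[X], F ^ (p ^ e) = phi R p e R' f := by
  choose d hd using h
  refine ⟨∑ n ∈ f.support, monomial n (d n), ?_⟩
  rw [← map_iterateFrobenius_expand, phi_apply, map_expand]
  congr 1
  rw [Polynomial.map_sum]
  conv_rhs => rw [← f.sum_monomial_eq, Polynomial.sum, Polynomial.map_sum]
  refine Finset.sum_congr rfl (fun n _ => ?_)
  rw [map_monomial, map_monomial, iterateFrobenius_def, hd]

end Groth.Agent.Lib.Helper13.JapanesePoly
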