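import Mathlib
import Groth.Agent.Lib.Helper13.AffPts2

/-!
# Sections of a fibre product of affine schemes vanishing on a closed set missing a fibre (helper13)
-/

set_option autoImplicit false
set_option linter.unusedSectionVars false
set_option linter.unusedVariables false
set_option linter.style.haveILetI false
universe u

open CategoryTheory CategoryTheory.Limits AlgebraicGeometry TopologicalSpace IsLocalRing Opposite

namespace Groth.Agent.Lib.Helper13.LfpNhd1

open Groth.Agent.Lib.Helper13.AffPts2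

/-- on an affine scheme, a point is determined by the basic opens containing it -/
theorem eq_of_forall_mem_basicOpen_iff {V : Scheme.{u}} [IsAffine V] {s t : V}
    (h : ∀ b : Γ(V, ⊤), s ∈ V.basicOpen b ↔ t ∈ V.basicOpen b) : s = t := by
  apply Inseparable.eq
  rw [inseparable_iff_forall_isOpen]
  intro O hO
  constructor
  · intro hs
    obtain ⟨_, ⟨b, rfl⟩, hsb, hbO⟩ := (Opens.isBasis_iff_nbhd.mp (isBasis_basicOpen V))
      (show s ∈ (⟨O, hO⟩ : V.Opens) from hs)
    exact hbO ((h b).mp hsb)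
  · intro ht
    obtain ⟨_, ⟨b, rfl⟩, htb, hbO⟩ := (Opens.isBasis_iff_nbhd.mp (isBasis_basicOpen V))
      (show t ∈ (⟨O, hO⟩ : V.Opens) from ht)
    exact hbO ((h b).mpr htb)

/-- on an affine scheme every prime ideal of the ring of global sections is the ideal of a point -/
theorem exists_point_of_prime {Q : Scheme.{u}} [IsAffine Q] (P : Ideal Γ(Q, ⊤)) [P.IsPrime] :
    ∃ z : Q, ∀ d : Γ(Q, ⊤), z ∈ Q.basicOpen d ↔ d ∉ P := by
  let y : Spec Γ(Q, ⊤) := (⟨P, inferInstance⟩ : PrimeSpectrum Γ(Q, ⊤))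
  refine ⟨Q.isoSpec.inv.base y, fun d => ?_⟩
  rw [← Scheme.toSpecΓ_preimage_basicOpen]
  have h1 : Q.toSpecΓ.base (Q.isoSpec.inv.base y) = y := by
    have : Q.isoSpec.inv ≫ Q.toSpecΓ = 𝟙 _ := Q.isoSpec.inv_hom_id
    rw [← Scheme.Hom.comp_apply, this]; rfl
  show Q.toSpecΓ.base (Q.isoSpec.inv.base y) ∈ PrimeSpectrum.basicOpen d ↔ _
  rw [h1]
  rfl

variable {U V W : Scheme.{u}} [IsAffine U] [IsAffine V] [IsAffine W] (u : U ⟶ W) (v : V ⟶ W)

/-- the global sections of a fibre product of affine schemes are generated by the pullbacks of the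
sections of the factors -/
theorem closure_range_eq_top :
    Subring.closure (Set.range (pullback.fst u v).appTop.hom ∪
      Set.range (pullback.snd u v).appTop.hom) = ⊤ :=
  CommRingCat.closure_range_union_range_eq_top_of_isPushout
    (isPushout_appTop_of_isPullback (IsPullback.of_hasPullback u v))

/-- the additive subgroup of sums of products `p₁^*(c) p₂^*(q)` with `q` in an ideal -/
noncomputable def prodSubgroup (𝔭 : Ideal Γ(V, ⊤)) : AddSubgroup Γ(pullback u v, ⊤) :=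
  AddSubgroup.closure {d | ∃ (c : Γ(U, ⊤)) (q : Γ(V, ⊤)), q ∈ 𝔭 ∧
    d = (pullback.fst u v).appTop.hom c * (pullback.snd u v).appTop.hom q}

theorem mul_mem_prodSubgroup (𝔭 : Ideal Γ(V, ⊤)) (d : Γ(pullback u v, ⊤))
    {x : Γ(pullback u v, ⊤)} (hx : x ∈ prodSubgroup u v 𝔭) : d * x ∈ prodSubgroup u v 𝔭 := by
  have hd : d ∈ Subring.closure (Set.range (pullback.fst u v).appTop.hom ∪
      Set.range (pullback.snd u v).appTop.hom) := by
    rw [closure_range_eq_top]; exact Subring.mem_top d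
  induction hd using Subring.closure_induction generalizing x with
  | mem d hd =>
    rcases hd with ⟨c', rfl⟩ | ⟨b, rfl⟩
    · induction hx using AddSubgroup.closure_induction with
      | mem x hx =>
        obtain ⟨c, q, hq, rfl⟩ := hx
        apply AddSubgroup.subset_closure
        exact ⟨c' * c, q, hq, by rw [map_mul, mul_assoc]⟩
      | zero => rw [mul_zero]; exact AddSubgroup.zero_mem _
      | add x y _ _ hx hy => rw [mul_add]; exact AddSubgroup.add_mem _ hx hy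
      | neg x _ hx => rw [mul_neg]; exact AddSubgroup.neg_mem _ hx
    · induction hx using AddSubgroup.closure_induction with
      | mem x hx =>
        obtain ⟨c, q, hq, rfl⟩ := hx
        apply AddSubgroup.subset_closure
        exact ⟨c, b * q, 𝔭.mul_mem_left b hq, by rw [map_mul]; ring⟩
      | zero => rw [mul_zero]; exact AddSubgroup.zero_mem _
      | add x y _ _ hx hy => rw [mul_add]; exact AddSubgroup.add_mem _ hx hy
      | neg x _ hx => rw [mul_neg]; exact AddSubgroup.neg_mem _ hx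
  | zero => rw [zero_mul]; exact AddSubgroup.zero_mem _
  | one => rw [one_mul]; exact hx
  | add a b _ _ ha hb => rw [add_mul]; exact AddSubgroup.add_mem _ (ha hx) (hb hx)
  | neg a _ ha => rw [neg_mul]; exact AddSubgroup.neg_mem _ (ha hx)
  | mul a b _ _ ha hb => rw [mul_assoc]; exact ha (hb hx)

/-- elements of `prodSubgroup` are explicit finite sums -/
theorem exists_sum_of_mem_prodSubgroup (𝔭 : Ideal Γ(V, ⊤)) {x : Γ(pullback u v, ⊤)}
    (hx : x ∈ prodSubgroup u v 𝔭) :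
    ∃ (N : ℕ) (c : Fin N → Γ(U, ⊤)) (q : Fin N → Γ(V, ⊤)), (∀ l, q l ∈ 𝔭) ∧
      x = ∑ l, (pullback.fst u v).appTop.hom (c l) * (pullback.snd u v).appTop.hom (q l) := by
  induction hx using AddSubgroup.closure_induction with
  | mem x hx =>
    obtain ⟨c, q, hq, rfl⟩ := hx
    exact ⟨1, fun _ => c, fun _ => q, fun _ => hq, by simp⟩
  | zero => exact ⟨0, Fin.elim0, Fin.elim0, fun l => l.elim0, by simp⟩
  | add x y _ _ hx hy =>
    obtain ⟨N₁, c₁, q₁, hq₁, rfl⟩ := hx
    obtain ⟨N₂, c₂, q₂, hq₂, rfl⟩ := hy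
    refine ⟨N₁ + N₂, Fin.append c₁ c₂, Fin.append q₁ q₂, ?_, ?_⟩
    · intro l
      refine Fin.addCases (fun i => ?_) (fun i => ?_) l
      · rw [Fin.append_left]; exact hq₁ i
      · rw [Fin.append_right]; exact hq₂ i
    · rw [Fin.sum_univ_add]
      simp only [Fin.append_left, Fin.append_right]
  | neg x _ hx =>
    obtain ⟨N, c, q, hq, rfl⟩ := hx
    refine ⟨N, fun l => -c l, q, hq, ?_⟩
    rw [← Finset.sum_neg_distrib]
    refine Finset.sum_congr rfl fun l _ => ?_
    rw [map_neg, neg_mul]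

/-- **local data**: on a fibre product `U ×_W V` of affine schemes, a closed subset missing the fibre
over `t ∈ V` lies in the zero set of a section `p₂^*(h) - ∑ p₁^*(c_l) p₂^*(q_l)` with `h(t) ≠ 0` and
`q_l(t) = 0`. -/
theorem exists_data (t : V) (Z : Set ↥(pullback u v)) (hZ : IsClosed Z)
    (hZt : ∀ z ∈ Z, (pullback.snd u v).base z ≠ t) :
    ∃ (N : ℕ) (h : Γ(V, ⊤)) (c : Fin N → Γ(U, ⊤)) (q : Fin N → Γ(V, ⊤)),
      t ∈ V.basicOpen h ∧ (∀ l, t ∉ V.basicOpen (q l)) ∧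
      ∀ z ∈ Z, z ∉ (pullback u v).basicOpen ((pullback.snd u v).appTop.hom h -
        ∑ l, (pullback.fst u v).appTop.hom (c l) * (pullback.snd u v).appTop.hom (q l)) := by
  classical
  let Q := pullback u v
  let P₂ : Γ(V, ⊤) →+* Γ(Q, ⊤) := (pullback.snd u v).appTop.hom
  let I : Ideal Γ(Q, ⊤) := idealOfOpen ⊤ ⟨Zᶜ, hZ.isOpen_compl⟩
  let 𝔭 : Ideal Γ(V, ⊤) := primeAt ⊤ t
  haveI h𝔭 : 𝔭.IsPrime := primeAt_isPrime (U := (⊤ : V.Opens)) trivial
  have hmem𝔭 : ∀ b : Γ(V, ⊤), b ∈ 𝔭 ↔ t ∉ V.basicOpen b := fun b =>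
    mem_primeAt (U := (⊤ : V.Opens)) trivial b
  let M : Ideal Γ(Q, ⊤) :=
    { carrier := prodSubgroup u v 𝔭
      add_mem' := fun ha hb => AddSubgroup.add_mem _ ha hb
      zero_mem' := AddSubgroup.zero_mem _
      smul_mem' := fun d x hx => mul_mem_prodSubgroup u v 𝔭 d hx }
  have hJM : Ideal.map P₂ 𝔭 ≤ M := by
    rw [Ideal.map_le_iff_le_comap]
    intro q hq
    show P₂ q ∈ prodSubgroup u v 𝔭
    apply AddSubgroup.subset_closure
    exact ⟨1, q, hq, by rw [map_one, one_mul]⟩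
  -- the key claim
  have hkey : ∃ h : Γ(V, ⊤), h ∉ 𝔭 ∧ P₂ h ∈ I ⊔ Ideal.map P₂ 𝔭 := by
    by_contra hcon
    have hdisj : Disjoint ((I ⊔ Ideal.map P₂ 𝔭 : Ideal Γ(Q, ⊤)) : Set Γ(Q, ⊤))
        ((Submonoid.map P₂ 𝔭.primeCompl : Submonoid Γ(Q, ⊤)) : Set Γ(Q, ⊤)) := by
      rw [Set.disjoint_left]
      rintro x hx ⟨h, hh, rfl⟩
      exact hcon ⟨h, hh, hx⟩
    obtain ⟨P, hP, hle, hPdisj⟩ := Ideal.exists_le_prime_disjoint _ _ hdisj
    obtain ⟨z, hz⟩ := exists_point_of_prime P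
    have hzZ : z ∈ Z := by
      by_contra hzn
      obtain ⟨_, ⟨d, rfl⟩, hzd, hdO⟩ := (Opens.isBasis_iff_nbhd.mp (isBasis_basicOpen Q))
        (show z ∈ (⟨Zᶜ, hZ.isOpen_compl⟩ : Q.Opens) from hzn)
      have hdI : d ∈ I := hdO
      exact (hz d).mp hzd (hle (Ideal.mem_sup_left hdI))
    apply hZt z hzZ
    apply eq_of_forall_mem_basicOpen_iff
    intro b
    have h1 : (pullback.snd u v).base z ∈ V.basicOpen b ↔ z ∈ Q.basicOpen (P₂ b) := by
      have := Scheme.preimage_basicOpen_top (pullback.snd u v) b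
      rw [← this]; rfl
    rw [h1, hz]
    constructor
    · intro hb
      by_contra htb
      exact hb (hle (Ideal.mem_sup_right (Ideal.mem_map_of_mem P₂ ((hmem𝔭 b).mpr htb))))
    · intro htb hbP
      have hb𝔭 : b ∉ 𝔭 := fun hc => (hmem𝔭 b).mp hc htb
      exact (Set.disjoint_left.mp hPdisj) hbP ⟨b, hb𝔭, rfl⟩
  obtain ⟨h, hh, hmem⟩ := hkey
  obtain ⟨ι, hι, j, hj, hsum⟩ := Submodule.mem_sup.mp hmem
  have hjM : j ∈ prodSubgroup u v 𝔭 := hJM hj
  obtain ⟨N, c, q, hq, rfl⟩ := exists_sum_of_mem_prodSubgroup u v 𝔭 hjM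
  refine ⟨N, h, c, q, ?_, fun l => (hmem𝔭 _).mp (hq l), ?_⟩
  · by_contra hc
    exact hh ((hmem𝔭 h).mpr hc)
  · intro z hzZ hzb
    have h2 : ι = P₂ h - ∑ l, (pullback.fst u v).appTop.hom (c l) *
        (pullback.snd u v).appTop.hom (q l) := by
      rw [← hsum]; ring
    rw [← h2] at hzb
    exact (hι hzb : z ∈ Zᶜ) hzZ


end Groth.Agent.Lib.Helper13.LfpNhd1
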