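import Mathlib
import Groth.Agent.Lib.Helper13.LfpNhd1

/-!
# Closed sets of a base change missing a fibre come from a finitely presented stage (helper13)
-/

set_option autoImplicit false
set_option linter.unusedSectionVars false
set_option linter.unusedVariables false
set_option linter.style.haveILetI false
universe u

open CategoryTheory CategoryTheory.Limits AlgebraicGeometry TopologicalSpace IsLocalRing Opposite

namespace Groth.Agent.Lib.Helper13.LfpNhd2

open Groth.Agent.Lib.Helper13.AffPts2 Groth.Agent.Lib.Helper13.LfpNhd1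

/-- a point where a finite sum does not vanish is a point where some term does not vanish -/
theorem exists_mem_basicOpen_of_sum {X : Scheme.{u}} {U : X.Opens} {α : Type*} (s : Finset α)
    (F : α → Γ(X, U)) {x : X} (hx : x ∈ X.basicOpen (∑ l ∈ s, F l)) :
    ∃ l ∈ s, x ∈ X.basicOpen (F l) := by
  classical
  induction s using Finset.induction_on with
  | empty =>
    rw [Finset.sum_empty, Scheme.basicOpen_zero] at hx
    exact absurd hx (by simp)
  | insert a s ha ih =>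
    rw [Finset.sum_insert ha] at hx
    rcases X.basicOpen_add_le _ _ hx with h | h
    · exact ⟨a, Finset.mem_insert_self a s, h⟩
    · obtain ⟨l, hl, hxl⟩ := ih h
      exact ⟨l, Finset.mem_insert_of_mem hl, hxl⟩

/-- pullback of sections and basic opens, global version -/
theorem mem_basicOpen_appTop_iff {X Y : Scheme.{u}} (φ : X ⟶ Y) (r : Γ(Y, ⊤)) (x : X) :
    x ∈ X.basicOpen (φ.appTop.hom r) ↔ φ.base x ∈ Y.basicOpen r := by
  have := Scheme.preimage_basicOpen_top φ r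
  rw [← this]; rfl

/-- the section of `Spec A` given by an element of `A` -/
noncomputable abbrev sec {A : CommRingCat.{u}} (p : A) : Γ(Spec A, ⊤) := (Scheme.ΓSpecIso A).inv.hom p

/-- global sections under `toSpecΓ ≫ Spec.map φ` -/
theorem toSpecΓ_SpecMap_appTop {V : Scheme.{u}} {A : CommRingCat.{u}} (φ : A ⟶ Γ(V, ⊤)) (p : A) :
    (V.toSpecΓ ≫ Spec.map φ).appTop.hom (sec p) = φ.hom p := by
  have h1 : (V.toSpecΓ ≫ Spec.map φ).appTop = (Spec.map φ).appTop ≫ V.toSpecΓ.appTop :=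
    Scheme.Hom.comp_appTop _ _
  have h2 : (Scheme.ΓSpecIso A).inv ≫ (Spec.map φ).appTop ≫ V.toSpecΓ.appTop = φ := by
    rw [Scheme.toSpecΓ_appTop, ← Category.assoc, ← Scheme.ΓSpecIso_inv_naturality,
      Category.assoc, Iso.inv_hom_id, Category.comp_id]
  rw [h1]
  exact congrArg (fun ψ : A ⟶ Γ(V, ⊤) => ψ.hom p) h2

section cat
variable {C : Type*} [Category C] [HasPullbacks C]

theorem map_fst {W X Y Z S T : C} (f₁ : W ⟶ S) (f₂ : X ⟶ S) (g₁ : Y ⟶ T) (g₂ : Z ⟶ T)
    (i₁ : W ⟶ Y) (i₂ : X ⟶ Z) (i₃ : S ⟶ T) (e₁ : f₁ ≫ i₃ = i₁ ≫ g₁) (e₂ : f₂ ≫ i₃ = i₂ ≫ g₂) :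
    pullback.map f₁ f₂ g₁ g₂ i₁ i₂ i₃ e₁ e₂ ≫ pullback.fst g₁ g₂ = pullback.fst f₁ f₂ ≫ i₁ :=
  pullback.lift_fst _ _ _

theorem map_snd {W X Y Z S T : C} (f₁ : W ⟶ S) (f₂ : X ⟶ S) (g₁ : Y ⟶ T) (g₂ : Z ⟶ T)
    (i₁ : W ⟶ Y) (i₂ : X ⟶ Z) (i₃ : S ⟶ T) (e₁ : f₁ ≫ i₃ = i₁ ≫ g₁) (e₂ : f₂ ≫ i₃ = i₂ ≫ g₂) :
    pullback.map f₁ f₂ g₁ g₂ i₁ i₂ i₃ e₁ e₂ ≫ pullback.snd g₁ g₂ = pullback.snd f₁ f₂ ≫ i₂ :=
  pullback.lift_snd _ _ _

end cat

theorem appTop_apply_of_comp_eq {A B B' C : Scheme.{u}} (φ : A ⟶ B) (ψ : B ⟶ C) (φ' : A ⟶ B')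
    (ψ' : B' ⟶ C) (h : φ ≫ ψ = φ' ≫ ψ') (y : Γ(C, ⊤)) :
    φ.appTop.hom (ψ.appTop.hom y) = φ'.appTop.hom (ψ'.appTop.hom y) := by
  have h1 : (φ ≫ ψ).appTop.hom y = (φ' ≫ ψ').appTop.hom y := by rw [h]
  rw [Scheme.Hom.comp_appTop, Scheme.Hom.comp_appTop] at h1
  exact h1

theorem main {X S T : Scheme.{u}} (f : X ⟶ S) [QuasiCompact f] (g : T ⟶ S) (t : T)
    (Z : Set ↥(pullback f g)) (hZ : IsClosed Z) (hZt : ∀ z ∈ Z, (pullback.snd f g).base z ≠ t) :
    ∃ (V : T.Opens) (ht : t ∈ V) (T' : Scheme.{u}) (b : T' ⟶ S) (a : (V : Scheme.{u}) ⟶ T')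
      (n : pullback f (V.ι ≫ g) ⟶ pullback f g) (m : pullback f (V.ι ≫ g) ⟶ pullback f b)
      (Z' : Set ↥(pullback f b)),
      IsAffineOpen V ∧ IsAffine T' ∧ LocallyOfFinitePresentation b ∧ a ≫ b = V.ι ≫ g ∧
      n ≫ pullback.fst f g = pullback.fst f (V.ι ≫ g) ∧
      n ≫ pullback.snd f g = pullback.snd f (V.ι ≫ g) ≫ V.ι ∧
      m ≫ pullback.fst f b = pullback.fst f (V.ι ≫ g) ∧
      m ≫ pullback.snd f b = pullback.snd f (V.ι ≫ g) ≫ a ∧
      IsClosed Z' ∧ (∀ z' ∈ Z', (pullback.snd f b).base z' ≠ a.base ⟨t, ht⟩) ∧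
      ∀ z : ↥(pullback f (V.ι ≫ g)), n.base z ∈ Z → m.base z ∈ Z' := by
  classical
  -- affine neighbourhoods
  obtain ⟨W, hW, htW, -⟩ := exists_isAffineOpen_mem_and_subset (x := g.base t) (U := ⊤) trivial
  obtain ⟨V, hV, htV, hVW'⟩ := exists_isAffineOpen_mem_and_subset (x := t) (U := g ⁻¹ᵁ W) htW
  have hVW : V ≤ g ⁻¹ᵁ W := hVW'
  haveI : IsAffine (V : Scheme.{u}) := hV
  haveI : IsAffine (W : Scheme.{u}) := hW
  let gV : (V : Scheme.{u}) ⟶ (W : Scheme.{u}) := g.resLE W V hVW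
  have hgV : gV ≫ W.ι = V.ι ≫ g := Scheme.Hom.resLE_comp_ι g hVW
  let tV : (V : Scheme.{u}) := ⟨t, htV⟩
  -- finite affine cover of `f⁻¹ W`
  have hcomp : IsCompact ((f ⁻¹ᵁ W : X.Opens) : Set X) :=
    QuasiCompact.isCompact_preimage (f := f) _ W.isOpen hW.isCompact
  obtain ⟨Us, hUs, hUsfin, hUsSup⟩ := X.isBasis_affineOpens.exists_finite_of_isCompact hcomp
  let ι := ↥Us
  haveI : Finite ι := hUsfin.to_subtype
  let UU : ι → X.Opens := fun i => i.1
  have hUaff : ∀ i : ι, IsAffineOpen (UU i) := fun i => hUs i.2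
  have hUle : ∀ i : ι, UU i ≤ f ⁻¹ᵁ W := fun i => by
    rw [hUsSup]; exact le_sSup i.2
  have hUcov : ∀ x : X, f.base x ∈ W → ∃ i : ι, x ∈ UU i := by
    intro x hx
    have : x ∈ (f ⁻¹ᵁ W : X.Opens) := hx
    rw [hUsSup] at this
    obtain ⟨U, hU, hxU⟩ := Opens.mem_sSup.mp this
    exact ⟨⟨U, hU⟩, hxU⟩
  haveI : ∀ i : ι, IsAffine ((UU i : X.Opens) : Scheme.{u}) := fun i => hUaff i
  let uu : ∀ i : ι, ((UU i : X.Opens) : Scheme.{u}) ⟶ (W : Scheme.{u}) :=
    fun i => f.resLE W (UU i) (hUle i)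
  have huu : ∀ i : ι, uu i ≫ W.ι = (UU i).ι ≫ f := fun i => Scheme.Hom.resLE_comp_ι f (hUle i)
  -- the morphisms `n` and the charts of `X_V`
  let n : pullback f (V.ι ≫ g) ⟶ pullback f g :=
    pullback.map f (V.ι ≫ g) f g (𝟙 X) V.ι (𝟙 S) (by simp) (by simp)
  let jj : ∀ i : ι, pullback (uu i) gV ⟶ pullback f (V.ι ≫ g) := fun i =>
    pullback.map (uu i) gV f (V.ι ≫ g) (UU i).ι (𝟙 _) W.ι (huu i) (by rw [hgV, Category.id_comp])
  -- local data
  have hdata : ∀ i : ι, ∃ (N : ℕ) (h : Γ((V : Scheme.{u}), ⊤)) (c : Fin N → Γ(((UU i : X.Opens) : Scheme.{u}), ⊤))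
      (q : Fin N → Γ((V : Scheme.{u}), ⊤)),
      tV ∈ (V : Scheme.{u}).basicOpen h ∧ (∀ l, tV ∉ (V : Scheme.{u}).basicOpen (q l)) ∧
      ∀ z : ↥(pullback (uu i) gV), n.base ((jj i).base z) ∈ Z →
        z ∉ (pullback (uu i) gV).basicOpen ((pullback.snd (uu i) gV).appTop.hom h -
        ∑ l, (pullback.fst (uu i) gV).appTop.hom (c l) *
          (pullback.snd (uu i) gV).appTop.hom (q l)) := by
    intro i
    have hcl : IsClosed ((jj i ≫ n).base ⁻¹' Z) := hZ.preimage (jj i ≫ n).continuous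
    obtain ⟨N, h, c, q, h1, h2, h3⟩ := exists_data (uu i) gV tV ((jj i ≫ n).base ⁻¹' Z) hcl (by
      intro z hz hzt
      apply hZt _ hz
      have e1 : (jj i ≫ n) ≫ pullback.snd f g = pullback.snd (uu i) gV ≫ V.ι := by
        rw [Category.assoc, map_snd, ← Category.assoc, map_snd, Category.assoc, Category.id_comp]
      have e2 : (pullback.snd f g).base ((jj i ≫ n).base z) =
          V.ι.base ((pullback.snd (uu i) gV).base z) := by
        rw [← Scheme.Hom.comp_apply, e1, Scheme.Hom.comp_apply]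
      rw [e2, hzt]; rfl)
    exact ⟨N, h, c, q, h1, h2, fun z hz => h3 z hz⟩
  choose N h c q hh hq hvan using hdata
  -- the affine space `T'` over `W`
  let R : CommRingCat.{u} := Γ((W : Scheme.{u}), ⊤)
  let σ := Σ i : ι, Fin (N i + 1)
  haveI : Finite σ := inferInstance
  let A : CommRingCat.{u} := CommRingCat.of (MvPolynomial σ R)
  let T' : Scheme.{u} := Spec A
  let val : σ → Γ((V : Scheme.{u}), ⊤) := fun k => Fin.cases (h k.1) (q k.1) k.2
  let φ : A ⟶ Γ((V : Scheme.{u}), ⊤) :=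
    CommRingCat.ofHom (MvPolynomial.eval₂Hom gV.appTop.hom val)
  let Cmap : R ⟶ A := CommRingCat.ofHom (MvPolynomial.C)
  have hCφ : Cmap ≫ φ = gV.appTop := by
    ext r
    show MvPolynomial.eval₂Hom gV.appTop.hom val (MvPolynomial.C r) = _
    rw [MvPolynomial.eval₂Hom_C]
  let a : (V : Scheme.{u}) ⟶ T' := (V : Scheme.{u}).toSpecΓ ≫ Spec.map φ
  let b₀ : T' ⟶ (W : Scheme.{u}) := Spec.map Cmap ≫ (W : Scheme.{u}).isoSpec.inv
  let b : T' ⟶ S := b₀ ≫ W.ι
  have hab₀ : a ≫ b₀ = gV := by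
    show ((V : Scheme.{u}).toSpecΓ ≫ Spec.map φ) ≫ Spec.map Cmap ≫ (W : Scheme.{u}).isoSpec.inv = gV
    rw [Category.assoc, ← Category.assoc (Spec.map φ), ← Spec.map_comp, hCφ,
      ← Category.assoc, ← Scheme.toSpecΓ_naturality, Category.assoc]
    have : (W : Scheme.{u}).toSpecΓ ≫ (W : Scheme.{u}).isoSpec.inv = 𝟙 _ :=
      (W : Scheme.{u}).isoSpec.hom_inv_id
    rw [this, Category.comp_id]
  have hab : a ≫ b = V.ι ≫ g := by
    show a ≫ b₀ ≫ W.ι = _
    rw [← Category.assoc, hab₀, hgV]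
  haveI hlfp : LocallyOfFinitePresentation b := by
    haveI : LocallyOfFinitePresentation (Spec.map Cmap) := by
      rw [HasRingHomProperty.Spec_iff (P := @LocallyOfFinitePresentation)]
      show (MvPolynomial.C : R →+* MvPolynomial σ R).FinitePresentation
      have : (algebraMap R (MvPolynomial σ R)).FinitePresentation :=
        (RingHom.finitePresentation_algebraMap).mpr inferInstance
      exact this
    show LocallyOfFinitePresentation ((Spec.map Cmap ≫ (W : Scheme.{u}).isoSpec.inv) ≫ W.ι)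
    infer_instance
  let m : pullback f (V.ι ≫ g) ⟶ pullback f b :=
    pullback.map f (V.ι ≫ g) f b (𝟙 X) a (𝟙 S) (by simp) (by rw [Category.comp_id, hab])
  -- charts of `X_{T'}`
  let jj' : ∀ i : ι, pullback (uu i) b₀ ⟶ pullback f b := fun i =>
    pullback.map (uu i) b₀ f b (UU i).ι (𝟙 _) W.ι (huu i) (by rw [Category.id_comp])
  let mm : ∀ i : ι, pullback (uu i) gV ⟶ pullback (uu i) b₀ := fun i =>
    pullback.map (uu i) gV (uu i) b₀ (𝟙 _) a (𝟙 _) (by simp) (by rw [Category.comp_id, hab₀])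
  have hcomm : ∀ i : ι, jj i ≫ m = mm i ≫ jj' i := by
    intro i
    apply pullback.hom_ext
    · have hL : (jj i ≫ m) ≫ pullback.fst f b = pullback.fst (uu i) gV ≫ (UU i).ι := by
        rw [Category.assoc, map_fst, Category.comp_id, map_fst]
      have hR : (mm i ≫ jj' i) ≫ pullback.fst f b = pullback.fst (uu i) gV ≫ (UU i).ι := by
        rw [Category.assoc, map_fst, ← Category.assoc, map_fst, Category.comp_id]
      rw [hL, hR]
    · have hL : (jj i ≫ m) ≫ pullback.snd f b = pullback.snd (uu i) gV ≫ a := by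
        rw [Category.assoc, map_snd, ← Category.assoc, map_snd, Category.comp_id]
      have hR : (mm i ≫ jj' i) ≫ pullback.snd f b = pullback.snd (uu i) gV ≫ a := by
        rw [Category.assoc, map_snd, Category.comp_id, map_snd]
      rw [hL, hR]
  -- the sections `e i` on the charts of `X_{T'}`
  let Xv : σ → Γ(T', ⊤) := fun k => sec (A := A) (MvPolynomial.X k : MvPolynomial σ R)
  have haX : ∀ k : σ, a.appTop.hom (Xv k) = val k := by
    intro k
    have := toSpecΓ_SpecMap_appTop (V := (V : Scheme.{u})) φ (MvPolynomial.X k : MvPolynomial σ R)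
    rw [show a.appTop.hom (Xv k) = ((V : Scheme.{u}).toSpecΓ ≫ Spec.map φ).appTop.hom
      (sec (A := A) (MvPolynomial.X k : MvPolynomial σ R)) from rfl, this]
    show MvPolynomial.eval₂Hom gV.appTop.hom val (MvPolynomial.X k) = _
    rw [MvPolynomial.eval₂Hom_X']
  let e : ∀ i : ι, Γ(pullback (uu i) b₀, ⊤) := fun i =>
    (pullback.snd (uu i) b₀).appTop.hom (Xv ⟨i, 0⟩) -
      ∑ l : Fin (N i), (pullback.fst (uu i) b₀).appTop.hom (c i l) *
        (pullback.snd (uu i) b₀).appTop.hom (Xv ⟨i, l.succ⟩)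
  have hmsnd : ∀ i : ι, mm i ≫ pullback.snd (uu i) b₀ = pullback.snd (uu i) gV ≫ a :=
    fun i => map_snd _ _ _ _ _ _ _ _ _
  have hmfst : ∀ i : ι, mm i ≫ pullback.fst (uu i) b₀ = pullback.fst (uu i) gV ≫ 𝟙 _ :=
    fun i => map_fst _ _ _ _ _ _ _ _ _
  have hpull : ∀ i : ι, (mm i).appTop.hom (e i) =
      (pullback.snd (uu i) gV).appTop.hom (h i) -
        ∑ l, (pullback.fst (uu i) gV).appTop.hom (c i l) *
          (pullback.snd (uu i) gV).appTop.hom (q i l) := by
    intro i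
    have h1 : ∀ y, (mm i).appTop.hom ((pullback.snd (uu i) b₀).appTop.hom y) =
        (pullback.snd (uu i) gV).appTop.hom (a.appTop.hom y) :=
      fun y => appTop_apply_of_comp_eq _ _ _ _ (hmsnd i) y
    have h2 : ∀ y, (mm i).appTop.hom ((pullback.fst (uu i) b₀).appTop.hom y) =
        (pullback.fst (uu i) gV).appTop.hom y := by
      intro y
      have := appTop_apply_of_comp_eq _ _ _ _ (hmfst i) y
      rw [this]
      simp
    show (mm i).appTop.hom ((pullback.snd (uu i) b₀).appTop.hom (Xv ⟨i, 0⟩) -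
      ∑ l : Fin (N i), (pullback.fst (uu i) b₀).appTop.hom (c i l) *
        (pullback.snd (uu i) b₀).appTop.hom (Xv ⟨i, l.succ⟩)) = _
    rw [map_sub, map_sum, h1, haX]
    congr 1
    refine Finset.sum_congr rfl fun l _ => ?_
    rw [map_mul, h1, h2, haX]
    rfl
  let Z' : Set ↥(pullback f b) :=
    (⋃ i : ι, (jj' i).base '' ((pullback (uu i) b₀).basicOpen (e i) : Set ↥(pullback (uu i) b₀)))ᶜ
  have hZ'cl : IsClosed Z' := by
    apply IsOpen.isClosed_compl
    exact isOpen_iUnion fun i => (jj' i).isOpenEmbedding.isOpenMap _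
      ((pullback (uu i) b₀).basicOpen (e i)).isOpen
  have hrange' : ∀ i : ι, Set.range (jj' i).base =
      (pullback.fst f b).base ⁻¹' (UU i : Set X) := by
    intro i
    have := Scheme.Pullback.range_map (uu i) b₀ f b (UU i).ι (𝟙 _) W.ι (huu i)
      (by rw [Category.id_comp])
    rw [this, Scheme.Opens.range_ι]
    simp
  have hrange : ∀ i : ι, Set.range (jj i).base =
      (pullback.fst f (V.ι ≫ g)).base ⁻¹' (UU i : Set X) := by
    intro i
    have := Scheme.Pullback.range_map (uu i) gV f (V.ι ≫ g) (UU i).ι (𝟙 _) W.ι (huu i)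
      (by rw [hgV, Category.id_comp])
    rw [this, Scheme.Opens.range_ι]
    simp
  refine ⟨V, htV, T', b, a, n, m, Z', hV, inferInstance, hlfp, hab, ?_, ?_, ?_, ?_, hZ'cl, ?_, ?_⟩
  · rw [map_fst, Category.comp_id]
  · exact map_snd _ _ _ _ _ _ _ _ _
  · rw [map_fst, Category.comp_id]
  · exact map_snd _ _ _ _ _ _ _ _ _
  · -- the fibre over `a t` is missed
    intro z' hz' hz't
    apply hz'
    have hcond : f.base ((pullback.fst f b).base z') = b.base ((pullback.snd f b).base z') := by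
      rw [← Scheme.Hom.comp_apply, ← Scheme.Hom.comp_apply, pullback.condition]
    have hfW : f.base ((pullback.fst f b).base z') ∈ W := by
      rw [hcond]
      show W.ι.base (b₀.base _) ∈ W
      exact (b₀.base _).2
    obtain ⟨i, hi⟩ := hUcov _ hfW
    have hz'r : z' ∈ Set.range (jj' i).base := by rw [hrange' i]; exact hi
    obtain ⟨q', rfl⟩ := hz'r
    have hq't : (pullback.snd (uu i) b₀).base q' = a.base tV := by
      have e1 : jj' i ≫ pullback.snd f b = pullback.snd (uu i) b₀ ≫ 𝟙 _ := map_snd _ _ _ _ _ _ _ _ _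
      have e2 : (pullback.snd f b).base ((jj' i).base q') = (pullback.snd (uu i) b₀).base q' := by
        rw [← Scheme.Hom.comp_apply, e1, Category.comp_id]
      rw [← e2, hz't]
    have hunit : ∀ k : σ, q' ∈ (pullback (uu i) b₀).basicOpen
        ((pullback.snd (uu i) b₀).appTop.hom (Xv k)) ↔ tV ∈ (V : Scheme.{u}).basicOpen (val k) := by
      intro k
      rw [mem_basicOpen_appTop_iff, hq't, ← mem_basicOpen_appTop_iff, haX]
    have hq'e : q' ∈ (pullback (uu i) b₀).basicOpen (e i) := by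
      by_contra hne
      have h0 : q' ∈ (pullback (uu i) b₀).basicOpen
          ((pullback.snd (uu i) b₀).appTop.hom (Xv ⟨i, 0⟩)) := (hunit ⟨i, 0⟩).mpr (hh i)
      have hdecomp : (pullback.snd (uu i) b₀).appTop.hom (Xv ⟨i, 0⟩) = e i +
          ∑ l : Fin (N i), (pullback.fst (uu i) b₀).appTop.hom (c i l) *
            (pullback.snd (uu i) b₀).appTop.hom (Xv ⟨i, l.succ⟩) := by
        show _ = ((pullback.snd (uu i) b₀).appTop.hom (Xv ⟨i, 0⟩) - _) + _
        rw [sub_add_cancel]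
      rw [hdecomp] at h0
      rcases (pullback (uu i) b₀).basicOpen_add_le _ _ h0 with h1 | h1
      · exact hne h1
      · obtain ⟨l, -, hl⟩ := exists_mem_basicOpen_of_sum _ _ h1
        rw [Scheme.basicOpen_mul] at hl
        exact hq i l ((hunit ⟨i, l.succ⟩).mp hl.2)
    exact Set.mem_iUnion.mpr ⟨i, q', hq'e, rfl⟩
  · -- points over `Z` go to `Z'`
    intro w hw hmw
    obtain ⟨i, q', hq'e, hq'w⟩ := Set.mem_iUnion.mp hmw
    have e1 : m ≫ pullback.fst f b = pullback.fst f (V.ι ≫ g) ≫ 𝟙 _ := map_fst _ _ _ _ _ _ _ _ _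
    have e2 : (pullback.fst f b).base (m.base w) = (pullback.fst f (V.ι ≫ g)).base w := by
      rw [← Scheme.Hom.comp_apply, e1, Category.comp_id]
    have hwr : w ∈ Set.range (jj i).base := by
      rw [hrange i]
      show (pullback.fst f (V.ι ≫ g)).base w ∈ UU i
      rw [← e2, ← hq'w]
      have : (jj' i).base q' ∈ Set.range (jj' i).base := ⟨q', rfl⟩
      rw [hrange' i] at this
      exact this
    obtain ⟨q₀, rfl⟩ := hwr
    have hmq : (mm i).base q₀ = q' := by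
      apply (jj' i).isOpenEmbedding.injective
      rw [hq'w, ← Scheme.Hom.comp_apply, ← hcomm i, Scheme.Hom.comp_apply]
    have h3 : q₀ ∈ (pullback (uu i) gV).basicOpen ((mm i).appTop.hom (e i)) := by
      rw [mem_basicOpen_appTop_iff, hmq]
      exact hq'e
    rw [hpull i] at h3
    exact hvan i q₀ hw h3


end Groth.Agent.Lib.Helper13.LfpNhd2
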