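import Mathlib
import Groth.Prelude.Def_LiftSq

/-!
# Helper13 — LiftSqComp: unique lifting of 2-commutative squares of categories over `C`
is stable under composition of the right-hand side.
-/

set_option autoImplicit false

universe v₆ u₆ v₅ u₅ v₄ u₄ v₃ u₃ v₂ u₂ v u

open CategoryTheory

namespace Groth.Agent.Lib.Helper13.LiftSqComp

open LiftSq

variable {C : Type u} [Category.{v} C]
  {𝒜 : BasedCategory.{v₂, u₂} C} {ℬ : BasedCategory.{v₃, u₃} C}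
  {𝒳 : BasedCategory.{v₄, u₄} C} {𝒴 : BasedCategory.{v₅, u₅} C} {𝒵 : BasedCategory.{v₆, u₆} C}

/-- whiskering an isomorphism on the right. -/
def wrIso {F G : 𝒜 ⥤ᵇ ℬ} (α : F ≅ G) (H : ℬ ⥤ᵇ 𝒳) :
    BasedFunctor.comp F H ≅ BasedFunctor.comp G H where
  hom := BasedCategory.whiskerRight α.hom H
  inv := BasedCategory.whiskerRight α.inv H
  hom_inv_id := by rw [← whiskerRight_comp', α.hom_inv_id, whiskerRight_id']
  inv_hom_id := by rw [← whiskerRight_comp', α.inv_hom_id, whiskerRight_id']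

@[simp] theorem wrIso_hom {F G : 𝒜 ⥤ᵇ ℬ} (α : F ≅ G) (H : ℬ ⥤ᵇ 𝒳) :
    (wrIso α H).hom = BasedCategory.whiskerRight α.hom H := rfl

@[simp] theorem wrIso_inv {F G : 𝒜 ⥤ᵇ ℬ} (α : F ≅ G) (H : ℬ ⥤ᵇ 𝒳) :
    (wrIso α H).inv = BasedCategory.whiskerRight α.inv H := rfl

/-- components of a 2-morphism -/
abbrev cmp {F G : 𝒜 ⥤ᵇ ℬ} (α : F ⟶ G) (a : 𝒜.obj) : F.obj a ⟶ G.obj a := α.toNatTrans.app a

theorem hom_ext' {F G : 𝒜 ⥤ᵇ ℬ} {α β : F ⟶ G} (h : ∀ a, cmp α a = cmp β a) : α = β := by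
  apply BasedNatTrans.homCategory.ext
  ext a
  exact h a

@[simp] theorem cmp_comp {F G H : 𝒜 ⥤ᵇ ℬ} (α : F ⟶ G) (β : G ⟶ H) (a : 𝒜.obj) :
    cmp (α ≫ β) a = cmp α a ≫ cmp β a := rfl

@[simp] theorem cmp_id (F : 𝒜 ⥤ᵇ ℬ) (a : 𝒜.obj) : cmp (𝟙 F) a = 𝟙 (F.obj a) := rfl

@[simp] theorem cmp_whiskerLeft (F : 𝒜 ⥤ᵇ ℬ) {G H : ℬ ⥤ᵇ 𝒳} (α : G ⟶ H) (a : 𝒜.obj) :
    cmp (BasedCategory.whiskerLeft F α) a = cmp α (F.obj a) := rfl

@[simp] theorem cmp_whiskerRight {F G : 𝒜 ⥤ᵇ ℬ} (α : F ⟶ G) (H : ℬ ⥤ᵇ 𝒳) (a : 𝒜.obj) :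
    cmp (BasedCategory.whiskerRight α H) a = H.map (cmp α a) := rfl

theorem cmp_congr {F G : 𝒜 ⥤ᵇ ℬ} {α β : F ⟶ G} (h : α = β) (a : 𝒜.obj) : cmp α a = cmp β a := by
  rw [h]

variable {j : 𝒜 ⥤ᵇ ℬ}

section Comp

variable {f : 𝒳 ⥤ᵇ 𝒴} {g : 𝒴 ⥤ᵇ 𝒵}

/-- the outer square against `g`. -/
abbrev sqG (sq : Sq j (BasedFunctor.comp f g)) : Sq j g where
  top := BasedFunctor.comp sq.top f
  bot := sq.bot
  iso := sq.iso

/-- a lift of the composite square gives a lift of the outer square. -/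
def liftG {sq : Sq j (BasedFunctor.comp f g)} (d : sq.Lift) : (sqG sq).Lift where
  fn := BasedFunctor.comp d.fn f
  isoTop := wrIso d.isoTop f
  isoBot := d.isoBot
  w := by
    apply hom_ext'
    intro a
    exact cmp_congr d.w a

/-- the inner square against `f` determined by a lift of the outer square. -/
abbrev sqF {sq : Sq j (BasedFunctor.comp f g)} (d₂ : (sqG sq).Lift) : Sq j f where
  top := sq.top
  bot := d₂.fn
  iso := d₂.isoTop

/-- combine lifts of the outer and inner squares. -/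
def liftComp {sq : Sq j (BasedFunctor.comp f g)} (d₂ : (sqG sq).Lift) (d₁ : (sqF d₂).Lift) :
    sq.Lift where
  fn := d₁.fn
  isoTop := d₁.isoTop
  isoBot := d₂.isoBot ≪≫ wrIso d₁.isoBot g
  w := by
    apply hom_ext'
    intro a
    have h2 := cmp_congr d₂.w a
    have h1 := cmp_congr d₁.w a
    simp only [cmp_comp, cmp_whiskerLeft, cmp_whiskerRight, Iso.trans_hom, wrIso_hom] at h1 h2 ⊢
    rw [← h2, ← h1]
    simp only [Functor.map_comp]
    exact Category.assoc _ _ _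

/-- a morphism of lifts of the composite square gives one of lifts of the outer square. -/
def homG {sq : Sq j (BasedFunctor.comp f g)} {d d' : sq.Lift} (Ψ : d ⟶ d') :
    Sq.Lift.Hom (liftG d) (liftG d') where
  hom := BasedCategory.whiskerRight Ψ.hom f
  w_top := by
    apply hom_ext'
    intro a
    have := cmp_congr Ψ.w_top a
    simp only [cmp_comp, cmp_whiskerLeft] at this
    change f.map (cmp Ψ.hom (j.obj a)) ≫ f.map (cmp d'.isoTop.hom a) = f.map (cmp d.isoTop.hom a)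
    rw [← Functor.map_comp]
    exact congrArg (fun t => f.map t) this
  w_bot := by
    apply hom_ext'
    intro a
    exact cmp_congr Ψ.w_bot a

theorem liftsUnique_comp (hf : LiftsUnique j f) (hg : LiftsUnique j g) :
    LiftsUnique j (BasedFunctor.comp f g) := by
  intro sq d d'
  obtain ⟨u₂⟩ := hg (sqG sq) (liftG d) (liftG d')
  obtain ⟨u₂'⟩ := hg (sqG sq) (liftG d') (liftG d)
  obtain ⟨u₂d⟩ := hg (sqG sq) (liftG d) (liftG d)
  obtain ⟨u₂d'⟩ := hg (sqG sq) (liftG d') (liftG d')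
  let θ₂ : liftG d ⟶ liftG d' := u₂.default
  let θ₂' : liftG d' ⟶ liftG d := u₂'.default
  have h12 : θ₂ ≫ θ₂' = 𝟙 _ := (u₂d.uniq _).trans (u₂d.uniq _).symm
  have h21 : θ₂' ≫ θ₂ = 𝟙 _ := (u₂d'.uniq _).trans (u₂d'.uniq _).symm
  let ι : BasedFunctor.comp d.fn f ≅ BasedFunctor.comp d'.fn f :=
    ⟨θ₂.hom, θ₂'.hom, congrArg Sq.Lift.Hom.hom h12, congrArg Sq.Lift.Hom.hom h21⟩
  let sq₁ : Sq j f := ⟨sq.top, BasedFunctor.comp d'.fn f, wrIso d'.isoTop f⟩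
  let L' : sq₁.Lift :=
    { fn := d'.fn
      isoTop := d'.isoTop
      isoBot := Iso.refl _
      w := by
        apply hom_ext'
        intro a
        simp only [cmp_comp, cmp_whiskerLeft, cmp_whiskerRight, Iso.refl_hom, cmp_id]
        exact Category.id_comp _ }
  let L : sq₁.Lift :=
    { fn := d.fn
      isoTop := d.isoTop
      isoBot := ι.symm
      w := θ₂'.w_top }
  obtain ⟨u₁⟩ := hf sq₁ L L'
  let θ : L ⟶ L' := u₁.default
  have hθ : BasedCategory.whiskerRight θ.hom f = θ₂.hom := by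
    have h1 : ι.inv ≫ BasedCategory.whiskerRight θ.hom f = 𝟙 _ := θ.w_bot
    have h2 : ι.hom ≫ ι.inv ≫ BasedCategory.whiskerRight θ.hom f = ι.hom ≫ 𝟙 _ := by rw [h1]
    rw [Iso.hom_inv_id_assoc, Category.comp_id] at h2
    exact h2
  have key : ∀ Ψ : d ⟶ d', Ψ.hom = θ.hom := by
    intro Ψ
    have e1 : (homG Ψ : liftG d ⟶ liftG d') = θ₂ := u₂.uniq _
    have e2 : BasedCategory.whiskerRight Ψ.hom f = θ₂.hom := congrArg Sq.Lift.Hom.hom e1
    let Ψ₁ : L ⟶ L' :=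
      { hom := Ψ.hom
        w_top := Ψ.w_top
        w_bot := by
          change ι.inv ≫ BasedCategory.whiskerRight Ψ.hom f = 𝟙 _
          rw [e2]
          exact ι.inv_hom_id }
    have e3 : Ψ₁ = θ := u₁.uniq _
    exact congrArg Sq.Lift.Hom.hom e3
  refine ⟨⟨⟨⟨θ.hom, θ.w_top, ?_⟩⟩, fun Ψ => Sq.Lift.hom_ext (key Ψ)⟩⟩
  have h3 : d.isoBot.hom ≫ BasedCategory.whiskerRight θ₂.hom g = d'.isoBot.hom := θ₂.w_bot
  rw [← hθ] at h3
  apply hom_ext'
  intro a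
  exact cmp_congr h3 a

theorem liftsUniquely_comp (hf : LiftsUniquely j f) (hg : LiftsUniquely j g) :
    LiftsUniquely j (BasedFunctor.comp f g) := by
  intro sq
  refine ⟨?_, liftsUnique_comp (fun s => (hf s).2) (fun s => (hg s).2) sq⟩
  obtain ⟨d₂⟩ := (hg (sqG sq)).1
  obtain ⟨d₁⟩ := (hf (sqF d₂)).1
  exact ⟨liftComp d₂ d₁⟩

end Comp

end Groth.Agent.Lib.Helper13.LiftSqComp
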