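import Mathlib
import Groth.Prelude.Def_LiftSq
import Groth.Prelude.Def_FibCat2
import Groth.Agent.Lib.Helper13.LiftSqComp

/-!
# Helper13 — LiftSqBC: unique lifting of 2-commutative squares of categories over `C`
is stable under base change (first projection of the 2-fibre product over `C`).
-/

set_option autoImplicit false

universe v₆ u₆ v₅ u₅ v₄ u₄ v₃ u₃ v₂ u₂ v u

open CategoryTheory CategoryTheory.Limits

noncomputable section

namespace Groth.Agent.Lib.Helper13.LiftSqBC

open LiftSq FibCat Groth.Agent.Lib.Helper13.LiftSqComp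

variable {C : Type u} [Category.{v} C]
  {𝒜 : BasedCategory.{v₂, u₂} C} {ℬ : BasedCategory.{v₃, u₃} C}
  {𝒳 : BasedCategory.{v₄, u₄} C} {𝒴 : BasedCategory.{v₅, u₅} C} {𝒮 : BasedCategory.{v₆, u₆} C}

/-- whiskering an isomorphism on the left. -/
def wlIso (H : 𝒜 ⥤ᵇ ℬ) {F G : ℬ ⥤ᵇ 𝒳} (α : F ≅ G) :
    BasedFunctor.comp H F ≅ BasedFunctor.comp H G where
  hom := BasedCategory.whiskerLeft H α.hom
  inv := BasedCategory.whiskerLeft H α.inv
  hom_inv_id := by rw [← whiskerLeft_comp', α.hom_inv_id, whiskerLeft_id']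
  inv_hom_id := by rw [← whiskerLeft_comp', α.inv_hom_id, whiskerLeft_id']

@[simp] theorem wlIso_hom (H : 𝒜 ⥤ᵇ ℬ) {F G : ℬ ⥤ᵇ 𝒳} (α : F ≅ G) :
    (wlIso H α).hom = BasedCategory.whiskerLeft H α.hom := rfl

variable {j : 𝒜 ⥤ᵇ ℬ} {F : 𝒳 ⥤ᵇ 𝒮} {G : 𝒴 ⥤ᵇ 𝒮}

/-- the component of the canonical 2-isomorphism of the 2-fibre product. -/
theorem cmp_fpIso_hom (x : (fp F G).obj) : cmp (fpIso F G).hom x = x.obj.iso.hom := rfl

/-- the square against `G` induced by a square against the first projection. -/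
abbrev sqBC (sq : Sq j (fpFst F G)) : Sq j G where
  top := BasedFunctor.comp sq.top (fpSnd F G)
  bot := BasedFunctor.comp sq.bot F
  iso := wrIso sq.iso F ≪≫ wlIso sq.top (fpIso F G)

theorem cmp_sqBC_iso (sq : Sq j (fpFst F G)) (a : 𝒜.obj) :
    cmp (sqBC sq).iso.hom a = F.map (cmp sq.iso.hom a) ≫ (sq.top.obj a).obj.iso.hom := rfl

/-- a morphism of the fibre product lies over `f` as soon as its first component does. -/
theorem isHomLift_fp {x x' : (fp F G).obj} (m : x ⟶ x') {R S : C} (f : R ⟶ S)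
    (h : 𝒳.p.IsHomLift f m.hom.fst) : (fp F G).p.IsHomLift f m := by
  exact IsHomLift.of_fac _ _ _ (@IsHomLift.domain_eq _ _ _ _ 𝒳.p _ _ _ _ f m.hom.fst h)
    (@IsHomLift.codomain_eq _ _ _ _ 𝒳.p _ _ _ _ f m.hom.fst h)
    (@IsHomLift.fac _ _ _ _ 𝒳.p _ _ _ _ f m.hom.fst h)

/-- a morphism of the fibre product is an isomorphism as soon as both components are. -/
theorem isIso_fp {x x' : (fp F G).obj} (m : x ⟶ x') [IsIso m.hom.fst] [IsIso m.hom.snd] :
    IsIso m := by
  rw [← ObjectProperty.isIso_hom_iff, CategoricalPullback.isIso_iff]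
  exact ⟨inferInstance, inferInstance⟩

theorem isIso_cmp {H K : 𝒜 ⥤ᵇ ℬ} (α : H ⟶ K) [IsIso α] (a : 𝒜.obj) : IsIso (cmp α a) :=
  inferInstanceAs (IsIso (((BasedNatTrans.forgetful 𝒜 ℬ).mapIso (asIso α)).app a).hom)

section Exist

variable {sq : Sq j (fpFst F G)} (d' : (sqBC sq).Lift)

/-- the lifting functor into the fibre product. -/
abbrev fnBC : ℬ ⥤ᵇ fp F G := fpLift sq.bot d'.fn d'.isoBot

theorem fnBC_fst : BasedFunctor.comp (fnBC d') (fpFst F G) = sq.bot := rfl

theorem fnBC_snd : BasedFunctor.comp (fnBC d') (fpSnd F G) = d'.fn := rfl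

theorem fnBC_iso (b : ℬ.obj) : ((fnBC d').obj b).obj.iso.hom = cmp d'.isoBot.hom b := rfl

/-- component of the top triangle. -/
def topApp (a : 𝒜.obj) : (fnBC d').obj (j.obj a) ⟶ sq.top.obj a :=
  ObjectProperty.homMk
    { fst := cmp sq.iso.hom a
      snd := cmp d'.isoTop.hom a
      w := (cmp_congr d'.w a).symm }

/-- the top triangle as a 2-morphism. -/
def topHom : BasedFunctor.comp j (fnBC d') ⟶ sq.top where
  toNatTrans :=
    { app := fun a => topApp d' a
      naturality := fun a a' φ => by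
        apply ObjectProperty.hom_ext
        apply CategoricalPullback.hom_ext
        · exact sq.iso.hom.toNatTrans.naturality φ
        · exact d'.isoTop.hom.toNatTrans.naturality φ }
  isHomLift' := fun a => by
    exact isHomLift_fp (topApp d' a) _ (sq.iso.hom.isHomLift' a)

instance (a : 𝒜.obj) : IsIso (cmp (topHom d') a) := by
  have : IsIso (cmp (topHom d') a).hom.fst := isIso_cmp sq.iso.hom a
  have : IsIso (cmp (topHom d') a).hom.snd := isIso_cmp d'.isoTop.hom a
  exact isIso_fp _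

instance : IsIso (topHom d') := by
  have : IsIso (X := (BasedFunctor.comp j (fnBC d')).toFunctor) (topHom d').toNatTrans := by
    apply (config := { allowSynthFailures := true }) NatIso.isIso_of_isIso_app
  exact BasedNatIso.isIso_of_toNatTrans_isIso _

/-- the lift of the original square. -/
def liftBC : sq.Lift where
  fn := fnBC d'
  isoTop := asIso (topHom d')
  isoBot := Iso.refl _
  w := by
    apply hom_ext'
    intro a
    exact Category.id_comp _

end Exist

theorem cmp_hom_inv {H K : 𝒜 ⥤ᵇ ℬ} (α : H ≅ K) (a : 𝒜.obj) :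
    cmp α.hom a ≫ cmp α.inv a = 𝟙 _ := cmp_congr α.hom_inv_id a

theorem cmp_inv_hom {H K : 𝒜 ⥤ᵇ ℬ} (α : H ≅ K) (a : 𝒜.obj) :
    cmp α.inv a ≫ cmp α.hom a = 𝟙 _ := cmp_congr α.inv_hom_id a

section Uniq

variable {sq : Sq j (fpFst F G)}

/-- first components of the triangles of a lift -/
theorem lift_w_fst (d : sq.Lift) (a : 𝒜.obj) :
    cmp d.isoBot.hom (j.obj a) ≫ (cmp d.isoTop.hom a).hom.fst = cmp sq.iso.hom a :=
  cmp_congr d.w a

/-- a lift of the original square gives a lift of the induced square. -/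
def liftDown (d : sq.Lift) : (sqBC sq).Lift where
  fn := BasedFunctor.comp d.fn (fpSnd F G)
  isoTop := wrIso d.isoTop (fpSnd F G)
  isoBot := wrIso d.isoBot F ≪≫ wlIso d.fn (fpIso F G)
  w := by
    apply hom_ext'
    intro a
    change (F.map (cmp d.isoBot.hom (j.obj a)) ≫ (d.fn.obj (j.obj a)).obj.iso.hom) ≫
      G.map ((cmp d.isoTop.hom a).hom.snd) =
        F.map (cmp sq.iso.hom a) ≫ (sq.top.obj a).obj.iso.hom
    have h1 := (cmp d.isoTop.hom a).hom.w
    have h2 := lift_w_fst d a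
    rw [Category.assoc]
    erw [← h1]
    rw [← h2]
    erw [Functor.map_comp, Category.assoc]
    rfl

theorem liftDown_isoBot (d : sq.Lift) (b : ℬ.obj) :
    cmp (liftDown d).isoBot.hom b = F.map (cmp d.isoBot.hom b) ≫ (d.fn.obj b).obj.iso.hom := rfl

/-- clean-typed components of the lower triangle -/
def botHom (d : sq.Lift) (b : ℬ.obj) : sq.bot.obj b ⟶ (d.fn.obj b).obj.fst := cmp d.isoBot.hom b

/-- clean-typed components of the inverse of the lower triangle -/
def botInv (d : sq.Lift) (b : ℬ.obj) : (d.fn.obj b).obj.fst ⟶ sq.bot.obj b := cmp d.isoBot.inv b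

theorem botHom_botInv (d : sq.Lift) (b : ℬ.obj) : botHom d b ≫ botInv d b = 𝟙 _ :=
  cmp_hom_inv d.isoBot b

theorem botInv_botHom (d : sq.Lift) (b : ℬ.obj) : botInv d b ≫ botHom d b = 𝟙 _ :=
  cmp_inv_hom d.isoBot b

/-- clean-typed structural morphism of an object of the fibre product -/
def sIso (x : (fp F G).obj) : F.obj x.obj.fst ⟶ G.obj x.obj.snd := x.obj.iso.hom

/-- clean-typed first component -/
def mFst {x x' : (fp F G).obj} (m : x ⟶ x') : x.obj.fst ⟶ x'.obj.fst := m.hom.fst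

/-- clean-typed second component -/
def mSnd {x x' : (fp F G).obj} (m : x ⟶ x') : x.obj.snd ⟶ x'.obj.snd := m.hom.snd

theorem m_w {x x' : (fp F G).obj} (m : x ⟶ x') :
    F.map (mFst m) ≫ sIso x' = sIso x ≫ G.map (mSnd m) := m.hom.w

theorem liftDown_isoBot' (d : sq.Lift) (b : ℬ.obj) :
    cmp (liftDown d).isoBot.hom b = F.map (botHom d b) ≫ sIso (d.fn.obj b) := rfl

theorem hom_w_bot {d₁ d₂ : sq.Lift} (Ψ : d₁ ⟶ d₂) (b : ℬ.obj) :
    botHom d₁ b ≫ mFst (cmp Ψ.hom b) = botHom d₂ b := cmp_congr Ψ.w_bot b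

/-- a morphism of lifts of the original square gives a morphism of lifts of the induced square. -/
def homDown {d₁ d₂ : sq.Lift} (Ψ : d₁ ⟶ d₂) : Sq.Lift.Hom (liftDown d₁) (liftDown d₂) where
  hom := BasedCategory.whiskerRight Ψ.hom (fpSnd F G)
  w_top := by
    apply hom_ext'
    intro a
    have h := cmp_congr Ψ.w_top a
    have h' := congrArg (fun t => t.hom.snd) h
    exact h'
  w_bot := by
    apply hom_ext'
    intro b
    change (F.map (botHom d₁ b) ≫ sIso (d₁.fn.obj b)) ≫ G.map (mSnd (cmp Ψ.hom b)) =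
      F.map (botHom d₂ b) ≫ sIso (d₂.fn.obj b)
    rw [Category.assoc, ← m_w, ← hom_w_bot Ψ b, Functor.map_comp, Category.assoc]

theorem fst_eq_of_hom {d₁ d₂ : sq.Lift} (Ψ : d₁ ⟶ d₂) (b : ℬ.obj) :
    mFst (cmp Ψ.hom b) = botInv d₁ b ≫ botHom d₂ b := by
  rw [← hom_w_bot Ψ b, ← Category.assoc, botInv_botHom, Category.id_comp]

/-- clean-typed components of a morphism of lifts of the induced square -/
def dSnd {d₁ d₂ : sq.Lift} (θ' : liftDown d₁ ⟶ liftDown d₂) (b : ℬ.obj) :
    (d₁.fn.obj b).obj.snd ⟶ (d₂.fn.obj b).obj.snd := cmp θ'.hom b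

theorem dSnd_w_bot {d₁ d₂ : sq.Lift} (θ' : liftDown d₁ ⟶ liftDown d₂) (b : ℬ.obj) :
    (F.map (botHom d₁ b) ≫ sIso (d₁.fn.obj b)) ≫ G.map (dSnd θ' b) =
      F.map (botHom d₂ b) ≫ sIso (d₂.fn.obj b) := cmp_congr θ'.w_bot b

/-- components of the morphism of lifts built from a morphism of lifts of the induced square. -/
def upApp {d₁ d₂ : sq.Lift} (θ' : liftDown d₁ ⟶ liftDown d₂) (b : ℬ.obj) :
    d₁.fn.obj b ⟶ d₂.fn.obj b :=
  ObjectProperty.homMk
    { fst := botInv d₁ b ≫ botHom d₂ b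
      snd := dSnd θ' b
      w := by
        change F.map (botInv d₁ b ≫ botHom d₂ b) ≫ sIso (d₂.fn.obj b) =
          sIso (d₁.fn.obj b) ≫ G.map (dSnd θ' b)
        calc F.map (botInv d₁ b ≫ botHom d₂ b) ≫ sIso (d₂.fn.obj b)
            = F.map (botInv d₁ b) ≫ (F.map (botHom d₂ b) ≫ sIso (d₂.fn.obj b)) := by
              rw [Functor.map_comp, Category.assoc]
          _ = F.map (botInv d₁ b) ≫
                ((F.map (botHom d₁ b) ≫ sIso (d₁.fn.obj b)) ≫ G.map (dSnd θ' b)) := by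
              rw [dSnd_w_bot]
          _ = (F.map (botInv d₁ b) ≫ F.map (botHom d₁ b)) ≫ sIso (d₁.fn.obj b) ≫
                G.map (dSnd θ' b) := by
              simp only [Category.assoc]
          _ = sIso (d₁.fn.obj b) ≫ G.map (dSnd θ' b) := by
              rw [← Functor.map_comp, botInv_botHom, CategoryTheory.Functor.map_id, Category.id_comp] }

theorem mFst_upApp {d₁ d₂ : sq.Lift} (θ' : liftDown d₁ ⟶ liftDown d₂) (b : ℬ.obj) :
    mFst (upApp θ' b) = botInv d₁ b ≫ botHom d₂ b := rfl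

theorem mSnd_upApp {d₁ d₂ : sq.Lift} (θ' : liftDown d₁ ⟶ liftDown d₂) (b : ℬ.obj) :
    mSnd (upApp θ' b) = dSnd θ' b := rfl

/-- the first component of the comparison morphism -/
def α₁ (d₁ d₂ : sq.Lift) :
    BasedFunctor.comp d₁.fn (fpFst F G) ⟶ BasedFunctor.comp d₂.fn (fpFst F G) :=
  d₁.isoBot.inv ≫ d₂.isoBot.hom

/-- the 2-morphism underlying the morphism of lifts built from a morphism of lifts of the induced
square. -/
def upHom {d₁ d₂ : sq.Lift} (θ' : liftDown d₁ ⟶ liftDown d₂) : d₁.fn ⟶ d₂.fn where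
  toNatTrans :=
    { app := fun b => upApp θ' b
      naturality := fun b b' φ => by
        apply ObjectProperty.hom_ext
        apply CategoricalPullback.hom_ext
        · exact (α₁ d₁ d₂).toNatTrans.naturality φ
        · exact θ'.hom.toNatTrans.naturality φ }
  isHomLift' := fun b => isHomLift_fp (upApp θ' b) _ ((α₁ d₁ d₂).isHomLift' b)

/-- clean-typed component of the square's 2-isomorphism -/
def sqHom (sq : Sq j (fpFst F G)) (a : 𝒜.obj) : sq.bot.obj (j.obj a) ⟶ (sq.top.obj a).obj.fst :=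
  cmp sq.iso.hom a

/-- clean-typed first component of the upper triangle -/
def topFst (d : sq.Lift) (a : 𝒜.obj) : (d.fn.obj (j.obj a)).obj.fst ⟶ (sq.top.obj a).obj.fst :=
  (cmp d.isoTop.hom a).hom.fst

theorem lift_w_fst' (d : sq.Lift) (a : 𝒜.obj) : botHom d (j.obj a) ≫ topFst d a = sqHom sq a :=
  cmp_congr d.w a

/-- the morphism of lifts built from a morphism of lifts of the induced square. -/
def up {d₁ d₂ : sq.Lift} (θ' : liftDown d₁ ⟶ liftDown d₂) : Sq.Lift.Hom d₁ d₂ where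
  hom := upHom θ'
  w_top := by
    apply hom_ext'
    intro a
    apply ObjectProperty.hom_ext
    apply CategoricalPullback.hom_ext
    · change (botInv d₁ (j.obj a) ≫ botHom d₂ (j.obj a)) ≫ topFst d₂ a = topFst d₁ a
      rw [Category.assoc, lift_w_fst' d₂ a, ← lift_w_fst' d₁ a, ← Category.assoc, botInv_botHom,
        Category.id_comp]
    · exact congrArg (fun t => t) (cmp_congr θ'.w_top a)
  w_bot := by
    apply hom_ext'
    intro b
    change botHom d₁ b ≫ (botInv d₁ b ≫ botHom d₂ b) = botHom d₂ b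
    rw [← Category.assoc, botHom_botInv, Category.id_comp]

theorem liftsUnique_fpFst (hG : LiftsUnique j G) : LiftsUnique j (fpFst F G) := by
  intro sq d₁ d₂
  obtain ⟨u⟩ := hG (sqBC sq) (liftDown d₁) (liftDown d₂)
  let θ' : liftDown d₁ ⟶ liftDown d₂ := u.default
  refine ⟨⟨⟨up θ'⟩, fun Ψ => ?_⟩⟩
  apply Sq.Lift.hom_ext
  apply hom_ext'
  intro b
  apply ObjectProperty.hom_ext
  apply CategoricalPullback.hom_ext
  · exact fst_eq_of_hom Ψ b
  · have e : (homDown Ψ : liftDown d₁ ⟶ liftDown d₂) = θ' := u.uniq _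
    exact cmp_congr (congrArg Sq.Lift.Hom.hom e) b

theorem liftsUniquely_fpFst (hG : LiftsUniquely j G) : LiftsUniquely j (fpFst F G) := by
  intro sq
  refine ⟨?_, liftsUnique_fpFst (fun s => (hG s).2) sq⟩
  obtain ⟨d'⟩ := (hG (sqBC sq)).1
  exact ⟨liftBC d'⟩

end Uniq

end Groth.Agent.Lib.Helper13.LiftSqBC

end
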