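import Groth.Agent.Lib.Helper13.LimDescendSurj

/-! Abstract cartesian version of the descent of surjectivity, and descent of universal
injectivity via the diagonal. -/

set_option autoImplicit false
universe u v

open CategoryTheory CategoryTheory.Limits AlgebraicGeometry

namespace Groth.Agent.Lib.Helper13.LimDescend

open Groth.Agent.Lib.Helper22

section general

variable {C : Type u} [Category.{v} C] [HasPullbacks C]

set_option backward.isDefEq.respectTransparency false in
/-- The diagonal of a base change is the base change of the diagonal, up to an isomorphism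
of the target. -/
theorem exists_iso_diagonal_pullback_fst {X Y Z : C} (f : X ⟶ Z) (g : Y ⟶ Z) :
    ∃ θ : pullback f (pullback.snd g g ≫ g) ≅ pullback.diagonalObj (pullback.fst f g),
      pullback.map f g f (pullback.snd g g ≫ g) (𝟙 X) (pullback.diagonal g) (𝟙 Z)
        (by simp) (by simp) ≫ θ.hom = pullback.diagonal (pullback.fst f g) := by
  refine ⟨(pullbackSymmetry _ _) ≪≫ (diagonalObjPullbackFstIso f g).symm, ?_⟩
  rw [diagonal_pullback_fst]
  simp only [Iso.trans_hom, Iso.symm_hom, ← Category.assoc]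
  congr 1
  ext <;> simp

end general

section
variable {J : Type u} [SmallCategory J] (E : J ⥤ Scheme.{u})

/-- The transition squares of a base-changed diagram are pullback squares. -/
theorem bcDiag_map_isPullback (j₀ : J) {T : Scheme.{u}} (a : T ⟶ E.obj j₀) {k k' : Over j₀}
    (φ : k ⟶ k') :
    IsPullback ((bcDiag E j₀ a).map φ) (pullback.fst (E.map k.hom) a)
      (pullback.fst (E.map k'.hom) a) (E.map φ.left) := by
  have t : IsPullback (pullback.snd (E.map k'.hom) a) (pullback.fst (E.map k'.hom) a) a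
      (E.map k'.hom) := (IsPullback.of_hasPullback (E.map k'.hom) a).flip
  have p : (bcDiag E j₀ a).map φ ≫ pullback.fst (E.map k'.hom) a =
      pullback.fst (E.map k.hom) a ≫ E.map φ.left := bcDiag_map_fst E j₀ a φ
  refine IsPullback.of_right ?_ p t
  rw [bcDiag_map_snd, ← E.map_comp, Over.w φ]
  exact (IsPullback.of_hasPullback (E.map k.hom) a).flip

end

section acs

variable {K : Type u} [SmallCategory K] [IsCofiltered K]

/-- Abstract cartesian version of descent of surjectivity: a family of morphisms `τ k` of finite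
presentation into the stages of a cofiltered diagram with affine transition maps, related by
pullback squares along the transition maps, with a surjective morphism to the limit lying over
`τ k₀`. Then some `τ k` is surjective. -/
theorem exists_surjective_of_cartesian
    (𝒴 : K ⥤ Scheme.{u}) (cY : Cone 𝒴) (hcY : IsLimit cY)
    [∀ (i j : K) (f : i ⟶ j), IsAffineHom (𝒴.map f)] (k₀ : K) [CompactSpace (𝒴.obj k₀)]
    (𝒳 : K → Scheme.{u}) (τ : ∀ k, 𝒳 k ⟶ 𝒴.obj k)
    [∀ k, LocallyOfFinitePresentation (τ k)] [∀ k, QuasiCompact (τ k)]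
    (hsq : ∀ (k k' : K) (φ : k ⟶ k'), ∃ m : 𝒳 k ⟶ 𝒳 k', IsPullback m (τ k) (τ k') (𝒴.map φ))
    {X : Scheme.{u}} (f : X ⟶ cY.pt) (p₀ : X ⟶ 𝒳 k₀) (hp₀ : p₀ ≫ τ k₀ = f ≫ cY.π.app k₀)
    [Surjective f] :
    ∃ (k : K) (_ : k ⟶ k₀), Surjective (τ k) := by
  let F : ∀ k : K, Set (𝒴.obj k) := fun k => Set.range (τ k)
  have hF : ∀ k, ProCons.IsIndConstructible (F k) := by
    intro k
    apply isIndConstructible_of_isLocallyConstructible
    have := (τ k).isLocallyConstructible_image (s := Set.univ) Topology.IsLocallyConstructible.univ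
    rwa [Set.image_univ] at this
  have hFm : ∀ (i j : K) (φ : i ⟶ j), ⇑(𝒴.map φ) ⁻¹' F j ⊆ F i := by
    rintro i j φ y ⟨x', hx'⟩
    obtain ⟨m, hm⟩ := hsq i j φ
    obtain ⟨z, -, hz⟩ := Scheme.Pullback.exists_preimage_pullback (f := τ j) (g := 𝒴.map φ)
      x' y hx'
    refine ⟨hm.isoPullback.inv z, ?_⟩
    rw [← Scheme.Hom.comp_apply, hm.isoPullback_inv_snd, hz]
  have key := (Groth.Agent.S4787.result 𝒴 cY hcY k₀ (fun _ => Set.univ) F
    (fun _ => isProConstructible_univ) hF (fun _ _ _ => Set.subset_univ _) hFm).mp ?_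
  · obtain ⟨k, ψ, hk⟩ := key
    exact ⟨k, ψ, ⟨fun y => hk k (𝟙 k) (Set.mem_univ y)⟩⟩
  · intro y _
    refine Set.mem_iUnion.mpr ⟨k₀, ?_⟩
    obtain ⟨x, rfl⟩ := ‹Surjective f›.surj y
    refine ⟨p₀ x, ?_⟩
    rw [← Scheme.Hom.comp_apply, hp₀, Scheme.Hom.comp_apply]

end acs

end Groth.Agent.Lib.Helper13.LimDescend
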