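import Groth.Agent.Lib.Helper13.LimDescendFlat

/-! Descent of étale morphisms along cofiltered limits with affine transition maps. -/

set_option autoImplicit false
universe u v

open CategoryTheory CategoryTheory.Limits AlgebraicGeometry

namespace Groth.Agent.Lib.Helper13.LimDescend

open Groth.Agent.Lib.Helper22

section general

variable {J : Type u} [SmallCategory J] [IsCofiltered J] (E : J ⥤ Scheme.{u}) (e : Cone E)
  (he : IsLimit e)

/-- Two properties stable under base change which hold at some stages hold at a common stage. -/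
theorem stage_common (P₁ P₂ : MorphismProperty Scheme.{u}) [P₁.IsStableUnderBaseChange]
    [P₂.IsStableUnderBaseChange] (j₀ : J) {X₀ : Scheme.{u}} (a : X₀ ⟶ E.obj j₀)
    (h₁ : ∃ (j : J) (ψ : j ⟶ j₀), P₁ (pullback.fst (E.map ψ) a))
    (h₂ : ∃ (j : J) (ψ : j ⟶ j₀), P₂ (pullback.fst (E.map ψ) a)) :
    ∃ (j : J) (ψ : j ⟶ j₀), P₁ (pullback.fst (E.map ψ) a) ∧ P₂ (pullback.fst (E.map ψ) a) := by
  obtain ⟨j₁, ψ₁, hj₁⟩ := h₁
  obtain ⟨j₂, ψ₂, hj₂⟩ := h₂
  let m : Over j₀ := IsCofiltered.min (Over.mk ψ₁) (Over.mk ψ₂)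
  let φ₁ : m ⟶ Over.mk ψ₁ := IsCofiltered.minToLeft _ _
  let φ₂ : m ⟶ Over.mk ψ₂ := IsCofiltered.minToRight _ _
  refine ⟨m.left, m.hom, ?_, ?_⟩
  · exact fst_comp_of_fst' P₁ (E.map φ₁.left) (E.map ψ₁) a (E.map m.hom)
      (by rw [← E.map_comp]; exact congrArg E.map (Over.w φ₁)) hj₁
  · exact fst_comp_of_fst' P₂ (E.map φ₂.left) (E.map ψ₂) a (E.map m.hom)
      (by rw [← E.map_comp]; exact congrArg E.map (Over.w φ₂)) hj₂

include he in
/-- Core descent statement for étale morphisms. -/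
theorem core_etale [∀ (i j : J) (f : i ⟶ j), IsAffineHom (E.map f)] (j₀ : J)
    [CompactSpace (E.obj j₀)] [QuasiSeparatedSpace (E.obj j₀)]
    {X₀ : Scheme.{u}} [CompactSpace X₀] [QuasiSeparatedSpace X₀] (a : X₀ ⟶ E.obj j₀)
    [LocallyOfFinitePresentation a] (h : Etale (pullback.fst (e.π.app j₀) a)) :
    ∃ (j : J) (ψ : j ⟶ j₀), Etale (pullback.fst (E.map ψ) a) := by
  obtain ⟨hfl, hun, -⟩ := Etale.iff_flat_and_formallyUnramified.mp h
  obtain ⟨j, ψ, h1, h2⟩ := stage_common E @Flat @FormallyUnramified j₀ a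
    (core_flat E e he j₀ a hfl) (core_formallyUnramified E e he j₀ a hun)
  exact ⟨j, ψ, Etale.iff_flat_and_formallyUnramified.mpr ⟨h1, h2,
    MorphismProperty.pullback_fst (P := @LocallyOfFinitePresentation) _ _ inferInstance⟩⟩

end general

end Groth.Agent.Lib.Helper13.LimDescend
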