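import Groth.Agent.Lib.Helper13.LimDescendQuasiFinite
import Groth.Agent.Lib.lead.FibreDimBCLocal
import Groth.Agent.S0402

/-! Descent of the bound `fibreDimAt ≤ d` along cofiltered limits with affine transitions. -/

set_option autoImplicit false
universe u v

open CategoryTheory CategoryTheory.Limits AlgebraicGeometry

namespace Groth.Agent.Lib.Helper13.LimDescend

open Groth.Agent.Lib.Helper22

/-- The property "all local fibre dimensions are at most `d`". -/
def fibreDimLE (d : ℕ) : MorphismProperty Scheme.{u} :=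
  fun _ _ f => ∀ x, FlatMor.fibreDimAt f x ≤ d

theorem fibreDimLE_of_isPullback (d : ℕ) {X S X' S' : Scheme.{u}} {f : X ⟶ S}
    [LocallyOfFiniteType f] {g : S' ⟶ S} {g' : X' ⟶ X} {f' : X' ⟶ S'}
    (hsq : IsPullback g' f' f g) (h : fibreDimLE d f) : fibreDimLE d f' := fun x' => by
  rw [Groth.Agent.Lib.lead.FibreDimBCLocal.fibreDimAt_baseChange f g g' f' hsq x']
  exact h _

/-- Locally of finite type with all local fibre dimensions at most `d`. -/
def lftFibreDimLE (d : ℕ) : MorphismProperty Scheme.{u} :=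
  fun _ _ f => LocallyOfFiniteType f ∧ fibreDimLE d f

instance respectsIso_lftFibreDimLE (d : ℕ) : (lftFibreDimLE.{u} d).RespectsIso := by
  apply MorphismProperty.RespectsIso.mk
  · intro X Y Z e f ⟨h1, h2⟩
    haveI := h1
    refine ⟨inferInstance, ?_⟩
    have hsq : IsPullback e.hom (e.hom ≫ f) f (𝟙 Z) := IsPullback.of_horiz_isIso ⟨by simp⟩
    exact fibreDimLE_of_isPullback d hsq h2
  · intro X Y Z e f ⟨h1, h2⟩
    haveI := h1
    refine ⟨inferInstance, ?_⟩
    have hsq : IsPullback (𝟙 X) (f ≫ e.hom) f e.inv := IsPullback.of_horiz_isIso ⟨by simp⟩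
    exact fibreDimLE_of_isPullback d hsq h2

section general

variable {J : Type u} [SmallCategory J] [IsCofiltered J] (E : J ⥤ Scheme.{u}) (e : Cone E)
  (he : IsLimit e)

include he in
/-- Core descent statement for the bound on fibre dimensions. -/
theorem core_fibreDimLE [∀ (i j : J) (f : i ⟶ j), IsAffineHom (E.map f)] (j₀ : J)
    {X₀ : Scheme.{u}} [CompactSpace X₀] (a : X₀ ⟶ E.obj j₀)
    [LocallyOfFiniteType a] (d : ℕ) (h : fibreDimLE d (pullback.fst (e.π.app j₀) a)) :
    ∃ (j : J) (ψ : j ⟶ j₀), fibreDimLE d (pullback.fst (E.map ψ) a) := by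
  haveI : ∀ {i j : J} (f : i ⟶ j), IsAffineHom (E.map f) := fun f => inferInstance
  haveI : ∀ (k k' : Over j₀) (φ : k ⟶ k'), IsAffineHom ((bcDiag E j₀ a).map φ) :=
    fun _ _ φ => inferInstance
  haveI : ∀ {k k' : Over j₀} (φ : k ⟶ k'), IsAffineHom ((bcDiag E j₀ a).map φ) :=
    fun φ => inferInstance
  haveI : ∀ k : Over j₀, CompactSpace ((bcDiag E j₀ a).obj k) := fun k => by
    change CompactSpace ↥(pullback (E.map k.hom) a)
    exact QuasiCompact.compactSpace_of_compactSpace (pullback.snd (E.map k.hom) a)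
  let U : X₀.Opens := ⟨{x | FlatMor.fibreDimAt a x ≤ d}, Groth.Agent.S0402.result a d⟩
  have key : ∀ {V : Scheme.{u}} (v : V ⟶ E.obj j₀),
      pullback.snd v a ⁻¹ᵁ U = ⊤ ↔ fibreDimLE d (pullback.fst v a) := by
    intro V v
    have hsq : IsPullback (pullback.snd v a) (pullback.fst v a) a v :=
      (IsPullback.of_hasPullback v a).flip
    constructor
    · intro hV x
      rw [Groth.Agent.Lib.lead.FibreDimBCLocal.fibreDimAt_baseChange a v _ _ hsq x]
      have : x ∈ pullback.snd v a ⁻¹ᵁ U := by rw [hV]; trivial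
      exact this
    · intro hV
      ext x
      simp only [TopologicalSpace.Opens.coe_top, Set.mem_univ, iff_true]
      change FlatMor.fibreDimAt a (pullback.snd v a x) ≤ d
      rw [← Groth.Agent.Lib.lead.FibreDimBCLocal.fibreDimAt_baseChange a v _ _ hsq x]
      exact hV x
  let σ : (bcDiag E j₀ a).obj (top j₀) ⟶ X₀ := pullback.snd (E.map (top j₀).hom) a
  let U' : ((bcDiag E j₀ a).obj (top j₀)).Opens := σ ⁻¹ᵁ U
  have hU' : (bcCone E e j₀ a).π.app (top j₀) ⁻¹ᵁ U' = ⊤ :=
    (preimage_preimage_eq_top _ σ _ (bcCone_π_snd E e j₀ a (top j₀)) U).mpr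
      ((key (e.π.app j₀)).mpr h)
  obtain ⟨m, φ, hm⟩ := exists_map_eq_top (bcDiag E j₀ a) (bcCone E e j₀ a) (bcIsLimit E he j₀ a)
    (i := top j₀) U' hU'
  exact ⟨m.left, m.hom, (key (E.map m.hom)).mp
    ((preimage_preimage_eq_top _ σ _ (bcDiag_map_snd E j₀ a φ) U).mp hm)⟩

end general

end Groth.Agent.Lib.Helper13.LimDescend
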