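import Groth.Agent.Lib.Helper13.LimDescendEtale
import Groth.Prelude.Def_Mor2

/-! Descent of finite locally free morphisms of given degree along cofiltered limits. -/

set_option autoImplicit false
universe u v

open CategoryTheory CategoryTheory.Limits AlgebraicGeometry

namespace Groth.Agent.Lib.Helper13.LimDescend

open Groth.Agent.Lib.Helper22

section general

variable {J : Type u} [SmallCategory J] [IsCofiltered J] (E : J ⥤ Scheme.{u}) (e : Cone E)
  (he : IsLimit e)

theorem finrank_fst_fst {W Y Z X : Scheme.{u}} (f' : W ⟶ Y) (f : Y ⟶ Z) (g : X ⟶ Z)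
    (f'' : W ⟶ Z) (h : f' ≫ f = f'') [Flat (pullback.fst f g)] [IsFinite (pullback.fst f g)]
    [Flat (pullback.fst f'' g)] [IsFinite (pullback.fst f'' g)] (w : W) :
    (pullback.fst f'' g).finrank w = (pullback.fst f g).finrank (f' w) := by
  subst h
  rw [← Scheme.Hom.finrank_pullback_fst (pullback.fst f g) f' w,
    ← pullbackRightPullbackFstIso_hom_fst f g f']
  haveI : Flat (pullback.fst f' (pullback.fst f g)) :=
    MorphismProperty.pullback_fst (P := @Flat) _ _ inferInstance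
  haveI : IsFinite (pullback.fst f' (pullback.fst f g)) :=
    MorphismProperty.pullback_fst (P := @IsFinite) _ _ inferInstance
  rw [Scheme.Hom.finrank_comp_left_of_isIso]

include he in
/-- Core descent statement for finite locally free morphisms of degree `d`. -/
theorem core_isFinLocFreeOfDeg [∀ (i j : J) (f : i ⟶ j), IsAffineHom (E.map f)] (j₀ : J)
    [CompactSpace (E.obj j₀)] [QuasiSeparatedSpace (E.obj j₀)]
    {X₀ : Scheme.{u}} [CompactSpace X₀] [QuasiSeparatedSpace X₀] (a : X₀ ⟶ E.obj j₀)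
    [LocallyOfFinitePresentation a] (d : ℕ)
    (h : Mor2.IsFinLocFreeOfDeg d (pullback.fst (e.π.app j₀) a)) :
    ∃ (j : J) (ψ : j ⟶ j₀), Mor2.IsFinLocFreeOfDeg d (pullback.fst (E.map ψ) a) := by
  haveI : ∀ {i j : J} (f : i ⟶ j), IsAffineHom (E.map f) := fun f => inferInstance
  obtain ⟨⟨hfin, hfl, -⟩, hrk⟩ := h
  obtain ⟨j₁, ψ₁, h1, h2⟩ := stage_common E @IsFinite @Flat j₀ a
    (core_isFinite E e he j₀ a hfin) (core_flat E e he j₀ a hfl)
  haveI := h1
  haveI := h2
  haveI := hfin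
  haveI := hfl
  haveI hlfp : ∀ {V : Scheme.{u}} (v : V ⟶ E.obj j₀),
      LocallyOfFinitePresentation (pullback.fst v a) := fun v =>
    MorphismProperty.pullback_fst (P := @LocallyOfFinitePresentation) _ _ inferInstance
  -- the open locus of rank `d`
  let U : (E.obj j₁).Opens :=
    ⟨(pullback.fst (E.map ψ₁) a).finrank ⁻¹' {d},
      ((pullback.fst (E.map ψ₁) a).isLocallyConstant_finrank).isOpen_fiber d⟩
  let 𝒴 : Over j₁ ⥤ Scheme.{u} := Over.forget j₁ ⋙ E
  let cY : Cone 𝒴 := e.whisker (Over.forget j₁)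
  have hcY : IsLimit cY := (Functor.Initial.isLimitWhiskerEquiv (Over.forget j₁) e).symm he
  haveI : CompactSpace (E.obj j₁) := QuasiCompact.compactSpace_of_compactSpace (E.map ψ₁)
  haveI : ∀ k : Over j₁, CompactSpace (𝒴.obj k) := fun k => by
    change CompactSpace (E.obj k.left)
    exact QuasiCompact.compactSpace_of_compactSpace (E.map k.hom)
  haveI : ∀ {k k' : Over j₁} (φ : k ⟶ k'), IsAffineHom (𝒴.map φ) := fun φ => by
    change IsAffineHom (E.map φ.left)
    infer_instance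
  have hU : cY.π.app (Over.mk (𝟙 j₁)) ⁻¹ᵁ U = ⊤ := by
    ext y
    simp only [Scheme.Hom.mem_preimage, TopologicalSpace.Opens.coe_top, Set.mem_univ, iff_true]
    change (pullback.fst (E.map ψ₁) a).finrank (e.π.app j₁ y) = d
    rw [← finrank_fst_fst (e.π.app j₁) (E.map ψ₁) a (e.π.app j₀) (e.w ψ₁) y]
    exact hrk y
  obtain ⟨k, φ, hk⟩ := exists_map_eq_top 𝒴 cY hcY (i := Over.mk (𝟙 j₁)) U hU
  refine ⟨k.left, k.hom ≫ ψ₁, ?_⟩
  have h1' : IsFinite (pullback.fst (E.map (k.hom ≫ ψ₁)) a) :=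
    fst_comp_of_fst' @IsFinite (E.map k.hom) (E.map ψ₁) a _ (E.map_comp _ _).symm h1
  have h2' : Flat (pullback.fst (E.map (k.hom ≫ ψ₁)) a) :=
    fst_comp_of_fst' @Flat (E.map k.hom) (E.map ψ₁) a _ (E.map_comp _ _).symm h2
  refine ⟨⟨h1', h2', hlfp _⟩, fun y => ?_⟩
  rw [finrank_fst_fst (E.map k.hom) (E.map ψ₁) a _ (E.map_comp _ _).symm y]
  have hy : (𝒴.map φ) y ∈ U := by
    have : y ∈ 𝒴.map φ ⁻¹ᵁ U := by rw [hk]; trivial
    exact this
  have hφ : 𝒴.map φ = E.map k.hom := by
    change E.map φ.left = E.map k.hom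
    congr 1
    simpa using Over.w φ
  rw [hφ] at hy
  exact hy

/-- The property "finite locally free of degree `d`" as a morphism property. -/
def finLocFreeOfDeg (d : ℕ) : MorphismProperty Scheme.{u} := fun _ _ f => Mor2.IsFinLocFreeOfDeg d f

instance respectsIso_finLocFreeOfDeg (d : ℕ) : (finLocFreeOfDeg.{u} d).RespectsIso := by
  apply MorphismProperty.RespectsIso.mk
  · intro X Y Z e f ⟨⟨h1, h2, h3⟩, h4⟩
    haveI := h1
    haveI := h2
    haveI := h3
    refine ⟨⟨inferInstance, inferInstance, inferInstance⟩, fun y => ?_⟩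
    rw [Scheme.Hom.finrank_comp_left_of_isIso]
    exact h4 y
  · intro X Y Z e f ⟨⟨h1, h2, h3⟩, h4⟩
    haveI := h1
    haveI := h2
    haveI := h3
    refine ⟨⟨inferInstance, inferInstance, inferInstance⟩, fun z => ?_⟩
    have hpb : IsPullback (𝟙 X) (f ≫ e.hom) f e.inv :=
      IsPullback.of_horiz_isIso ⟨by simp⟩
    rw [Scheme.Hom.finrank_of_isPullback _ _ _ _ hpb z]
    exact h4 _

end general

end Groth.Agent.Lib.Helper13.LimDescend
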