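import Groth.Agent.Lib.Helper13.LimDescendClosedImm

/-! Descent of finite morphisms along cofiltered limits with affine transition maps. -/

set_option autoImplicit false
universe u v

open CategoryTheory CategoryTheory.Limits AlgebraicGeometry Polynomial

namespace Groth.Agent.Lib.Helper13.LimDescend

open Groth.Agent.Lib.Helper22

section appTop

theorem appTop_hom_comp {X Y Z : Scheme.{u}} (f : X ⟶ Y) (g : Y ⟶ Z) :
    f.appTop.hom.comp g.appTop.hom = (f ≫ g).appTop.hom := by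
  ext x; exact appTop_comp_apply f g x

theorem appTop_eval₂ {P Q A A' B : Scheme.{u}} (π : P ⟶ Q) (f₁ : Q ⟶ A)
    (s₁ : Q ⟶ B) (F : P ⟶ A') (t : A' ⟶ A) (S : P ⟶ B) (h1 : π ≫ f₁ = F ≫ t) (h2 : π ≫ s₁ = S)
    (b : Γ(B, ⊤)) (q : Γ(A, ⊤)[X]) :
    π.appTop.hom (eval₂ f₁.appTop.hom (s₁.appTop.hom b) q) =
      eval₂ F.appTop.hom (S.appTop.hom b) (q.map t.appTop.hom) := by
  rw [Polynomial.hom_eval₂, Polynomial.eval₂_map, appTop_hom_comp, appTop_hom_comp, h1,
    appTop_comp_apply, h2]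

end appTop

section affinecase

variable {J : Type u} [SmallCategory J] [IsCofiltered J] (E : J ⥤ Scheme.{u}) (e : Cone E)
  (he : IsLimit e)

include he in
/-- Finite families of global sections of the limit lift to a common stage. -/
theorem exists_lift_family [∀ (i j : J) (f : i ⟶ j), IsAffineHom (E.map f)] (j₀ : J)
    [IsAffine (E.obj j₀)] {ι : Type} [Finite ι] (c : ι → Γ(e.pt, ⊤)) :
    ∃ (k : Over j₀) (r : ι → Γ(E.obj k.left, ⊤)),
      ∀ i, (e.π.app k.left).appTop.hom (r i) = c i := by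
  classical
  haveI := Fintype.ofFinite ι
  haveI : ∀ {i j : J} (f : i ⟶ j), IsAffineHom (E.map f) := fun f => inferInstance
  let 𝒴 : Over j₀ ⥤ Scheme.{u} := Over.forget j₀ ⋙ E
  let cY : Cone 𝒴 := e.whisker (Over.forget j₀)
  have hcY : IsLimit cY := (Functor.Initial.isLimitWhiskerEquiv (Over.forget j₀) e).symm he
  haveI : ∀ k : Over j₀, IsAffine (𝒴.obj k) := fun k => by
    change IsAffine (E.obj k.left)
    exact isAffine_of_isAffineHom (E.map k.hom)
  have H : ∀ i, ∃ (k : Over j₀) (t : Γ(E.obj k.left, ⊤)), (e.π.app k.left).appTop.hom t = c i :=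
    fun i => exists_appTop_π_eq_of_isAffine_of_isLimit 𝒴 cY hcY (c i)
  choose ki ti hti using H
  obtain ⟨k, hk⟩ := IsCofiltered.inf_objs_exists (Finset.univ.image ki)
  have φ : ∀ i, k ⟶ ki i := fun i => (hk (Finset.mem_image_of_mem ki (Finset.mem_univ i))).some
  refine ⟨k, fun i => (E.map (φ i).left).appTop.hom (ti i), fun i => ?_⟩
  rw [appTop_comp_apply, appTop_congr (e.w (φ i).left), hti]

include he in
/-- One section: if `R∞ → B∞` is integral, the pullback of a section `b` of `X₀` to some stage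
is integral over the base. -/
theorem exists_isIntegralElem_stage [∀ (i j : J) (f : i ⟶ j), IsAffineHom (E.map f)] (j₀ : J)
    [IsAffine (E.obj j₀)] {X₀ : Scheme.{u}} [IsAffine X₀] (a : X₀ ⟶ E.obj j₀)
    (hint : (pullback.fst (e.π.app j₀) a).appTop.hom.IsIntegral) (b : Γ(X₀, ⊤)) :
    ∃ k : Over j₀, (pullback.fst (E.map k.hom) a).appTop.hom.IsIntegralElem
      ((pullback.snd (E.map k.hom) a).appTop.hom b) := by
  haveI : ∀ {i j : J} (f : i ⟶ j), IsAffineHom (E.map f) := fun f => inferInstance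
  haveI : ∀ k : Over j₀, IsAffine ((bcDiag E j₀ a).obj k) := fun k => by
    change IsAffine (pullback (E.map k.hom) a)
    haveI : IsAffine (E.obj k.left) := isAffine_of_isAffineHom (E.map k.hom)
    infer_instance
  obtain ⟨p, hpm, hp0⟩ := hint ((pullback.snd (e.π.app j₀) a).appTop.hom b)
  obtain ⟨k₁, r, hr⟩ := exists_lift_family E e he j₀ (fun i : Fin p.natDegree => p.coeff i)
  let q : Γ(E.obj k₁.left, ⊤)[X] := X ^ p.natDegree + ∑ i : Fin p.natDegree, C (r i) * X ^ (i : ℕ)
  have hqm : q.Monic := monic_X_pow_add (degree_sum_fin_lt r)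
  have hqp : q.map (e.π.app k₁.left).appTop.hom = p := by
    conv_rhs => rw [hpm.as_sum, ← Fin.sum_univ_eq_sum_range (fun i => C (p.coeff i) * X ^ i)]
    simp only [q, Polynomial.map_add, Polynomial.map_pow, Polynomial.map_X, Polynomial.map_sum,
      Polynomial.map_mul, Polynomial.map_C, hr]
  let fst₁ : (bcDiag E j₀ a).obj k₁ ⟶ E.obj k₁.left := pullback.fst (E.map k₁.hom) a
  let snd₁ : (bcDiag E j₀ a).obj k₁ ⟶ X₀ := pullback.snd (E.map k₁.hom) a
  let y : Γ((bcDiag E j₀ a).obj k₁, ⊤) := eval₂ fst₁.appTop.hom (snd₁.appTop.hom b) q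
  have hy : ((bcCone E e j₀ a).π.app k₁).appTop.hom y = 0 := by
    have h0 := appTop_eval₂ ((bcCone E e j₀ a).π.app k₁) fst₁ snd₁
      (pullback.fst (e.π.app j₀) a) (e.π.app k₁.left) (pullback.snd (e.π.app j₀) a)
      (bcCone_π_fst E e j₀ a k₁) (bcCone_π_snd E e j₀ a k₁) b q
    rw [hqp] at h0
    exact h0.trans hp0
  obtain ⟨k₂, φ, hφ⟩ := exists_appTop_map_eq_zero_of_isAffine_of_isLimit (bcDiag E j₀ a)
    (bcCone E e j₀ a) (bcIsLimit E he j₀ a) k₁ y hy
  replace hφ : ((bcDiag E j₀ a).map φ).appTop.hom y = 0 := hφ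
  refine ⟨k₂, q.map (E.map φ.left).appTop.hom, hqm.map _, ?_⟩
  have h0 := appTop_eval₂ ((bcDiag E j₀ a).map φ) fst₁ snd₁
    (pullback.fst (E.map k₂.hom) a) (E.map φ.left) (pullback.snd (E.map k₂.hom) a)
    (bcDiag_map_fst E j₀ a φ) (bcDiag_map_snd E j₀ a φ) b q
  exact h0.symm.trans hφ

include he in
/-- Descent of finite morphisms, affine case. -/
theorem core_isFinite_affine [∀ (i j : J) (f : i ⟶ j), IsAffineHom (E.map f)] (j₀ : J)
    [IsAffine (E.obj j₀)] {X₀ : Scheme.{u}} [IsAffine X₀] (a : X₀ ⟶ E.obj j₀)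
    [LocallyOfFiniteType a] (h : IsFinite (pullback.fst (e.π.app j₀) a)) :
    ∃ (j : J) (ψ : j ⟶ j₀), IsFinite (pullback.fst (E.map ψ) a) := by
  classical
  haveI : ∀ {i j : J} (f : i ⟶ j), IsAffineHom (E.map f) := fun f => inferInstance
  haveI hπ : IsAffineHom (e.π.app j₀) := isAffineHom_π_app E e he j₀
  haveI hept : IsAffine e.pt := isAffine_of_isAffineHom (e.π.app j₀)
  haveI : IsAffine (((Functor.const J).obj e.pt).obj j₀) := hept
  haveI : IsAffine (pullback (e.π.app j₀) a) := inferInstance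
  have hint : (pullback.fst (e.π.app j₀) a).appTop.hom.IsIntegral :=
    ((HasAffineProperty.iff_of_isAffine (P := @IsFinite)).mp h).2.to_isIntegral
  have hft : RingHom.FiniteType a.appTop.hom :=
    (HasRingHomProperty.iff_of_isAffine (P := @LocallyOfFiniteType)).mp inferInstance
  algebraize [a.appTop.hom]
  obtain ⟨s, hs'⟩ := (Algebra.FiniteType.out : (⊤ : Subalgebra Γ(E.obj j₀, ⊤) Γ(X₀, ⊤)).FG)
  choose kb hkb using fun b : Γ(X₀, ⊤) => exists_isIntegralElem_stage E e he j₀ a hint b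
  obtain ⟨k, hk⟩ := IsCofiltered.inf_objs_exists (s.image kb)
  haveI : IsAffine (E.obj k.left) := isAffine_of_isAffineHom (E.map k.hom)
  have hmem : ∀ b ∈ s, (pullback.fst (E.map k.hom) a).appTop.hom.IsIntegralElem
      ((pullback.snd (E.map k.hom) a).appTop.hom b) := by
    intro b hb
    obtain ⟨φ⟩ := hk (Finset.mem_image_of_mem kb hb)
    obtain ⟨q, hqm, hq0⟩ := hkb b
    refine ⟨q.map (E.map φ.left).appTop.hom, hqm.map _, ?_⟩
    have h0 := appTop_eval₂ ((bcDiag E j₀ a).map φ) (pullback.fst (E.map (kb b).hom) a)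
      (pullback.snd (E.map (kb b).hom) a) (pullback.fst (E.map k.hom) a) (E.map φ.left)
      (pullback.snd (E.map k.hom) a) (bcDiag_map_fst E j₀ a φ) (bcDiag_map_snd E j₀ a φ) b q
    exact h0.symm.trans ((congrArg ((bcDiag E j₀ a).map φ).appTop.hom hq0).trans (map_zero _))
  have hall : ∀ x : Γ(X₀, ⊤), (pullback.fst (E.map k.hom) a).appTop.hom.IsIntegralElem
      ((pullback.snd (E.map k.hom) a).appTop.hom x) := by
    intro x
    have hx : x ∈ Algebra.adjoin Γ(E.obj j₀, ⊤) (s : Set Γ(X₀, ⊤)) := by rw [hs']; trivial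
    induction hx using Algebra.adjoin_induction with
    | mem x hx => exact hmem x hx
    | algebraMap r =>
      have : (pullback.snd (E.map k.hom) a).appTop.hom (algebraMap Γ(E.obj j₀, ⊤) Γ(X₀, ⊤) r) =
          (pullback.fst (E.map k.hom) a).appTop.hom ((E.map k.hom).appTop.hom r) := by
        change (pullback.snd (E.map k.hom) a).appTop.hom (a.appTop.hom r) = _
        rw [appTop_comp_apply, appTop_comp_apply, pullback.condition]
      rw [this]
      exact RingHom.isIntegralElem_map _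
    | add x y _ _ hx hy => rw [map_add]; exact RingHom.IsIntegralElem.add _ hx hy
    | mul x y _ _ hx hy => rw [map_mul]; exact RingHom.IsIntegralElem.mul _ hx hy
  have hpush := isPushout_appTop_of_isPullback (IsPullback.of_hasPullback (E.map k.hom) a)
  have hcl := CommRingCat.closure_range_union_range_eq_top_of_isPushout hpush
  have hint_k : (pullback.fst (E.map k.hom) a).appTop.hom.IsIntegral := by
    intro x
    have hx : x ∈ Subring.closure (Set.range (pullback.fst (E.map k.hom) a).appTop ∪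
        Set.range (pullback.snd (E.map k.hom) a).appTop) := by rw [hcl]; trivial
    refine IsIntegral.of_mem_closure'' _ ?_ x hx
    rintro y (⟨r, rfl⟩ | ⟨b, rfl⟩)
    · exact RingHom.isIntegralElem_map _
    · exact hall b
  haveI : LocallyOfFiniteType (pullback.fst (E.map k.hom) a) :=
    MorphismProperty.pullback_fst (P := @LocallyOfFiniteType) _ _ inferInstance
  have hft_k : RingHom.FiniteType (pullback.fst (E.map k.hom) a).appTop.hom :=
    (HasRingHomProperty.iff_of_isAffine (P := @LocallyOfFiniteType)).mp inferInstance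
  exact ⟨k.left, k.hom, (HasAffineProperty.iff_of_isAffine (P := @IsFinite)).mpr
    ⟨inferInstance, hint_k.to_finite hft_k⟩⟩

end affinecase

section general

variable {J : Type u} [SmallCategory J] [IsCofiltered J] (E : J ⥤ Scheme.{u}) (e : Cone E)
  (he : IsLimit e)

include he in
/-- Descent of finite morphisms for an affine morphism `a` into a quasi-compact stage. -/
theorem core_isFinite_of_isAffineHom [∀ (i j : J) (f : i ⟶ j), IsAffineHom (E.map f)]
    (j₀ : J) [CompactSpace (E.obj j₀)] {X₀ : Scheme.{u}} (a : X₀ ⟶ E.obj j₀) [IsAffineHom a]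
    [LocallyOfFiniteType a] (h : IsFinite (pullback.fst (e.π.app j₀) a)) :
    ∃ (j : J) (ψ : j ⟶ j₀), IsFinite (pullback.fst (E.map ψ) a) := by
  let 𝒰 := (E.obj j₀).affineCover.finiteSubcover
  haveI : ∀ t, IsAffine (𝒰.X t) := fun t => by
    change IsAffine ((E.obj j₀).affineCover.X _)
    infer_instance
  suffices H : ∀ t, ∃ m : Over j₀, IsFinite
      (pullback.fst (pullback.fst (E.map m.hom) (𝒰.f t) ≫ E.map m.hom) a) by
    obtain ⟨m, hm⟩ := exists_of_openCover E @IsFinite j₀ a 𝒰 H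
    exact ⟨m.left, m.hom, hm⟩
  intro t
  refine piece_of_core E e @IsFinite j₀ a (𝒰.f t) h ?_
  intro h'
  haveI : ∀ (k k' : Over j₀) (φ : k ⟶ k'), IsAffineHom ((bcDiag E j₀ (𝒰.f t)).map φ) :=
    fun _ _ φ => inferInstance
  haveI : IsAffine ((bcDiag E j₀ (𝒰.f t)).obj (top j₀)) := isAffine_bcDiag_top E j₀ (𝒰.f t)
  let a' : pullback (pullback.snd (E.map (top j₀).hom) (𝒰.f t) ≫ 𝒰.f t) a ⟶
      (bcDiag E j₀ (𝒰.f t)).obj (top j₀) :=
    pullback.fst (pullback.snd (E.map (top j₀).hom) (𝒰.f t) ≫ 𝒰.f t) a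
  haveI : IsAffineHom a' := MorphismProperty.pullback_fst (P := @IsAffineHom) _ _ inferInstance
  haveI : LocallyOfFiniteType a' :=
    MorphismProperty.pullback_fst (P := @LocallyOfFiniteType) _ _ inferInstance
  haveI : IsAffine (pullback (pullback.snd (E.map (top j₀).hom) (𝒰.f t) ≫ 𝒰.f t) a) :=
    isAffine_of_isAffineHom a'
  exact core_isFinite_affine (bcDiag E j₀ (𝒰.f t)) (bcCone E e j₀ (𝒰.f t))
    (bcIsLimit E he j₀ (𝒰.f t)) (top j₀) a' h'

include he in
/-- Core descent statement for finite morphisms. -/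
theorem core_isFinite [∀ (i j : J) (f : i ⟶ j), IsAffineHom (E.map f)] (j₀ : J)
    [CompactSpace (E.obj j₀)] [QuasiSeparatedSpace (E.obj j₀)]
    {X₀ : Scheme.{u}} [CompactSpace X₀] [QuasiSeparatedSpace X₀] (a : X₀ ⟶ E.obj j₀)
    [LocallyOfFiniteType a] (h : IsFinite (pullback.fst (e.π.app j₀) a)) :
    ∃ (j : J) (ψ : j ⟶ j₀), IsFinite (pullback.fst (E.map ψ) a) := by
  obtain ⟨j₁, ψ₁, h₁⟩ := core_isAffineHom E e he j₀ a inferInstance
  let a₁ : pullback (E.map ψ₁) a ⟶ E.obj j₁ := pullback.fst (E.map ψ₁) a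
  haveI : IsAffineHom a₁ := h₁
  haveI : LocallyOfFiniteType a₁ :=
    MorphismProperty.pullback_fst (P := @LocallyOfFiniteType) _ _ inferInstance
  haveI : CompactSpace (E.obj j₁) := QuasiCompact.compactSpace_of_compactSpace (E.map ψ₁)
  have h' : IsFinite (pullback.fst (e.π.app j₁) a₁) :=
    (fst_fst_iff' @IsFinite (e.π.app j₁) (E.map ψ₁) a (e.π.app j₀) (e.w ψ₁)).mpr h
  obtain ⟨j, ψ, hj⟩ := core_isFinite_of_isAffineHom E e he j₁ a₁ h'
  exact ⟨j, ψ ≫ ψ₁, (fst_fst_iff' @IsFinite (E.map ψ) (E.map ψ₁) a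
    (E.map (ψ ≫ ψ₁)) (E.map_comp _ _).symm).mp hj⟩

end general

end Groth.Agent.Lib.Helper13.LimDescend
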