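import Groth.Agent.Lib.Helper13.LimDescendUnivInj
import Groth.Agent.Lib.Helper13.LimDescendAffine

/-! Abstract cartesian version of the descent of isomorphisms, via the Hom-descent lemmas. -/

set_option autoImplicit false
universe u

open CategoryTheory CategoryTheory.Limits AlgebraicGeometry

namespace Groth.Agent.Lib.Helper13.LimDescend

open Groth.Agent.Lib.Helper22

section aci

variable {K : Type u} [SmallCategory K] [IsCofiltered K]

/-- Abstract cartesian descent of isomorphisms: two cofiltered diagrams `𝒳`, `𝒴` with affine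
transition maps and a compatible family `τ k : 𝒳 k ⟶ 𝒴 k`, all of which are base changes of one
morphism `a₀ : X₀ ⟶ T` locally of finite presentation. If the induced map on limits is an
isomorphism then some `τ k` is an isomorphism. -/
theorem exists_isIso_of_cartesian
    (𝒳 𝒴 : K ⥤ Scheme.{u}) (cX : Cone 𝒳) (hcX : IsLimit cX) (cY : Cone 𝒴) (hcY : IsLimit cY)
    [∀ (i j : K) (f : i ⟶ j), IsAffineHom (𝒳.map f)]
    [∀ (i j : K) (f : i ⟶ j), IsAffineHom (𝒴.map f)]
    [∀ k, CompactSpace (𝒳.obj k)] [∀ k, CompactSpace (𝒴.obj k)]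
    [∀ k, QuasiSeparatedSpace (𝒴.obj k)]
    (τ : ∀ k, 𝒳.obj k ⟶ 𝒴.obj k)
    (hτ : ∀ (k' k : K) (φ : k' ⟶ k), 𝒳.map φ ≫ τ k = τ k' ≫ 𝒴.map φ)
    {X₀ T : Scheme.{u}} (a₀ : X₀ ⟶ T) [LocallyOfFinitePresentation a₀]
    (u : ∀ k, 𝒳.obj k ⟶ X₀) (hu : ∀ (k' k : K) (φ : k' ⟶ k), 𝒳.map φ ≫ u k = u k')
    (v : ∀ k, 𝒴.obj k ⟶ T) (hv : ∀ (k' k : K) (φ : k' ⟶ k), 𝒴.map φ ≫ v k = v k')
    (hsq : ∀ k, IsPullback (u k) (τ k) a₀ (v k))
    (f : cX.pt ⟶ cY.pt) [IsIso f] (hf : ∀ k, f ≫ cY.π.app k = cX.π.app k ≫ τ k) :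
    ∃ k : K, IsIso (τ k) := by
  haveI : ∀ {i j : K} (f : i ⟶ j), IsAffineHom (𝒳.map f) := fun f => inferInstance
  haveI : ∀ {i j : K} (f : i ⟶ j), IsAffineHom (𝒴.map f) := fun f => inferInstance
  obtain ⟨k₀⟩ := IsCofiltered.nonempty (C := K)
  let tY : 𝒴 ⟶ (Functor.const K).obj T :=
    { app := v, naturality := fun k' k φ => by simp [hv k' k φ] }
  let tX : 𝒳 ⟶ (Functor.const K).obj T :=
    { app := fun k => u k ≫ a₀, naturality := fun k' k φ => by
        simp [reassoc_of% (hu k' k φ)] }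
  let α : cY.pt ⟶ X₀ := inv f ≫ cX.π.app k₀ ≫ u k₀
  have hcone : ∀ k k' : K, cX.π.app k ≫ u k = cX.π.app k' ≫ u k' := by
    intro k k'
    rw [← cX.w (IsCofiltered.minToLeft k k'), Category.assoc, hu,
      ← cX.w (IsCofiltered.minToRight k k'), Category.assoc, hu]
  have hconeY : ∀ k k' : K, cY.π.app k ≫ v k = cY.π.app k' ≫ v k' := by
    intro k k'
    rw [← cY.w (IsCofiltered.minToLeft k k'), Category.assoc, hv,
      ← cY.w (IsCofiltered.minToRight k k'), Category.assoc, hv]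
  have hαk : ∀ k, f ≫ α = cX.π.app k ≫ u k := by
    intro k
    simp only [α, IsIso.hom_inv_id_assoc]
    exact hcone k₀ k
  have hα : ∀ k, α ≫ a₀ = cY.π.app k ≫ v k := by
    intro k
    rw [← cancel_epi f, reassoc_of% (hαk k), (hsq k).w, ← reassoc_of% (hf k)]
  have ha : cY.π ≫ tY = (Functor.const K).map (α ≫ a₀) := by
    ext k
    simp only [NatTrans.comp_app, Functor.const_obj_obj, Functor.const_map_app, tY]
    exact (hα k).symm
  obtain ⟨k, g, hg1, hg2⟩ :=
    Scheme.exists_π_app_comp_eq_of_locallyOfFinitePresentation 𝒴 tY a₀ cY hcY α ha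
  replace hg2 : g ≫ a₀ = v k := hg2
  have hab : cX.π.app k ≫ (τ k ≫ g) = cX.π.app k ≫ u k := by
    rw [← reassoc_of% (hf k), hg1, hαk k]
  obtain ⟨k', φ, hφ⟩ := Scheme.exists_hom_comp_eq_comp_of_locallyOfFiniteType 𝒳 tX a₀ cX hcX
    (τ k ≫ g) (u k) (by simp [tX, hg2, (hsq k).w]) (by simp [tX]) hab
  refine ⟨k', ?_⟩
  have hg' : (𝒴.map φ ≫ g) ≫ a₀ = v k' := by rw [Category.assoc, hg2, hv]
  have hτg' : τ k' ≫ 𝒴.map φ ≫ g = u k' := by
    rw [← reassoc_of% (hτ k' k φ), hφ, hu]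
  refine ⟨(hsq k').lift (𝒴.map φ ≫ g) (𝟙 _) (by rw [hg', Category.id_comp]), ?_,
    (hsq k').lift_snd _ _ _⟩
  apply (hsq k').hom_ext
  · rw [Category.assoc, (hsq k').lift_fst, hτg', Category.id_comp]
  · rw [Category.assoc, (hsq k').lift_snd, Category.comp_id, Category.id_comp]

end aci

section inst

variable {J : Type u} [SmallCategory J] (E : J ⥤ Scheme.{u}) (e : Cone E)

lemma bcDiag_map_diagMap (j₀ : J) {X₀ : Scheme.{u}} (a : X₀ ⟶ E.obj j₀) {k k' : Over j₀}
    (φ : k ⟶ k') :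
    (bcDiag E j₀ a).map φ ≫ diagMap (E.map k'.hom) a =
      diagMap (E.map k.hom) a ≫ (bcDiag E j₀ (pullback.snd a a ≫ a)).map φ := by
  apply pullback.hom_ext
  · erw [Category.assoc, Category.assoc]
    erw [diagMap_fst, bcDiag_map_fst, bcDiag_map_fst, diagMap_fst_assoc]
    try rfl
  · erw [Category.assoc, Category.assoc]
    erw [diagMap_snd, bcDiag_map_snd, diagMap_snd, reassoc_of% (bcDiag_map_snd E j₀ a φ)]
    try rfl

lemma bcCone_π_diagMap (j₀ : J) {X₀ : Scheme.{u}} (a : X₀ ⟶ E.obj j₀) (k : Over j₀) :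
    diagMap (e.π.app j₀) a ≫ (bcCone E e j₀ (pullback.snd a a ≫ a)).π.app k =
      (bcCone E e j₀ a).π.app k ≫ diagMap (E.map k.hom) a := by
  apply pullback.hom_ext
  · erw [Category.assoc, Category.assoc]
    erw [diagMap_fst, bcCone_π_fst, bcCone_π_fst, diagMap_fst_assoc]
    try rfl
  · erw [Category.assoc, Category.assoc]
    erw [diagMap_snd, bcCone_π_snd, diagMap_snd, reassoc_of% (bcCone_π_snd E e j₀ a k)]
    try rfl

lemma isIso_diagMap_iff {T Y Y₀ : Scheme.{u}} (p : Y ⟶ Y₀) (a : T ⟶ Y₀) :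
    IsIso (diagMap p a) ↔ Mono (pullback.fst p a) := by
  obtain ⟨θ, hθ⟩ := exists_iso_diagonal_pullback_fst p a
  have hθ' : diagMap p a ≫ θ.hom = pullback.diagonal (pullback.fst p a) := hθ
  constructor
  · intro h
    rw [← pullback.isIso_diagonal_iff, ← hθ']
    infer_instance
  · intro h
    have hd : IsIso (pullback.diagonal (pullback.fst p a)) :=
      (pullback.isIso_diagonal_iff _).mpr h
    have : diagMap p a = pullback.diagonal (pullback.fst p a) ≫ θ.inv := by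
      rw [← hθ', Category.assoc, Iso.hom_inv_id, Category.comp_id]
    rw [this]
    infer_instance

end inst

section cores

variable {J : Type u} [SmallCategory J] [IsCofiltered J] (E : J ⥤ Scheme.{u}) (e : Cone E)
  (he : IsLimit e)

include he in
theorem core_isIso [∀ (i j : J) (f : i ⟶ j), IsAffineHom (E.map f)] (j₀ : J)
    [CompactSpace (E.obj j₀)] [QuasiSeparatedSpace (E.obj j₀)]
    {X₀ : Scheme.{u}} [CompactSpace X₀] (a : X₀ ⟶ E.obj j₀) [LocallyOfFinitePresentation a]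
    (h : IsIso (pullback.fst (e.π.app j₀) a)) :
    ∃ (j : J) (ψ : j ⟶ j₀), IsIso (pullback.fst (E.map ψ) a) := by
  let 𝒴 : Over j₀ ⥤ Scheme.{u} := Over.forget j₀ ⋙ E
  let cY : Cone 𝒴 := e.whisker (Over.forget j₀)
  have hcY : IsLimit cY := (Functor.Initial.isLimitWhiskerEquiv (Over.forget j₀) e).symm he
  haveI : ∀ (i j : Over j₀) (f : i ⟶ j), IsAffineHom (𝒴.map f) := fun i j f => by
    change IsAffineHom (E.map f.left); infer_instance
  haveI : ∀ (i j : Over j₀) (f : i ⟶ j), IsAffineHom ((bcDiag E j₀ a).map f) :=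
    fun _ _ f => inferInstance
  haveI : ∀ k : Over j₀, CompactSpace (𝒴.obj k) := fun k => by
    change CompactSpace (E.obj k.left)
    exact QuasiCompact.compactSpace_of_compactSpace (E.map k.hom)
  haveI : ∀ k : Over j₀, QuasiSeparatedSpace (𝒴.obj k) := fun k => by
    change QuasiSeparatedSpace (E.obj k.left)
    exact quasiSeparatedSpace_of_quasiSeparated (E.map k.hom)
  let f' : (bcCone E e j₀ a).pt ⟶ cY.pt := pullback.fst (e.π.app j₀) a
  haveI : IsIso f' := h
  obtain ⟨k, hk⟩ := exists_isIso_of_cartesian (bcDiag E j₀ a) 𝒴 (bcCone E e j₀ a)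
    (bcIsLimit E he j₀ a) cY hcY (fun k => pullback.fst (E.map k.hom) a)
    (fun k' k φ => bcDiag_map_fst E j₀ a φ) a (fun k => pullback.snd (E.map k.hom) a)
    (fun k' k φ => bcDiag_map_snd E j₀ a φ) (fun k => E.map k.hom)
    (fun k' k φ => by change E.map φ.left ≫ E.map k.hom = E.map k'.hom
                      rw [← E.map_comp, Over.w φ])
    (fun k => (IsPullback.of_hasPullback (E.map k.hom) a).flip)
    f' (fun k => (bcCone_π_fst E e j₀ a k).symm)
  exact ⟨k.left, k.hom, hk⟩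

include he in
theorem core_mono [∀ (i j : J) (f : i ⟶ j), IsAffineHom (E.map f)] (j₀ : J)
    [CompactSpace (E.obj j₀)]
    {X₀ : Scheme.{u}} [CompactSpace X₀] [QuasiSeparatedSpace X₀] (a : X₀ ⟶ E.obj j₀)
    [LocallyOfFiniteType a] [QuasiCompact a] [QuasiSeparated a]
    (h : Mono (pullback.fst (e.π.app j₀) a)) :
    ∃ (j : J) (ψ : j ⟶ j₀), Mono (pullback.fst (E.map ψ) a) := by
  let w : pullback a a ⟶ E.obj j₀ := pullback.snd a a ≫ a
  haveI : CompactSpace ↑(pullback a a) :=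
    QuasiCompact.compactSpace_of_compactSpace (pullback.fst a a)
  haveI : QuasiSeparatedSpace ↑(pullback a a) :=
    quasiSeparatedSpace_of_quasiSeparated (pullback.fst a a)
  haveI : ∀ (k k' : Over j₀) (φ : k ⟶ k'), IsAffineHom ((bcDiag E j₀ w).map φ) :=
    fun _ _ φ => inferInstance
  haveI : ∀ (k k' : Over j₀) (φ : k ⟶ k'), IsAffineHom ((bcDiag E j₀ a).map φ) :=
    fun _ _ φ => inferInstance
  let f' : (bcCone E e j₀ a).pt ⟶ (bcCone E e j₀ w).pt := diagMap (e.π.app j₀) a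
  haveI : IsIso f' := (isIso_diagMap_iff _ _).mpr h
  obtain ⟨k, hk⟩ := exists_isIso_of_cartesian (bcDiag E j₀ a) (bcDiag E j₀ w) (bcCone E e j₀ a)
    (bcIsLimit E he j₀ a) (bcCone E e j₀ w) (bcIsLimit E he j₀ w)
    (fun k => diagMap (E.map k.hom) a)
    (fun k' k φ => bcDiag_map_diagMap E j₀ a φ) (pullback.diagonal a)
    (fun k => pullback.snd (E.map k.hom) a)
    (fun k' k φ => bcDiag_map_snd E j₀ a φ) (fun k => pullback.snd (E.map k.hom) w)
    (fun k' k φ => bcDiag_map_snd E j₀ w φ)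
    (fun k => (diagMap_isPullback (E.map k.hom) a).flip)
    f' (fun k => bcCone_π_diagMap E e j₀ a k)
  exact ⟨k.left, k.hom, (isIso_diagMap_iff _ _).mp hk⟩

end cores

end Groth.Agent.Lib.Helper13.LimDescend
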