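import Groth.Agent.Lib.Helper13.LimDescendOpenImm

/-! Reduction of descent statements along cofiltered limits to pieces of an open cover of the
fixed stage, for properties local on the target. -/

set_option autoImplicit false
universe u v

open CategoryTheory CategoryTheory.Limits AlgebraicGeometry

namespace Groth.Agent.Lib.Helper13.LimDescend

open Groth.Agent.Lib.Helper22

section general

variable {C : Type u} [Category.{v} C] [HasPullbacks C]

/-- Base change along a composite. -/
theorem fst_comp_of_fst (P : MorphismProperty C) [P.IsStableUnderBaseChange] {W Y Z X : C}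
    (f' : W ⟶ Y) (f : Y ⟶ Z) (g : X ⟶ Z) (h : P (pullback.fst f g)) :
    P (pullback.fst (f' ≫ f) g) := by
  rw [← fst_fst_iff P f' f g]
  exact P.pullback_fst _ _ h

theorem fst_comp_of_fst' (P : MorphismProperty C) [P.IsStableUnderBaseChange] {W Y Z X : C}
    (f' : W ⟶ Y) (f : Y ⟶ Z) (g : X ⟶ Z) (f'' : W ⟶ Z) (hf : f' ≫ f = f'')
    (h : P (pullback.fst f g)) :
    P (pullback.fst f'' g) := by
  subst hf
  exact fst_comp_of_fst P f' f g h

end general

section pieces

variable {J : Type u} [SmallCategory J] (E : J ⥤ Scheme.{u}) (e : Cone E)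

/-- Localization of a descent problem to a piece `w : W ⟶ E.obj j₀`: a core statement for the
base-changed diagram `bcDiag E j₀ w` gives the descent on the piece. -/
theorem piece_of_core (P : MorphismProperty Scheme.{u}) [P.IsStableUnderBaseChange]
    (j₀ : J) {X₀ : Scheme.{u}} (a : X₀ ⟶ E.obj j₀) {W : Scheme.{u}} (w : W ⟶ E.obj j₀)
    (h : P (pullback.fst (e.π.app j₀) a))
    (core : P (pullback.fst ((bcCone E e j₀ w).π.app (top j₀))
        (pullback.fst (pullback.snd (E.map (top j₀).hom) w ≫ w) a)) →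
      ∃ (m : Over j₀) (ψ : m ⟶ top j₀), P (pullback.fst ((bcDiag E j₀ w).map ψ)
        (pullback.fst (pullback.snd (E.map (top j₀).hom) w ≫ w) a))) :
    ∃ m : Over j₀, P (pullback.fst (pullback.fst (E.map m.hom) w ≫ E.map m.hom) a) := by
  have h1 : (bcCone E e j₀ w).π.app (top j₀) ≫ (pullback.snd (E.map (top j₀).hom) w ≫ w) =
      pullback.fst (e.π.app j₀) w ≫ e.π.app j₀ := by
    rw [← Category.assoc, bcCone_π_snd]
    exact pullback.condition.symm
  obtain ⟨m, ψ, hm⟩ := core ((fst_fst_iff' P _ _ a _ h1).mpr (fst_comp_of_fst P _ _ a h))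
  refine ⟨m, ?_⟩
  have h2 : (bcDiag E j₀ w).map ψ ≫ (pullback.snd (E.map (top j₀).hom) w ≫ w) =
      pullback.fst (E.map m.hom) w ≫ E.map m.hom := by
    rw [← Category.assoc, bcDiag_map_snd]
    exact pullback.condition.symm
  exact (fst_fst_iff' P _ _ a _ h2).mp hm

variable [IsCofiltered J]

/-- Gluing the pieces: for a property local on the target, descent on the pieces of a finite open
cover of the fixed stage gives the descent. -/
theorem exists_of_openCover (P : MorphismProperty Scheme.{u}) [IsZariskiLocalAtTarget P]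
    [P.IsStableUnderBaseChange] (j₀ : J) {X₀ : Scheme.{u}} (a : X₀ ⟶ E.obj j₀)
    (𝒰 : (E.obj j₀).OpenCover) [Finite 𝒰.I₀]
    (H : ∀ t, ∃ m : Over j₀,
      P (pullback.fst (pullback.fst (E.map m.hom) (𝒰.f t) ≫ E.map m.hom) a)) :
    ∃ m : Over j₀, P (pullback.fst (E.map m.hom) a) := by
  classical
  haveI := Fintype.ofFinite 𝒰.I₀
  choose mt hmt using H
  obtain ⟨m, hm⟩ := IsCofiltered.inf_objs_exists (Finset.univ.image mt)
  have ψ : ∀ t, m ⟶ mt t := fun t =>
    (hm (Finset.mem_image_of_mem mt (Finset.mem_univ t))).some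
  refine ⟨m, ?_⟩
  refine (IsZariskiLocalAtTarget.iff_of_openCover (P := P) (𝒰.pullback₁ (E.map m.hom))).mpr ?_
  intro (t : 𝒰.I₀)
  have key : P (pullback.snd (pullback.fst (E.map m.hom) a)
      (pullback.fst (E.map m.hom) (𝒰.f t))) := by
    rw [← pullbackSymmetry_hom_comp_fst, P.cancel_left_of_respectsIso, fst_fst_iff P]
    have h3 : (bcDiag E j₀ (𝒰.f t)).map (ψ t) ≫
        (pullback.fst (E.map (mt t).hom) (𝒰.f t) ≫ E.map (mt t).hom) =
        pullback.fst (E.map m.hom) (𝒰.f t) ≫ E.map m.hom := by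
      have h4 := bcDiag_map_fst E j₀ (𝒰.f t) (ψ t)
      have h5 : E.map (ψ t).left ≫ E.map (mt t).hom = E.map m.hom := by
        rw [← E.map_comp, Over.w]
      calc (bcDiag E j₀ (𝒰.f t)).map (ψ t) ≫
            (pullback.fst (E.map (mt t).hom) (𝒰.f t) ≫ E.map (mt t).hom)
          = ((bcDiag E j₀ (𝒰.f t)).map (ψ t) ≫ pullback.fst (E.map (mt t).hom) (𝒰.f t)) ≫
              E.map (mt t).hom := (Category.assoc _ _ _).symm
        _ = (pullback.fst (E.map m.hom) (𝒰.f t) ≫ E.map (ψ t).left) ≫ E.map (mt t).hom :=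
            congrArg (fun z => z ≫ E.map (mt t).hom) h4
        _ = pullback.fst (E.map m.hom) (𝒰.f t) ≫ (E.map (ψ t).left ≫ E.map (mt t).hom) :=
            Category.assoc _ _ _
        _ = pullback.fst (E.map m.hom) (𝒰.f t) ≫ E.map m.hom := by rw [h5]
    exact fst_comp_of_fst' P _ _ a _ h3 (hmt t)
  exact key

end pieces

end Groth.Agent.Lib.Helper13.LimDescend
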