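import Groth.Agent.Lib.Helper13.LimDescendSrcLocal

/-! Descent along cofiltered limits of "`P` holds on a neighbourhood of a point", for properties
local on the source. -/

set_option autoImplicit false
universe u v

open CategoryTheory CategoryTheory.Limits AlgebraicGeometry

namespace Groth.Agent.Lib.Helper13.LimDescend

open Groth.Agent.Lib.Helper22

section general

variable {C : Type u} [Category.{v} C] [HasPullbacks C]

/-- Changing the right leg of a pullback along `u`. -/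
noncomputable def liftRight {V Y X U : C} (v : V ⟶ Y) (a : X ⟶ Y) (u : U ⟶ X) :
    pullback v (u ≫ a) ⟶ pullback v a :=
  pullback.lift (pullback.fst v (u ≫ a)) (pullback.snd v (u ≫ a) ≫ u)
    (by rw [Category.assoc]; exact pullback.condition)

@[reassoc]
theorem liftRight_fst {V Y X U : C} (v : V ⟶ Y) (a : X ⟶ Y) (u : U ⟶ X) :
    liftRight v a u ≫ pullback.fst v a = pullback.fst v (u ≫ a) := pullback.lift_fst _ _ _

@[reassoc]
theorem liftRight_snd {V Y X U : C} (v : V ⟶ Y) (a : X ⟶ Y) (u : U ⟶ X) :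
    liftRight v a u ≫ pullback.snd v a = pullback.snd v (u ≫ a) ≫ u := pullback.lift_snd _ _ _

theorem isPullback_liftRight {V Y X U : C} (v : V ⟶ Y) (a : X ⟶ Y) (u : U ⟶ X) :
    IsPullback (liftRight v a u) (pullback.snd v (u ≫ a)) (pullback.snd v a) u := by
  refine IsPullback.of_right ?_ (liftRight_snd v a u) (IsPullback.of_hasPullback v a)
  rw [liftRight_fst]
  exact IsPullback.of_hasPullback v (u ≫ a)

/-- Changing the left leg of a pullback along `v'`. -/
noncomputable def liftLeft {W V Y X : C} (v' : W ⟶ V) (v : V ⟶ Y) (a : X ⟶ Y) (v'' : W ⟶ Y)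
    (h : v' ≫ v = v'') : pullback v'' a ⟶ pullback v a :=
  pullback.lift (pullback.fst v'' a ≫ v') (pullback.snd v'' a)
    (by rw [Category.assoc, h]; exact pullback.condition)

@[reassoc]
theorem liftLeft_fst {W V Y X : C} (v' : W ⟶ V) (v : V ⟶ Y) (a : X ⟶ Y) (v'' : W ⟶ Y)
    (h : v' ≫ v = v'') :
    liftLeft v' v a v'' h ≫ pullback.fst v a = pullback.fst v'' a ≫ v' := pullback.lift_fst _ _ _

@[reassoc]
theorem liftLeft_snd {W V Y X : C} (v' : W ⟶ V) (v : V ⟶ Y) (a : X ⟶ Y) (v'' : W ⟶ Y)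
    (h : v' ≫ v = v'') :
    liftLeft v' v a v'' h ≫ pullback.snd v a = pullback.snd v'' a := pullback.lift_snd _ _ _

theorem isPullback_liftLeft {W V Y X : C} (v' : W ⟶ V) (v : V ⟶ Y) (a : X ⟶ Y) (v'' : W ⟶ Y)
    (h : v' ≫ v = v'') :
    IsPullback (pullback.fst v'' a) (liftLeft v' v a v'' h) v' (pullback.fst v a) := by
  subst h
  refine (IsPullback.of_right ?_ (liftLeft_fst v' v a _ rfl)
    (IsPullback.of_hasPullback v a).flip).flip
  rw [liftLeft_snd]
  exact (IsPullback.of_hasPullback (v' ≫ v) a).flip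

end general

instance {V Y X U : Scheme.{u}} (v : V ⟶ Y) (a : X ⟶ Y) (u : U ⟶ X) [IsOpenImmersion u] :
    IsOpenImmersion (liftRight v a u) :=
  MorphismProperty.of_isPullback (P := @IsOpenImmersion) (isPullback_liftRight v a u).flip
    inferInstance

section main

variable {J : Type u} [SmallCategory J] [IsCofiltered J] (E : J ⥤ Scheme.{u}) (e : Cone E)
  (he : IsLimit e)

/-- The canonical map from the base change to the limit to the base change to a stage. -/
noncomputable def toStage (j₀ : J) {X₀ : Scheme.{u}} (a : X₀ ⟶ E.obj j₀) {j : J} (ψ : j ⟶ j₀) :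
    pullback (e.π.app j₀) a ⟶ pullback (E.map ψ) a :=
  liftLeft (e.π.app j) (E.map ψ) a (e.π.app j₀) (e.w ψ)

@[reassoc]
theorem toStage_fst (j₀ : J) {X₀ : Scheme.{u}} (a : X₀ ⟶ E.obj j₀) {j : J} (ψ : j ⟶ j₀) :
    toStage E e j₀ a ψ ≫ pullback.fst (E.map ψ) a = pullback.fst (e.π.app j₀) a ≫ e.π.app j :=
  liftLeft_fst _ _ _ _ _

@[reassoc]
theorem toStage_snd (j₀ : J) {X₀ : Scheme.{u}} (a : X₀ ⟶ E.obj j₀) {j : J} (ψ : j ⟶ j₀) :
    toStage E e j₀ a ψ ≫ pullback.snd (E.map ψ) a = pullback.snd (e.π.app j₀) a :=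
  liftLeft_snd _ _ _ _ _

theorem core_nhd_aux (P : MorphismProperty Scheme.{u}) [P.IsStableUnderBaseChange]
    [IsZariskiLocalAtSource P]
    (hcore : ∀ (j₁ : J) {X₁ : Scheme.{u}} [CompactSpace X₁] (a₁ : X₁ ⟶ E.obj j₁)
      [LocallyOfFinitePresentation a₁], P (pullback.fst (e.π.app j₁) a₁) →
        ∃ (j : J) (ψ : j ⟶ j₁), P (pullback.fst (E.map ψ) a₁))
    (j₀ : J) {X₀ : Scheme.{u}} (a : X₀ ⟶ E.obj j₀) [LocallyOfFinitePresentation a]
    (U : (pullback (e.π.app j₀) a).Opens) (hP : P (U.ι ≫ pullback.fst (e.π.app j₀) a))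
    {U₀ : Scheme.{u}} (u : U₀ ⟶ X₀) [IsOpenImmersion u]
    (x' : ↥(pullback (e.π.app j₀) (u ≫ a))) {m : J} (μ : m ⟶ j₀)
    (πm : pullback (e.π.app j₀) (u ≫ a) ⟶ pullback (E.map μ) (u ≫ a))
    (hπ1 : πm ≫ pullback.fst (E.map μ) (u ≫ a) = pullback.fst (e.π.app j₀) (u ≫ a) ≫ e.π.app m)
    (hπ2 : πm ≫ pullback.snd (E.map μ) (u ≫ a) = pullback.snd (e.π.app j₀) (u ≫ a))
    (V : (pullback (E.map μ) (u ≫ a)).Opens) (hV : IsAffineOpen V)
    (hx'V : x' ∈ πm ⁻¹ᵁ V) (hVU : πm ⁻¹ᵁ V ≤ liftRight (e.π.app j₀) a u ⁻¹ᵁ U) :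
    ∃ (j : J) (ψ : j ⟶ j₀) (W : (pullback (E.map ψ) a).Opens),
      toStage E e j₀ a ψ (liftRight (e.π.app j₀) a u x') ∈ W ∧
        P (W.ι ≫ pullback.fst (E.map ψ) a) := by
  haveI : IsAffine V.toScheme := hV
  let θ := liftRight (e.π.app j₀) a u
  let a' : V.toScheme ⟶ E.obj m := V.ι ≫ pullback.fst (E.map μ) (u ≫ a)
  haveI : LocallyOfFinitePresentation (pullback.fst (E.map μ) (u ≫ a)) :=
    MorphismProperty.pullback_fst (P := @LocallyOfFinitePresentation) _ _ inferInstance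
  haveI : LocallyOfFinitePresentation a' := inferInstance
  have hsq : IsPullback (pullback.fst (e.π.app j₀) (u ≫ a)) πm (e.π.app m)
      (pullback.fst (E.map μ) (u ≫ a)) := by
    refine IsPullback.of_bot ?_ hπ1.symm (IsPullback.of_hasPullback (E.map μ) (u ≫ a))
    rw [hπ2, e.w μ]
    exact IsPullback.of_hasPullback _ _
  have hQ' : IsPullback ((πm ⁻¹ᵁ V).ι ≫ pullback.fst (e.π.app j₀) (u ≫ a)) (πm ∣_ V)
      (e.π.app m) a' := (isPullback_morphismRestrict πm V).flip.paste_horiz hsq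
  have hP' : P ((πm ⁻¹ᵁ V).ι ≫ pullback.fst (e.π.app j₀) (u ≫ a)) := by
    have e1 : (πm ⁻¹ᵁ V).ι ≫ pullback.fst (e.π.app j₀) (u ≫ a) =
        (Scheme.homOfLE _ hVU ≫ (θ ∣_ U)) ≫ (U.ι ≫ pullback.fst (e.π.app j₀) a) := by
      rw [Category.assoc, ← Category.assoc (θ ∣_ U), morphismRestrict_ι, Category.assoc,
        liftRight_fst, ← Category.assoc, Scheme.homOfLE_ι]
    rw [e1]
    exact IsZariskiLocalAtSource.comp hP _
  have hPQ : P (pullback.fst (e.π.app m) a') :=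
    (prop_iff_of_isPullback P (IsPullback.of_hasPullback (e.π.app m) a') hQ').mpr hP'
  obtain ⟨j', ψ', hj'⟩ := hcore m a' hPQ
  let κ := liftRight (E.map μ) a u
  let ρ := liftLeft (E.map ψ') (E.map μ) a (E.map (ψ' ≫ μ)) (E.map_comp ψ' μ).symm
  have hρ := isPullback_liftLeft (E.map ψ') (E.map μ) a (E.map (ψ' ≫ μ)) (E.map_comp ψ' μ).symm
  let o : pullback (E.map ψ') a' ⟶ pullback (E.map (ψ' ≫ μ)) a :=
    pullback.lift (pullback.fst (E.map ψ') a')
      (pullback.snd (E.map ψ') a' ≫ V.ι ≫ pullback.snd (E.map μ) (u ≫ a) ≫ u) (by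
        rw [E.map_comp, ← Category.assoc, pullback.condition]
        simp only [a', Category.assoc]
        rw [pullback.condition])
  have hcomm : o ≫ ρ = pullback.snd (E.map ψ') a' ≫ V.ι ≫ κ := by
    apply pullback.hom_ext
    · rw [Category.assoc, liftLeft_fst, ← Category.assoc, pullback.lift_fst, Category.assoc,
        Category.assoc, liftRight_fst, pullback.condition]
    · rw [Category.assoc, liftLeft_snd, pullback.lift_snd, Category.assoc, Category.assoc,
        liftRight_snd]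
  have ho : IsPullback o (pullback.snd (E.map ψ') a') ρ (V.ι ≫ κ) := by
    refine IsPullback.of_right ?_ hcomm hρ
    rw [pullback.lift_fst, Category.assoc, liftRight_fst]
    exact IsPullback.of_hasPullback (E.map ψ') a'
  haveI : IsOpenImmersion o :=
    MorphismProperty.of_isPullback (P := @IsOpenImmersion) ho.flip inferInstance
  refine ⟨j', ψ' ≫ μ, o.opensRange, ?_, ?_⟩
  · have hmor : θ ≫ toStage E e j₀ a (ψ' ≫ μ) ≫ ρ = πm ≫ κ := by
      apply pullback.hom_ext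
      · rw [Category.assoc, Category.assoc, liftLeft_fst, toStage_fst_assoc, liftRight_fst_assoc,
          Category.assoc, e.w ψ', liftRight_fst, hπ1]
      · rw [Category.assoc, Category.assoc, liftLeft_snd, toStage_snd, liftRight_snd,
          Category.assoc, liftRight_snd, ← Category.assoc, hπ2]
    have hpt : ρ (toStage E e j₀ a (ψ' ≫ μ) (θ x')) =
        (V.ι ≫ κ) (⟨πm x', hx'V⟩ : V.toScheme) := by
      have := congrArg (fun f => f x') hmor
      simpa using this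
    obtain ⟨y, hy, -⟩ := Scheme.exists_preimage_of_isPullback ho _ _ hpt
    exact ⟨y, hy⟩
  · rw [← o.isoOpensRange_inv_comp, Category.assoc, P.cancel_left_of_respectsIso,
      pullback.lift_fst]
    exact hj'

include he in
theorem core_nhd (P : MorphismProperty Scheme.{u}) [P.IsStableUnderBaseChange]
    [IsZariskiLocalAtSource P]
    (hcore : ∀ (j₁ : J) {X₁ : Scheme.{u}} [CompactSpace X₁] (a₁ : X₁ ⟶ E.obj j₁)
      [LocallyOfFinitePresentation a₁], P (pullback.fst (e.π.app j₁) a₁) →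
        ∃ (j : J) (ψ : j ⟶ j₁), P (pullback.fst (E.map ψ) a₁))
    [∀ (i j : J) (f : i ⟶ j), IsAffineHom (E.map f)] (j₀ : J) {X₀ : Scheme.{u}}
    (a : X₀ ⟶ E.obj j₀) [LocallyOfFinitePresentation a]
    (x : ↥(pullback (e.π.app j₀) a)) (U : (pullback (e.π.app j₀) a).Opens) (hxU : x ∈ U)
    (hP : P (U.ι ≫ pullback.fst (e.π.app j₀) a)) :
    ∃ (j : J) (ψ : j ⟶ j₀) (V : (pullback (E.map ψ) a).Opens),
      toStage E e j₀ a ψ x ∈ V ∧ P (V.ι ≫ pullback.fst (E.map ψ) a) := by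
  obtain ⟨_, ⟨(U₀ : X₀.Opens), hU₀, rfl⟩, hxU₀, -⟩ :=
    X₀.isBasis_affineOpens.exists_subset_of_mem_open
      (Set.mem_univ (pullback.snd (e.π.app j₀) a x)) isOpen_univ
  let u : U₀.toScheme ⟶ X₀ := U₀.ι
  have hθ := isPullback_liftRight (e.π.app j₀) a u
  obtain ⟨x', hx'1, -⟩ := Scheme.exists_preimage_of_isPullback hθ x
    (⟨pullback.snd (e.π.app j₀) a x, hxU₀⟩ : U₀.toScheme) rfl
  have hx'U : x' ∈ liftRight (e.π.app j₀) a u ⁻¹ᵁ U := by
    change liftRight (e.π.app j₀) a u x' ∈ U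
    rw [hx'1]; exact hxU
  obtain ⟨_, ⟨m, V, hV, rfl⟩, hx'V, hVU⟩ := TopologicalSpace.Opens.isBasis_iff_nbhd.mp
    (isBasis_preimage_isAffineOpen (bcDiag E j₀ (u ≫ a)) (bcCone E e j₀ (u ≫ a))
      (bcIsLimit E he j₀ (u ≫ a))) hx'U
  have := core_nhd_aux E e P hcore j₀ a U hP u x' m.hom ((bcCone E e j₀ (u ≫ a)).π.app m)
    (bcCone_π_fst E e j₀ (u ≫ a) m) (bcCone_π_snd E e j₀ (u ≫ a) m) V hV hx'V hVU
  rw [hx'1] at this
  exact this

end main

end Groth.Agent.Lib.Helper13.LimDescend
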