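import Groth.Agent.Lib.Helper13.LimDescendNhd
import Groth.Agent.Lib.Helper13.LimDescendCore

/-! The "neighbourhood of a point" form of descent statements, in terms of pullback squares. -/

set_option autoImplicit false
universe u

open CategoryTheory CategoryTheory.Limits AlgebraicGeometry

namespace Groth.Agent.Lib.Helper13.LimDescend

open Groth.Agent.Lib.Helper22

theorem comp_chain_aux {C : Type*} [Category C] {X Q Xs Ej Sj Yl cpt Y : C} (κ : X ⟶ Q)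
    (T : Q ⟶ Xs) (fs : Xs ⟶ Ej) (gj : Ej ⟶ Sj) (fQ : Q ⟶ Yl) (πj : Yl ⟶ Ej) (fstY : Yl ⟶ cpt)
    (cj : cpt ⟶ Sj) (f : X ⟶ Y) (ι : Y ⟶ Yl) (g : Y ⟶ cpt) (h6 : T ≫ fs = fQ ≫ πj)
    (h5 : πj ≫ gj = fstY ≫ cj) (hκ1 : κ ≫ fQ = f ≫ ι) (hι : ι ≫ fstY = g) :
    (κ ≫ T) ≫ fs ≫ gj = f ≫ g ≫ cj := by
  rw [Category.assoc, ← Category.assoc T, h6, Category.assoc, h5, ← Category.assoc, hκ1,
    Category.assoc, ← Category.assoc ι, hι]

variable {I : Type u} [SmallCategory I] [IsCofiltered I] (D : I ⥤ Scheme.{u}) (c : Cone D)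

/-- From a stage to the limit. -/
theorem nhd_ascend (P : MorphismProperty Scheme.{u}) [P.IsStableUnderBaseChange]
    {i₀ : I} {X₀ Y₀ : Scheme.{u}} {f₀ : X₀ ⟶ Y₀} {g₀ : Y₀ ⟶ D.obj i₀}
    {X Y : Scheme.{u}} {f : X ⟶ Y} {g : Y ⟶ c.pt} {qY : Y ⟶ Y₀} {qX : X ⟶ X₀}
    (hY : IsPullback qY g g₀ (c.π.app i₀)) (hX : IsPullback qX f f₀ qY) (x : X)
    {j : I} (φ : j ⟶ i₀) {Xj Yj : Scheme.{u}} {fj : Xj ⟶ Yj} {gj : Yj ⟶ D.obj j}
    {pY : Yj ⟶ Y₀} {pX : Xj ⟶ X₀} (rX : X ⟶ Xj) (h1 : IsPullback pY gj g₀ (D.map φ))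
    (h2 : IsPullback pX fj f₀ pY) (h3 : rX ≫ pX = qX) (h4 : rX ≫ fj ≫ gj = f ≫ g ≫ c.π.app j)
    (V : Xj.Opens) (hxV : rX x ∈ V) (hP : P (V.ι ≫ fj)) :
    ∃ U : X.Opens, x ∈ U ∧ P (U.ι ≫ f) := by
  let vY : Y ⟶ Yj := h1.lift qY (g ≫ c.π.app j) (by rw [Category.assoc, c.w φ, hY.w])
  have hvY : vY ≫ pY = qY := h1.lift_fst _ _ _
  have hvY' : vY ≫ gj = g ≫ c.π.app j := h1.lift_snd _ _ _
  have hcomm : rX ≫ fj = f ≫ vY := by
    apply h1.hom_ext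
    · rw [Category.assoc, ← h2.w, ← Category.assoc, h3, Category.assoc, hvY, hX.w]
    · rw [Category.assoc, h4, Category.assoc, hvY']
  have hbig : IsPullback (rX ≫ pX) f f₀ (vY ≫ pY) := by rw [h3, hvY]; exact hX
  have hsq : IsPullback rX f fj vY := IsPullback.of_right hbig hcomm h2
  refine ⟨rX ⁻¹ᵁ V, hxV, ?_⟩
  exact P.of_isPullback ((isPullback_morphismRestrict rX V).paste_vert hsq) hP

/-- From the limit to a stage, given the core statement for the base-changed diagram. -/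
theorem nhd_descend_of_core (P : MorphismProperty Scheme.{u}) [P.RespectsIso]
    (i₀ : I) {X₀ Y₀ : Scheme.{u}} (f₀ : X₀ ⟶ Y₀) (g₀ : Y₀ ⟶ D.obj i₀)
    (core : ∀ (a : X₀ ⟶ (bcDiag D i₀ g₀).obj (top i₀)),
      a ≫ pullback.snd (D.map (top i₀).hom) g₀ = f₀ →
      ∀ (x₁ : ↥(pullback ((bcCone D c i₀ g₀).π.app (top i₀)) a))
        (U₁ : (pullback ((bcCone D c i₀ g₀).π.app (top i₀)) a).Opens), x₁ ∈ U₁ →
        P (U₁.ι ≫ pullback.fst ((bcCone D c i₀ g₀).π.app (top i₀)) a) →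
        ∃ (j : Over i₀) (ψ : j ⟶ top i₀) (V : (pullback ((bcDiag D i₀ g₀).map ψ) a).Opens),
          toStage (bcDiag D i₀ g₀) (bcCone D c i₀ g₀) (top i₀) a ψ x₁ ∈ V ∧
            P (V.ι ≫ pullback.fst ((bcDiag D i₀ g₀).map ψ) a))
    {X Y : Scheme.{u}} (f : X ⟶ Y) (g : Y ⟶ c.pt) (qY : Y ⟶ Y₀) (qX : X ⟶ X₀)
    (hY : IsPullback qY g g₀ (c.π.app i₀)) (hX : IsPullback qX f f₀ qY) (x : X)
    (U : X.Opens) (hxU : x ∈ U) (hP : P (U.ι ≫ f)) :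
    ∃ (j : I) (φ : j ⟶ i₀) (Xj Yj : Scheme.{u}) (fj : Xj ⟶ Yj) (gj : Yj ⟶ D.obj j)
      (pY : Yj ⟶ Y₀) (pX : Xj ⟶ X₀) (rX : X ⟶ Xj), IsPullback pY gj g₀ (D.map φ) ∧
        IsPullback pX fj f₀ pY ∧ rX ≫ pX = qX ∧ rX ≫ fj ≫ gj = f ≫ g ≫ c.π.app j ∧
          ∃ V : Xj.Opens, rX x ∈ V ∧ P (V.ι ≫ fj) := by
  let σ : (bcDiag D i₀ g₀).obj (top i₀) ⟶ Y₀ := pullback.snd (D.map (top i₀).hom) g₀
  haveI hσiso : IsIso σ := isIso_snd_top D i₀ g₀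
  let a : X₀ ⟶ (bcDiag D i₀ g₀).obj (top i₀) := f₀ ≫ inv σ
  have haσ : a ≫ σ = f₀ := by simp [a]
  let ιY : Y ≅ pullback (c.π.app i₀) g₀ := hY.flip.isoPullback
  have hιY : ιY.hom ≫ pullback.snd (c.π.app i₀) g₀ = qY := hY.flip.isoPullback_hom_snd
  have hιY' : ιY.hom ≫ pullback.fst (c.π.app i₀) g₀ = g := hY.flip.isoPullback_hom_fst
  let π₀ : pullback (c.π.app i₀) g₀ ⟶ (bcDiag D i₀ g₀).obj (top i₀) :=
    (bcCone D c i₀ g₀).π.app (top i₀)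
  have hpi0 : π₀ ≫ σ = pullback.snd (c.π.app i₀) g₀ := bcCone_π_snd D c i₀ g₀ (top i₀)
  have pb1 : IsPullback qX (f ≫ ιY.hom) a π₀ := by
    refine IsPullback.of_iso hX (Iso.refl _) (Iso.refl _) ιY (asIso σ).symm (by simp) (by simp)
      (by simp [a]) ?_
    change qY ≫ inv σ = ιY.hom ≫ π₀
    rw [IsIso.comp_inv_eq, Category.assoc, hpi0, hιY]
  let κX : X ≅ pullback π₀ a := pb1.flip.isoPullback
  have hκ1 : κX.hom ≫ pullback.fst π₀ a = f ≫ ιY.hom := pb1.flip.isoPullback_hom_fst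
  have hκ2 : κX.hom ≫ pullback.snd π₀ a = qX := pb1.flip.isoPullback_hom_snd
  have hfst : pullback.fst π₀ a = κX.inv ≫ f ≫ ιY.hom := by
    rw [← hκ1, Iso.inv_hom_id_assoc]
  have hx₁ : κX.hom x ∈ κX.inv ⁻¹ᵁ U := by
    change κX.inv (κX.hom x) ∈ U
    have : κX.inv (κX.hom x) = x := by
      rw [← Scheme.Hom.comp_apply, Iso.hom_inv_id]; rfl
    rw [this]; exact hxU
  have hP₁ : P ((κX.inv ⁻¹ᵁ U).ι ≫ pullback.fst π₀ a) := by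
    have e1 : (κX.inv ⁻¹ᵁ U).ι ≫ pullback.fst π₀ a =
        (κX.inv ∣_ U) ≫ (U.ι ≫ f) ≫ ιY.hom := by
      rw [hfst, ← Category.assoc, ← morphismRestrict_ι, Category.assoc, Category.assoc]
    rw [e1, P.cancel_left_of_respectsIso, P.cancel_right_of_respectsIso]
    exact hP
  obtain ⟨j, ψ, V, hxV, hPV⟩ := core a haσ (κX.hom x) (κX.inv ⁻¹ᵁ U) hx₁ hP₁
  refine ⟨j.left, j.hom, pullback ((bcDiag D i₀ g₀).map ψ) a, (bcDiag D i₀ g₀).obj j,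
    pullback.fst ((bcDiag D i₀ g₀).map ψ) a, pullback.fst (D.map j.hom) g₀,
    pullback.snd (D.map j.hom) g₀, pullback.snd ((bcDiag D i₀ g₀).map ψ) a,
    κX.hom ≫ toStage (bcDiag D i₀ g₀) (bcCone D c i₀ g₀) (top i₀) a ψ, ?_, ?_, ?_, ?_,
    V, hxV, hPV⟩
  · exact (IsPullback.of_hasPullback (D.map j.hom) g₀).flip
  · refine IsPullback.of_iso (IsPullback.of_hasPullback ((bcDiag D i₀ g₀).map ψ) a).flip
      (Iso.refl _) (Iso.refl _) (Iso.refl _) (asIso σ) (by simp) (by simp) ?_ ?_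
    · simpa using haσ
    · simp only [asIso_hom, Iso.refl_hom, Category.id_comp]
      exact bcDiag_map_snd D i₀ g₀ ψ
  · exact (Category.assoc _ _ _).trans ((congrArg (fun z => κX.hom ≫ z)
      (toStage_snd (bcDiag D i₀ g₀) (bcCone D c i₀ g₀) (top i₀) a ψ)).trans hκ2)
  · have h5 : (bcCone D c i₀ g₀).π.app j ≫ pullback.fst (D.map j.hom) g₀ =
        pullback.fst (c.π.app i₀) g₀ ≫ c.π.app j.left := bcCone_π_fst D c i₀ g₀ j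
    have h6 : toStage (bcDiag D i₀ g₀) (bcCone D c i₀ g₀) (top i₀) a ψ ≫
        pullback.fst ((bcDiag D i₀ g₀).map ψ) a = pullback.fst π₀ a ≫ (bcCone D c i₀ g₀).π.app j :=
      toStage_fst (bcDiag D i₀ g₀) (bcCone D c i₀ g₀) (top i₀) a ψ
    exact comp_chain_aux _ _ _ _ _ _ _ _ _ _ _ h6 h5 hκ1 hιY'

end Groth.Agent.Lib.Helper13.LimDescend
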