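import Groth.Agent.Lib.Helper13.LimDescendIso

/-! Descent of open immersions along cofiltered limits with affine transition maps. -/

set_option autoImplicit false
universe u v

open CategoryTheory CategoryTheory.Limits AlgebraicGeometry

namespace Groth.Agent.Lib.Helper13.LimDescend

open Groth.Agent.Lib.Helper22

section rebase

variable {C : Type u} [Category.{v} C] [HasPullbacks C]

/-- Rebasing: the first projection of an iterated pullback. -/
theorem fst_fst_iff (P : MorphismProperty C) [P.RespectsIso] {W Y Z X : C} (f' : W ⟶ Y)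
    (f : Y ⟶ Z) (g : X ⟶ Z) :
    P (pullback.fst f' (pullback.fst f g)) ↔ P (pullback.fst (f' ≫ f) g) := by
  rw [← pullbackRightPullbackFstIso_hom_fst f g f', P.cancel_left_of_respectsIso]

theorem fst_fst_iff' (P : MorphismProperty C) [P.RespectsIso] {W Y Z X : C} (f' : W ⟶ Y)
    (f : Y ⟶ Z) (g : X ⟶ Z) (f'' : W ⟶ Z) (h : f' ≫ f = f'') :
    P (pullback.fst f' (pullback.fst f g)) ↔ P (pullback.fst f'' g) := by
  subst h
  exact fst_fst_iff P f' f g

end rebase

section cores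

variable {J : Type u} [SmallCategory J] [IsCofiltered J] (E : J ⥤ Scheme.{u}) (e : Cone E)
  (he : IsLimit e)

include he in
/-- Special case: `a` factors through a compact open `V` whose preimage in the limit is the
range of the base change. -/
theorem core_isOpenImmersion_aux [∀ (i j : J) (f : i ⟶ j), IsAffineHom (E.map f)] (j₀ : J)
    [QuasiSeparatedSpace (E.obj j₀)]
    {X₀ : Scheme.{u}} [CompactSpace X₀] (a : X₀ ⟶ E.obj j₀) [LocallyOfFinitePresentation a]
    (V : (E.obj j₀).Opens) (hVc : IsCompact (V : Set (E.obj j₀)))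
    (hV : Set.range a ⊆ V)
    (h : IsOpenImmersion (pullback.fst (e.π.app j₀) a))
    (hr : (e.π.app j₀) ⁻¹' (V : Set (E.obj j₀)) ⊆ Set.range (pullback.fst (e.π.app j₀) a)) :
    ∃ (j : J) (ψ : j ⟶ j₀), IsOpenImmersion (pullback.fst (E.map ψ) a) := by
  haveI : CompactSpace V := isCompact_iff_compactSpace.mp hVc
  haveI : QuasiSeparatedSpace V := quasiSeparatedSpace_of_quasiSeparated V.ι
  let a' : X₀ ⟶ V := IsOpenImmersion.lift V.ι a (by simpa using hV)
  have ha' : a' ≫ V.ι = a := IsOpenImmersion.lift_fac _ _ _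
  haveI : LocallyOfFinitePresentation (a' ≫ V.ι) := by rw [ha']; infer_instance
  haveI : LocallyOfFinitePresentation a' := locallyOfFinitePresentation_of_comp a' V.ι
  let τ : ∀ k : Over j₀, pullback (E.map k.hom) a ⟶ pullback (E.map k.hom) V.ι := fun k =>
    pullback.lift (pullback.fst (E.map k.hom) a) (pullback.snd (E.map k.hom) a ≫ a')
      (by rw [Category.assoc, ha', pullback.condition])
  have hτ1 : ∀ k, τ k ≫ pullback.fst (E.map k.hom) V.ι = pullback.fst (E.map k.hom) a :=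
    fun k => pullback.lift_fst _ _ _
  have hτ2 : ∀ k, τ k ≫ pullback.snd (E.map k.hom) V.ι = pullback.snd (E.map k.hom) a ≫ a' :=
    fun k => pullback.lift_snd _ _ _
  let f : pullback (e.π.app j₀) a ⟶ pullback (e.π.app j₀) V.ι :=
    pullback.lift (pullback.fst (e.π.app j₀) a) (pullback.snd (e.π.app j₀) a ≫ a')
      (by rw [Category.assoc, ha', pullback.condition])
  have hf1 : f ≫ pullback.fst (e.π.app j₀) V.ι = pullback.fst (e.π.app j₀) a :=
    pullback.lift_fst _ _ _
  have hf2 : f ≫ pullback.snd (e.π.app j₀) V.ι = pullback.snd (e.π.app j₀) a ≫ a' :=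
    pullback.lift_snd _ _ _
  haveI hι : IsOpenImmersion (pullback.fst (e.π.app j₀) V.ι) :=
    MorphismProperty.pullback_fst (P := @IsOpenImmersion) _ _ inferInstance
  haveI : IsOpenImmersion (f ≫ pullback.fst (e.π.app j₀) V.ι) := by rw [hf1]; exact h
  haveI hfo : IsOpenImmersion f := IsOpenImmersion.of_comp f (pullback.fst (e.π.app j₀) V.ι)
  have hfs : Surjective f := by
    constructor
    intro y
    have hy : pullback.fst (e.π.app j₀) V.ι y ∈ (e.π.app j₀) ⁻¹' (V : Set (E.obj j₀)) := by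
      change e.π.app j₀ (pullback.fst (e.π.app j₀) V.ι y) ∈ (V : Set (E.obj j₀))
      rw [← Scheme.Hom.comp_apply, pullback.condition, Scheme.Hom.comp_apply]
      exact (pullback.snd (e.π.app j₀) V.ι y).2
    obtain ⟨x, hx⟩ := hr hy
    refine ⟨x, ?_⟩
    apply (pullback.fst (e.π.app j₀) V.ι).isOpenEmbedding.injective
    have hx' : (f ≫ pullback.fst (e.π.app j₀) V.ι) x = pullback.fst (e.π.app j₀) a x := by
      rw [hf1]
    exact hx'.trans hx
  have hfi : IsIso f := (isIso_iff_isOpenImmersion_and_surjective f).mpr ⟨hfo, hfs⟩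
  let f' : (bcCone E e j₀ a).pt ⟶ (bcCone E e j₀ V.ι).pt := f
  haveI : IsIso f' := hfi
  have hτ : ∀ (k' k : Over j₀) (φ : k' ⟶ k),
      (bcDiag E j₀ a).map φ ≫ τ k = τ k' ≫ (bcDiag E j₀ V.ι).map φ := by
    intro k' k φ
    apply pullback.hom_ext
    · erw [Category.assoc, Category.assoc, hτ1, bcDiag_map_fst, bcDiag_map_fst,
        reassoc_of% (hτ1 k')]
      try rfl
    · erw [Category.assoc, Category.assoc, hτ2, bcDiag_map_snd,
        reassoc_of% (bcDiag_map_snd E j₀ a φ), hτ2]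
      try rfl
  have hsq : ∀ k : Over j₀, IsPullback (pullback.snd (E.map k.hom) a) (τ k) a'
      (pullback.snd (E.map k.hom) V.ι) := by
    intro k
    refine IsPullback.of_bot ?_ (hτ2 k).symm (IsPullback.of_hasPullback (E.map k.hom) V.ι).flip
    rw [hτ1, ha']
    exact (IsPullback.of_hasPullback (E.map k.hom) a).flip
  have hf : ∀ k : Over j₀, f' ≫ (bcCone E e j₀ V.ι).π.app k =
      (bcCone E e j₀ a).π.app k ≫ τ k := by
    intro k
    have key : ∀ (p : pullback (e.π.app j₀) V.ι ⟶ pullback (E.map k.hom) V.ι)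
        (q : pullback (e.π.app j₀) a ⟶ pullback (E.map k.hom) a),
        p ≫ pullback.fst (E.map k.hom) V.ι = pullback.fst (e.π.app j₀) V.ι ≫ e.π.app k.left →
        p ≫ pullback.snd (E.map k.hom) V.ι = pullback.snd (e.π.app j₀) V.ι →
        q ≫ pullback.fst (E.map k.hom) a = pullback.fst (e.π.app j₀) a ≫ e.π.app k.left →
        q ≫ pullback.snd (E.map k.hom) a = pullback.snd (e.π.app j₀) a →
        f ≫ p = q ≫ τ k := by
      intro p q h1 h2 h3 h4
      apply pullback.hom_ext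
      · rw [Category.assoc, Category.assoc, h1, hτ1, h3, reassoc_of% hf1]
      · rw [Category.assoc, Category.assoc, h2, hτ2, reassoc_of% h4, hf2]
    exact key _ _ (bcCone_π_fst E e j₀ V.ι k) (bcCone_π_snd E e j₀ V.ι k)
      (bcCone_π_fst E e j₀ a k) (bcCone_π_snd E e j₀ a k)
  obtain ⟨k, hk⟩ := exists_isIso_of_cartesian (bcDiag E j₀ a) (bcDiag E j₀ V.ι)
    (bcCone E e j₀ a) (bcIsLimit E he j₀ a) (bcCone E e j₀ V.ι) (bcIsLimit E he j₀ V.ι)
    τ hτ a' (fun k => pullback.snd (E.map k.hom) a) (fun k' k φ => bcDiag_map_snd E j₀ a φ)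
    (fun k => pullback.snd (E.map k.hom) V.ι) (fun k' k φ => bcDiag_map_snd E j₀ V.ι φ)
    hsq f' hf
  refine ⟨k.left, k.hom, ?_⟩
  haveI : IsOpenImmersion (pullback.fst (E.map k.hom) V.ι) :=
    MorphismProperty.pullback_fst (P := @IsOpenImmersion) _ _ inferInstance
  haveI : IsIso (τ k) := hk
  rw [← hτ1 k]
  infer_instance

include he in
/-- Core descent statement for open immersions. -/
theorem core_isOpenImmersion [∀ (i j : J) (f : i ⟶ j), IsAffineHom (E.map f)] (j₀ : J)
    [CompactSpace (E.obj j₀)] [QuasiSeparatedSpace (E.obj j₀)]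
    {X₀ : Scheme.{u}} [CompactSpace X₀] (a : X₀ ⟶ E.obj j₀) [LocallyOfFinitePresentation a]
    (h : IsOpenImmersion (pullback.fst (e.π.app j₀) a)) :
    ∃ (j : J) (ψ : j ⟶ j₀), IsOpenImmersion (pullback.fst (E.map ψ) a) := by
  haveI : ∀ {i j : J} (f : i ⟶ j), IsAffineHom (E.map f) := fun f => inferInstance
  have hπ : ∀ j, IsAffineHom (e.π.app j) := fun j => isAffineHom_π_app E e he j
  haveI : IsAffineHom (pullback.snd (e.π.app j₀) a) :=
    MorphismProperty.pullback_snd (P := @IsAffineHom) _ _ (hπ j₀)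
  haveI : CompactSpace ↥(pullback (e.π.app j₀) a) :=
    QuasiCompact.compactSpace_of_compactSpace (pullback.snd (e.π.app j₀) a)
  let U : e.pt.Opens := (pullback.fst (e.π.app j₀) a).opensRange
  have hU : IsCompact (U : Set e.pt) :=
    isCompact_range (pullback.fst (e.π.app j₀) a).continuous
  obtain ⟨i, V₀, hV₀c, hV₀⟩ := exists_preimage_eq E e he U hU
  let k := IsCofiltered.min i j₀
  let α : k ⟶ i := IsCofiltered.minToLeft i j₀
  let φ : k ⟶ j₀ := IsCofiltered.minToRight i j₀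
  let V : (E.obj k).Opens := (E.map α) ⁻¹ᵁ V₀
  have hVc : IsCompact (V : Set (E.obj k)) :=
    QuasiCompact.isCompact_preimage (f := E.map α) _ V₀.2 hV₀c
  have hVU : e.π.app k ⁻¹ᵁ V = U := by
    rw [← hV₀, ← Scheme.Hom.comp_preimage, e.w]
  let kk : Over j₀ := Over.mk φ
  let fk : (bcDiag E j₀ a).obj kk ⟶ E.obj k := pullback.fst (E.map kk.hom) a
  let U' : ((bcDiag E j₀ a).obj kk).Opens := fk ⁻¹ᵁ V
  have hfk : (bcCone E e j₀ a).π.app kk ≫ fk = pullback.fst (e.π.app j₀) a ≫ e.π.app k :=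
    bcCone_π_fst E e j₀ a kk
  have hU' : (bcCone E e j₀ a).π.app kk ⁻¹ᵁ U' = ⊤ := by
    rw [eq_top_iff]
    intro x _
    change ((bcCone E e j₀ a).π.app kk ≫ fk) x ∈ V
    rw [hfk]
    change pullback.fst (e.π.app j₀) a x ∈ e.π.app k ⁻¹ᵁ V
    rw [hVU]
    exact ⟨x, rfl⟩
  obtain ⟨m, ψ, hm⟩ := exists_map_eq_top (bcDiag E j₀ a) (bcCone E e j₀ a)
    (bcIsLimit E he j₀ a) U' hU'
  let am : pullback (E.map m.hom) a ⟶ E.obj m.left := pullback.fst (E.map m.hom) a
  let ψl : m.left ⟶ k := ψ.left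
  have hψl : ψl ≫ φ = m.hom := Over.w ψ
  let Vm : (E.obj m.left).Opens := (E.map ψl) ⁻¹ᵁ V
  have hVmc : IsCompact (Vm : Set (E.obj m.left)) :=
    QuasiCompact.isCompact_preimage (f := E.map ψl) _ V.2 hVc
  have hψfk : (bcDiag E j₀ a).map ψ ≫ fk = am ≫ E.map ψl := bcDiag_map_fst E j₀ a ψ
  have hrange : Set.range am ⊆ Vm := by
    rintro _ ⟨x, rfl⟩
    have hx : x ∈ (bcDiag E j₀ a).map ψ ⁻¹ᵁ U' := by rw [hm]; trivial
    have hx' : ((bcDiag E j₀ a).map ψ ≫ fk) x ∈ V := hx
    rw [hψfk] at hx'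
    exact hx'
  haveI : QuasiSeparatedSpace ↥(E.obj m.left) := quasiSeparatedSpace_of_quasiSeparated (E.map m.hom)
  haveI : CompactSpace ↥(pullback (E.map m.hom) a) := bcDiag_compactSpace E j₀ a m
  haveI : LocallyOfFinitePresentation am :=
    MorphismProperty.pullback_fst (P := @LocallyOfFinitePresentation) _ _ inferInstance
  have h_m : IsOpenImmersion (pullback.fst (e.π.app m.left) am) :=
    (fst_fst_iff' @IsOpenImmersion (e.π.app m.left) (E.map m.hom) a (e.π.app j₀)
      (e.w m.hom)).mpr h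
  have hr_m : (e.π.app m.left) ⁻¹' (Vm : Set (E.obj m.left)) ⊆
      Set.range (pullback.fst (e.π.app m.left) am) := by
    rw [Scheme.Pullback.range_fst, Scheme.Pullback.range_fst]
    intro y hy
    have hy1 : (e.π.app m.left ≫ E.map ψl) y ∈ V := hy
    rw [e.w ψl] at hy1
    have hy2 : y ∈ e.π.app k ⁻¹ᵁ V := hy1
    rw [hVU] at hy2
    obtain ⟨x, rfl⟩ := hy2
    change (e.π.app m.left ≫ E.map m.hom) (pullback.fst (e.π.app j₀) a x) ∈ Set.range a
    rw [e.w m.hom]
    refine ⟨pullback.snd (e.π.app j₀) a x, ?_⟩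
    rw [← Scheme.Hom.comp_apply, ← Scheme.Hom.comp_apply, pullback.condition]
  obtain ⟨j, ψ', hj⟩ := core_isOpenImmersion_aux E e he m.left am Vm hVmc hrange h_m hr_m
  exact ⟨j, ψ' ≫ m.hom, (fst_fst_iff' @IsOpenImmersion (E.map ψ') (E.map m.hom) a
    (E.map (ψ' ≫ m.hom)) (E.map_comp _ _).symm).mp hj⟩

end cores

end Groth.Agent.Lib.Helper13.LimDescend
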