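import Groth.Agent.Lib.Helper13.LimDescendIso2
import Groth.Agent.Lib.Helper26.QuasiAffine

/-! Descent of quasi-affine morphisms along cofiltered limits with affine transition maps. -/

set_option autoImplicit false
universe u v

open CategoryTheory CategoryTheory.Limits AlgebraicGeometry

namespace Groth.Agent.Lib.Helper13.LimDescend

open Groth.Agent.Lib.Helper22 Groth.Agent.Lib.Helper26.QuasiAffine

section cores

variable {J : Type u} [SmallCategory J] [IsCofiltered J] (E : J ⥤ Scheme.{u}) (e : Cone E)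
  (he : IsLimit e)

include he in
theorem core_isQAHom_affine [∀ (i j : J) (f : i ⟶ j), IsAffineHom (E.map f)] (j₀ : J)
    [IsAffine (E.obj j₀)] {X₀ : Scheme.{u}} [CompactSpace X₀] [QuasiSeparatedSpace X₀]
    (a : X₀ ⟶ E.obj j₀) (h : IsQAHom (pullback.fst (e.π.app j₀) a)) :
    ∃ (j : J) (ψ : j ⟶ j₀), IsQAHom (pullback.fst (E.map ψ) a) := by
  haveI : ∀ {i j : J} (f : i ⟶ j), IsAffineHom (E.map f) := fun f => inferInstance
  haveI hπ : IsAffineHom (e.π.app j₀) := isAffineHom_π_app E e he j₀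
  haveI hept : IsAffine e.pt := isAffine_of_isAffineHom (e.π.app j₀)
  haveI : IsAffine (((Functor.const J).obj e.pt).obj j₀) := hept
  have hq : (pullback (e.π.app j₀) a).IsQuasiAffine := (isQAHom_iff_of_isAffine _).mp h
  haveI : (bcCone E e j₀ a).pt.IsQuasiAffine := hq
  obtain ⟨k, hk⟩ := Scheme.exists_isQuasiAffine_of_isLimit (bcDiag E j₀ a) (bcCone E e j₀ a)
    (bcIsLimit E he j₀ a)
  haveI : IsAffine (E.obj k.left) := isAffine_of_isAffineHom (E.map k.hom)
  have hk' : (pullback (E.map k.hom) a).IsQuasiAffine := hk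
  exact ⟨k.left, k.hom, (isQAHom_iff_of_isAffine _).mpr hk'⟩

include he in
/-- Core descent statement for quasi-affine morphisms (no finiteness hypothesis). -/
theorem core_isQAHom [∀ (i j : J) (f : i ⟶ j), IsAffineHom (E.map f)] (j₀ : J)
    [CompactSpace (E.obj j₀)] [QuasiSeparatedSpace (E.obj j₀)]
    {X₀ : Scheme.{u}} [CompactSpace X₀] [QuasiSeparatedSpace X₀] (a : X₀ ⟶ E.obj j₀)
    (h : IsQAHom (pullback.fst (e.π.app j₀) a)) :
    ∃ (j : J) (ψ : j ⟶ j₀), IsQAHom (pullback.fst (E.map ψ) a) := by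
  let 𝒰 := (E.obj j₀).affineCover.finiteSubcover
  haveI : ∀ t, IsAffine (𝒰.X t) := fun t => by
    change IsAffine ((E.obj j₀).affineCover.X _)
    infer_instance
  suffices H : ∀ t, ∃ m : Over j₀, IsQAHom
      (pullback.fst (pullback.fst (E.map m.hom) (𝒰.f t) ≫ E.map m.hom) a) by
    obtain ⟨m, hm⟩ := exists_of_openCover E IsQAHom j₀ a 𝒰 H
    exact ⟨m.left, m.hom, hm⟩
  intro t
  refine piece_of_core E e IsQAHom j₀ a (𝒰.f t) h ?_
  intro h'
  haveI : ∀ (k k' : Over j₀) (φ : k ⟶ k'), IsAffineHom ((bcDiag E j₀ (𝒰.f t)).map φ) :=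
    fun _ _ φ => inferInstance
  haveI : IsAffine ((bcDiag E j₀ (𝒰.f t)).obj (top j₀)) := isAffine_bcDiag_top E j₀ (𝒰.f t)
  let a' : pullback (pullback.snd (E.map (top j₀).hom) (𝒰.f t) ≫ 𝒰.f t) a ⟶
      (bcDiag E j₀ (𝒰.f t)).obj (top j₀) :=
    pullback.fst (pullback.snd (E.map (top j₀).hom) (𝒰.f t) ≫ 𝒰.f t) a
  haveI : QuasiCompact a' := MorphismProperty.pullback_fst (P := @QuasiCompact) _ _ inferInstance
  haveI : QuasiSeparated a' :=
    MorphismProperty.pullback_fst (P := @QuasiSeparated) _ _ inferInstance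
  haveI : CompactSpace ↥(pullback (pullback.snd (E.map (top j₀).hom) (𝒰.f t) ≫ 𝒰.f t) a) :=
    QuasiCompact.compactSpace_of_compactSpace a'
  haveI : QuasiSeparatedSpace
      ↥(pullback (pullback.snd (E.map (top j₀).hom) (𝒰.f t) ≫ 𝒰.f t) a) :=
    quasiSeparatedSpace_of_quasiSeparated a'
  exact core_isQAHom_affine (bcDiag E j₀ (𝒰.f t)) (bcCone E e j₀ (𝒰.f t))
    (bcIsLimit E he j₀ (𝒰.f t)) (top j₀) a' h'

end cores

end Groth.Agent.Lib.Helper13.LimDescend
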