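import Groth.Agent.Lib.Helper13.LimDescendFlat
import Groth.Agent.Lib.Helper13.LimDescendSurj
import Groth.Agent.Lib.Helper13.LimDescendIso2

/-! Descent along cofiltered limits for properties local on the source: reduction of the case of
a quasi-compact source over an arbitrary stage to the case of affine pieces. -/

set_option autoImplicit false
universe u v

open CategoryTheory CategoryTheory.Limits AlgebraicGeometry

namespace Groth.Agent.Lib.Helper13.LimDescend

open Groth.Agent.Lib.Helper22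

section general

variable {C : Type u} [Category.{v} C] [HasPullbacks C]

/-- Cancel a monomorphism on the right, by base change. -/
theorem of_comp_mono (P : MorphismProperty C) [P.IsStableUnderBaseChange] {A W Z : C} (h : A ⟶ W)
    (i : W ⟶ Z) [Mono i] (hP : P (h ≫ i)) : P h :=
  P.of_isPullback (IsPullback.of_horiz_isIso_mono (fst := 𝟙 A) (snd := h) (f := h ≫ i) (g := i)
    ⟨by simp⟩) hP

theorem fst_comp_iso_iff (P : MorphismProperty C) [P.RespectsIso] {Y X Z Z' : C} (f : Y ⟶ Z)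
    (b : X ⟶ Z') (s : Z ⟶ Z') [IsIso s] :
    P (pullback.fst (f ≫ s) b) ↔ P (pullback.fst f (b ≫ inv s)) := by
  have h := isPullback_comp_iso f (b ≫ inv s) s
  have hb : (b ≫ inv s) ≫ s = b := by simp
  rw [hb] at h
  exact prop_iff_of_isPullback P (IsPullback.of_hasPullback _ _) h

end general

section pieces

variable {J : Type u} [SmallCategory J] (E : J ⥤ Scheme.{u}) (e : Cone E)

/-- The inverse of the projection from the top stage of the base-changed diagram. -/
noncomputable def sndTopInv (j₀ : J) {W : Scheme.{u}} (w : W ⟶ E.obj j₀) :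
    W ⟶ (bcDiag E j₀ w).obj (top j₀) :=
  @inv _ _ _ _ (pullback.snd (E.map (top j₀).hom) w) (isIso_snd_top E j₀ w)

instance (j₀ : J) {W : Scheme.{u}} (w : W ⟶ E.obj j₀) : IsIso (sndTopInv E j₀ w) := by
  unfold sndTopInv
  exact @IsIso.inv_isIso _ _ _ _ _ (isIso_snd_top E j₀ w)

theorem piece_of_core_src (P : MorphismProperty Scheme.{u}) [P.IsStableUnderBaseChange]
    [P.IsStableUnderComposition]
    (hopen : ∀ {X Y : Scheme.{u}} (i : X ⟶ Y) [IsOpenImmersion i], P i)
    (j₀ : J) {X₀ : Scheme.{u}} (a : X₀ ⟶ E.obj j₀) {W U : Scheme.{u}} (w : W ⟶ E.obj j₀)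
    [IsOpenImmersion w] (u : U ⟶ X₀) [IsOpenImmersion u] (b : U ⟶ W) (hb : b ≫ w = u ≫ a)
    (h : P (pullback.fst (e.π.app j₀) a))
    (core : P (pullback.fst ((bcCone E e j₀ w).π.app (top j₀))
        (b ≫ sndTopInv E j₀ w)) →
      ∃ (m : Over j₀) (ψ : m ⟶ top j₀), P (pullback.fst ((bcDiag E j₀ w).map ψ)
        (b ≫ sndTopInv E j₀ w))) :
    ∃ m : Over j₀, P (pullback.fst (E.map m.hom) (u ≫ a)) := by
  have h1 : P (pullback.fst (e.π.app j₀) (u ≫ a)) :=
    (fst_comp_iff P _ a u).mpr (P.comp_mem _ _ (P.pullback_fst _ _ (hopen u)) h)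
  rw [← hb] at h1
  have h2 : P (pullback.fst (pullback.snd (e.π.app j₀) w) b) :=
    of_comp_mono P _ (pullback.fst (e.π.app j₀) w) ((fst_comp_iff P _ w b).mp h1)
  have h3 : P (pullback.fst ((bcCone E e j₀ w).π.app (top j₀) ≫
      pullback.snd (E.map (top j₀).hom) w) b) := by
    rw [bcCone_π_snd]; exact h2
  obtain ⟨m, ψ, hm⟩ := core
    ((@fst_comp_iso_iff _ _ _ P _ _ _ _ _ _ b _ (isIso_snd_top E j₀ w)).mp h3)
  refine ⟨m, ?_⟩
  have h4 : P (pullback.fst ((bcDiag E j₀ w).map ψ ≫ pullback.snd (E.map (top j₀).hom) w) b) :=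
    (@fst_comp_iso_iff _ _ _ P _ _ _ _ _ _ b _ (isIso_snd_top E j₀ w)).mpr hm
  rw [bcDiag_map_snd] at h4
  rw [← hb]
  exact (fst_comp_iff P _ w b).mpr (P.comp_mem _ _ h4 (hopen _))

end pieces

section main

variable {J : Type u} [SmallCategory J] [IsCofiltered J] (E : J ⥤ Scheme.{u}) (e : Cone E)
  (he : IsLimit e)

include he in
/-- Descent of a source-local property from the limit to a stage, quasi-compact source over an
arbitrary stage, from the case of quasi-compact quasi-separated data. -/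
theorem core_srcLocal (P : MorphismProperty Scheme.{u}) [P.IsStableUnderBaseChange]
    [P.IsStableUnderComposition] [IsZariskiLocalAtSource P]
    (hopen : ∀ {X Y : Scheme.{u}} (i : X ⟶ Y) [IsOpenImmersion i], P i)
    (hcore : ∀ {J' : Type u} [SmallCategory J'] [IsCofiltered J'] (E' : J' ⥤ Scheme.{u})
      (e' : Cone E') (_ : IsLimit e') [∀ (i j : J') (f : i ⟶ j), IsAffineHom (E'.map f)]
      (j₀' : J') [CompactSpace (E'.obj j₀')] [QuasiSeparatedSpace (E'.obj j₀')]
      {X₀' : Scheme.{u}} [CompactSpace X₀'] [QuasiSeparatedSpace X₀'] (a' : X₀' ⟶ E'.obj j₀')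
      [LocallyOfFinitePresentation a'], P (pullback.fst (e'.π.app j₀') a') →
        ∃ (j : J') (ψ : j ⟶ j₀'), P (pullback.fst (E'.map ψ) a'))
    [∀ (i j : J) (f : i ⟶ j), IsAffineHom (E.map f)] (j₀ : J) {X₀ : Scheme.{u}}
    [CompactSpace X₀] (a : X₀ ⟶ E.obj j₀) [LocallyOfFinitePresentation a]
    (h : P (pullback.fst (e.π.app j₀) a)) :
    ∃ (j : J) (ψ : j ⟶ j₀), P (pullback.fst (E.map ψ) a) := by
  classical
  have hW : ∀ x : X₀, ∃ W : (E.obj j₀).Opens, IsAffineOpen W ∧ a x ∈ W := by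
    intro x
    obtain ⟨_, ⟨W, hW, rfl⟩, hxW, -⟩ :=
      (E.obj j₀).isBasis_affineOpens.exists_subset_of_mem_open (Set.mem_univ (a x)) isOpen_univ
    exact ⟨W, hW, hxW⟩
  choose W hWaff hxW using hW
  have hU : ∀ x : X₀, ∃ U : X₀.Opens, IsAffineOpen U ∧ x ∈ U ∧ U ≤ a ⁻¹ᵁ W x := by
    intro x
    obtain ⟨_, ⟨U, hU, rfl⟩, hxU, hUW⟩ :=
      X₀.isBasis_affineOpens.exists_subset_of_mem_open (show x ∈ ((a ⁻¹ᵁ W x : X₀.Opens) : Set X₀)
        from hxW x) (a ⁻¹ᵁ W x).isOpen
    exact ⟨U, hU, hxU, hUW⟩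
  choose U hUaff hxU hUW using hU
  obtain ⟨t, ht⟩ := isCompact_univ.elim_finite_subcover (fun x => ((U x : X₀.Opens) : Set X₀))
    (fun x => (U x).isOpen) (fun x _ => Set.mem_iUnion.mpr ⟨x, hxU x⟩)
  have hcov : TopologicalSpace.IsOpenCover (fun x : t => U x.1) := by
    rw [TopologicalSpace.IsOpenCover, eq_top_iff]
    intro x _
    obtain ⟨y, hy⟩ := Set.mem_iUnion.mp (ht (Set.mem_univ x))
    obtain ⟨hyt, hxy⟩ := Set.mem_iUnion.mp hy
    exact TopologicalSpace.Opens.mem_iSup.mpr ⟨⟨y, hyt⟩, hxy⟩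
  let 𝒰 : X₀.OpenCover := X₀.openCoverOfIsOpenCover (fun x : t => U x.1) hcov
  have key : ∀ x : t, ∃ m : Over j₀, P (pullback.fst (E.map m.hom) ((U x.1).ι ≫ a)) := by
    intro x
    haveI : IsAffine (W x.1).toScheme := hWaff x.1
    haveI : IsAffine (U x.1).toScheme := hUaff x.1
    have hb : a.resLE (W x.1) (U x.1) (hUW x.1) ≫ (W x.1).ι = (U x.1).ι ≫ a :=
      Scheme.Hom.resLE_comp_ι a (hUW x.1)
    refine piece_of_core_src E e P hopen j₀ a (W x.1).ι (U x.1).ι
      (a.resLE (W x.1) (U x.1) (hUW x.1)) hb h ?_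
    haveI : IsAffine ((bcDiag E j₀ (W x.1).ι).obj (top j₀)) := isAffine_bcDiag_top E j₀ (W x.1).ι
    haveI : LocallyOfFinitePresentation (a.resLE (W x.1) (U x.1) (hUW x.1) ≫ (W x.1).ι) := by
      rw [hb]; infer_instance
    haveI : LocallyOfFinitePresentation (a.resLE (W x.1) (U x.1) (hUW x.1)) :=
      locallyOfFinitePresentation_of_comp _ (W x.1).ι
    exact hcore (bcDiag E j₀ (W x.1).ι) (bcCone E e j₀ (W x.1).ι) (bcIsLimit E he j₀ (W x.1).ι)
      (top j₀) (a.resLE (W x.1) (U x.1) (hUW x.1) ≫ sndTopInv E j₀ (W x.1).ι)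
  choose mt hmt using key
  haveI : Fintype t := inferInstance
  obtain ⟨m, hm⟩ := IsCofiltered.inf_objs_exists (Finset.univ.image mt)
  have ψ : ∀ x : t, m ⟶ mt x := fun x =>
    (hm (Finset.mem_image_of_mem mt (Finset.mem_univ x))).some
  refine ⟨m.left, m.hom, ?_⟩
  rw [fst_iff_of_source_openCover P (E.map m.hom) a 𝒰]
  intro x
  exact fst_comp_of_fst' P (E.map (ψ x).left) (E.map (mt x).hom) _ (E.map m.hom)
    (by rw [← E.map_comp]; exact congrArg E.map (Over.w (ψ x))) (hmt x)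

end main

end Groth.Agent.Lib.Helper13.LimDescend
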