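import Groth.Agent.Lib.Helper13.LimDescendCart
import Mathlib.AlgebraicGeometry.Morphisms.UniversallyInjective

/-! Core descent statement for universally injective morphisms, via the diagonal. -/

set_option autoImplicit false
universe u

open CategoryTheory CategoryTheory.Limits AlgebraicGeometry

namespace Groth.Agent.Lib.Helper13.LimDescend

open Groth.Agent.Lib.Helper22

section diag

variable {T Y Y₀ : Scheme.{u}} (p : Y ⟶ Y₀) (a : T ⟶ Y₀)

/-- The base change of the diagonal of `a` along `p`. -/
noncomputable def diagMap : pullback p a ⟶ pullback p (pullback.snd a a ≫ a) :=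
  pullback.map p a p (pullback.snd a a ≫ a) (𝟙 _) (pullback.diagonal a) (𝟙 _) (by simp) (by simp)

@[reassoc (attr := simp)]
lemma diagMap_fst : diagMap p a ≫ pullback.fst p _ = pullback.fst p a := by
  rw [diagMap, pullback.map, pullback.lift_fst, Category.comp_id]

@[reassoc (attr := simp)]
lemma diagMap_snd : diagMap p a ≫ pullback.snd p _ = pullback.snd p a ≫ pullback.diagonal a := by
  rw [diagMap, pullback.map, pullback.lift_snd]

lemma diagMap_isPullback :
    IsPullback (diagMap p a) (pullback.snd p a) (pullback.snd p (pullback.snd a a ≫ a))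
      (pullback.diagonal a) := by
  have t : IsPullback (pullback.fst p (pullback.snd a a ≫ a))
      (pullback.snd p (pullback.snd a a ≫ a)) p (pullback.snd a a ≫ a) :=
    IsPullback.of_hasPullback _ _
  refine IsPullback.of_right ?_ (diagMap_snd p a) t
  rw [diagMap_fst]
  have : pullback.diagonal a ≫ pullback.snd a a ≫ a = a := by simp
  rw [this]
  exact IsPullback.of_hasPullback p a

lemma surjective_diagMap_iff :
    Surjective (diagMap p a) ↔ UniversallyInjective (pullback.fst p a) := by
  obtain ⟨θ, hθ⟩ := exists_iso_diagonal_pullback_fst p a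
  rw [UniversallyInjective.iff_diagonal, ← hθ]
  exact ((MorphismProperty.cancel_right_of_respectsIso @Surjective _ θ.hom).symm)

instance locallyOfFinitePresentation_diagonal [LocallyOfFiniteType a] :
    LocallyOfFinitePresentation (pullback.diagonal a) := by
  haveI : LocallyOfFinitePresentation (pullback.diagonal a ≫ pullback.fst a a) := by
    rw [pullback.diagonal_fst]; infer_instance
  exact locallyOfFinitePresentation_of_comp (pullback.diagonal a) (pullback.fst a a)

instance [LocallyOfFiniteType a] : LocallyOfFinitePresentation (diagMap p a) :=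
  MorphismProperty.of_isPullback (P := @LocallyOfFinitePresentation) (diagMap_isPullback p a).flip
    inferInstance

instance [QuasiSeparated a] : QuasiCompact (diagMap p a) :=
  MorphismProperty.of_isPullback (P := @QuasiCompact) (diagMap_isPullback p a).flip
    inferInstance

end diag

variable {J : Type u} [SmallCategory J] [IsCofiltered J] (E : J ⥤ Scheme.{u}) (e : Cone E)
  (he : IsLimit e)

include he in
theorem core_universallyInjective [∀ (i j : J) (f : i ⟶ j), IsAffineHom (E.map f)] (j₀ : J)
    [CompactSpace (E.obj j₀)]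
    {X₀ : Scheme.{u}} [CompactSpace X₀] (a : X₀ ⟶ E.obj j₀) [LocallyOfFiniteType a]
    [QuasiCompact a] [QuasiSeparated a]
    (h : UniversallyInjective (pullback.fst (e.π.app j₀) a)) :
    ∃ (j : J) (ψ : j ⟶ j₀), UniversallyInjective (pullback.fst (E.map ψ) a) := by
  let w : pullback a a ⟶ E.obj j₀ := pullback.snd a a ≫ a
  haveI : CompactSpace ↑(pullback a a) :=
    QuasiCompact.compactSpace_of_compactSpace (pullback.fst a a)
  haveI : ∀ (k k' : Over j₀) (φ : k ⟶ k'), IsAffineHom ((bcDiag E j₀ w).map φ) :=
    fun _ _ φ => inferInstance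
  let 𝒳 : Over j₀ → Scheme.{u} := fun k => pullback (E.map k.hom) a
  let τ : ∀ k : Over j₀, 𝒳 k ⟶ (bcDiag E j₀ w).obj k := fun k => diagMap (E.map k.hom) a
  haveI : ∀ k, LocallyOfFinitePresentation (τ k) := fun k => by
    change LocallyOfFinitePresentation (diagMap (E.map k.hom) a); infer_instance
  haveI : ∀ k, QuasiCompact (τ k) := fun k => by
    change QuasiCompact (diagMap (E.map k.hom) a); infer_instance
  have hsq : ∀ (k k' : Over j₀) (φ : k ⟶ k'), ∃ m : 𝒳 k ⟶ 𝒳 k',
      IsPullback m (τ k) (τ k') ((bcDiag E j₀ w).map φ) := by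
    intro k k' φ
    refine ⟨(bcDiag E j₀ a).map φ, ?_⟩
    have hbot := bcDiag_map_isPullback E j₀ w φ
    have hout := bcDiag_map_isPullback E j₀ a φ
    have hcomm : (bcDiag E j₀ a).map φ ≫ τ k' = τ k ≫ (bcDiag E j₀ w).map φ := by
      apply pullback.hom_ext
      · change ((bcDiag E j₀ a).map φ ≫ diagMap (E.map k'.hom) a) ≫ pullback.fst _ _ =
          (diagMap (E.map k.hom) a ≫ (bcDiag E j₀ w).map φ) ≫ pullback.fst _ _
        rw [Category.assoc, Category.assoc]
        erw [diagMap_fst, bcDiag_map_fst, bcDiag_map_fst, diagMap_fst_assoc]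
        rfl
      · change ((bcDiag E j₀ a).map φ ≫ diagMap (E.map k'.hom) a) ≫ pullback.snd _ _ =
          (diagMap (E.map k.hom) a ≫ (bcDiag E j₀ w).map φ) ≫ pullback.snd _ _
        rw [Category.assoc, Category.assoc]
        erw [diagMap_snd, bcDiag_map_snd, diagMap_snd, reassoc_of% (bcDiag_map_snd E j₀ a φ)]
        rfl
    refine IsPullback.of_bot ?_ hcomm hbot
    have e1 : τ k ≫ pullback.fst (E.map k.hom) w = pullback.fst (E.map k.hom) a :=
      diagMap_fst _ _
    have e2 : τ k' ≫ pullback.fst (E.map k'.hom) w = pullback.fst (E.map k'.hom) a :=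
      diagMap_fst _ _
    rw [e1, e2]
    exact hout
  haveI hsurj : Surjective (diagMap (e.π.app j₀) a) := (surjective_diagMap_iff _ _).mpr h
  have hp₀ : (bcCone E e j₀ a).π.app (top j₀) ≫ τ (top j₀) =
      diagMap (e.π.app j₀) a ≫ (bcCone E e j₀ w).π.app (top j₀) := by
    apply pullback.hom_ext
    · change ((bcCone E e j₀ a).π.app (top j₀) ≫ diagMap (E.map (top j₀).hom) a) ≫
        pullback.fst _ _ = (diagMap (e.π.app j₀) a ≫ (bcCone E e j₀ w).π.app (top j₀)) ≫
        pullback.fst _ _
      rw [Category.assoc, Category.assoc]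
      erw [diagMap_fst, bcCone_π_fst, bcCone_π_fst, diagMap_fst_assoc]
      rfl
    · change ((bcCone E e j₀ a).π.app (top j₀) ≫ diagMap (E.map (top j₀).hom) a) ≫
        pullback.snd _ _ = (diagMap (e.π.app j₀) a ≫ (bcCone E e j₀ w).π.app (top j₀)) ≫
        pullback.snd _ _
      rw [Category.assoc, Category.assoc]
      erw [diagMap_snd, bcCone_π_snd, diagMap_snd,
        reassoc_of% (bcCone_π_snd E e j₀ a (top j₀))]
      rfl
  obtain ⟨k, -, hk⟩ := @exists_surjective_of_cartesian _ _ _ (bcDiag E j₀ w) (bcCone E e j₀ w)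
    (bcIsLimit E he j₀ w) _ (top j₀) _ 𝒳 τ _ _ hsq _ (diagMap (e.π.app j₀) a)
    ((bcCone E e j₀ a).π.app (top j₀)) hp₀ hsurj
  exact ⟨k.left, k.hom, (surjective_diagMap_iff _ _).mp hk⟩

end Groth.Agent.Lib.Helper13.LimDescend
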