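import Groth.Agent.Lib.Helper13.GluePullback
import Groth.Agent.Lib.Helper22.LimBaseChange
import Groth.Agent.S9218
import Groth.Agent.S4805

/-!
# Descent of morphisms of finite presentation along cofiltered limits (Stacks 01ZM)

`ModelAt D c i h` : a model of `h : Z ⟶ c.pt` at stage `i`, i.e. a morphism of finite presentation
`h₀ : Z₀ ⟶ D.obj i` and a pullback square exhibiting `h` as the base change of `h₀`.
-/

set_option autoImplicit false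
universe u

open CategoryTheory CategoryTheory.Limits AlgebraicGeometry TopologicalSpace Topology

namespace Groth.Agent.Lib.Helper13.LimModel

open Groth.Agent.Lib.Helper22

variable {I : Type u} [SmallCategory I] (D : I ⥤ Scheme.{u}) (c : Cone D)

/-- A model of `h : Z ⟶ c.pt` at the stage `i`. -/
structure ModelAt (i : I) {Z : Scheme.{u}} (h : Z ⟶ c.pt) where
  Z₀ : Scheme.{u}
  h₀ : Z₀ ⟶ D.obj i
  g : Z ⟶ Z₀
  lfp : LocallyOfFinitePresentation h₀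
  qc : QuasiCompact h₀
  qs : QuasiSeparated h₀
  pb : IsPullback g h h₀ (c.π.app i)

/-- `h` has a model at some stage. -/
def HasModel {Z : Scheme.{u}} (h : Z ⟶ c.pt) : Prop := ∃ i : I, Nonempty (ModelAt D c i h)

variable {D c}

namespace ModelAt

variable {i : I} {Z : Scheme.{u}} {h : Z ⟶ c.pt}

/-- Base change of a model to a later stage. -/
noncomputable def ofHom (M : ModelAt D c i h) {j : I} (φ : j ⟶ i) : ModelAt D c j h where
  Z₀ := pullback M.h₀ (D.map φ)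
  h₀ := pullback.snd M.h₀ (D.map φ)
  g := pullback.lift M.g (h ≫ c.π.app j) (by rw [Category.assoc, c.w φ, M.pb.w])
  lfp := haveI := M.lfp; inferInstance
  qc := haveI := M.qc; inferInstance
  qs := haveI := M.qs; inferInstance
  pb := by
    refine IsPullback.of_right ?_ (pullback.lift_snd _ _ _) (IsPullback.of_hasPullback _ _)
    rw [pullback.lift_fst, c.w φ]
    exact M.pb

@[simp]
lemma ofHom_Z₀ (M : ModelAt D c i h) {j : I} (φ : j ⟶ i) :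
    (M.ofHom φ).Z₀ = pullback M.h₀ (D.map φ) := rfl

@[simp]
lemma ofHom_h₀ (M : ModelAt D c i h) {j : I} (φ : j ⟶ i) :
    (M.ofHom φ).h₀ = pullback.snd M.h₀ (D.map φ) := rfl

@[reassoc (attr := simp)]
lemma ofHom_g_fst (M : ModelAt D c i h) {j : I} (φ : j ⟶ i) :
    (M.ofHom φ).g ≫ pullback.fst M.h₀ (D.map φ) = M.g := pullback.lift_fst _ _ _

@[reassoc (attr := simp)]
lemma ofHom_g_snd (M : ModelAt D c i h) {j : I} (φ : j ⟶ i) :
    (M.ofHom φ).g ≫ pullback.snd M.h₀ (D.map φ) = h ≫ c.π.app j := pullback.lift_snd _ _ _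

lemma compactSpace (M : ModelAt D c i h) [CompactSpace (D.obj i)] : CompactSpace M.Z₀ :=
  haveI := M.qc
  QuasiCompact.compactSpace_of_compactSpace M.h₀

lemma quasiSeparatedSpace (M : ModelAt D c i h) [QuasiSeparatedSpace (D.obj i)] :
    QuasiSeparatedSpace M.Z₀ :=
  haveI := M.qs
  quasiSeparatedSpace_of_quasiSeparated M.h₀

/-- Transport a model along an equality of morphisms. -/
def ofEq (M : ModelAt D c i h) {h' : Z ⟶ c.pt} (e : h = h') : ModelAt D c i h' where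
  Z₀ := M.Z₀
  h₀ := M.h₀
  g := M.g
  lfp := M.lfp
  qc := M.qc
  qs := M.qs
  pb := e ▸ M.pb

/-- Precompose a model with an isomorphism. -/
def ofIso (M : ModelAt D c i h) {Z' : Scheme.{u}} (e : Z' ⟶ Z) [IsIso e] :
    ModelAt D c i (e ≫ h) where
  Z₀ := M.Z₀
  h₀ := M.h₀
  g := e ≫ M.g
  lfp := M.lfp
  qc := M.qc
  qs := M.qs
  pb := by
    have h1 : IsPullback e (e ≫ h) h (𝟙 c.pt) := IsPullback.of_horiz_isIso ⟨by simp⟩
    have h2 := h1.paste_horiz M.pb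
    rwa [Category.id_comp] at h2

/-- Restriction of a model to an open subscheme which is the preimage of a quasi-compact open of
the model. -/
noncomputable def restrict (M : ModelAt D c i h) [QuasiSeparatedSpace (D.obj i)]
    {W : Scheme.{u}} (w : W ⟶ Z) [IsOpenImmersion w]
    (W₀ : M.Z₀.Opens) (hW₀ : IsCompact (W₀ : Set M.Z₀)) (hW : M.g ⁻¹ᵁ W₀ = w.opensRange) :
    ModelAt D c i (w ≫ h) where
  Z₀ := W₀.toScheme
  h₀ := W₀.ι ≫ M.h₀
  g := IsOpenImmersion.lift W₀.ι (w ≫ M.g) (by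
    rw [Scheme.Opens.range_ι]
    rintro _ ⟨x, rfl⟩
    have : w.base x ∈ M.g ⁻¹ᵁ W₀ := by rw [hW]; exact ⟨x, rfl⟩
    rw [Scheme.Hom.comp_apply]
    exact this)
  lfp := haveI := M.lfp; inferInstance
  qc := by
    haveI := M.qc
    haveI := M.quasiSeparatedSpace
    haveI : CompactSpace W₀.toScheme := isCompact_iff_compactSpace.mp hW₀
    infer_instance
  qs := haveI := M.qs; inferInstance
  pb := by
    have h1 : IsPullback (IsOpenImmersion.lift W₀.ι (w ≫ M.g) (by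
        rw [Scheme.Opens.range_ι]
        rintro _ ⟨x, rfl⟩
        have : w.base x ∈ M.g ⁻¹ᵁ W₀ := by rw [hW]; exact ⟨x, rfl⟩
        rw [Scheme.Hom.comp_apply]
        exact this)) w W₀.ι M.g :=
      IsOpenImmersion.isPullback _ _ _ _ (IsOpenImmersion.lift_fac _ _ _).symm
        (by rw [Scheme.Opens.opensRange_ι]; exact hW)
    exact h1.paste_vert M.pb

@[reassoc (attr := simp)]
lemma restrict_g_ι (M : ModelAt D c i h) [QuasiSeparatedSpace (D.obj i)]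
    {W : Scheme.{u}} (w : W ⟶ Z) [IsOpenImmersion w]
    (W₀ : M.Z₀.Opens) (hW₀ : IsCompact (W₀ : Set M.Z₀)) (hW : M.g ⁻¹ᵁ W₀ = w.opensRange) :
    (M.restrict w W₀ hW₀ hW).g ≫ W₀.ι = w ≫ M.g := IsOpenImmersion.lift_fac W₀.ι (w ≫ M.g) _

end ModelAt

section descend

variable [IsCofiltered I] [∀ (i j : I) (f : i ⟶ j), IsAffineHom (D.map f)] (hc : IsLimit c)

include hc in
/-- A quasi-compact open of `Z` comes from a quasi-compact open of a model at a later stage. -/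
theorem ModelAt.exists_open {i : I} {Z : Scheme.{u}} {h : Z ⟶ c.pt} (M : ModelAt D c i h)
    (W : Z.Opens) (hW : IsCompact (W : Set Z)) :
    ∃ (j : I) (φ : j ⟶ i) (W₀ : (M.ofHom φ).Z₀.Opens), IsCompact (W₀ : Set (M.ofHom φ).Z₀) ∧
      (M.ofHom φ).g ⁻¹ᵁ W₀ = W := by
  let ι : Z ≅ pullback (c.π.app i) M.h₀ := M.pb.flip.isoPullback
  have hι1 : ι.hom ≫ pullback.fst _ _ = h := M.pb.flip.isoPullback_hom_fst
  have hι2 : ι.hom ≫ pullback.snd _ _ = M.g := M.pb.flip.isoPullback_hom_snd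
  haveI : ∀ (j k : Over i) (φ : j ⟶ k), IsAffineHom ((bcDiag D i M.h₀).map φ) :=
    fun _ _ φ => inferInstance
  have hW' : IsCompact ((ι.inv ⁻¹ᵁ W : (pullback (c.π.app i) M.h₀).Opens) :
      Set ↥(pullback (c.π.app i) M.h₀)) := by
    have : ((ι.inv ⁻¹ᵁ W : (pullback (c.π.app i) M.h₀).Opens) :
        Set ↥(pullback (c.π.app i) M.h₀)) = ι.hom.base '' (W : Set Z) := by
      ext x
      constructor
      · intro hx
        refine ⟨ι.inv.base x, hx, ?_⟩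
        rw [← Scheme.Hom.comp_apply, ι.inv_hom_id]
        rfl
      · rintro ⟨y, hy, rfl⟩
        change ι.inv.base (ι.hom.base y) ∈ W
        rw [← Scheme.Hom.comp_apply, ι.hom_inv_id]
        exact hy
    rw [this]
    exact hW.image ι.hom.continuous
  obtain ⟨j, (V : (pullback (D.map j.hom) M.h₀).Opens), hV, hVW⟩ :=
    exists_preimage_eq (bcDiag D i M.h₀) (bcCone D c i M.h₀)
    (bcIsLimit D hc i M.h₀) (ι.inv ⁻¹ᵁ W) hW'
  let σ : pullback M.h₀ (D.map j.hom) ≅ pullback (D.map j.hom) M.h₀ := pullbackSymmetry _ _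
  let gj : Z ⟶ pullback M.h₀ (D.map j.hom) := (M.ofHom j.hom).g
  have hgj1 : gj ≫ pullback.fst M.h₀ (D.map j.hom) = M.g := M.ofHom_g_fst j.hom
  have hgj2 : gj ≫ pullback.snd M.h₀ (D.map j.hom) = h ≫ c.π.app j.left := M.ofHom_g_snd j.hom
  let πj : pullback (c.π.app i) M.h₀ ⟶ pullback (D.map j.hom) M.h₀ :=
    (bcCone D c i M.h₀).π.app j
  have hπj1 : πj ≫ pullback.fst (D.map j.hom) M.h₀ =
      pullback.fst (c.π.app i) M.h₀ ≫ c.π.app j.left := bcCone_π_fst D c i M.h₀ j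
  have hπj2 : πj ≫ pullback.snd (D.map j.hom) M.h₀ = pullback.snd (c.π.app i) M.h₀ :=
    bcCone_π_snd D c i M.h₀ j
  have hVW' : πj ⁻¹ᵁ V = ι.inv ⁻¹ᵁ W := hVW
  have hσ : gj ≫ σ.hom = ι.hom ≫ πj := by
    apply pullback.hom_ext
    · rw [Category.assoc, pullbackSymmetry_hom_comp_fst, hgj2, Category.assoc, hπj1,
        ← Category.assoc, hι1]
    · rw [Category.assoc, pullbackSymmetry_hom_comp_snd, hgj1, Category.assoc, hπj2, hι2]
  refine ⟨j.left, j.hom, σ.hom ⁻¹ᵁ V, ?_, ?_⟩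
  · have : ((σ.hom ⁻¹ᵁ V : (pullback M.h₀ (D.map j.hom)).Opens) :
        Set ↥(pullback M.h₀ (D.map j.hom))) = σ.inv.base '' (V : Set _) := by
      ext x
      constructor
      · intro hx
        refine ⟨σ.hom.base x, hx, ?_⟩
        rw [← Scheme.Hom.comp_apply, σ.hom_inv_id]
        rfl
      · rintro ⟨y, hy, rfl⟩
        change σ.hom.base (σ.inv.base y) ∈ V
        rw [← Scheme.Hom.comp_apply, σ.inv_hom_id]
        exact hy
    change IsCompact ((σ.hom ⁻¹ᵁ V : (pullback M.h₀ (D.map j.hom)).Opens) :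
        Set ↥(pullback M.h₀ (D.map j.hom)))
    rw [this]
    exact hV.image σ.inv.continuous
  · change gj ⁻¹ᵁ (σ.hom ⁻¹ᵁ V) = W
    rw [← Scheme.Hom.comp_preimage, hσ, Scheme.Hom.comp_preimage, hVW',
      ← Scheme.Hom.comp_preimage, ι.hom_inv_id, Scheme.Hom.id_preimage]

include hc in
/-- Descent of isomorphisms between models, compatibly with the maps from the limit. -/
theorem ModelAt.exists_iso [∀ i, CompactSpace (D.obj i)] [∀ i, QuasiSeparatedSpace (D.obj i)]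
    {i : I} {Z₁ Z₂ : Scheme.{u}} {h₁ : Z₁ ⟶ c.pt} {h₂ : Z₂ ⟶ c.pt}
    (M₁ : ModelAt D c i h₁) (M₂ : ModelAt D c i h₂) (e : Z₁ ⟶ Z₂) [IsIso e] (he : e ≫ h₂ = h₁) :
    ∃ (j : I) (φ : j ⟶ i) (ε : pullback M₁.h₀ (D.map φ) ≅ pullback M₂.h₀ (D.map φ)),
      ε.hom ≫ pullback.snd M₂.h₀ (D.map φ) = pullback.snd M₁.h₀ (D.map φ) ∧
      ∀ (G₁ : Z₁ ⟶ pullback M₁.h₀ (D.map φ)) (G₂ : Z₂ ⟶ pullback M₂.h₀ (D.map φ)),
        G₁ ≫ pullback.fst M₁.h₀ (D.map φ) = M₁.g →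
        G₁ ≫ pullback.snd M₁.h₀ (D.map φ) = h₁ ≫ c.π.app j →
        G₂ ≫ pullback.fst M₂.h₀ (D.map φ) = M₂.g →
        G₂ ≫ pullback.snd M₂.h₀ (D.map φ) = h₂ ≫ c.π.app j →
        G₁ ≫ ε.hom = e ≫ G₂ := by
  haveI := M₁.lfp; haveI := M₁.qc; haveI := M₁.qs
  haveI := M₂.lfp; haveI := M₂.qc; haveI := M₂.qs
  haveI := M₁.compactSpace; haveI := M₁.quasiSeparatedSpace
  haveI := M₂.compactSpace; haveI := M₂.quasiSeparatedSpace
  obtain ⟨j, φ, fj, sX, sY, h1, h2, h3, h4, h5, h6⟩ :=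
    Groth.Agent.S9218.result D c hc i M₁.h₀ M₂.h₀ M₁.g h₁ M₁.pb M₂.g h₂ M₂.pb e he
  have hXj : IsPullback sX h₁ (pullback.snd M₁.h₀ (D.map φ)) (c.π.app j) := by
    refine IsPullback.of_right ?_ h3 (IsPullback.of_hasPullback M₁.h₀ (D.map φ))
    rw [h2, c.w φ]; exact M₁.pb
  have hYj : IsPullback sY h₂ (pullback.snd M₂.h₀ (D.map φ)) (c.π.app j) := by
    refine IsPullback.of_right ?_ h5 (IsPullback.of_hasPullback M₂.h₀ (D.map φ))
    rw [h4, c.w φ]; exact M₂.pb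
  have hsq : IsPullback sX e fj sY := by
    refine IsPullback.of_bot ?_ h6 hYj
    rw [he, h1]; exact hXj
  haveI : LocallyOfFinitePresentation (fj ≫ pullback.snd M₂.h₀ (D.map φ)) := by
    rw [h1]; infer_instance
  haveI : QuasiCompact (fj ≫ pullback.snd M₂.h₀ (D.map φ)) := by
    rw [h1]; infer_instance
  haveI : QuasiSeparated (fj ≫ pullback.snd M₂.h₀ (D.map φ)) := by
    rw [h1]; infer_instance
  obtain ⟨j', φ', Xj', Yj', fj', gj', pY, pX, k1, k2, k3⟩ :=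
    Groth.Agent.S4805.result D c hc j fj (pullback.snd M₂.h₀ (D.map φ)) e h₂ sY sX hYj hsq
  have τX : IsPullback (pX ≫ pullback.fst M₁.h₀ (D.map φ)) (fj' ≫ gj') M₁.h₀
      (D.map (φ' ≫ φ)) := by
    have := (k2.paste_vert k1).paste_horiz (h1 ▸ IsPullback.of_hasPullback M₁.h₀ (D.map φ))
    rw [D.map_comp]
    exact this
  have τY : IsPullback (pY ≫ pullback.fst M₂.h₀ (D.map φ)) gj' M₂.h₀ (D.map (φ' ≫ φ)) := by
    rw [D.map_comp]
    exact k1.paste_horiz (IsPullback.of_hasPullback M₂.h₀ (D.map φ))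
  let tX : Xj' ≅ pullback M₁.h₀ (D.map (φ' ≫ φ)) := τX.isoPullback
  let tY : Yj' ≅ pullback M₂.h₀ (D.map (φ' ≫ φ)) := τY.isoPullback
  have tX1 : tX.inv ≫ pX ≫ pullback.fst M₁.h₀ (D.map φ) = pullback.fst M₁.h₀ (D.map (φ' ≫ φ)) :=
    τX.isoPullback_inv_fst
  have tX2 : tX.inv ≫ fj' ≫ gj' = pullback.snd M₁.h₀ (D.map (φ' ≫ φ)) := τX.isoPullback_inv_snd
  have tY1 : tY.hom ≫ pullback.fst M₂.h₀ (D.map (φ' ≫ φ)) = pY ≫ pullback.fst M₂.h₀ (D.map φ) :=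
    τY.isoPullback_hom_fst
  have tY2 : tY.hom ≫ pullback.snd M₂.h₀ (D.map (φ' ≫ φ)) = gj' := τY.isoPullback_hom_snd
  haveI := k3
  have hε1 : (tX.inv ≫ fj' ≫ tY.hom) ≫ pullback.snd M₂.h₀ (D.map (φ' ≫ φ)) =
      pullback.snd M₁.h₀ (D.map (φ' ≫ φ)) := by
    rw [Category.assoc, Category.assoc, tY2, tX2]
  refine ⟨j', φ' ≫ φ, tX.symm ≪≫ asIso fj' ≪≫ tY, hε1, ?_⟩
  intro G₁ G₂ hG₁1 hG₁2 hG₂1 hG₂2
  change G₁ ≫ (tX.inv ≫ fj' ≫ tY.hom) = e ≫ G₂
  have claimA : G₁ ≫ tX.inv ≫ pX = sX := by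
    apply pullback.hom_ext
    · rw [Category.assoc, Category.assoc, tX1, hG₁1, h2]
    · have e1 : pX ≫ pullback.snd M₁.h₀ (D.map φ) = (fj' ≫ gj') ≫ D.map φ' := by
        rw [← h1, ← Category.assoc, k2.w, Category.assoc, k1.w, Category.assoc]
      rw [Category.assoc, Category.assoc, e1, ← Category.assoc tX.inv, tX2, ← Category.assoc,
        hG₁2, Category.assoc, c.w φ', h3]
  apply pullback.hom_ext
  · rw [Category.assoc, Category.assoc, Category.assoc, tY1, ← Category.assoc fj', ← k2.w,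
      Category.assoc, ← Category.assoc tX.inv, ← Category.assoc G₁, claimA, ← Category.assoc,
      h6, Category.assoc, h4, Category.assoc, hG₂1]
  · rw [Category.assoc, hε1, hG₁2, Category.assoc, hG₂2, ← Category.assoc, he]

end descend

section glue

theorem isPullback_map_of_comp {W Z B C : Scheme.{u}} (w : W ⟶ Z) (a : Z ⟶ B) (b : C ⟶ B) :
    IsPullback (pullback.map (w ≫ a) b a b w (𝟙 _) (𝟙 _) (by simp) (by simp))
      (pullback.fst (w ≫ a) b) (pullback.fst a b) w := by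
  refine IsPullback.of_right ?_ (pullback.lift_fst _ _ _) (IsPullback.of_hasPullback a b).flip
  have : pullback.map (w ≫ a) b a b w (𝟙 _) (𝟙 _) (by simp) (by simp) ≫ pullback.snd a b =
      pullback.snd (w ≫ a) b := by
    rw [pullback.lift_snd, Category.comp_id]
  rw [this]
  exact (IsPullback.of_hasPullback (w ≫ a) b).flip

instance isOpenImmersion_map_of_comp {W Z B C : Scheme.{u}} (w : W ⟶ Z) [IsOpenImmersion w]
    (a : Z ⟶ B) (b : C ⟶ B) :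
    IsOpenImmersion (pullback.map (w ≫ a) b a b w (𝟙 _) (𝟙 _) (by simp) (by simp)) :=
  MorphismProperty.of_isPullback (P := @IsOpenImmersion) (isPullback_map_of_comp w a b).flip
    inferInstance

variable [IsCofiltered I] [∀ (i j : I) (f : i ⟶ j), IsAffineHom (D.map f)] (hc : IsLimit c)
  [∀ i, CompactSpace (D.obj i)] [∀ i, QuasiSeparatedSpace (D.obj i)]

include hc in
/-- Gluing step, with models at a common stage and the overlap already descended. -/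
theorem hasModel_of_two_aux {X U V : Scheme.{u}} (f : X ⟶ c.pt) (u : U ⟶ X) (v : V ⟶ X)
    [IsOpenImmersion u] [IsOpenImmersion v]
    (hcov : ∀ x : X, x ∈ Set.range u.base ∨ x ∈ Set.range v.base)
    {k : I} (MU : ModelAt D c k (u ≫ f)) (MV : ModelAt D c k (v ≫ f))
    (W₁ : MU.Z₀.Opens) (hW₁c : IsCompact (W₁ : Set MU.Z₀))
    (hW₁ : MU.g ⁻¹ᵁ W₁ = (pullback.fst u v).opensRange)
    (W₂ : MV.Z₀.Opens) (hW₂c : IsCompact (W₂ : Set MV.Z₀))
    (hW₂ : MV.g ⁻¹ᵁ W₂ = (pullback.snd u v).opensRange) : HasModel D c f := by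
  let p₁ := pullback.fst u v
  let p₂ := pullback.snd u v
  have hp : p₁ ≫ u ≫ f = p₂ ≫ v ≫ f := by
    rw [← Category.assoc, ← Category.assoc, pullback.condition]
  let N₁ : ModelAt D c k (p₁ ≫ u ≫ f) := MU.restrict p₁ W₁ hW₁c hW₁
  let N₂ : ModelAt D c k (p₁ ≫ u ≫ f) := (MV.restrict p₂ W₂ hW₂c hW₂).ofEq hp.symm
  let n₁ : pullback u v ⟶ W₁.toScheme := N₁.g
  let n₂ : pullback u v ⟶ W₂.toScheme := N₂.g
  have hN₁g : n₁ ≫ W₁.ι = p₁ ≫ MU.g := MU.restrict_g_ι p₁ W₁ hW₁c hW₁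
  have hN₂g : n₂ ≫ W₂.ι = p₂ ≫ MV.g := MV.restrict_g_ι p₂ W₂ hW₂c hW₂
  have hN₁h : N₁.h₀ = W₁.ι ≫ MU.h₀ := rfl
  have hN₂h : N₂.h₀ = W₂.ι ≫ MV.h₀ := rfl
  obtain ⟨k', ψ, ε, hε1, hε2⟩ := N₁.exists_iso hc N₂ (𝟙 _) (Category.id_comp _)
  -- the pieces at stage `k'`
  let a : pullback MU.h₀ (D.map ψ) ⟶ D.obj k' := pullback.snd MU.h₀ (D.map ψ)
  let b : pullback MV.h₀ (D.map ψ) ⟶ D.obj k' := pullback.snd MV.h₀ (D.map ψ)
  let gU : U ⟶ pullback MU.h₀ (D.map ψ) := (MU.ofHom ψ).g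
  let gV : V ⟶ pullback MV.h₀ (D.map ψ) := (MV.ofHom ψ).g
  have hgU1 : gU ≫ pullback.fst MU.h₀ (D.map ψ) = MU.g := MU.ofHom_g_fst ψ
  have hgU2 : gU ≫ a = (u ≫ f) ≫ c.π.app k' := MU.ofHom_g_snd ψ
  have hgV1 : gV ≫ pullback.fst MV.h₀ (D.map ψ) = MV.g := MV.ofHom_g_fst ψ
  have hgV2 : gV ≫ b = (v ≫ f) ≫ c.π.app k' := MV.ofHom_g_snd ψ
  have hUpb : IsPullback gU (u ≫ f) a (c.π.app k') := (MU.ofHom ψ).pb
  have hVpb : IsPullback gV (v ≫ f) b (c.π.app k') := (MV.ofHom ψ).pb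
  let m₁ : pullback (W₁.ι ≫ MU.h₀) (D.map ψ) ⟶ pullback MU.h₀ (D.map ψ) :=
    pullback.map (W₁.ι ≫ MU.h₀) (D.map ψ) MU.h₀ (D.map ψ) W₁.ι (𝟙 _) (𝟙 _) (by simp) (by simp)
  let m₂ : pullback (W₂.ι ≫ MV.h₀) (D.map ψ) ⟶ pullback MV.h₀ (D.map ψ) :=
    pullback.map (W₂.ι ≫ MV.h₀) (D.map ψ) MV.h₀ (D.map ψ) W₂.ι (𝟙 _) (𝟙 _) (by simp) (by simp)
  have hm₁1 : m₁ ≫ pullback.fst MU.h₀ (D.map ψ) = pullback.fst (W₁.ι ≫ MU.h₀) (D.map ψ) ≫ W₁.ι :=
    pullback.lift_fst _ _ _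
  have hm₁2 : m₁ ≫ a = pullback.snd (W₁.ι ≫ MU.h₀) (D.map ψ) := by
    change m₁ ≫ pullback.snd MU.h₀ (D.map ψ) = _
    rw [pullback.lift_snd, Category.comp_id]
  have hm₂1 : m₂ ≫ pullback.fst MV.h₀ (D.map ψ) = pullback.fst (W₂.ι ≫ MV.h₀) (D.map ψ) ≫ W₂.ι :=
    pullback.lift_fst _ _ _
  have hm₂2 : m₂ ≫ b = pullback.snd (W₂.ι ≫ MV.h₀) (D.map ψ) := by
    change m₂ ≫ pullback.snd MV.h₀ (D.map ψ) = _
    rw [pullback.lift_snd, Category.comp_id]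
  haveI : IsOpenImmersion m₁ := isOpenImmersion_map_of_comp W₁.ι MU.h₀ (D.map ψ)
  haveI : IsOpenImmersion m₂ := isOpenImmersion_map_of_comp W₂.ι MV.h₀ (D.map ψ)
  let ε' : pullback (W₁.ι ≫ MU.h₀) (D.map ψ) ≅ pullback (W₂.ι ≫ MV.h₀) (D.map ψ) := ε
  have hε1' : ε'.hom ≫ pullback.snd (W₂.ι ≫ MV.h₀) (D.map ψ) =
      pullback.snd (W₁.ι ≫ MU.h₀) (D.map ψ) := hε1
  let ι₂ : pullback (W₁.ι ≫ MU.h₀) (D.map ψ) ⟶ pullback MV.h₀ (D.map ψ) := ε'.hom ≫ m₂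
  haveI : IsOpenImmersion ι₂ := inferInstanceAs (IsOpenImmersion (ε'.hom ≫ m₂))
  have hι : m₁ ≫ a = ι₂ ≫ b := by
    rw [hm₁2, Category.assoc, hm₂2, hε1']
  let s : pullback u v ⟶ pullback (W₁.ι ≫ MU.h₀) (D.map ψ) := (N₁.ofHom ψ).g
  have hs1 : s ≫ pullback.fst (W₁.ι ≫ MU.h₀) (D.map ψ) = n₁ := N₁.ofHom_g_fst ψ
  have hs2 : s ≫ pullback.snd (W₁.ι ≫ MU.h₀) (D.map ψ) = (p₁ ≫ u ≫ f) ≫ c.π.app k' :=
    N₁.ofHom_g_snd ψ
  let s' : pullback u v ⟶ pullback (W₂.ι ≫ MV.h₀) (D.map ψ) := (N₂.ofHom ψ).g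
  have hs'1 : s' ≫ pullback.fst (W₂.ι ≫ MV.h₀) (D.map ψ) = n₂ := N₂.ofHom_g_fst ψ
  have hs'2 : s' ≫ pullback.snd (W₂.ι ≫ MV.h₀) (D.map ψ) = (p₁ ≫ u ≫ f) ≫ c.π.app k' :=
    N₂.ofHom_g_snd ψ
  have hss' : s ≫ ε'.hom = s' := by
    have := hε2 s s' hs1 hs2 hs'1 hs'2
    rwa [Category.id_comp] at this
  have hsm₁ : s ≫ m₁ = p₁ ≫ gU := by
    apply pullback.hom_ext
    · rw [Category.assoc, hm₁1, ← Category.assoc, hs1, hN₁g, Category.assoc, hgU1]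
    · change (s ≫ m₁) ≫ a = (p₁ ≫ gU) ≫ a
      rw [Category.assoc, hm₁2, hs2]
      rw [Category.assoc p₁ gU a, hgU2]
      simp only [Category.assoc]
  have hsι₂ : s ≫ ι₂ = p₂ ≫ gV := by
    change s ≫ ε'.hom ≫ m₂ = p₂ ≫ gV
    rw [← Category.assoc, hss']
    apply pullback.hom_ext
    · rw [Category.assoc, hm₂1, ← Category.assoc, hs'1, hN₂g, Category.assoc, hgV1]
    · change (s' ≫ m₂) ≫ b = (p₂ ≫ gV) ≫ b
      rw [Category.assoc, hm₂2, hs'2]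
      rw [Category.assoc p₂ gV b, hgV2, hp]
      simp only [Category.assoc]
  have h₁ : ∀ y : U, gU.base y ∈ Set.range m₁.base → u.base y ∈ Set.range v.base := by
    rintro y ⟨t, ht⟩
    have e1 : MU.g.base y ∈ W₁ := by
      rw [← hgU1, Scheme.Hom.comp_apply, ← ht, ← Scheme.Hom.comp_apply, hm₁1,
        Scheme.Hom.comp_apply]
      exact ((pullback.fst (W₁.ι ≫ MU.h₀) (D.map ψ)).base t).2
    have e2 : y ∈ MU.g ⁻¹ᵁ W₁ := e1
    rw [hW₁] at e2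
    obtain ⟨z, rfl⟩ := e2
    refine ⟨p₂.base z, ?_⟩
    rw [← Scheme.Hom.comp_apply, ← Scheme.Hom.comp_apply]
    exact congrArg (fun φ : pullback u v ⟶ X => φ.base z) pullback.condition.symm
  have h₂ : ∀ y : V, gV.base y ∈ Set.range ι₂.base → v.base y ∈ Set.range u.base := by
    rintro y ⟨t, ht⟩
    have e1 : MV.g.base y ∈ W₂ := by
      rw [← hgV1, Scheme.Hom.comp_apply, ← ht]
      change (pullback.fst MV.h₀ (D.map ψ)).base ((ε'.hom ≫ m₂).base t) ∈ W₂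
      rw [Scheme.Hom.comp_apply, ← Scheme.Hom.comp_apply m₂, hm₂1, Scheme.Hom.comp_apply]
      exact ((pullback.fst (W₂.ι ≫ MV.h₀) (D.map ψ)).base (ε'.hom.base t)).2
    have e2 : y ∈ MV.g ⁻¹ᵁ W₂ := e1
    rw [hW₂] at e2
    obtain ⟨z, rfl⟩ := e2
    refine ⟨p₁.base z, ?_⟩
    rw [← Scheme.Hom.comp_apply, ← Scheme.Hom.comp_apply]
    exact congrArg (fun φ : pullback u v ⟶ X => φ.base z) pullback.condition
  obtain ⟨g, hg⟩ := exists_glue_pullback (c.π.app k') f u v hcov a b gU gV hUpb hVpb m₁ ι₂ hι h₁ h₂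
    s hsm₁ hsι₂
  haveI : LocallyOfFinitePresentation a := (MU.ofHom ψ).lfp
  haveI : LocallyOfFinitePresentation b := (MV.ofHom ψ).lfp
  haveI : CompactSpace ↥(pullback MU.h₀ (D.map ψ)) := (MU.ofHom ψ).compactSpace
  haveI : CompactSpace ↥(pullback MV.h₀ (D.map ψ)) := (MV.ofHom ψ).compactSpace
  haveI : QuasiSeparatedSpace ↥(pullback MU.h₀ (D.map ψ)) := (MU.ofHom ψ).quasiSeparatedSpace
  haveI : QuasiSeparatedSpace ↥(pullback MV.h₀ (D.map ψ)) := (MV.ofHom ψ).quasiSeparatedSpace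
  haveI : CompactSpace ↥(pullback (W₁.ι ≫ MU.h₀) (D.map ψ)) := (N₁.ofHom ψ).compactSpace
  haveI : CompactSpace ↥(pushout m₁ ι₂) := compactSpace_pushout m₁ ι₂
  haveI : QuasiSeparatedSpace ↥(pushout m₁ ι₂) := quasiSeparatedSpace_pushout m₁ ι₂
  exact ⟨k', ⟨{
    Z₀ := pushout m₁ ι₂
    h₀ := pushout.desc a b hι
    g := g
    lfp := desc_of_isZariskiLocalAtSource m₁ ι₂ @LocallyOfFinitePresentation a b hι
      inferInstance inferInstance
    qc := inferInstance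
    qs := inferInstance
    pb := hg }⟩⟩

end glue

end Groth.Agent.Lib.Helper13.LimModel
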