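import Groth.Agent.Lib.Helper13.LimModel
import Groth.Agent.Lib.Helper13.LimDescendFlat
import Groth.Agent.Lib.Helper13.LimDescendSurj

/-!
# Descent of morphisms of finite presentation: the affine case
-/

set_option autoImplicit false
universe u

open CategoryTheory CategoryTheory.Limits AlgebraicGeometry TopologicalSpace Topology TensorProduct

namespace Groth.Agent.Lib.Helper13.LimModel

open Groth.Agent.Lib.Helper22 Groth.Agent.Lib.Helper13.LimDescend

theorem locallyOfFinitePresentation_terminal_from_Spec (R₀ : CommRingCat.{u})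
    [Algebra.FiniteType ℤ R₀] : LocallyOfFinitePresentation (terminal.from (Spec R₀)) := by
  let φ : CommRingCat.of (ULift.{u} ℤ) ⟶ R₀ :=
    CommRingCat.ofHom ((algebraMap ℤ R₀).comp (ULift.ringEquiv : ULift.{u} ℤ ≃+* ℤ).toRingHom)
  have hφ : φ.hom.FinitePresentation := by
    refine RingHom.FinitePresentation.comp ?_
      (RingHom.FinitePresentation.of_bijective (ULift.ringEquiv : ULift.{u} ℤ ≃+* ℤ).bijective)
    exact RingHom.finitePresentation_algebraMap.mpr
      (Algebra.FinitePresentation.of_finiteType.mp inferInstance)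
  haveI : LocallyOfFinitePresentation (Spec.map φ) :=
    (HasRingHomProperty.Spec_iff (P := @LocallyOfFinitePresentation)).mpr hφ
  haveI : IsIso (terminal.from (Spec (CommRingCat.of (ULift.{u} ℤ)))) :=
    isIso_of_isTerminal specULiftZIsTerminal terminalIsTerminal _
  have : terminal.from (Spec R₀) = Spec.map φ ≫ terminal.from _ := Subsingleton.elim _ _
  rw [this]
  infer_instance

theorem exists_fp_model {X Y : Scheme.{u}} [IsAffine X] [IsAffine Y] (a : X ⟶ Y)
    [LocallyOfFinitePresentation a] :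
    ∃ (R₀ S₀ : CommRingCat.{u}) (_ : Algebra.FiniteType ℤ R₀) (hZ : R₀ ⟶ S₀)
      (_ : hZ.hom.FinitePresentation) (b₀ : Y ⟶ Spec R₀) (p : X ⟶ Spec S₀),
      IsPullback p a (Spec.map hZ) b₀ := by
  have hφ : a.appTop.hom.FinitePresentation :=
    (HasRingHomProperty.iff_of_isAffine (P := @LocallyOfFinitePresentation)).mp inferInstance
  algebraize [a.appTop.hom]
  let P := Algebra.Presentation.ofFinitePresentation Γ(Y, ⊤) Γ(X, ⊤)
  let ε : Γ(Y, ⊤) ⊗[P.Core] P.ModelOfHasCoeffs P.Core ≃ₐ[Γ(Y, ⊤)] Γ(X, ⊤) :=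
    P.tensorModelOfHasCoeffsEquiv P.Core
  haveI : IsNoetherianRing P.Core := Algebra.FiniteType.isNoetherianRing ℤ P.Core
  let inr' : CommRingCat.of (P.ModelOfHasCoeffs P.Core) ⟶ Γ(X, ⊤) :=
    CommRingCat.ofHom (ε.toAlgHom.toRingHom.comp
      (Algebra.TensorProduct.includeRight (R := P.Core) (A := Γ(Y, ⊤))
        (B := P.ModelOfHasCoeffs P.Core)).toRingHom)
  have hpo : IsPushout (CommRingCat.ofHom (algebraMap P.Core Γ(Y, ⊤)))
      (CommRingCat.ofHom (algebraMap P.Core (P.ModelOfHasCoeffs P.Core))) a.appTop inr' :=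
    (CommRingCat.isPushout_tensorProduct P.Core Γ(Y, ⊤) (P.ModelOfHasCoeffs P.Core)).of_iso
      (Iso.refl _) (Iso.refl _) (Iso.refl _) ε.toRingEquiv.toCommRingCatIso
      (by simp) (by simp)
      (by ext y; exact ε.commutes y)
      (by rw [Iso.refl_hom, Category.id_comp]; rfl)
  have hpb := (isPullback_SpecMap_of_isPushout _ _ _ _ hpo).flip
  have hX : IsPullback X.isoSpec.hom a (Spec.map a.appTop) Y.isoSpec.hom :=
    IsPullback.of_horiz_isIso ⟨Scheme.isoSpec_hom_naturality a⟩
  haveI : Algebra.FiniteType P.Core (P.ModelOfHasCoeffs P.Core) := inferInstance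
  exact ⟨CommRingCat.of P.Core, CommRingCat.of (P.ModelOfHasCoeffs P.Core),
    inferInstanceAs (Algebra.FiniteType ℤ P.Core),
    CommRingCat.ofHom (algebraMap P.Core (P.ModelOfHasCoeffs P.Core)),
    RingHom.finitePresentation_algebraMap.mpr
      (Algebra.FinitePresentation.of_finiteType.mp inferInstance), _, _, hX.paste_horiz hpb⟩

section affine

variable {I : Type u} [SmallCategory I] {D : I ⥤ Scheme.{u}} {c : Cone D}
  [IsCofiltered I] [∀ (i j : I) (f : i ⟶ j), IsAffineHom (D.map f)] (hc : IsLimit c)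
  [∀ i, CompactSpace (D.obj i)] [∀ i, QuasiSeparatedSpace (D.obj i)]

include hc in
/-- The affine case: an affine scheme locally of finite presentation over the limit, mapping into
the preimage of an affine open of a stage, has a model. -/
theorem hasModel_of_isAffine {Z : Scheme.{u}} [IsAffine Z] (h : Z ⟶ c.pt)
    [LocallyOfFinitePresentation h] (i : I) (V : (D.obj i).Opens) (hV : IsAffineOpen V)
    (hZV : Set.range h.base ⊆ ((c.π.app i ⁻¹ᵁ V : c.pt.Opens) : Set c.pt)) : HasModel D c h := by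
  haveI : ∀ {i j : I} (f : i ⟶ j), IsAffineHom (D.map f) := fun f => inferInstance
  haveI hπ : IsAffineHom (c.π.app i) := isAffineHom_π_app D c hc i
  let Y : c.pt.Opens := c.π.app i ⁻¹ᵁ V
  have hY : IsAffineOpen Y := hV.preimage (c.π.app i)
  haveI : IsAffine Y.toScheme := hY
  let h' : Z ⟶ Y.toScheme := IsOpenImmersion.lift Y.ι h (by rw [Scheme.Opens.range_ι]; exact hZV)
  have hh' : h' ≫ Y.ι = h := IsOpenImmersion.lift_fac _ _ _
  haveI : LocallyOfFinitePresentation (h' ≫ Y.ι) := by rw [hh']; infer_instance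
  haveI : LocallyOfFinitePresentation h' := locallyOfFinitePresentation_of_comp h' Y.ι
  obtain ⟨R₀, S₀, hR₀, hZ, hfp, b₀, p, hp⟩ := exists_fp_model h'
  haveI : LocallyOfFinitePresentation (terminal.from (Spec R₀)) :=
    locallyOfFinitePresentation_terminal_from_Spec R₀
  haveI : LocallyOfFinitePresentation (Spec.map hZ) :=
    (HasRingHomProperty.Spec_iff (P := @LocallyOfFinitePresentation)).mpr hfp
  -- the restricted diagram
  let E : Over i ⥤ Scheme.{u} := opensDiagram D i V
  let cE : Cone E := opensCone D c i V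
  have hcE : IsLimit cE := isLimitOpensCone D c hc i V
  haveI : ∀ j : Over i, IsAffine (E.obj j) := fun j => hV.preimage (D.map j.hom)
  haveI : ∀ {j k : Over i} (f : j ⟶ k), IsAffineHom (E.map f) := fun f => by
    dsimp only [E]; infer_instance
  let t : E ⟶ (Functor.const (Over i)).obj (⊤_ Scheme.{u}) :=
    { app := fun j => terminal.from _
      naturality := fun _ _ _ => terminal.hom_ext _ _ }
  obtain ⟨j, γ, hγ1, -⟩ := Scheme.exists_π_app_comp_eq_of_locallyOfFinitePresentation E t
    (terminal.from (Spec R₀)) cE hcE b₀ (by ext j; exact terminal.hom_ext _ _)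
  let Vj : (D.obj j.left).Opens := D.map j.hom ⁻¹ᵁ V
  let γ' : Vj.toScheme ⟶ Spec R₀ := γ
  let πj : Y.toScheme ⟶ Vj.toScheme := cE.π.app j
  have hγ1' : πj ≫ γ' = b₀ := hγ1
  have hπj : πj ≫ Vj.ι = Y.ι ≫ c.π.app j.left := Scheme.Hom.resLE_comp_ι _ _
  let h₀' : pullback γ' (Spec.map hZ) ⟶ Vj.toScheme := pullback.fst γ' (Spec.map hZ)
  let g : Z ⟶ pullback γ' (Spec.map hZ) := pullback.lift (h' ≫ πj) p (by
    rw [Category.assoc, hγ1', hp.w])
  have sq1 : IsPullback g h' h₀' πj := by
    refine IsPullback.of_right ?_ (pullback.lift_fst _ _ _)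
      (IsPullback.of_hasPullback γ' (Spec.map hZ)).flip
    rw [pullback.lift_snd, hγ1']
    exact hp
  have sq2 : IsPullback πj Y.ι Vj.ι (c.π.app j.left) := by
    refine IsOpenImmersion.isPullback _ _ _ _ hπj.symm ?_
    rw [Scheme.Opens.opensRange_ι, Scheme.Opens.opensRange_ι]
    change c.π.app j.left ⁻¹ᵁ (D.map j.hom ⁻¹ᵁ V) = c.π.app i ⁻¹ᵁ V
    rw [← Scheme.Hom.comp_preimage, c.w]
  have sq3 : IsPullback g h (h₀' ≫ Vj.ι) (c.π.app j.left) := by
    have := sq1.paste_vert sq2
    rwa [hh'] at this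
  haveI : IsAffine Vj.toScheme := hV.preimage (D.map j.hom)
  haveI : CompactSpace Vj.toScheme := inferInstance
  exact ⟨j.left, ⟨{
    Z₀ := pullback γ' (Spec.map hZ)
    h₀ := h₀' ≫ Vj.ι
    g := g
    lfp := inferInstance
    qc := inferInstance
    qs := inferInstance
    pb := sq3 }⟩⟩

end affine

end Groth.Agent.Lib.Helper13.LimModel
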