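import Groth.Agent.Lib.Helper13.LimModelMain
import Groth.Agent.Lib.Helper13.LimDescendDiag

/-!
# Descent of finitely presented coverings along cofiltered limits
-/

set_option autoImplicit false
universe u

open CategoryTheory CategoryTheory.Limits AlgebraicGeometry TopologicalSpace Topology

namespace Groth.Agent.Lib.Helper13.LimModel

variable {I : Type u} [SmallCategory I] [IsCofiltered I] (D : I ⥤ Scheme.{u}) (c : Cone D)
  (hc : IsLimit c) [∀ (i j : I) (f : i ⟶ j), IsAffineHom (D.map f)]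
  [∀ i, CompactSpace (D.obj i)] [∀ i, QuasiSeparatedSpace (D.obj i)]

include hc in
/-- A finitely presented morphism to the limit with a descending property `P` has a model
with `P`. -/
theorem exists_modelAt_prop (P : MorphismProperty Scheme.{u}) [P.RespectsIso]
    (core : ∀ (j₀ : I) {X₀ : Scheme.{u}} [CompactSpace X₀] [QuasiSeparatedSpace X₀]
      (a : X₀ ⟶ D.obj j₀) [LocallyOfFinitePresentation a],
      P (pullback.fst (c.π.app j₀) a) → ∃ (j : I) (ψ : j ⟶ j₀), P (pullback.fst (D.map ψ) a))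
    {X : Scheme.{u}} (f : X ⟶ c.pt) [LocallyOfFinitePresentation f] [QuasiCompact f]
    [QuasiSeparated f] (hf : P f) :
    ∃ (k : I) (M : ModelAt D c k f), P M.h₀ := by
  obtain ⟨k, ⟨M⟩⟩ := hasModel_of_finitePresentation hc f
  haveI : LocallyOfFinitePresentation M.h₀ := M.lfp
  haveI : CompactSpace M.Z₀ := M.compactSpace
  haveI : QuasiSeparatedSpace M.Z₀ := M.quasiSeparatedSpace
  have h1 : P (pullback.fst (c.π.app k) M.h₀) :=
    (LimDescend.prop_iff_of_isPullback P M.pb.flip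
      (IsPullback.of_hasPullback (c.π.app k) M.h₀)).mp hf
  obtain ⟨j, ψ, hj⟩ := core k M.h₀ h1
  refine ⟨j, M.ofHom ψ, ?_⟩
  exact (LimDescend.prop_iff_of_isPullback P (IsPullback.of_hasPullback (D.map ψ) M.h₀)
    (IsPullback.of_hasPullback M.h₀ (D.map ψ)).flip).mp hj

include hc in
/-- Descent of a finite-presentation covering family with a property `P` of open morphisms. -/
theorem exists_descend_cover (P : MorphismProperty Scheme.{u}) [P.RespectsIso]
    [P.IsStableUnderBaseChange]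
    (hopen : ∀ {X Y : Scheme.{u}} (f : X ⟶ Y), P f → LocallyOfFinitePresentation f →
      IsOpenMap f.base)
    (core : ∀ (j₀ : I) {X₀ : Scheme.{u}} [CompactSpace X₀] [QuasiSeparatedSpace X₀]
      (a : X₀ ⟶ D.obj j₀) [LocallyOfFinitePresentation a],
      P (pullback.fst (c.π.app j₀) a) → ∃ (j : I) (ψ : j ⟶ j₀), P (pullback.fst (D.map ψ) a))
    {ι : Type u} (U : ι → Scheme.{u}) (u : ∀ a, U a ⟶ c.pt) (hP : ∀ a, P (u a))
    [∀ a, LocallyOfFinitePresentation (u a)] [∀ a, QuasiCompact (u a)]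
    [∀ a, QuasiSeparated (u a)] (hcov : ∀ x : c.pt, ∃ (a : ι) (y : U a), (u a).base y = x) :
    ∃ (i : I) (n : ℕ) (V : Fin n → Scheme.{u}) (v : ∀ j, V j ⟶ D.obj i) (a : Fin n → ι)
      (e : ∀ j, U (a j) ⟶ V j),
      (∀ j, P (v j) ∧ LocallyOfFinitePresentation (v j) ∧ QuasiCompact (v j) ∧
        QuasiSeparated (v j)) ∧
      (∀ x : D.obj i, ∃ (j : Fin n) (y : V j), (v j).base y = x) ∧
      ∀ j, IsPullback (e j) (u (a j)) (v j) (c.π.app i) := by
  classical
  haveI : ∀ {i j : I} (f : i ⟶ j), IsAffineHom (D.map f) := fun f => inferInstance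
  haveI : CompactSpace c.pt := Scheme.compactSpace_of_isLimit D c hc
  -- finite subcover
  obtain ⟨t, ht⟩ := isCompact_univ.elim_finite_subcover (fun a => Set.range (u a).base)
    (fun a => (hopen (u a) (hP a) inferInstance).isOpen_range)
    (fun x _ => by
      obtain ⟨a, y, hy⟩ := hcov x
      exact Set.mem_iUnion.mpr ⟨a, y, hy⟩)
  let a : Fin t.card → ι := fun j => (t.equivFin.symm j).1
  have hcov' : ∀ x : c.pt, ∃ (j : Fin t.card) (y : U (a j)), (u (a j)).base y = x := by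
    intro x
    obtain ⟨b, hb⟩ := Set.mem_iUnion.mp (ht (Set.mem_univ x))
    obtain ⟨hbt, y, hy⟩ := Set.mem_iUnion.mp hb
    refine ⟨t.equivFin ⟨b, hbt⟩, ?_⟩
    have : a (t.equivFin ⟨b, hbt⟩) = b := by simp [a]
    rw [this]
    exact ⟨y, hy⟩
  -- models with `P`
  have H : ∀ j : Fin t.card, ∃ (k : I) (M : ModelAt D c k (u (a j))), P M.h₀ :=
    fun j => exists_modelAt_prop D c hc P core (u (a j)) (hP (a j))
  choose k M hM using H
  obtain ⟨k₀, hk₀⟩ := IsCofiltered.inf_objs_exists (Finset.univ.image k)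
  have φ : ∀ j, k₀ ⟶ k j := fun j =>
    (hk₀ (Finset.mem_image_of_mem k (Finset.mem_univ j))).some
  let M' : ∀ j, ModelAt D c k₀ (u (a j)) := fun j => (M j).ofHom (φ j)
  have hM' : ∀ j, P (M' j).h₀ := fun j =>
    MorphismProperty.pullback_snd (P := P) _ _ (hM j)
  -- the union of the images
  let O : (D.obj k₀).Opens := ⨆ j, ⟨Set.range (M' j).h₀.base,
    (hopen (M' j).h₀ (hM' j) (M' j).lfp).isOpen_range⟩
  have hO : c.π.app k₀ ⁻¹ᵁ O = ⊤ := by
    rw [eq_top_iff]
    intro x _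
    obtain ⟨j, y, hy⟩ := hcov' x
    refine Opens.mem_iSup.mpr ⟨j, (M' j).g.base y, ?_⟩
    rw [← hy, ← Scheme.Hom.comp_apply, ← Scheme.Hom.comp_apply, (M' j).pb.w]
  obtain ⟨k', f, hf⟩ := exists_map_eq_top D c hc O hO
  let M'' : ∀ j, ModelAt D c k' (u (a j)) := fun j => (M' j).ofHom f
  refine ⟨k', t.card, fun j => (M'' j).Z₀, fun j => (M'' j).h₀, a, fun j => (M'' j).g,
    fun j => ⟨MorphismProperty.pullback_snd (P := P) _ _ (hM' j), (M'' j).lfp, (M'' j).qc,
      (M'' j).qs⟩, ?_, fun j => (M'' j).pb⟩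
  intro x
  have hx : (D.map f).base x ∈ O := by
    have : x ∈ D.map f ⁻¹ᵁ O := by rw [hf]; trivial
    exact this
  obtain ⟨j, z, hz⟩ := Opens.mem_iSup.mp hx
  obtain ⟨w, -, hw⟩ := Scheme.Pullback.exists_preimage_pullback (f := (M' j).h₀) (g := D.map f)
    z x hz
  exact ⟨j, w, hw⟩

end Groth.Agent.Lib.Helper13.LimModel
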