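import Mathlib
import Groth.Prelude.Def_W4c5cptfessfintypeLocImm
import Groth.Prelude.Def_EssFT
import Groth.Agent.Lib.Helper13.LocImmTwo

/-!
# Gluing two factorizations (localizing immersion followed by finite type): main theorem
-/

universe u

open CategoryTheory CategoryTheory.Limits AlgebraicGeometry TopologicalSpace LocImm Topology

namespace Groth.Agent.Lib.Helper13.LocImmLib

/-- The glued (possibly non-separated) factorization. -/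
theorem exists_factorization_glued {X S : Scheme.{u}} [IsNoetherian X]
    [IsNoetherian S] (f : X ⟶ S)
    (U₁ U₂ : X.Opens) (hU : U₁ ⊔ U₂ = ⊤) (Y₁ Y₂ : Scheme.{u}) [IsNoetherian Y₁] [IsNoetherian Y₂]
    (k₁ : (U₁ : Scheme.{u}) ⟶ Y₁) (k₂ : (U₂ : Scheme.{u}) ⟶ Y₂) (p₁ : Y₁ ⟶ S) (p₂ : Y₂ ⟶ S)
    (hk₁ : IsLocImmersion k₁) (hk₂ : IsLocImmersion k₂)
    [IsSeparated p₁] [IsSeparated p₂] [LocallyOfFiniteType p₁] [LocallyOfFiniteType p₂]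
    [QuasiCompact p₁] [QuasiCompact p₂]
    (h₁ : k₁ ≫ p₁ = U₁.ι ≫ f) (h₂ : k₂ ≫ p₂ = U₂.ι ≫ f) :
    ∃ (Y : Scheme.{u}) (k : X ⟶ Y) (p : Y ⟶ S), IsNoetherian Y ∧ IsLocImmersion k ∧
      LocallyOfFiniteType p ∧ QuasiCompact p ∧ k ≫ p = f := by
  haveI : IsNoetherian U₁.toScheme := isNoetherian_of_locallyOfFiniteType U₁.ι
  haveI : IsNoetherian U₂.toScheme := isNoetherian_of_locallyOfFiniteType U₂.ι
  haveI : IsNoetherian (U₁ ⊓ U₂).toScheme := isNoetherian_of_locallyOfFiniteType (U₁ ⊓ U₂).ι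
  let a₁ : (U₁ ⊓ U₂).toScheme ⟶ U₁.toScheme := X.homOfLE inf_le_left
  let a₂ : (U₁ ⊓ U₂).toScheme ⟶ U₂.toScheme := X.homOfLE inf_le_right
  have ha₁ : a₁ ≫ U₁.ι = (U₁ ⊓ U₂).ι := X.homOfLE_ι _
  have ha₂ : a₂ ≫ U₂.ι = (U₁ ⊓ U₂).ι := X.homOfLE_ι _
  have hc₁ : IsLocImmersion (a₁ ≫ k₁) :=
    IsLocImmersion.comp (isLocImmersion_of_isOpenImmersion a₁) hk₁
  have hc₂ : IsLocImmersion (a₂ ≫ k₂) :=
    IsLocImmersion.comp (isLocImmersion_of_isOpenImmersion a₂) hk₂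
  have hc : (a₁ ≫ k₁) ≫ p₁ = (a₂ ≫ k₂) ≫ p₂ := by
    rw [Category.assoc, Category.assoc, h₁, h₂, ← Category.assoc, ← Category.assoc, ha₁, ha₂]
  obtain ⟨W, κ, g₁, g₂, hκ, hg₁, hg₂, hgp, hκ₁, hκ₂⟩ :=
    exists_locImmersion_openImmersions (a₁ ≫ k₁) (a₂ ≫ k₂) p₁ p₂ hc₁ hc₂ hc
  -- shrink `W`
  let E₁ : Set U₁.toScheme := {v | v.1 ∉ U₂}
  let E₂ : Set U₂.toScheme := {v | v.1 ∉ U₁}
  have hE₁ : IsClosed E₁ := by
    have : E₁ = U₁.ι.base ⁻¹' (U₂ : Set X)ᶜ := rfl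
    rw [this]
    exact U₂.isOpen.isClosed_compl.preimage U₁.ι.continuous
  have hE₂ : IsClosed E₂ := by
    have : E₂ = U₂.ι.base ⁻¹' (U₁ : Set X)ᶜ := rfl
    rw [this]
    exact U₁.isOpen.isClosed_compl.preimage U₂.ι.continuous
  let F₁ : Set Y₁ := closure (k₁.base '' E₁)
  let F₂ : Set Y₂ := closure (k₂.base '' E₂)
  have hF₁ : ∀ v : U₁.toScheme, k₁ v ∈ F₁ → v.1 ∉ U₂ := by
    intro v hv
    have h1 : v ∈ k₁.base ⁻¹' closure (k₁.base '' E₁) := hv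
    rw [← (IsLocImmersion.isEmbedding hk₁).isInducing.closure_eq_preimage_closure_image,
      hE₁.closure_eq] at h1
    exact h1
  have hF₂ : ∀ v : U₂.toScheme, k₂ v ∈ F₂ → v.1 ∉ U₁ := by
    intro v hv
    have h1 : v ∈ k₂.base ⁻¹' closure (k₂.base '' E₂) := hv
    rw [← (IsLocImmersion.isEmbedding hk₂).isInducing.closure_eq_preimage_closure_image,
      hE₂.closure_eq] at h1
    exact h1
  let W' : W.Opens := ⟨(g₁.base ⁻¹' F₁ ∪ g₂.base ⁻¹' F₂)ᶜ,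
    ((isClosed_closure.preimage g₁.continuous).union
      (isClosed_closure.preimage g₂.continuous)).isOpen_compl⟩
  have hκW' : Set.range κ.base ⊆ Set.range W'.ι.base := by
    rintro _ ⟨u, rfl⟩
    rw [Scheme.Opens.range_ι]
    rintro (hu | hu)
    · have e1 : g₁ (κ u) = k₁ (a₁ u) := by
        rw [← Scheme.Hom.comp_apply, hκ₁, Scheme.Hom.comp_apply]
      have hu' : g₁ (κ u) ∈ F₁ := hu
      rw [e1] at hu'
      apply hF₁ _ hu'
      rw [Scheme.homOfLE_apply]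
      exact u.2.2
    · have e1 : g₂ (κ u) = k₂ (a₂ u) := by
        rw [← Scheme.Hom.comp_apply, hκ₂, Scheme.Hom.comp_apply]
      have hu' : g₂ (κ u) ∈ F₂ := hu
      rw [e1] at hu'
      apply hF₂ _ hu'
      rw [Scheme.homOfLE_apply]
      exact u.2.1
  let κ' : (U₁ ⊓ U₂).toScheme ⟶ W'.toScheme := IsOpenImmersion.lift W'.ι κ hκW'
  have hκ'fac : κ' ≫ W'.ι = κ := IsOpenImmersion.lift_fac _ _ _
  have hκ' : IsLocImmersion κ' := isLocImmersion_of_comp_isOpenImmersion κ' W'.ι (hκ'fac ▸ hκ)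
  let g₁' : W'.toScheme ⟶ Y₁ := W'.ι ≫ g₁
  let g₂' : W'.toScheme ⟶ Y₂ := W'.ι ≫ g₂
  have hκ₁' : κ' ≫ g₁' = a₁ ≫ k₁ := by rw [← Category.assoc, hκ'fac, hκ₁]
  have hκ₂' : κ' ≫ g₂' = a₂ ≫ k₂ := by rw [← Category.assoc, hκ'fac, hκ₂]
  have hgp' : g₁' ≫ p₁ = g₂' ≫ p₂ := by
    simp only [g₁', g₂', Category.assoc, hgp]
  have hP₁ : ∀ (w : W'.toScheme) (v : U₁.toScheme), k₁ v = g₁' w → v.1 ∈ U₂ := by
    intro w v hv
    by_contra hcon
    have : g₁ (W'.ι w) ∈ F₁ := by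
      have e1 : g₁ (W'.ι w) = g₁' w := by simp [g₁']
      rw [e1, ← hv]
      exact subset_closure ⟨v, hcon, rfl⟩
    exact w.2 (Or.inl this)
  have hP₂ : ∀ (w : W'.toScheme) (v : U₂.toScheme), k₂ v = g₂' w → v.1 ∈ U₁ := by
    intro w v hv
    by_contra hcon
    have : g₂ (W'.ι w) ∈ F₂ := by
      have e1 : g₂ (W'.ι w) = g₂' w := by simp [g₂']
      rw [e1, ← hv]
      exact subset_closure ⟨v, hcon, rfl⟩
    exact w.2 (Or.inr this)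
  -- glue
  let i₁ : Y₁ ⟶ pushout g₁' g₂' := pushout.inl g₁' g₂'
  let i₂ : Y₂ ⟶ pushout g₁' g₂' := pushout.inr g₁' g₂'
  let pg : pushout g₁' g₂' ⟶ S := pushout.desc p₁ p₂ hgp'
  have hpg₁ : i₁ ≫ pg = p₁ := pushout.inl_desc _ _ _
  have hpg₂ : i₂ ≫ pg = p₂ := pushout.inr_desc _ _ _
  -- the morphism `k`
  have hcompat : pullback.fst U₁.ι U₂.ι ≫ (k₁ ≫ i₁) = pullback.snd U₁.ι U₂.ι ≫ (k₂ ≫ i₂) := by
    have hr : Set.range (pullback.fst U₁.ι U₂.ι ≫ U₁.ι).base ⊆ Set.range (U₁ ⊓ U₂).ι.base := by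
      rintro _ ⟨z, rfl⟩
      rw [Scheme.Opens.range_ι]
      refine ⟨(pullback.fst U₁.ι U₂.ι z).2, ?_⟩
      have : (pullback.fst U₁.ι U₂.ι ≫ U₁.ι) z = (pullback.snd U₁.ι U₂.ι ≫ U₂.ι) z := by
        rw [pullback.condition]
      rw [this]
      exact (pullback.snd U₁.ι U₂.ι z).2
    let ℓ : pullback U₁.ι U₂.ι ⟶ (U₁ ⊓ U₂).toScheme :=
      IsOpenImmersion.lift (U₁ ⊓ U₂).ι (pullback.fst U₁.ι U₂.ι ≫ U₁.ι) hr
    have hℓ : ℓ ≫ (U₁ ⊓ U₂).ι = pullback.fst U₁.ι U₂.ι ≫ U₁.ι := IsOpenImmersion.lift_fac _ _ _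
    have hℓ₁ : ℓ ≫ a₁ = pullback.fst U₁.ι U₂.ι := by
      rw [← cancel_mono U₁.ι, Category.assoc, ha₁, hℓ]
    have hℓ₂ : ℓ ≫ a₂ = pullback.snd U₁.ι U₂.ι := by
      rw [← cancel_mono U₂.ι, Category.assoc, ha₂, hℓ, pullback.condition]
    have hpc : g₁' ≫ i₁ = g₂' ≫ i₂ := pushout.condition
    calc pullback.fst U₁.ι U₂.ι ≫ (k₁ ≫ i₁) = ℓ ≫ (a₁ ≫ k₁) ≫ i₁ := by
          rw [← hℓ₁]
          simp only [Category.assoc]
      _ = ℓ ≫ (κ' ≫ g₁') ≫ i₁ := by rw [hκ₁']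
      _ = ℓ ≫ (κ' ≫ g₂') ≫ i₂ := by simp only [Category.assoc, hpc]
      _ = ℓ ≫ (a₂ ≫ k₂) ≫ i₂ := by rw [hκ₂']
      _ = pullback.snd U₁.ι U₂.ι ≫ (k₂ ≫ i₂) := by
          rw [← hℓ₂]
          simp only [Category.assoc]
  obtain ⟨k', hk'1, hk'2, huniq⟩ := GlueTwo.exists_glue_two U₁ U₂ (k₁ ≫ i₁) (k₂ ≫ i₂) hcompat
  haveI : IsIso (U₁ ⊔ U₂).ι := by
    rw [hU]
    exact inferInstanceAs (IsIso X.topIso.hom)
  let k : X ⟶ pushout g₁' g₂' := inv (U₁ ⊔ U₂).ι ≫ k'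
  have hk1 : U₁.ι ≫ k = k₁ ≫ i₁ := by
    rw [← X.homOfLE_ι (le_sup_left : U₁ ≤ U₁ ⊔ U₂), Category.assoc, IsIso.hom_inv_id_assoc, hk'1]
  have hk2 : U₂.ι ≫ k = k₂ ≫ i₂ := by
    rw [← X.homOfLE_ι (le_sup_right : U₂ ≤ U₁ ⊔ U₂), Category.assoc, IsIso.hom_inv_id_assoc, hk'2]
  have hkp : k ≫ pg = f := by
    have : k' ≫ pg = (U₁ ⊔ U₂).ι ≫ f := by
      apply huniq
      · rw [← Category.assoc, hk'1, Category.assoc, hpg₁, h₁, X.homOfLE_ι_assoc]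
      · rw [← Category.assoc, hk'2, Category.assoc, hpg₂, h₂, X.homOfLE_ι_assoc]
    rw [Category.assoc, this, IsIso.inv_hom_id_assoc]
  -- finiteness properties of the glued scheme
  haveI hlft : LocallyOfFiniteType pg := by
    rw [IsZariskiLocalAtSource.iff_of_openCover (P := @LocallyOfFiniteType)
      (pushoutOpenCover g₁' g₂')]
    rintro (_ | _)
    · change LocallyOfFiniteType (i₂ ≫ pg)
      rw [hpg₂]
      infer_instance
    · change LocallyOfFiniteType (i₁ ≫ pg)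
      rw [hpg₁]
      infer_instance
  haveI : CompactSpace ↑(pushout g₁' g₂') := by
    haveI : ∀ b, CompactSpace ((pushoutOpenCover g₁' g₂').X b) := by
      rintro (_ | _)
      · exact inferInstanceAs (CompactSpace Y₂)
      · exact inferInstanceAs (CompactSpace Y₁)
    haveI : Finite (pushoutOpenCover g₁' g₂').I₀ := inferInstanceAs (Finite Bool)
    exact (pushoutOpenCover g₁' g₂').compactSpace
  haveI : QuasiCompact pg := inferInstance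
  haveI : IsNoetherian (pushout g₁' g₂') := isNoetherian_of_locallyOfFiniteType pg
  -- `k` is a localizing immersion
  have hkloc : IsLocalizing k := by
    apply isLocalizing_of_local
    intro x
    have hx : x ∈ U₁ ⊔ U₂ := hU ▸ trivial
    rcases hx with hx | hx
    · refine ⟨U₁, hx, ?_⟩
      rw [hk1]
      exact (IsLocImmersion.comp hk₁ (isLocImmersion_of_isOpenImmersion i₁)).1
    · refine ⟨U₂, hx, ?_⟩
      rw [hk2]
      exact (IsLocImmersion.comp hk₂ (isLocImmersion_of_isOpenImmersion i₂)).1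
  have hkv₁ : ∀ v : U₁.toScheme, k (U₁.ι v) = i₁ (k₁ v) := by
    intro v
    rw [← Scheme.Hom.comp_apply, hk1, Scheme.Hom.comp_apply]
  have hkv₂ : ∀ v : U₂.toScheme, k (U₂.ι v) = i₂ (k₂ v) := by
    intro v
    rw [← Scheme.Hom.comp_apply, hk2, Scheme.Hom.comp_apply]
  have hkey : ∀ (v : U₁.toScheme) (v' : U₂.toScheme), k (U₁.ι v) = k (U₂.ι v') → U₁.ι v = U₂.ι v' := by
    intro v v' hvv'
    rw [hkv₁, hkv₂] at hvv'
    obtain ⟨w, hw1, hw2⟩ := exists_of_inl_eq_inr g₁' g₂' _ _ hvv'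
    have hv2 : v.1 ∈ U₂ := hP₁ w v hw1.symm
    have hv'1 : v'.1 ∈ U₁ := hP₂ w v' hw2.symm
    let u : (U₁ ⊓ U₂).toScheme := ⟨v.1, v.2, hv2⟩
    let u' : (U₁ ⊓ U₂).toScheme := ⟨v'.1, hv'1, v'.2⟩
    have hu : a₁ u = v := Subtype.ext (Scheme.homOfLE_apply _ u)
    have hu' : a₂ u' = v' := Subtype.ext (Scheme.homOfLE_apply _ u')
    have e1 : g₁' (κ' u) = g₁' w := by
      rw [← Scheme.Hom.comp_apply, hκ₁', Scheme.Hom.comp_apply, hu, hw1]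
    have e2 : g₂' (κ' u') = g₂' w := by
      rw [← Scheme.Hom.comp_apply, hκ₂', Scheme.Hom.comp_apply, hu', hw2]
    have e3 : κ' u = κ' u' :=
      (g₁'.isOpenEmbedding.injective e1).trans (g₂'.isOpenEmbedding.injective e2).symm
    have e4 : u = u' := hκ'.2 e3
    have : u.1 = u'.1 := congrArg Subtype.val e4
    exact this
  have hkinj : Function.Injective k.base := by
    intro x x' hxx'
    have hx : x ∈ U₁ ⊔ U₂ := hU ▸ trivial
    have hx' : x' ∈ U₁ ⊔ U₂ := hU ▸ trivial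
    rcases hx with hx | hx <;> rcases hx' with hx' | hx'
    · have e : k (U₁.ι ⟨x, hx⟩) = k (U₁.ι ⟨x', hx'⟩) := hxx'
      rw [hkv₁, hkv₁] at e
      have := hk₁.2 (i₁.isOpenEmbedding.injective e)
      exact congrArg Subtype.val this
    · exact hkey ⟨x, hx⟩ ⟨x', hx'⟩ hxx'
    · exact (hkey ⟨x', hx'⟩ ⟨x, hx⟩ hxx'.symm).symm
    · have e : k (U₂.ι ⟨x, hx⟩) = k (U₂.ι ⟨x', hx'⟩) := hxx'
      rw [hkv₂, hkv₂] at e
      have := hk₂.2 (i₂.isOpenEmbedding.injective e)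
      exact congrArg Subtype.val this
  exact ⟨pushout g₁' g₂', k, pg, inferInstance, ⟨hkloc, hkinj⟩, hlft, inferInstance, hkp⟩

end Groth.Agent.Lib.Helper13.LocImmLib
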