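import Mathlib
import Groth.Prelude.Def_W4c5cptfessfintypeLocImm
import Groth.Prelude.Def_EssFT
import Groth.Agent.Lib.Helper13.LocImmTwo2

/-!
# Gluing two factorizations: separated version
-/

universe u

open CategoryTheory CategoryTheory.Limits AlgebraicGeometry TopologicalSpace LocImm Topology

namespace Groth.Agent.Lib.Helper13.LocImmLib

/-- shrink a (possibly non-separated) factorization of a separated morphism to a separated one -/
theorem exists_separated_factorization {X S Yg : Scheme.{u}} [IsNoetherian X] [IsNoetherian Yg]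
    (f : X ⟶ S) [IsSeparated f] (k : X ⟶ Yg) (pg : Yg ⟶ S) (hk : IsLocImmersion k)
    [LocallyOfFiniteType pg] [QuasiCompact pg] (hkp : k ≫ pg = f) :
    ∃ (Y : Scheme.{u}) (k : X ⟶ Y) (p : Y ⟶ S), IsNoetherian Y ∧ IsLocImmersion k ∧
      IsSeparated p ∧ LocallyOfFiniteType p ∧ QuasiCompact p ∧ k ≫ p = f := by
  haveI : Flat k := IsLocalizing.flat hk.1
  haveI : Mono k := IsLocImmersion.mono hk
  haveI : IsSeparated (k ≫ pg) := hkp ▸ inferInstance
  obtain ⟨Y', hY', hsep⟩ := exists_open_nhd_isSeparated k pg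
  haveI : IsNoetherian Y'.toScheme := isNoetherian_of_locallyOfFiniteType Y'.ι
  have hr : Set.range k.base ⊆ Set.range Y'.ι.base := by
    rw [Scheme.Opens.range_ι]
    exact hY'
  let k' : X ⟶ Y'.toScheme := IsOpenImmersion.lift Y'.ι k hr
  have hk' : k' ≫ Y'.ι = k := IsOpenImmersion.lift_fac _ _ _
  refine ⟨Y'.toScheme, k', Y'.ι ≫ pg, inferInstance,
    isLocImmersion_of_comp_isOpenImmersion k' Y'.ι (hk' ▸ hk), hsep, inferInstance,
    inferInstance, ?_⟩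
  rw [← Category.assoc, hk', hkp]

theorem exists_factorization_of_two_open_pieces {X S : Scheme.{u}} [IsNoetherian X]
    [IsNoetherian S] (f : X ⟶ S) [IsSeparated f]
    (U₁ U₂ : X.Opens) (hU : U₁ ⊔ U₂ = ⊤) (Y₁ Y₂ : Scheme.{u}) [IsNoetherian Y₁] [IsNoetherian Y₂]
    (k₁ : (U₁ : Scheme.{u}) ⟶ Y₁) (k₂ : (U₂ : Scheme.{u}) ⟶ Y₂) (p₁ : Y₁ ⟶ S) (p₂ : Y₂ ⟶ S)
    (hk₁ : IsLocImmersion k₁) (hk₂ : IsLocImmersion k₂)
    [IsSeparated p₁] [IsSeparated p₂] [LocallyOfFiniteType p₁] [LocallyOfFiniteType p₂]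
    [QuasiCompact p₁] [QuasiCompact p₂]
    (h₁ : k₁ ≫ p₁ = U₁.ι ≫ f) (h₂ : k₂ ≫ p₂ = U₂.ι ≫ f) :
    ∃ (Y : Scheme.{u}) (k : X ⟶ Y) (p : Y ⟶ S), IsNoetherian Y ∧ IsLocImmersion k ∧
      IsSeparated p ∧ LocallyOfFiniteType p ∧ QuasiCompact p ∧ k ≫ p = f := by
  obtain ⟨Yg, k, pg, hN, hk, hlft, hqc, hkp⟩ :=
    exists_factorization_glued f U₁ U₂ hU Y₁ Y₂ k₁ k₂ p₁ p₂ hk₁ hk₂ h₁ h₂
  exact exists_separated_factorization f k pg hk hkp

end Groth.Agent.Lib.Helper13.LocImmLib
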