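import Mathlib
import Groth.Prelude.Def_W4c5cptfessfintypeLocImm
import Groth.Prelude.Def_EssFT
import Groth.Agent.Lib.Helper13.LocImmTwo3

/-!
# Global factorization of separated essentially finite type morphisms
-/

universe u

open CategoryTheory CategoryTheory.Limits AlgebraicGeometry TopologicalSpace LocImm Topology

namespace Groth.Agent.Lib.Helper13.LocImmLib

theorem isLocImmersion_SpecMap {R R' : CommRingCat.{u}} (φ : R ⟶ R') (h : IsLocHom φ.hom) :
    IsLocImmersion (Spec.map φ) := by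
  apply isLocImmersion_of_affine_nhds
  intro x
  refine ⟨⊤, trivial, isAffineOpen_top _, ?_, ?_⟩
  · exact isAffineOpen_top _
  · have hnat := Scheme.ΓSpecIso_naturality φ
    have h1 : (Spec.map φ).appTop = (Scheme.ΓSpecIso R).hom ≫ φ ≫ (Scheme.ΓSpecIso R').inv := by
      rw [← Category.assoc, ← hnat, Category.assoc, Iso.hom_inv_id, Category.comp_id]
    change IsLocHom (Spec.map φ).appTop.hom
    rw [h1, CommRingCat.hom_comp, CommRingCat.hom_comp]
    refine IsLocHom.comp (isLocHom_of_bijective _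
      (ConcreteCategory.bijective_of_isIso (Scheme.ΓSpecIso R).hom)) (IsLocHom.comp h ?_)
    exact isLocHom_of_bijective _ (ConcreteCategory.bijective_of_isIso (Scheme.ΓSpecIso R').inv)

/-- The property of an open `U ⊆ X`: the restriction of `f` to `U` factors as a localizing
immersion followed by a separated morphism of finite type. -/
def Fact {X S : Scheme.{u}} (f : X ⟶ S) (U : X.Opens) : Prop :=
  ∃ (Y : Scheme.{u}) (k : U.toScheme ⟶ Y) (p : Y ⟶ S), IsNoetherian Y ∧ IsLocImmersion k ∧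
    IsSeparated p ∧ LocallyOfFiniteType p ∧ QuasiCompact p ∧ k ≫ p = U.ι ≫ f

variable {X S : Scheme.{u}}

set_option maxHeartbeats 800000 in
/-- Local factorization. -/
theorem exists_fact_nhd [IsNoetherian X] [IsNoetherian S] (f : X ⟶ S)
    [EssFT.LocallyEssFiniteType f] (x : X) : ∃ V : X.Opens, x ∈ V ∧ Fact f V := by
  obtain ⟨⟨U, hU⟩, ⟨V, hV⟩, hxV, e, hess⟩ :=
    EssFT.LocallyEssFiniteType.exists_appLE_essFiniteType (f := f) x
  refine ⟨V, hxV, ?_⟩
  letI := (f.appLE U V e).hom.toAlgebra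
  haveI : Algebra.EssFiniteType Γ(S, U) Γ(X, V) := hess
  haveI : IsNoetherianRing Γ(S, U) := IsLocallyNoetherian.component_noetherian ⟨U, hU⟩
  haveI : IsNoetherianRing Γ(X, V) := IsLocallyNoetherian.component_noetherian ⟨V, hV⟩
  let C := Algebra.EssFiniteType.subalgebra Γ(S, U) Γ(X, V)
  let M := Algebra.EssFiniteType.submonoid Γ(S, U) Γ(X, V)
  haveI : IsNoetherianRing C := Algebra.FiniteType.isNoetherianRing Γ(S, U) C
  let ψ₁ : Γ(S, U) ⟶ CommRingCat.of C := CommRingCat.ofHom (algebraMap Γ(S, U) C)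
  let ψ₂ : CommRingCat.of C ⟶ Γ(X, V) := CommRingCat.ofHom (algebraMap C Γ(X, V))
  have hψ : ψ₁ ≫ ψ₂ = f.appLE U V e := by
    ext a
    rfl
  have hψ₂ : IsLocHom ψ₂.hom := isLocHom_algebraMap M
  have hψ₁ : ψ₁.hom.FiniteType := RingHom.finiteType_algebraMap.mpr inferInstance
  haveI : IsNoetherian (Spec (CommRingCat.of C)) := inferInstance
  haveI : IsNoetherian (Spec Γ(X, V)) := inferInstance
  haveI : LocallyOfFiniteType (Spec.map ψ₁) :=
    (HasRingHomProperty.Spec_iff (P := @LocallyOfFiniteType)).mpr hψ₁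
  refine ⟨Spec (CommRingCat.of C), hV.isoSpec.hom ≫ Spec.map ψ₂, Spec.map ψ₁ ≫ hU.fromSpec,
    inferInstance, ?_, inferInstance, inferInstance, inferInstance, ?_⟩
  · haveI : IsNoetherian V.toScheme := isNoetherian_of_locallyOfFiniteType V.ι
    exact IsLocImmersion.comp (isLocImmersion_of_isOpenImmersion hV.isoSpec.hom)
      (isLocImmersion_SpecMap ψ₂ hψ₂)
  · rw [Category.assoc, ← Category.assoc (Spec.map ψ₂), ← Spec.map_comp, hψ,
      IsAffineOpen.SpecMap_appLE_fromSpec f hU hV e, ← Category.assoc, hV.isoSpec_hom_fromSpec]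

theorem fact_bot [IsNoetherian S] (f : X ⟶ S) : Fact f ⊥ := by
  haveI : IsEmpty (⊥ : X.Opens).toScheme := ⟨fun x => x.2⟩
  have hr : Set.range ((⊥ : X.Opens).ι ≫ f).base ⊆ Set.range (⊥ : S.Opens).ι.base := by
    rintro _ ⟨x, rfl⟩
    exact (IsEmpty.false x).elim
  haveI : IsNoetherian (⊥ : S.Opens).toScheme := isNoetherian_of_locallyOfFiniteType (⊥ : S.Opens).ι
  refine ⟨(⊥ : S.Opens).toScheme, IsOpenImmersion.lift (⊥ : S.Opens).ι ((⊥ : X.Opens).ι ≫ f) hr,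
    (⊥ : S.Opens).ι, inferInstance, ⟨fun x => (IsEmpty.false x).elim,
      fun x => (IsEmpty.false x).elim⟩, inferInstance, inferInstance, inferInstance,
    IsOpenImmersion.lift_fac _ _ _⟩

set_option maxHeartbeats 800000 in
theorem Fact.sup [IsNoetherian X] [IsNoetherian S] (f : X ⟶ S) [IsSeparated f] {U₁ U₂ : X.Opens}
    (h₁ : Fact f U₁) (h₂ : Fact f U₂) : Fact f (U₁ ⊔ U₂) := by
  obtain ⟨Y₁, k₁, p₁, hN₁, hk₁, hs₁, hl₁, hq₁, hkp₁⟩ := h₁
  obtain ⟨Y₂, k₂, p₂, hN₂, hk₂, hs₂, hl₂, hq₂, hkp₂⟩ := h₂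
  let U := U₁ ⊔ U₂
  haveI : IsNoetherian U.toScheme := isNoetherian_of_locallyOfFiniteType U.ι
  haveI : IsNoetherian U₁.toScheme := isNoetherian_of_locallyOfFiniteType U₁.ι
  haveI : IsNoetherian U₂.toScheme := isNoetherian_of_locallyOfFiniteType U₂.ι
  let U₁' : U.toScheme.Opens := U.ι ⁻¹ᵁ U₁
  let U₂' : U.toScheme.Opens := U.ι ⁻¹ᵁ U₂
  haveI : IsNoetherian U₁'.toScheme := isNoetherian_of_locallyOfFiniteType U₁'.ι
  haveI : IsNoetherian U₂'.toScheme := isNoetherian_of_locallyOfFiniteType U₂'.ι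
  have hU' : U₁' ⊔ U₂' = ⊤ := by
    refine eq_top_iff.mpr fun u _ => ?_
    rcases u.2 with hu | hu
    · exact Or.inl hu
    · exact Or.inr hu
  have hr₁ : Set.range (U₁'.ι ≫ U.ι).base ⊆ Set.range U₁.ι.base := by
    rintro _ ⟨z, rfl⟩
    rw [Scheme.Opens.range_ι]
    exact z.2
  have hr₂ : Set.range (U₂'.ι ≫ U.ι).base ⊆ Set.range U₂.ι.base := by
    rintro _ ⟨z, rfl⟩
    rw [Scheme.Opens.range_ι]
    exact z.2
  let r₁ : U₁'.toScheme ⟶ U₁.toScheme := IsOpenImmersion.lift U₁.ι (U₁'.ι ≫ U.ι) hr₁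
  let r₂ : U₂'.toScheme ⟶ U₂.toScheme := IsOpenImmersion.lift U₂.ι (U₂'.ι ≫ U.ι) hr₂
  have hr₁f : r₁ ≫ U₁.ι = U₁'.ι ≫ U.ι := IsOpenImmersion.lift_fac _ _ _
  have hr₂f : r₂ ≫ U₂.ι = U₂'.ι ≫ U.ι := IsOpenImmersion.lift_fac _ _ _
  haveI : IsOpenImmersion (r₁ ≫ U₁.ι) := by rw [hr₁f]; infer_instance
  haveI : IsOpenImmersion (r₂ ≫ U₂.ι) := by rw [hr₂f]; infer_instance
  haveI : IsOpenImmersion r₁ := IsOpenImmersion.of_comp r₁ U₁.ι
  haveI : IsOpenImmersion r₂ := IsOpenImmersion.of_comp r₂ U₂.ι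
  haveI : IsSeparated (U.ι ≫ f) := inferInstance
  have e₁ : (r₁ ≫ k₁) ≫ p₁ = U₁'.ι ≫ (U.ι ≫ f) := by
    rw [Category.assoc, hkp₁, ← Category.assoc, hr₁f, Category.assoc]
  have e₂ : (r₂ ≫ k₂) ≫ p₂ = U₂'.ι ≫ (U.ι ≫ f) := by
    rw [Category.assoc, hkp₂, ← Category.assoc, hr₂f, Category.assoc]
  exact exists_factorization_of_two_open_pieces (U.ι ≫ f) U₁' U₂' hU' Y₁ Y₂ (r₁ ≫ k₁) (r₂ ≫ k₂)
    p₁ p₂ (IsLocImmersion.comp (isLocImmersion_of_isOpenImmersion r₁) hk₁)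
    (IsLocImmersion.comp (isLocImmersion_of_isOpenImmersion r₂) hk₂) e₁ e₂

theorem exists_factorization [IsNoetherian X] [IsNoetherian S] (f : X ⟶ S) [IsSeparated f]
    [EssFT.EssFiniteType f] :
    ∃ (Y : Scheme.{u}) (k : X ⟶ Y) (p : Y ⟶ S), IsNoetherian Y ∧ IsLocImmersion k ∧
      IsSeparated p ∧ LocallyOfFiniteType p ∧ QuasiCompact p ∧ k ≫ p = f := by
  choose V hxV hV using exists_fact_nhd f
  obtain ⟨t, ht⟩ := isCompact_univ.elim_finite_subcover (fun x : X => ((V x : X.Opens) : Set X))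
    (fun x => (V x).isOpen) (fun x _ => Set.mem_iUnion.mpr ⟨x, hxV x⟩)
  have hfin : ∀ s : Finset X, Fact f (⨆ x ∈ s, V x) := by
    intro s
    classical
    induction s using Finset.induction_on with
    | empty =>
      simp only [Finset.notMem_empty, iSup_false, iSup_bot]
      exact fact_bot f
    | insert a s _ ih =>
      rw [Finset.iSup_insert]
      exact Fact.sup f (hV a) ih
  have htop : (⨆ x ∈ t, V x) = ⊤ := by
    refine eq_top_iff.mpr fun x _ => ?_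
    have := ht (Set.mem_univ x)
    simp only [Set.mem_iUnion, exists_prop] at this
    obtain ⟨y, hy, hxy⟩ := this
    exact Opens.mem_iSup.mpr ⟨y, Opens.mem_iSup.mpr ⟨hy, hxy⟩⟩
  have h := hfin t
  rw [htop] at h
  obtain ⟨Y, k, p, hN, hk, hs, hl, hq, hkp⟩ := h
  haveI : IsNoetherian (⊤ : X.Opens).toScheme := isNoetherian_of_locallyOfFiniteType (⊤ : X.Opens).ι
  refine ⟨Y, X.topIso.inv ≫ k, p, hN,
    IsLocImmersion.comp (isLocImmersion_of_isOpenImmersion X.topIso.inv) hk, hs, hl, hq, ?_⟩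
  rw [Category.assoc, hkp, Scheme.toIso_inv_ι_assoc]

end Groth.Agent.Lib.Helper13.LocImmLib
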