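import Mathlib
import Groth.Prelude.Def_W4c5cptfessfintypeLocImm
import Groth.Prelude.Def_EssFT
import Groth.Agent.Lib.Helper13.LocImmMain

/-!
# Localizing immersions are essentially of finite type; `Spec 𝒪_{X,x} ⟶ X`
-/

universe u

open CategoryTheory CategoryTheory.Limits AlgebraicGeometry TopologicalSpace LocImm Topology

namespace Groth.Agent.Lib.Helper13.LocImmLib

theorem IsLocHom.essFiniteType {A B : Type*} [CommRing A] [CommRing B] {φ : A →+* B}
    (h : IsLocHom φ) : φ.EssFiniteType := by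
  letI := φ.toAlgebra
  obtain ⟨S, hS⟩ := h
  exact Algebra.EssFiniteType.of_isLocalization B S

variable {X Y Z : Scheme.{u}}

theorem IsLocalizing.locallyEssFiniteType {f : X ⟶ Y} (hf : IsLocalizing f) :
    EssFT.LocallyEssFiniteType f := by
  refine ⟨fun x => ?_⟩
  obtain ⟨U, V, hxV, e, h⟩ := hf x
  exact ⟨U, V, hxV, e, IsLocHom.essFiniteType h⟩

instance locallyEssFiniteType_isStableUnderComposition :
    MorphismProperty.IsStableUnderComposition @EssFT.LocallyEssFiniteType :=
  HasRingHomProperty.stableUnderComposition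
    (RingHom.locally_stableUnderComposition RingHom.EssFiniteType.respectsIso
      RingHom.EssFiniteType.isStableUnderBaseChange.localizationPreserves
      RingHom.EssFiniteType.stableUnderComposition)

theorem locallyEssFiniteType_comp (f : X ⟶ Y) (g : Y ⟶ Z) [EssFT.LocallyEssFiniteType f]
    [EssFT.LocallyEssFiniteType g] : EssFT.LocallyEssFiniteType (f ≫ g) :=
  MorphismProperty.comp_mem _ f g ‹_› ‹_›

/-- `Spec 𝒪_{X,x} ⟶ X` is a localizing immersion. -/
theorem isLocImmersion_fromSpecStalk [IsNoetherian X] (x : X) :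
    IsLocImmersion (X.fromSpecStalk x) := by
  obtain ⟨_, ⟨U : X.Opens, hU, rfl⟩, hxU, -⟩ :=
    X.isBasis_affineOpens.exists_subset_of_mem_open (Set.mem_univ x) isOpen_univ
  rw [← hU.fromSpecStalk_eq_fromSpecStalk hxU, IsAffineOpen.fromSpecStalk]
  haveI : IsNoetherianRing Γ(X, U) := IsLocallyNoetherian.component_noetherian ⟨U, hU⟩
  haveI : IsNoetherian (Spec Γ(X, U)) := inferInstance
  refine IsLocImmersion.comp (isLocImmersion_SpecMap _ ?_) (isLocImmersion_of_isOpenImmersion _)
  letI := (X.presheaf.germ U x hxU).hom.toAlgebra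
  haveI := hU.isLocalization_stalk ⟨x, hxU⟩
  exact ⟨_, this⟩

end Groth.Agent.Lib.Helper13.LocImmLib

namespace Groth.Agent.Lib.Helper13.LocImmLib

variable {X Y Z : Scheme.{u}}

theorem isLocImmersion_of_isIso (e : X ⟶ Y) [IsIso e] : IsLocImmersion e :=
  isLocImmersion_of_isOpenImmersion e

/-- Transfer of a "localizable" property along a morphism inducing an isomorphism on a stalk. -/
theorem prop_fromSpecStalk_iff (P : MorphismProperty Scheme.{u})
    (hα : ∀ {W X Y : Scheme.{u}} [IsNoetherian W] [IsNoetherian X] [IsNoetherian Y] (i : W ⟶ X)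
      (f : X ⟶ Y) [IsSeparated f] [EssFT.EssFiniteType f], LocImm.IsLocImmersion i → P f →
      P (i ≫ f))
    [IsNoetherian X] [IsNoetherian Z] [IsNoetherian Y] (k : X ⟶ Z) (p : Z ⟶ Y) [IsSeparated p]
    [EssFT.LocallyEssFiniteType p] (x : X) (hx : IsIso (k.stalkMap x)) :
    P (X.fromSpecStalk x ≫ k ≫ p) ↔ P (Z.fromSpecStalk (k x) ≫ p) := by
  have key : X.fromSpecStalk x ≫ k ≫ p =
      Spec.map (k.stalkMap x) ≫ Z.fromSpecStalk (k x) ≫ p := by
    rw [← Category.assoc, ← Scheme.SpecMap_stalkMap_fromSpecStalk, Category.assoc]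
  haveI : EssFT.LocallyEssFiniteType (Z.fromSpecStalk (k x)) :=
    IsLocalizing.locallyEssFiniteType (isLocImmersion_fromSpecStalk (k x)).1
  haveI : EssFT.LocallyEssFiniteType (Z.fromSpecStalk (k x) ≫ p) := locallyEssFiniteType_comp _ _
  haveI : EssFT.EssFiniteType (Z.fromSpecStalk (k x) ≫ p) := {}
  haveI : IsIso (Spec.map (k.stalkMap x)) := inferInstance
  haveI : EssFT.LocallyEssFiniteType (Spec.map (k.stalkMap x)) := inferInstance
  haveI : EssFT.LocallyEssFiniteType (Spec.map (k.stalkMap x) ≫ Z.fromSpecStalk (k x) ≫ p) :=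
    locallyEssFiniteType_comp _ _
  haveI : EssFT.EssFiniteType (Spec.map (k.stalkMap x) ≫ Z.fromSpecStalk (k x) ≫ p) := {}
  rw [key]
  constructor
  · intro h
    have := hα (inv (Spec.map (k.stalkMap x)))
      (Spec.map (k.stalkMap x) ≫ Z.fromSpecStalk (k x) ≫ p) (isLocImmersion_of_isIso _) h
    rwa [IsIso.inv_hom_id_assoc] at this
  · intro h
    exact hα (Spec.map (k.stalkMap x)) (Z.fromSpecStalk (k x) ≫ p) (isLocImmersion_of_isIso _) h

end Groth.Agent.Lib.Helper13.LocImmLib
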