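import Mathlib
import Groth.Agent.Lib.Helper13.WeilOver
import Groth.Prelude.Def_SGA3x

/-!
# Groups of multiplicative type are fpqc-locally affine with free coordinate ring
-/

set_option autoImplicit false
universe u
open CategoryTheory MonoidalCategory CartesianMonoidalCategory AlgebraicGeometry Limits TensorProduct

namespace Groth.Agent.Lib.Helper13.MTChart

open Groth.Agent.Lib.Helper13.WeilOver

/-- a morphism factoring through a monomorphism is a base change of the composite -/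
theorem isPullback_of_mono_fac {C : Type*} [Category C] {W V S : C} (g : W ⟶ S) (m : V ⟶ S)
    [Mono m] (π : W ⟶ V) (h : π ≫ m = g) : IsPullback (𝟙 W) π g m := by
  refine ⟨⟨by rw [Category.id_comp, h]⟩, ⟨PullbackCone.IsLimit.mk _ (fun s => s.fst) ?_ ?_ ?_⟩⟩
  · intro s; exact Category.comp_id _
  · intro s
    rw [← cancel_mono m, Category.assoc, h]
    exact s.condition
  · intro s l h1 _
    rw [← h1, Category.comp_id]

/-- generic chart: `Spec (R ⊗[K] N)` -/
theorem spec_chart (K R N : Type u) [CommRing K] [CommRing R] [CommRing N] [Algebra K R]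
    [Algebra K N] [Module.Free K N] :
    ∃ (P : Type u) (_ : CommRing P) (_ : Algebra R P) (_ : Module.Projective R P)
      (a : Spec (CommRingCat.of P) ⟶ Spec (CommRingCat.of N)),
      IsPullback a (Spec.map (CommRingCat.ofHom (algebraMap R P)))
        (Spec.map (CommRingCat.ofHom (algebraMap K N)))
        (Spec.map (CommRingCat.ofHom (algebraMap K R))) := by
  have h1 := CommRingCat.isPushout_tensorProduct K R N
  have h2 := (isPullback_SpecMap_of_isPushout _ _ _ _ h1).flip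
  exact ⟨R ⊗[K] N, inferInstance, inferInstance, inferInstance, _, h2⟩

/-- chart of `DS U M` over an affine scheme mapping to `U` -/
theorem ds_chart (U : Scheme.{u}) (M : Type) [AddCommGroup M] {R : Type u} [CommRing R]
    (ι : Spec (CommRingCat.of R) ⟶ U) :
    ∃ (P : Type u) (_ : CommRing P) (_ : Algebra R P) (_ : Module.Projective R P)
      (ρ : Spec (CommRingCat.of P) ⟶ (Red.DS U M).left),
      IsPullback ρ (Spec.map (CommRingCat.ofHom (algebraMap R P))) (Red.DS U M).hom ι := by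
  letI : Algebra (ULift.{u} ℤ) R :=
    RingHom.toAlgebra ((Int.castRingHom R).comp (ULift.ringEquiv : ULift.{u} ℤ ≃+* ℤ).toRingHom)
  obtain ⟨P, i1, i2, i3, a, h2⟩ := spec_chart (ULift.{u} ℤ) R
    (MonoidAlgebra (ULift.{u} ℤ) (Multiplicative M))
  have ht : Spec.map (CommRingCat.ofHom (algebraMap (ULift.{u} ℤ) R)) =
      ι ≫ IsTerminal.from specULiftZIsTerminal U := specULiftZIsTerminal.hom_ext _ _
  rw [ht] at h2
  have hD := IsPullback.of_hasPullback (Red.diag (ULift.{u} ℤ) M).hom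
    (IsTerminal.from specULiftZIsTerminal U)
  obtain ⟨a', h2'⟩ : ∃ a' : Spec (CommRingCat.of P) ⟶ (Red.diag (ULift.{u} ℤ) M).left,
      IsPullback a' (Spec.map (CommRingCat.ofHom (algebraMap R P)))
        (Red.diag (ULift.{u} ℤ) M).hom (ι ≫ IsTerminal.from specULiftZIsTerminal U) := ⟨a, h2⟩
  have hw : a' ≫ (Red.diag (ULift.{u} ℤ) M).hom =
      (Spec.map (CommRingCat.ofHom (algebraMap R P)) ≫ ι) ≫
        IsTerminal.from specULiftZIsTerminal U := by
    rw [Category.assoc]; exact h2'.w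
  refine ⟨P, i1, i2, i3, hD.lift _ _ hw, ?_⟩
  refine IsPullback.of_right ?_ (hD.lift_snd _ _ hw) hD
  rw [hD.lift_fst]
  exact h2'

variable {S : Scheme.{u}}

theorem essProj_of_isMultTypeFT (H : Over S) [GrpObj H] (hH : SGA3x.IsMultTypeFT H) :
    EssProj H := by
  obtain ⟨S', f, hfl, hsu, hcov, hloc⟩ := hH
  intro s
  obtain ⟨V, hV, hsV, -⟩ := exists_isAffineOpen_mem_and_subset (x := s) (U := ⊤) trivial
  obtain ⟨W, hWc, hWV⟩ := hcov V hV
  have hrange : Set.range (W.ι ≫ f) ⊆ Set.range V.ι := by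
    rintro _ ⟨w, rfl⟩
    rw [Scheme.Opens.range_ι, ← hWV]
    exact ⟨w.1, w.2, rfl⟩
  obtain ⟨π, hπ⟩ : ∃ π : (W : Scheme.{u}) ⟶ (V : Scheme.{u}), π ≫ V.ι = W.ι ≫ f :=
    ⟨IsOpenImmersion.lift V.ι (W.ι ≫ f) hrange, IsOpenImmersion.lift_fac _ _ _⟩
  haveI := hfl
  have hπfl : Flat π :=
    MorphismProperty.of_isPullback (P := @Flat) (isPullback_of_mono_fac (W.ι ≫ f) V.ι π hπ)
      inferInstance
  have hπsu : Surjective π := by
    refine ⟨fun v => ?_⟩
    have hv : V.ι v ∈ (V : Set S) := by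
      rw [← Scheme.Opens.range_ι]; exact ⟨v, rfl⟩
    rw [← hWV] at hv
    obtain ⟨w, hw, hfw⟩ := hv
    have hw' : w ∈ Set.range W.ι := by rw [Scheme.Opens.range_ι]; exact hw
    obtain ⟨w', rfl⟩ := hw'
    refine ⟨w', ?_⟩
    apply V.ι.injective
    rw [← Scheme.Hom.comp_apply, hπ, Scheme.Hom.comp_apply]
    exact hfw
  haveI : IsAffine (V : Scheme.{u}) := hV
  haveI : CompactSpace ↥(W : Scheme.{u}) := isCompact_iff_compactSpace.mp hWc
  have hπqc : QuasiCompact π := (quasiCompact_iff_compactSpace π).mpr inferInstance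
  refine ⟨V, hsV, W, π, hπfl, hπsu, hπqc, ?_⟩
  refine locProjChart_congr H hπ.symm ?_
  intro p
  obtain ⟨U, hpU, M, _, -, ⟨e⟩⟩ := hloc p.1
  obtain ⟨W₀, hW₀, hpW₀, hW₀le⟩ := exists_isAffineOpen_mem_and_subset (x := p.1) (U := W ⊓ U)
    ⟨p.2, hpU⟩
  have hW₀W : W₀ ≤ W := fun x hx => (hW₀le hx).1
  have hW₀U : W₀ ≤ U := fun x hx => (hW₀le hx).2
  haveI : IsOpenImmersion hW₀.fromSpec := hW₀.isOpenImmersion_fromSpec
  -- the two lifts of the chart
  have hrW : Set.range hW₀.fromSpec ⊆ Set.range W.ι := by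
    rw [hW₀.range_fromSpec, Scheme.Opens.range_ι]; exact hW₀W
  have hrU : Set.range hW₀.fromSpec ⊆ Set.range U.ι := by
    rw [hW₀.range_fromSpec, Scheme.Opens.range_ι]; exact hW₀U
  obtain ⟨ιW, hιW⟩ : ∃ ιW : Spec Γ(S', W₀) ⟶ (W : Scheme.{u}), ιW ≫ W.ι = hW₀.fromSpec :=
    ⟨IsOpenImmersion.lift W.ι hW₀.fromSpec hrW, IsOpenImmersion.lift_fac _ _ _⟩
  obtain ⟨ιU, hιU⟩ : ∃ ιU : Spec Γ(S', W₀) ⟶ (U : Scheme.{u}), ιU ≫ U.ι = hW₀.fromSpec :=
    ⟨IsOpenImmersion.lift U.ι hW₀.fromSpec hrU, IsOpenImmersion.lift_fac _ _ _⟩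
  haveI : IsOpenImmersion ιW := by
    haveI : IsOpenImmersion (ιW ≫ W.ι) := by rw [hιW]; infer_instance
    exact IsOpenImmersion.of_comp ιW W.ι
  -- the chart of `DS U M`
  obtain ⟨P, _, _, _, ρD, hρD⟩ := ds_chart (U : Scheme.{u}) M ιU
  -- transport along the isomorphism `e`
  let eO : Red.bc (U.ι ≫ f) H ≅ Red.DS (U : Scheme.{u}) M := (Grp.forget _).mapIso e
  have h2 : IsPullback (ρD ≫ eO.inv.left) (Spec.map (CommRingCat.ofHom (algebraMap Γ(S', W₀) P)))
      (pullback.snd H.hom (U.ι ≫ f)) ιU := by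
    refine IsPullback.of_iso hρD (Iso.refl _) ((Over.forget _).mapIso eO.symm) (Iso.refl _)
      (Iso.refl _) ?_ ?_ ?_ ?_
    · simp only [Iso.refl_hom, Category.id_comp, Functor.mapIso_hom, Iso.symm_hom,
        Over.forget_map]
    · simp only [Iso.refl_hom, Category.id_comp, Category.comp_id]
    · simp only [Iso.refl_hom, Category.comp_id, Functor.mapIso_hom, Iso.symm_hom,
        Over.forget_map]
      exact (Over.w eO.inv).symm
    · simp only [Iso.refl_hom, Category.id_comp, Category.comp_id]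
  have h3 := h2.paste_horiz (IsPullback.of_hasPullback H.hom (U.ι ≫ f))
  have hcomp : ιU ≫ (U.ι ≫ f) = ιW ≫ (W.ι ≫ f) := by
    rw [← Category.assoc, hιU, ← Category.assoc, hιW]
  rw [hcomp] at h3
  have h4 := IsPullback.of_hasPullback H.hom (W.ι ≫ f)
  have hw4 : ((ρD ≫ eO.inv.left) ≫ pullback.fst H.hom (U.ι ≫ f)) ≫ H.hom =
      (Spec.map (CommRingCat.ofHom (algebraMap Γ(S', W₀) P)) ≫ ιW) ≫ (W.ι ≫ f) := by
    rw [Category.assoc (Spec.map _) ιW]; exact h3.w
  have hρ : IsPullback (h4.lift _ _ hw4) (Spec.map (CommRingCat.ofHom (algebraMap Γ(S', W₀) P)))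
      (pullback.snd H.hom (W.ι ≫ f)) ιW := by
    refine IsPullback.of_right ?_ (h4.lift_snd _ _ hw4) h4
    rw [h4.lift_fst]
    exact h3
  obtain ⟨hU', P', i1, i2, i3, ρ', hρ'⟩ := chart_of_openImmersion
    (pullback.snd H.hom (W.ι ≫ f)) ιW (h4.lift _ _ hw4) hρ
  refine ⟨_, hU', ?_, P', i1, i2, i3, ρ', hρ'⟩
  -- `p` lies in the range of `ιW`
  have hp : p.1 ∈ Set.range hW₀.fromSpec := by rw [hW₀.range_fromSpec]; exact hpW₀
  obtain ⟨q, hq⟩ := hp
  refine ⟨q, ?_⟩
  apply W.ι.injective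
  rw [← Scheme.Hom.comp_apply, hιW]
  exact hq

end Groth.Agent.Lib.Helper13.MTChart
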