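import Mathlib
import Groth.Prelude.Def_Red2
import Groth.Prelude.Def_SGA3x
import Groth.Prelude.Def_Mor2
import Groth.Agent.Lib.Helper14.MTLft
import Groth.Agent.Lib.Helper14.MTAffine

/-! Helper13: a group of multiplicative type which is finite over the base is finite locally free
(flat and locally of finite presentation), by fpqc descent from the diagonalizable case. -/

set_option autoImplicit false
set_option linter.style.haveILetI false

namespace Groth.Agent.Lib.Helper13.MTFin

open CategoryTheory MonoidalCategory CartesianMonoidalCategory MonObj GrpObj AlgebraicGeometry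
open CategoryTheory.Limits MorphismProperty TensorProduct
open Groth.Agent.Lib.Helper4.FpqcCov Groth.Agent.Lib.Helper14

universe u

theorem flat_codescendsAlong_faithfullyFlat :
    RingHom.CodescendsAlong RingHom.Flat RingHom.FaithfullyFlat := by
  refine .mk _ RingHom.Flat.respectsIso fun R S T _ _ _ _ _ h h' ↦ ?_
  rw [RingHom.flat_algebraMap_iff] at h' ⊢
  rw [RingHom.faithfullyFlat_algebraMap_iff] at h
  exact Module.Flat.of_flat_tensorProduct R T S

theorem flat_descendsAlong :
    DescendsAlong (@Flat : MorphismProperty Scheme.{u}) (@Surjective ⊓ @Flat ⊓ @QuasiCompact) :=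
  HasRingHomProperty.descendsAlong_flat flat_codescendsAlong_faithfullyFlat

variable {S : Scheme.{u}}

lemma prop_of_iso (P : MorphismProperty Scheme.{u}) [P.RespectsIso] {X Y : Over S} (e : X ≅ Y)
    (h : P Y.hom) : P X.hom := by
  haveI : IsIso e.hom.left := inferInstanceAs (IsIso ((Over.forget S).map e.hom))
  rw [← Over.w e.hom]
  exact (MorphismProperty.cancel_left_of_respectsIso P e.hom.left Y.hom).mpr h

lemma prop_of_local (P : MorphismProperty Scheme.{u}) [IsZariskiLocalAtTarget P]
    {T Y : Scheme.{u}} (h : T ⟶ Y)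
    (hloc : ∀ y : Y, ∃ (W : Scheme.{u}) (w : W ⟶ Y), IsOpenImmersion w ∧ y ∈ Set.range w ∧
      P (pullback.snd h w)) : P h := by
  choose W w hw hy hP using hloc
  exact IsZariskiLocalAtTarget.of_openCover (P := P)
    (Scheme.Cover.mkOfCovers Y W w (fun y => ⟨y, hy y⟩) hw) hP

lemma flat_DS (M : Type) [AddCommGroup M] : Flat (Red.DS S M).hom := by
  show Flat (pullback.snd (Red.diag (ULift.{u} ℤ) M).hom _)
  haveI : Flat (Red.diag (ULift.{u} ℤ) M).hom := by
    show Flat (Spec.map _)
    rw [HasRingHomProperty.Spec_iff (P := @Flat)]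
    have : Module.Flat (ULift.{u} ℤ) (MonoidAlgebra (ULift.{u} ℤ) (Multiplicative M)) :=
      inferInstance
    exact (RingHom.flat_algebraMap_iff (R := ULift.{u} ℤ)
      (S := MonoidAlgebra (ULift.{u} ℤ) (Multiplicative M))).2 this
  exact MorphismProperty.of_isPullback (P := (@Flat : MorphismProperty Scheme.{u}))
    (IsPullback.of_hasPullback _ _) this

lemma lfp_DS (M : Type) [AddCommGroup M] [Finite M] :
    LocallyOfFinitePresentation (Red.DS S M).hom := by
  show LocallyOfFinitePresentation (pullback.snd (Red.diag (ULift.{u} ℤ) M).hom _)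
  haveI : LocallyOfFinitePresentation (Red.diag (ULift.{u} ℤ) M).hom := by
    show LocallyOfFinitePresentation (Spec.map _)
    rw [HasRingHomProperty.Spec_iff (P := @LocallyOfFinitePresentation)]
    haveI : Finite (Multiplicative M) := inferInstanceAs (Finite M)
    haveI : Module.Finite (ULift.{u} ℤ) (MonoidAlgebra (ULift.{u} ℤ) (Multiplicative M)) :=
      Module.Finite.of_basis (MonoidAlgebra.basis (Multiplicative M) (ULift.{u} ℤ))
    haveI : Module.Free (ULift.{u} ℤ) (MonoidAlgebra (ULift.{u} ℤ) (Multiplicative M)) :=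
      Module.Free.of_basis (MonoidAlgebra.basis (Multiplicative M) (ULift.{u} ℤ))
    haveI : Module.FinitePresentation (ULift.{u} ℤ)
        (MonoidAlgebra (ULift.{u} ℤ) (Multiplicative M)) :=
      Module.finitePresentation_of_projective _ _
    have : Algebra.FinitePresentation (ULift.{u} ℤ)
        (MonoidAlgebra (ULift.{u} ℤ) (Multiplicative M)) := inferInstance
    exact (RingHom.finitePresentation_algebraMap (A := ULift.{u} ℤ)
      (B := MonoidAlgebra (ULift.{u} ℤ) (Multiplicative M))).2 this
  exact MorphismProperty.of_isPullback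
    (P := (@LocallyOfFinitePresentation : MorphismProperty Scheme.{u}))
    (IsPullback.of_hasPullback _ _) this

set_option backward.isDefEq.respectTransparency.types false in
open scoped Obj in
lemma finite_index_of_isFinite (K R : Type u) [CommRing K] [CommRing R] [Nontrivial R]
    [Algebra K R] (A : Type u) [CommRing A] [HopfAlgebra K A] {I : Type*}
    (b : Module.Basis I K A)
    (h : IsFinite (Red.bc (Spec.map (CommRingCat.ofHom (algebraMap K R)))
      ((Spec (.of A)).asOver (Spec (.of K)))).hom) : Finite I := by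
  obtain ⟨κ, -⟩ := MTAffine.exists_bc_spec_iso K R A
  have h2 := prop_of_iso @IsFinite κ.symm h
  have h3 : IsFinite (Spec.map (CommRingCat.ofHom (algebraMap R (R ⊗[K] A)))) := h2
  rw [IsFinite.SpecMap_iff] at h3
  have h4 : Module.Finite R (R ⊗[K] A) := RingHom.finite_algebraMap.mp h3
  exact Module.Finite.finite_basis (Algebra.TensorProduct.basis R b)

set_option backward.isDefEq.respectTransparency.types false in
open scoped Obj in
lemma finite_of_isFinite_DS_spec (R : Type u) [CommRing R] [Nontrivial R] (M : Type) [AddCommGroup M]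
    (h : IsFinite (Red.DS (Spec (.of R)) M).hom) : Finite M := by
  letI : Algebra (ULift.{u} ℤ) R :=
    RingHom.toAlgebra ((Int.castRingHom R).comp (ULift.ringEquiv : ULift.{u} ℤ ≃+* ℤ).toRingHom)
  have ht : Limits.IsTerminal.from specULiftZIsTerminal (Spec (.of R)) =
      Spec.map (CommRingCat.ofHom (algebraMap (ULift.{u} ℤ) R)) :=
    specULiftZIsTerminal.hom_ext _ _
  have h' : IsFinite (Red.bc (Spec.map (CommRingCat.ofHom (algebraMap (ULift.{u} ℤ) R)))
      (Red.diag (ULift.{u} ℤ) M)).hom := by
    rw [← ht]; exact h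
  have : Finite (Multiplicative M) := finite_index_of_isFinite (ULift.{u} ℤ) R
    (MonoidAlgebra (ULift.{u} ℤ) (Multiplicative M))
    (MonoidAlgebra.basis (Multiplicative M) (ULift.{u} ℤ)) h'
  exact this

set_option backward.isDefEq.respectTransparency.types false in
open scoped Obj in
lemma finite_of_isFinite_DS (U : Scheme.{u}) (x : U) (M : Type) [AddCommGroup M]
    (h : IsFinite (Red.DS U M).hom) : Finite M := by
  obtain ⟨V, hV, hxV, -⟩ := exists_isAffineOpen_mem_and_subset (x := x) (U := ⊤) trivial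
  haveI : Nontrivial Γ(U, V) := (hV.primeIdealOf ⟨x, hxV⟩).nontrivial
  obtain ⟨c, -⟩ := MTDescent.exists_bc_comp_iso hV.fromSpec
    (Limits.IsTerminal.from specULiftZIsTerminal U)
    (Limits.IsTerminal.from specULiftZIsTerminal (Spec Γ(U, V)))
    (specULiftZIsTerminal.hom_ext _ _) (Red.diag (ULift.{u} ℤ) M)
  have h1 : IsFinite (Red.bc hV.fromSpec (Red.DS U M)).hom :=
    inferInstanceAs (IsFinite (pullback.snd (Red.DS U M).hom hV.fromSpec))
  have h2 : IsFinite (Red.DS (Spec Γ(U, V)) M).hom := prop_of_iso @IsFinite c.symm h1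
  exact finite_of_isFinite_DS_spec Γ(U, V) M h2

set_option backward.isDefEq.respectTransparency.types false in
open scoped Obj in
theorem flat_of_multTypeFT (H : Over S) [GrpObj H] (hH : SGA3x.IsMultTypeFT H) : Flat H.hom := by
  haveI := flat_descendsAlong.{u}
  obtain ⟨S', f, hfl, hsj, hcov, hloc⟩ := hH
  refine descends_of_isCov (@Flat : MorphismProperty Scheme.{u}) ⟨hsj, hfl, hcov⟩ H.hom ?_
  apply prop_of_local @Flat
  intro y
  obtain ⟨U, hyU, M, iM, hfg, ⟨e₀⟩⟩ := hloc y
  obtain ⟨e, he⟩ := MTDescent.exists_iso_of_grp_iso e₀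
  refine ⟨U, U.ι, inferInstance, by rw [Scheme.Opens.range_ι]; exact hyU, ?_⟩
  obtain ⟨c, hc⟩ := MTDescent.exists_bc_comp_iso U.ι f (U.ι ≫ f) rfl H
  exact prop_of_iso @Flat (c ≪≫ e) (flat_DS M)

set_option backward.isDefEq.respectTransparency.types false in
open scoped Obj in
theorem lfp_of_multTypeFT_of_isFinite (H : Over S) [GrpObj H] (hH : SGA3x.IsMultTypeFT H)
    [IsFinite H.hom] : LocallyOfFinitePresentation H.hom := by
  obtain ⟨S', f, hfl, hsj, hcov, hloc⟩ := hH
  refine descends_of_isCov (@LocallyOfFinitePresentation : MorphismProperty Scheme.{u})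
    ⟨hsj, hfl, hcov⟩ H.hom ?_
  apply prop_of_local @LocallyOfFinitePresentation
  intro y
  obtain ⟨U, hyU, M, iM, hfg, ⟨e₀⟩⟩ := hloc y
  obtain ⟨e, he⟩ := MTDescent.exists_iso_of_grp_iso e₀
  refine ⟨U, U.ι, inferInstance, by rw [Scheme.Opens.range_ι]; exact hyU, ?_⟩
  obtain ⟨c, hc⟩ := MTDescent.exists_bc_comp_iso U.ι f (U.ι ≫ f) rfl H
  have hfin : IsFinite (Red.bc U.ι (Red.bc f H)).hom :=
    inferInstanceAs (IsFinite (pullback.snd (pullback.snd H.hom f) U.ι))
  have hfinDS : IsFinite (Red.DS U M).hom := prop_of_iso @IsFinite (c ≪≫ e).symm hfin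
  haveI : Finite M := finite_of_isFinite_DS U.toScheme ⟨y, hyU⟩ M hfinDS
  exact prop_of_iso @LocallyOfFinitePresentation (c ≪≫ e) (lfp_DS M)

theorem isFinLocFree_of_multTypeFT (H : Over S) [GrpObj H] (hH : SGA3x.IsMultTypeFT H)
    [IsFinite H.hom] : Mor2.IsFinLocFree H.hom :=
  ⟨inferInstance, flat_of_multTypeFT H hH, lfp_of_multTypeFT_of_isFinite H hH⟩

end Groth.Agent.Lib.Helper13.MTFin
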