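import Mathlib
import Groth.Prelude.Def_W4c6modpairsegaMP
import Groth.Agent.Lib.Helper9.ClosedCov
import Groth.Agent.Lib.Helper9.ABlow
import Groth.Agent.Lib.Helper13.ZMTFinMain

set_option autoImplicit false
universe u
open CategoryTheory CategoryTheory.Limits AlgebraicGeometry TopologicalSpace

namespace Groth.Agent.Lib.Helper13.ModPairFin

open Groth.Agent.Lib.Helper9 Groth.Agent.Lib.Helper13.ZMTFin

theorem exists_finite_surjective_extension {S : Scheme.{u}}
    [CompactSpace S] [QuasiSeparatedSpace S] (I : S.IdealSheafData)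
    (hI : BlowUp.IsEffCartierIdeal I) {T₀ : Scheme.{u}}
    (t₀ : T₀ ⟶ (ModPair.interior I : Scheme.{u})) [IsFinite t₀] [Surjective t₀] :
    ∃ (T : Scheme.{u}) (t : T ⟶ S) (j : T₀ ⟶ T), IsFinite t ∧ Surjective t ∧
      BlowUp.IsEffCartierIdeal (I.comap t) ∧ IsOpenImmersion j ∧
      Set.range j.base = t.base ⁻¹' (ModPair.interior I : Set S) ∧
      j ≫ t = t₀ ≫ (ModPair.interior I).ι := by
  have hlp : MProd.IsLocPrincipal I := fun x => by
    obtain ⟨W, hxW, f, -, hf⟩ := hI x
    exact ⟨W, hxW, f, hf⟩
  haveI : QuasiCompact (ModPair.interior I).ι := ABlow.quasiCompact_awayFrom_ι I hlp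
  obtain ⟨T, j, π, hj, hjqc, hjd, hπ, hfac⟩ := exists_finite_factorization (t₀ ≫ (ModPair.interior I).ι)
  haveI := hj
  haveI := hjqc
  haveI := hjd
  haveI := hπ
  -- the scheme-theoretic image
  refine ⟨j.image, j.imageι ≫ π, j.toImage, inferInstance, ?_, ?_, inferInstance, ?_, ?_⟩
  · -- surjectivity
    constructor
    intro s
    obtain ⟨u, hu, hus⟩ := ClosedCov.exists_specializes_interior I hI s
    obtain ⟨x, hx⟩ := t₀.surjective ⟨u, hu⟩
    have hcl : IsClosed (Set.range (j.imageι ≫ π)) := (j.imageι ≫ π).isClosedMap.isClosed_range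
    refine hus.mem_closed hcl ⟨j.toImage x, ?_⟩
    rw [← Scheme.Hom.comp_apply, ← Category.assoc, Scheme.Hom.toImage_imageι, hfac,
      Scheme.Hom.comp_apply, hx]
    rfl
  · -- effective Cartier
    rw [Scheme.IdealSheafData.comap_comp]
    refine ClosedCov.isEffCartier_comap_imageι_gen (I.comap π) (MProd.isLocPrincipal_comap I hI π) j
      fun v => ?_
    rw [MProd.interior_comap]
    change π (j v) ∈ ModPair.interior I
    rw [← Scheme.Hom.comp_apply, hfac, Scheme.Hom.comp_apply]
    exact (t₀ v).2
  · -- the range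
    have hfac' : j.toImage ≫ (j.imageι ≫ π) = t₀ ≫ (ModPair.interior I).ι := by
      rw [← Category.assoc, Scheme.Hom.toImage_imageι, hfac]
    apply Set.Subset.antisymm
    · rintro _ ⟨x, rfl⟩
      change (j.imageι ≫ π) (j.toImage x) ∈ ModPair.interior I
      rw [← Scheme.Hom.comp_apply, hfac', Scheme.Hom.comp_apply]
      exact (t₀ x).2
    · set t := j.imageι ≫ π with ht
      set V := t ⁻¹ᵁ (ModPair.interior I) with hV
      have hrange : Set.range j.toImage ⊆ Set.range V.ι := by
        rw [Scheme.Opens.range_ι]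
        rintro _ ⟨x, rfl⟩
        change t (j.toImage x) ∈ ModPair.interior I
        rw [← Scheme.Hom.comp_apply, hfac', Scheme.Hom.comp_apply]
        exact (t₀ x).2
      let a : T₀ ⟶ V := IsOpenImmersion.lift V.ι j.toImage hrange
      have ha : a ≫ V.ι = j.toImage := IsOpenImmersion.lift_fac _ _ _
      haveI : IsOpenImmersion a := by
        have : IsOpenImmersion (a ≫ V.ι) := by rw [ha]; infer_instance
        exact IsOpenImmersion.of_comp a V.ι
      haveI : IsDominant a := by
        have : IsDominant (a ≫ V.ι) := by rw [ha]; infer_instance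
        exact IsDominant.of_comp_of_isOpenImmersion a V.ι
      have hab : a ≫ (t ∣_ ModPair.interior I) = t₀ := by
        rw [← cancel_mono (ModPair.interior I).ι, Category.assoc, morphismRestrict_ι,
          ← Category.assoc, ha, hfac']
      haveI : UniversallyClosed (a ≫ (t ∣_ ModPair.interior I)) := by rw [hab]; infer_instance
      haveI : IsIso a := isIso_of_isDominant_of_universallyClosed_comp a (t ∣_ ModPair.interior I)
      intro y hy
      obtain ⟨x, hx⟩ := a.surjective ⟨y, hy⟩
      refine ⟨x, ?_⟩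
      rw [← ha, Scheme.Hom.comp_apply, hx]
      rfl
  · rw [← Category.assoc, Scheme.Hom.toImage_imageι, hfac]

end Groth.Agent.Lib.Helper13.ModPairFin
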