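import Mathlib
import Groth.Agent.Lib.Helper13.DvrLift
import Groth.Agent.Lib.Helper13.Composite

/-!
# A monomorphism of finite presentation with valuative lifting is an immersion

`ValLifting f`: every valuative square over `f` whose closed point lifts has a lift.
-/

universe u

open CategoryTheory CategoryTheory.Limits AlgebraicGeometry IsLocalRing Topology

namespace Groth.Agent.Lib.Helper13.MonoImm

open Groth.Agent.Lib.Helper13.DvrLift Groth.Agent.Lib.Helper13.MonoLift
  Groth.Agent.Lib.Helper13.Composite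

/-- all valuative squares with liftable closed point have lifts -/
def ValLifting {X Y : Scheme.{u}} (f : Y ⟶ X) : Prop :=
  ∀ S : ValuativeCommSq f,
    (∃ l₀ : Spec (CommRingCat.of (IsLocalRing.ResidueField S.R)) ⟶ Y,
        l₀ ≫ f = Spec.map (CommRingCat.ofHom (IsLocalRing.residue S.R)) ≫ S.i₂) →
      S.commSq.HasLift

/-- `ValLifting` is stable under base change -/
theorem valLifting_snd {X Y X' : Scheme.{u}} (f : Y ⟶ X) (g : X' ⟶ X) (H : ValLifting f) :
    ValLifting (pullback.snd f g) := by
  rintro S ⟨l₀, hl₀⟩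
  let S₀ : ValuativeCommSq f :=
    { R := S.R
      K := S.K
      i₁ := S.i₁ ≫ pullback.fst f g
      i₂ := S.i₂ ≫ g
      commSq := ⟨by
        rw [Category.assoc, pullback.condition, ← Category.assoc, S.commSq.w, Category.assoc]⟩ }
  obtain ⟨⟨l, hl1, hl2⟩⟩ := H S₀ ⟨l₀ ≫ pullback.fst f g, by
    rw [Category.assoc, pullback.condition, ← Category.assoc, hl₀, Category.assoc]⟩
  refine ⟨⟨⟨pullback.lift l S.i₂ hl2, ?_, pullback.lift_snd _ _ _⟩⟩⟩
  apply pullback.hom_ext
  · rw [Category.assoc, pullback.lift_fst]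
    exact hl1
  · rw [Category.assoc, pullback.lift_snd]
    exact S.commSq.w.symm

/-- the image of a monomorphism with valuative lifting is convex for specialization -/
theorem mem_range_of_sandwich {X Y : Scheme.{u}} (f : Y ⟶ X) [Mono f] (H : ValLifting f)
    (e z z' : X) (he : e ∈ Set.range f.base) (hz' : z' ∈ Set.range f.base)
    (h1 : e ⤳ z) (h2 : z ⤳ z') : z ∈ Set.range f.base := by
  obtain ⟨ye, rfl⟩ := he
  obtain ⟨y', rfl⟩ := hz'
  -- first valuation ring
  let φ₁ : X.presheaf.stalk z ⟶ X.residueField (f.base ye) :=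
    X.presheaf.stalkSpecializes h1 ≫ X.residue (f.base ye)
  obtain ⟨R₁, hR₁mem, hloc₁⟩ := exists_factor_valuationRing φ₁.hom
  let θ₁ : X.presheaf.stalk z →+* R₁ := φ₁.hom.codRestrict R₁.toSubring hR₁mem
  have hθ₁loc : IsLocalHom θ₁ := hloc₁
  -- second valuation ring
  let φ₂ : X.presheaf.stalk (f.base y') →+* ResidueField R₁ :=
    (residue R₁).comp (θ₁.comp (X.presheaf.stalkSpecializes h2).hom)
  obtain ⟨R₂, hR₂mem, hloc₂⟩ := exists_factor_valuationRing φ₂
  -- the composite
  have hle : composite R₁ R₂ ≤ R₁ := composite_le R₁ R₂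
  have hθmem : ∀ a : X.presheaf.stalk (f.base y'),
      (φ₁.hom.comp (X.presheaf.stalkSpecializes h2).hom) a ∈ composite R₁ R₂ := fun a =>
    mem_composite.2 ⟨hR₁mem _, hR₂mem a⟩
  let θ : X.presheaf.stalk (f.base y') →+* composite R₁ R₂ :=
    (φ₁.hom.comp (X.presheaf.stalkSpecializes h2).hom).codRestrict (composite R₁ R₂) hθmem
  let inc : composite R₁ R₂ →+* R₁ := ValuationSubring.inclusion _ _ hle
  let π : composite R₁ R₂ →+* R₂ :=
    ((residue R₁).comp inc).codRestrict R₂ (fun x => (mem_composite.1 x.2).2)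
  have hπθ : π.comp θ = φ₂.codRestrict R₂.toSubring hR₂mem := by
    ext a
    rfl
  have hθloc : IsLocalHom θ := by
    have : IsLocalHom (π.comp θ) := hπθ ▸ hloc₂
    exact isLocalHom_of_comp θ π
  let θc : X.presheaf.stalk (f.base y') ⟶ CommRingCat.of (composite R₁ R₂) := CommRingCat.ofHom θ
  have hθcloc : IsLocalHom θc.hom := hθloc
  let θ₁c : X.presheaf.stalk z ⟶ CommRingCat.of R₁ := CommRingCat.ofHom θ₁
  have hθ₁cloc : IsLocalHom θ₁c.hom := hθ₁loc
  -- the valuative square
  obtain ⟨i₁, hi₁⟩ := exists_lift_of_mono_of_field f ye (X.residueField (f.base ye))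
    (X.fromSpecResidueField (f.base ye))
    ⟨closedPoint _, Scheme.fromSpecResidueField_apply _ _⟩
  have hgen : Spec.map (CommRingCat.ofHom (algebraMap (composite R₁ R₂)
        (X.residueField (f.base ye)))) ≫ Spec.map θc ≫ X.fromSpecStalk (f.base y') =
      X.fromSpecResidueField (f.base ye) := by
    have e1 : θc ≫ CommRingCat.ofHom (algebraMap (composite R₁ R₂)
        (X.residueField (f.base ye))) =
        X.presheaf.stalkSpecializes h2 ≫ X.presheaf.stalkSpecializes h1 ≫
          X.residue (f.base ye) := by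
      ext a
      rfl
    have e2 := congrArg Spec.map e1
    rw [Spec.map_comp, Spec.map_comp, Spec.map_comp] at e2
    rw [← Category.assoc, e2, Category.assoc, Category.assoc,
      Scheme.SpecMap_stalkSpecializes_fromSpecStalk, Scheme.SpecMap_stalkSpecializes_fromSpecStalk]
    rfl
  let S : ValuativeCommSq f :=
    { R := composite R₁ R₂
      K := X.residueField (f.base ye)
      i₁ := i₁
      i₂ := Spec.map θc ≫ X.fromSpecStalk (f.base y')
      commSq := ⟨by rw [hi₁, hgen]⟩ }
  have hcl : (Spec.map θc ≫ X.fromSpecStalk (f.base y')).base (closedPoint (composite R₁ R₂)) =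
      f.base y' := specMap_closedPoint (f.base y') (composite R₁ R₂) θc
  obtain ⟨l₀, hl₀⟩ := exists_lift_of_mono_of_field f y' (IsLocalRing.ResidueField (composite R₁ R₂))
    (Spec.map (CommRingCat.ofHom (IsLocalRing.residue (composite R₁ R₂))) ≫ Spec.map θc ≫
      X.fromSpecStalk (f.base y'))
    ⟨closedPoint (IsLocalRing.ResidueField (composite R₁ R₂)), by
      rw [Scheme.Hom.comp_apply]
      have : (Spec.map (CommRingCat.ofHom (IsLocalRing.residue (composite R₁ R₂)))).base
          (closedPoint (IsLocalRing.ResidueField (composite R₁ R₂))) =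
            closedPoint (composite R₁ R₂) :=
        IsLocalRing.comap_closedPoint (IsLocalRing.residue (composite R₁ R₂))
      rw [this, hcl]⟩
  obtain ⟨⟨l, -, hl⟩⟩ := H S ⟨l₀, hl₀⟩
  change l ≫ f = Spec.map θc ≫ X.fromSpecStalk (f.base y') at hl
  -- the point over `z`
  have hinc : Spec.map (CommRingCat.ofHom inc) ≫ Spec.map θc ≫ X.fromSpecStalk (f.base y') =
      Spec.map θ₁c ≫ X.fromSpecStalk z := by
    have e1 : θc ≫ CommRingCat.ofHom inc = X.presheaf.stalkSpecializes h2 ≫ θ₁c := by
      ext a
      rfl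
    have e2 := congrArg Spec.map e1
    rw [Spec.map_comp, Spec.map_comp] at e2
    rw [← Category.assoc, e2, Category.assoc, Scheme.SpecMap_stalkSpecializes_fromSpecStalk]
  refine ⟨l.base ((Spec.map (CommRingCat.ofHom inc)).base (closedPoint R₁)), ?_⟩
  rw [← Scheme.Hom.comp_apply, hl, ← Scheme.Hom.comp_apply, hinc]
  exact specMap_closedPoint z R₁ θ₁c

/-- a constructible subset of a Noetherian spectrum which is convex for specialization is open
in its closure -/
theorem isClosed_closure_diff (B : Type u) [CommRing B] [IsNoetherianRing B]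
    (E : Set (PrimeSpectrum B)) (hE : IsConstructible E)
    (hconv : ∀ e z z' : PrimeSpectrum B, e ∈ E → z' ∈ E → e ⤳ z → z ⤳ z' → z ∈ E) :
    IsClosed (closure E \ E) := by
  have hcl : IsConstructible (closure E) := by
    rw [← isConstructible_compl]
    exact IsRetrocompact.isConstructible isClosed_closure.isOpen_compl
      (fun V _ _ => TopologicalSpace.NoetherianSpace.isCompact _)
  apply PrimeSpectrum.isClosed_of_stableUnderSpecialization_of_isConstructible _ (hcl.sdiff hE)
  rintro z z' hzz' ⟨hzZ, hzE⟩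
  refine ⟨hzz'.mem_closed isClosed_closure hzZ, fun hz'E => hzE ?_⟩
  obtain ⟨S, _, φ, rfl⟩ := PrimeSpectrum.exists_range_eq_of_isConstructible hE
  rw [PrimeSpectrum.closure_range_comap, PrimeSpectrum.mem_zeroLocus, SetLike.coe_subset_coe]
    at hzZ
  obtain ⟨p, hp, hpz⟩ := Ideal.exists_minimalPrimes_le hzZ
  obtain ⟨p', hp', -, hcomap⟩ := Ideal.exists_comap_eq_of_mem_minimalPrimes (I := ⊥) φ p
    (by rwa [← RingHom.ker_eq_comap_bot])
  refine hconv (PrimeSpectrum.comap φ ⟨p', hp'⟩) z z' ⟨_, rfl⟩ hz'E ?_ hzz'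
  rw [← PrimeSpectrum.le_iff_specializes]
  change Ideal.comap φ p' ≤ z.asIdeal
  rw [hcomap]
  exact hpz

/-- affine Noetherian case -/
theorem isImmersion_of_affine (B : Type u) [CommRing B] [IsNoetherianRing B] {Y : Scheme.{u}}
    (f : Y ⟶ Spec (CommRingCat.of B)) [Mono f] [LocallyOfFinitePresentation f] [QuasiCompact f]
    (H : ValLifting f) : IsImmersion f := by
  have hE : IsConstructible (Set.range f.base) := by
    have := f.isConstructible_image (s := Set.univ) IsConstructible.univ
    rwa [Set.image_univ] at this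
  have hclosed : IsClosed (closure (Set.range f.base) \ Set.range f.base) :=
    isClosed_closure_diff B (Set.range f.base) hE
      (fun e z z' he hz' h1 h2 => mem_range_of_sandwich f H e z z' he hz' h1 h2)
  let U : (Spec (CommRingCat.of B)).Opens :=
    ⟨(closure (Set.range f.base) \ Set.range f.base)ᶜ, hclosed.isOpen_compl⟩
  have hU : ∀ x : Spec (CommRingCat.of B), x ∈ U ↔
      x ∉ closure (Set.range f.base) \ Set.range f.base := fun x => Iff.rfl
  have hEU : Set.range f.base ⊆ Set.range U.ι.base := by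
    rw [Scheme.Opens.range_ι]
    rintro x hx
    exact (hU x).2 (fun h => h.2 hx)
  have hf' : IsOpenImmersion.lift U.ι f hEU ≫ U.ι = f := IsOpenImmersion.lift_fac _ _ _
  obtain ⟨f', hf'def⟩ : ∃ f' : Y ⟶ U, f' = IsOpenImmersion.lift U.ι f hEU := ⟨_, rfl⟩
  rw [← hf'def] at hf'
  haveI : Mono f' := mono_of_mono_fac hf'
  haveI : QuasiCompact (f' ≫ U.ι) := hf'.symm ▸ inferInstance
  haveI : QuasiCompact f' := QuasiCompact.of_comp f' U.ι
  haveI : LocallyOfFiniteType (f' ≫ U.ι) := hf'.symm ▸ inferInstance
  haveI : LocallyOfFiniteType f' := locallyOfFiniteType_of_comp f' U.ι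
  have hex : ValuativeCriterion.Existence f' := by
    intro S
    -- the closed point lands in the image
    have hgen : (S.i₂ ≫ U.ι).base ((Spec.map (CommRingCat.ofHom (algebraMap S.R S.K))).base
        (closedPoint S.K)) ∈ Set.range f.base := by
      refine ⟨S.i₁.base (closedPoint S.K), ?_⟩
      rw [← Scheme.Hom.comp_apply, ← Scheme.Hom.comp_apply, ← Category.assoc, ← S.commSq.w,
        Category.assoc, hf']
    have hsp : (S.i₂ ≫ U.ι).base ((Spec.map (CommRingCat.ofHom (algebraMap S.R S.K))).base
        (closedPoint S.K)) ⤳ (S.i₂ ≫ U.ι).base (closedPoint S.R) :=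
      (IsLocalRing.specializes_closedPoint _).map (S.i₂ ≫ U.ι).continuous
    have hcl : (S.i₂ ≫ U.ι).base (closedPoint S.R) ∈ closure (Set.range f.base) :=
      hsp.mem_closed isClosed_closure (subset_closure hgen)
    have hmemU : (S.i₂ ≫ U.ι).base (closedPoint S.R) ∈ U := by
      rw [Scheme.Hom.comp_apply]
      exact (S.i₂.base (closedPoint S.R)).2
    have hmem : (S.i₂ ≫ U.ι).base (closedPoint S.R) ∈ Set.range f.base := by
      by_contra hcon
      exact (hU _).1 hmemU ⟨hcl, hcon⟩
    obtain ⟨y, hy⟩ := hmem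
    obtain ⟨l₀, hl₀⟩ := exists_lift_of_mono_of_field f y (IsLocalRing.ResidueField S.R)
      (Spec.map (CommRingCat.ofHom (IsLocalRing.residue S.R)) ≫ S.i₂ ≫ U.ι)
      ⟨closedPoint (IsLocalRing.ResidueField S.R), by
        rw [Scheme.Hom.comp_apply]
        have : (Spec.map (CommRingCat.ofHom (IsLocalRing.residue S.R))).base
            (closedPoint (IsLocalRing.ResidueField S.R)) = closedPoint S.R :=
          IsLocalRing.comap_closedPoint (IsLocalRing.residue S.R)
        rw [this, hy]⟩
    let S₀ : ValuativeCommSq f :=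
      { R := S.R
        K := S.K
        i₁ := S.i₁
        i₂ := S.i₂ ≫ U.ι
        commSq := ⟨by rw [← hf', ← Category.assoc, S.commSq.w, Category.assoc]⟩ }
    obtain ⟨⟨l, hl1, hl2⟩⟩ := H S₀ ⟨l₀, hl₀⟩
    refine ⟨⟨⟨l, hl1, ?_⟩⟩⟩
    rw [← cancel_mono U.ι, Category.assoc, hf']
    exact hl2
  haveI : UniversallyClosed f' := UniversallyClosed.of_valuativeCriterion f' hex
  haveI : IsProper f' := {}
  haveI : IsClosedImmersion f' := (IsClosedImmersion.iff_isProper_and_mono f').2 ⟨inferInstance, inferInstance⟩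
  rw [← hf']
  infer_instance

/-- a monomorphism locally of finite presentation, quasi-compact, with valuative lifting, to a
locally Noetherian scheme is an immersion -/
theorem isImmersion_of_valLifting {X Y : Scheme.{u}} [IsLocallyNoetherian X] (f : Y ⟶ X) [Mono f]
    [LocallyOfFinitePresentation f] [QuasiCompact f] (H : ValLifting f) : IsImmersion f := by
  rw [IsZariskiLocalAtTarget.iff_of_openCover (P := @IsImmersion) X.affineOpenCover.openCover]
  intro i
  change IsImmersion (pullback.snd f (X.affineOpenCover.f i))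
  haveI : IsLocallyNoetherian (Spec (X.affineOpenCover.X i)) :=
    isLocallyNoetherian_of_isOpenImmersion (X.affineOpenCover.f i)
  haveI hN : IsNoetherianRing (X.affineOpenCover.X i) := isLocallyNoetherian_Spec.mp inferInstance
  have := @isImmersion_of_affine (X.affineOpenCover.X i) _ hN _
    (pullback.snd f (X.affineOpenCover.f i)) _ _ _ (valLifting_snd f _ H)
  exact this

end Groth.Agent.Lib.Helper13.MonoImm
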