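import Mathlib
import Groth.Agent.Lib.Helper13.RelLocRep

/-!
# Representability from an open cover by representable subfunctors, over a base (helper13)

`isRepresentable_of_charts`: abstract form (charts `e a ∈ F(W a)`, membership predicate `Good a`,
open loci `O a x`) of Zariski-local representability for `IsZarSheaf` functors on `Over S`.
-/

set_option backward.isDefEq.respectTransparency false
set_option autoImplicit false
set_option linter.unusedSectionVars false
set_option linter.unusedVariables false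
universe u
open CategoryTheory CategoryTheory.Limits AlgebraicGeometry Opposite

namespace Groth.Agent.Lib.Helper13.RelOpenRep

open Groth.Agent.Lib.Helper13.RelLocRep

variable {S : Scheme.{u}} {F : (Over S)ᵒᵖ ⥤ Type u}

/-- representability of the total functor gives representability over the base -/
theorem nonempty_representableBy_of_totF {Y : Scheme.{u}} (h : (totF F).RepresentableBy Y) :
    ∃ (W₀ : Over S) (e₀ : El F W₀.left), W₀.left = Y ∧ Nonempty (F.RepresentableBy W₀) := by
  let e₀ : El F Y := h.homEquiv (𝟙 Y)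
  have hres : ∀ {T : Scheme.{u}} (g : T ⟶ Y), El.res g e₀ = h.homEquiv g := by
    intro T g
    have := h.homEquiv_comp g (𝟙 Y)
    rw [Category.comp_id] at this
    exact this.symm
  have hinj : ∀ {T : Scheme.{u}} (g g' : T ⟶ Y), El.res g e₀ = El.res g' e₀ → g = g' := by
    intro T g g' hgg
    rw [hres, hres] at hgg
    exact h.homEquiv.injective hgg
  have hmap : ∀ {T : Over S} (φ : T ⟶ Over.mk e₀.1),
      F.map φ.op e₀.2 = pull F e₀.2 φ.left T.hom (Over.w φ) := fun φ => rfl
  refine ⟨Over.mk e₀.1, e₀, rfl, ⟨?_⟩⟩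
  refine
    { homEquiv := fun {T} => Equiv.ofBijective (fun φ => F.map φ.op e₀.2) ⟨?_, ?_⟩
      homEquiv_comp := fun {T T'} a b => by
        change F.map (a ≫ b).op e₀.2 = F.map a.op (F.map b.op e₀.2)
        rw [op_comp, Functor.map_comp_apply] }
  · intro φ φ' hφ
    dsimp only at hφ
    rw [hmap, hmap] at hφ
    apply Over.OverMorphism.ext
    apply hinj
    apply El.ext (by
      change φ.left ≫ e₀.1 = φ'.left ≫ e₀.1
      exact (Over.w φ).trans (Over.w φ').symm)
    change pull F (pull F e₀.2 φ.left (φ.left ≫ e₀.1) rfl) (𝟙 _) (φ'.left ≫ e₀.1) _ =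
      pull F e₀.2 φ'.left (φ'.left ≫ e₀.1) rfl
    rw [pull_pull _ _ _ _ _ _ _ (by
      rw [Category.id_comp]; exact (Over.w φ).trans (Over.w φ').symm)]
    have h3 := pull_eq_pull_of _ _ _ _ _ _ (Over.w φ').symm _ _ hφ
    exact (pull_congr _ (Category.id_comp _) _ _ _).trans h3
  · intro x
    let el : El F T.left := ⟨T.hom, x⟩
    let g : T.left ⟶ Y := h.homEquiv.symm el
    have hg : El.res g e₀ = el := by rw [hres]; exact h.homEquiv.apply_symm_apply _
    obtain ⟨h1, h2⟩ := El.eq_iff hg
    have h1' : g ≫ e₀.1 = T.hom := h1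
    refine ⟨Over.homMk g h1', ?_⟩
    dsimp only
    rw [hmap]
    change pull F (pull F e₀.2 g (g ≫ e₀.1) rfl) (𝟙 _) T.hom _ = x at h2
    rw [← h2, pull_pull _ _ _ _ _ _ _ (by rw [Category.id_comp]; exact h1')]
    exact pull_congr _ (Category.id_comp _).symm _ _ _

section charts

variable {A : Type u} (W : A → Scheme.{u}) (e : ∀ a, El F (W a))
  (Good : ∀ (a : A) {T : Scheme.{u}}, El F T → Prop)
  (h1 : ∀ (a : A) {T : Scheme.{u}} (x : El F T), Good a x → ∃! l : T ⟶ W a, El.res l (e a) = x)
  (h2 : ∀ (a : A) {T T' : Scheme.{u}} (h : T' ⟶ T) (x : El F T), Good a x → Good a (El.res h x))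
  (h2' : ∀ a, Good a (e a))
  (O : ∀ (a : A) {T : Scheme.{u}}, El F T → T.Opens)
  (h3 : ∀ (a : A) {T T' : Scheme.{u}} (x : El F T) (h : T' ⟶ T),
    Good a (El.res h x) ↔ Set.range h ⊆ (O a x : Set T))
  (h4 : ∀ {T : Scheme.{u}} (x : El F T) (p : T), ∃ a, p ∈ O a x)

include h3 in
theorem good_res_ι (a : A) {T : Scheme.{u}} (x : El F T) : Good a (El.res (O a x).ι x) := by
  rw [h3, Scheme.Opens.range_ι]

include h1 h3 in
theorem exists_liftW (a : A) {T : Scheme.{u}} (x : El F T) :
    ∃ l : (O a x).toScheme ⟶ W a, El.res l (e a) = El.res (O a x).ι x :=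
  (h1 a _ (good_res_ι Good O h3 a x)).exists

/-- the local lift -/
noncomputable def liftW (a : A) {T : Scheme.{u}} (x : El F T) : (O a x).toScheme ⟶ W a :=
  (exists_liftW W e Good h1 O h3 a x).choose

theorem liftW_spec (a : A) {T : Scheme.{u}} (x : El F T) :
    El.res (liftW W e Good h1 O h3 a x) (e a) = El.res (O a x).ι x :=
  (exists_liftW W e Good h1 O h3 a x).choose_spec

theorem comm_sq (a : A) {T T' : Scheme.{u}} (x : El F T) (c : T' ⟶ (O a x).toScheme) :
    El.res (c ≫ liftW W e Good h1 O h3 a x) (e a) = El.res (c ≫ (O a x).ι) x := by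
  rw [← El.res_res, liftW_spec, El.res_res]

include h2 h2' in
theorem exists_lift_sq (a : A) {T T' : Scheme.{u}} (x : El F T) (b : T' ⟶ W a)
    (c' : T' ⟶ T) (h : El.res b (e a) = El.res c' x) :
    ∃ c : T' ⟶ (O a x).toScheme, c ≫ liftW W e Good h1 O h3 a x = b ∧ c ≫ (O a x).ι = c' := by
  have hg : Good a (El.res c' x) := by
    rw [← h]; exact h2 a b _ (h2' a)
  have hr : Set.range c' ⊆ Set.range (O a x).ι := by
    rw [Scheme.Opens.range_ι]
    exact (h3 a x c').1 hg
  refine ⟨IsOpenImmersion.lift (O a x).ι c' hr, ?_, IsOpenImmersion.lift_fac _ _ _⟩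
  apply (h1 a _ hg).unique
  · rw [comm_sq, IsOpenImmersion.lift_fac]
  · exact h

include h2 h2' in
theorem isPullback_liftW (a : A) {T : Scheme.{u}} (g : yoneda.obj T ⟶ totF F) :
    IsPullback (yoneda.map (liftW W e Good h1 O h3 a (yonedaEquiv g)))
      (yoneda.map (O a (yonedaEquiv g)).ι) (homOfEl (e a)) g := by
  apply IsPullback.of_forall_isPullback_app
  rintro ⟨T'⟩
  rw [Types.isPullback_iff]
  refine ⟨?_, ?_, ?_⟩
  · ext c
    have := comm_sq W e Good h1 O h3 a (T' := T') (yonedaEquiv g) c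
    rw [← g_app] at this
    exact this
  · intro c₁ c₂ h
    have hh : c₁ ≫ (O a (yonedaEquiv g)).ι = c₂ ≫ (O a (yonedaEquiv g)).ι := h.2
    exact (cancel_mono _).1 hh
  · intro b c' h
    have h0 : El.res b (e a) = El.res c' (yonedaEquiv g) := by
      rw [← g_app]
      exact h
    obtain ⟨c, hc1, hc2⟩ := exists_lift_sq W e Good h1 h2 h2' O h3 a (yonedaEquiv g) b c' h0
    exact ⟨c, hc1, hc2⟩

include h1 h2 h2' h3 in
theorem homOfEl_isOpenImmersion (a : A) : IsOpenImmersion.presheaf (homOfEl (e a)) := by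
  apply MorphismProperty.relative.of_exists
  intro T g
  exact ⟨(O a (yonedaEquiv g)).toScheme, yoneda.map (liftW W e Good h1 O h3 a (yonedaEquiv g)),
    (O a (yonedaEquiv g)).ι, isPullback_liftW W e Good h1 h2 h2' O h3 a g, inferInstance⟩

include h4 in
theorem isOpenCover_O {T : Scheme.{u}} (x : El F T) :
    TopologicalSpace.IsOpenCover (fun a : A => O a x) := by
  rw [TopologicalSpace.IsOpenCover]
  apply top_le_iff.1
  intro p _
  obtain ⟨a, ha⟩ := h4 x p
  exact TopologicalSpace.Opens.mem_iSup.2 ⟨a, ha⟩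

include h1 h3 h4 in
theorem isLocallySurjective_sigmaDesc (hF : IsZarSheaf F) :
    Presheaf.IsLocallySurjective Scheme.zariskiTopology
      (Sigma.desc (fun a => homOfEl (e a)) : _ ⟶ (totSheaf hF).1) where
  imageSieve_mem {T} s := by
    let x : El F T := s
    refine Scheme.zariskiTopology.superset_covering ?_
      (T.openCoverOfIsOpenCover _ (isOpenCover_O O h4 x)).mem_grothendieckTopology
    refine (Sieve.generate_le_iff _ _).2 ?_
    rintro V c ⟨a⟩
    refine ⟨(Sigma.ι (fun a => yoneda.obj (W a)) a).app (op (O a x).toScheme)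
      (liftW W e Good h1 O h3 a x), ?_⟩
    have hh1 : (Sigma.ι (fun a => yoneda.obj (W a)) a ≫
        Sigma.desc (fun a => homOfEl (e a))) = homOfEl (e a) :=
      Sigma.ι_desc _ _
    have hh2 := comm_sq W e Good h1 O h3 a x (𝟙 (O a x).toScheme)
    rw [Category.id_comp, Category.id_comp] at hh2
    have hh3 : (Sigma.ι (fun a => yoneda.obj (W a)) a ≫
        Sigma.desc (fun a => homOfEl (e a))).app
        (op (O a x).toScheme) (liftW W e Good h1 O h3 a x) = El.res (O a x).ι x := by
      rw [hh1]; exact hh2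
    exact hh3

include h1 h2 h2' h3 h4 in
/-- **representability from an open cover by representable subfunctors** -/
theorem isRepresentable_of_charts (hF : IsZarSheaf F) : F.IsRepresentable := by
  haveI := isLocallySurjective_sigmaDesc W e Good h1 O h3 h4 hF
  have hrep : (totSheaf hF).1.IsRepresentable :=
    Scheme.LocalRepresentability.isRepresentable (F := totSheaf hF)
      (f := fun a => homOfEl (e a)) (fun a => homOfEl_isOpenImmersion W e Good h1 h2 h2' O h3 a)
  obtain ⟨Y, ⟨h⟩⟩ := hrep
  obtain ⟨W₀, -, -, ⟨r⟩⟩ := nonempty_representableBy_of_totF (F := F) h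
  exact ⟨W₀, ⟨r⟩⟩

end charts

end Groth.Agent.Lib.Helper13.RelOpenRep
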