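import Mathlib
import Groth.Prelude.Def_Flatn
import Groth.Prelude.Def_Mor2
import Groth.Agent.Lib.Helper13.RelOpenRep
import Groth.Agent.Lib.Helper13.MorSSheaf

/-! Helper13: the open subfunctors `Mor_S(Z, U) ⊆ Mor_S(Z, X)` for `U ⊆ X` open, `Z → S` finite. -/

set_option autoImplicit false
set_option linter.unusedSectionVars false
set_option linter.style.haveILetI false
universe u
open CategoryTheory CategoryTheory.Limits AlgebraicGeometry Opposite

namespace Groth.Agent.Lib.Helper13.MorSAF

open Groth.Agent.Lib.Helper13.RelLocRep Groth.Agent.Lib.Helper13.MorSSheaf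

variable {Z X S : Scheme.{u}} (g : Z ⟶ S) (f : X ⟶ S)

/-- post-composition with the inclusion of an open -/
noncomputable def post (U : X.Opens) {T : Over S} (b : (Flatn.morS g (U.ι ≫ f)).obj (op T)) :
    (Flatn.morS g f).obj (op T) :=
  b ≫ (Over.homMk U.ι rfl : Over.mk (U.ι ≫ f) ⟶ Over.mk f)

theorem post_left (U : X.Opens) {T : Over S} (b : (Flatn.morS g (U.ι ≫ f)).obj (op T)) :
    (post g f U b).left = b.left ≫ U.ι := rfl

theorem post_injective (U : X.Opens) {T : Over S} (b b' : (Flatn.morS g (U.ι ≫ f)).obj (op T))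
    (h : post g f U b = post g f U b') : b = b' := by
  apply Over.OverMorphism.ext
  have := congrArg (fun c => c.left) h
  simp only [post_left] at this
  exact (cancel_mono U.ι).1 this

theorem pull_post (U : X.Opens) {T T' : Scheme.{u}} {t : T ⟶ S}
    (b : (Flatn.morS g (U.ι ≫ f)).obj (op (Over.mk t))) (h : T' ⟶ T) (t' : T' ⟶ S)
    (ht : h ≫ t = t') :
    pull (Flatn.morS g f) (post g f U b) h t' ht =
      post g f U (pull (Flatn.morS g (U.ι ≫ f)) b h t' ht) := by
  apply Over.OverMorphism.ext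
  rw [pull_left, post_left, post_left, pull_left, Category.assoc]

/-- membership in the subfunctor of maps landing in `U` -/
def Good (U : X.Opens) {T : Scheme.{u}} (x : El (Flatn.morS g f) T) : Prop :=
  Set.range x.2.left ⊆ (U : Set X)

theorem res_left {T T' : Scheme.{u}} (h : T' ⟶ T) (x : El (Flatn.morS g f) T) :
    (El.res h x).2.left =
      ((Over.pullback g).map (Over.homMk h rfl : Over.mk (h ≫ x.1) ⟶ Over.mk x.1)).left ≫
        x.2.left := rfl

theorem good_res (U : X.Opens) {T T' : Scheme.{u}} (h : T' ⟶ T) (x : El (Flatn.morS g f) T)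
    (hx : Good g f U x) : Good g f U (El.res h x) := by
  rintro _ ⟨z, rfl⟩
  exact hx ⟨((Over.pullback g).map (Over.homMk h rfl : Over.mk (h ≫ x.1) ⟶ Over.mk x.1)).left z, rfl⟩

/-- the underlying morphism of an element -/
noncomputable abbrev El.mor {T : Scheme.{u}} (x : El (Flatn.morS g f) T) : pullback x.1 g ⟶ X :=
  x.2.left

theorem El.mor_over {T : Scheme.{u}} (x : El (Flatn.morS g f) T) :
    El.mor g f x ≫ f = pullback.snd x.1 g ≫ g := Over.w x.2

theorem good_iff (U : X.Opens) {T : Scheme.{u}} (x : El (Flatn.morS g f) T) :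
    Good g f U x ↔ ∀ z : ↥(pullback x.1 g), El.mor g f x z ∈ U :=
  ⟨fun h z => h ⟨z, rfl⟩, fun h => by rintro _ ⟨z, rfl⟩; exact h z⟩

/-- the open locus where the map lands in `U` -/
noncomputable def O [IsFinite g] (U : X.Opens) {T : Scheme.{u}} (x : El (Flatn.morS g f) T) :
    T.Opens :=
  ⟨((pullback.fst x.1 g) '' ((El.mor g f x) ⁻¹' ((U : Set X)ᶜ)))ᶜ, by
    rw [isOpen_compl_iff]
    exact (pullback.fst x.1 g).isClosedMap _
      ((U.isOpen.isClosed_compl).preimage (El.mor g f x).continuous)⟩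

theorem mem_O [IsFinite g] (U : X.Opens) {T : Scheme.{u}} (x : El (Flatn.morS g f) T) (p : T) :
    p ∈ O g f U x ↔ ∀ z : ↥(pullback x.1 g), pullback.fst x.1 g z = p → El.mor g f x z ∈ U := by
  change p ∉ _ ↔ _
  rw [Set.mem_image]
  constructor
  · intro h z hz
    by_contra hzU
    exact h ⟨z, hzU, hz⟩
  · rintro h ⟨z, hzU, hz⟩
    exact hzU (h z hz)

theorem res_mor_apply {T T' : Scheme.{u}} (h : T' ⟶ T) (x : El (Flatn.morS g f) T)
    (z : ↥(pullback (h ≫ x.1) g)) :
    El.mor g f (El.res h x) z = El.mor g f x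
      (((Over.pullback g).map (Over.homMk h rfl : Over.mk (h ≫ x.1) ⟶ Over.mk x.1)).left z) := rfl

theorem good_res_iff [IsFinite g] (U : X.Opens) {T T' : Scheme.{u}} (x : El (Flatn.morS g f) T)
    (h : T' ⟶ T) : Good g f U (El.res h x) ↔ Set.range h ⊆ (O g f U x : Set T) := by
  let m : pullback (h ≫ x.1) g ⟶ pullback x.1 g :=
    ((Over.pullback g).map (Over.homMk h rfl : Over.mk (h ≫ x.1) ⟶ Over.mk x.1)).left
  have hm1 : m ≫ pullback.fst x.1 g = pullback.fst (h ≫ x.1) g ≫ h := map_left_fst' _ g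
  have hm2 : m ≫ pullback.snd x.1 g = pullback.snd (h ≫ x.1) g := map_left_snd' _ g
  have hpb : IsPullback m (pullback.fst (h ≫ x.1) g) (pullback.fst x.1 g) h := by
    refine IsPullback.of_right ?_ hm1 (IsPullback.of_hasPullback x.1 g).flip
    rw [hm2]
    exact (IsPullback.of_hasPullback (h ≫ x.1) g).flip
  rw [good_iff]
  constructor
  · rintro hG _ ⟨p', rfl⟩
    rw [SetLike.mem_coe, mem_O]
    intro z hz
    obtain ⟨z', hz'1, hz'2⟩ := Scheme.Pullback.exists_preimage_pullback
      (f := pullback.fst x.1 g) (g := h) z p' hz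
    let z'' : ↥(pullback (h ≫ x.1) g) := hpb.isoPullback.inv z'
    have e1 : m z'' = z := by
      change (hpb.isoPullback.inv ≫ m) z' = z
      rw [IsPullback.isoPullback_inv_fst]
      exact hz'1
    have := hG z''
    change El.mor g f x (m z'') ∈ U at this
    rwa [e1] at this
  · intro hr z
    change El.mor g f x (m z) ∈ U
    have hp : h (pullback.fst (h ≫ x.1) g z) ∈ O g f U x := hr ⟨_, rfl⟩
    rw [mem_O] at hp
    apply hp
    change (m ≫ pullback.fst x.1 g) z = _
    rw [hm1]
    rfl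

end Groth.Agent.Lib.Helper13.MorSAF
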