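import Mathlib
import Groth.Agent.Lib.Helper13.MorSAF
import Groth.Agent.S7194
import Groth.Agent.Lib.Helper13.AffineAvoid
import Groth.Agent.Lib.Helper26.MorSchBC

/-! Helper13: representability of `Mor_S(Z, X)` for `Z → S` finite locally free and `X → S` with (AF). -/

set_option autoImplicit false
set_option linter.unusedSectionVars false
set_option linter.style.haveILetI false
universe u
open CategoryTheory CategoryTheory.Limits AlgebraicGeometry Opposite

namespace Groth.Agent.Lib.Helper13.MorSAF2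

open Groth.Agent.Lib.Helper13.RelLocRep Groth.Agent.Lib.Helper13.MorSSheaf
  Groth.Agent.Lib.Helper13.MorSAF Groth.Agent.Lib.Helper13.RelOpenRep

section sub
variable {S : Scheme.{u}}

theorem existsUnique_of_sub {F' F : (Over S)ᵒᵖ ⥤ Type u}
    (ι : ∀ {T : Over S}, F'.obj (op T) → F.obj (op T))
    (hι : ∀ {T : Over S} (b b' : F'.obj (op T)), ι b = ι b' → b = b')
    (hpull : ∀ {T T' : Scheme.{u}} {t : T ⟶ S} (b : F'.obj (op (Over.mk t))) (h : T' ⟶ T)
      (t' : T' ⟶ S) (ht : h ≫ t = t'), pull F (ι b) h t' ht = ι (pull F' b h t' ht))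
    {W : Over S} (r : F'.RepresentableBy W) {T : Scheme.{u}} (x : El F T)
    (hx : ∃ b : F'.obj (op (Over.mk x.1)), ι b = x.2) :
    ∃! l : T ⟶ W.left,
      El.res l (⟨W.hom, ι (T := Over.mk W.hom) (r.homEquiv (𝟙 W))⟩ : El F W.left) = x := by
  obtain ⟨t, σ⟩ := x
  obtain ⟨b, hb⟩ := hx
  dsimp only at b hb
  let ξ : F'.obj (op (Over.mk W.hom)) := r.homEquiv (𝟙 W)
  have hrep : ∀ (l : T ⟶ W.left) (hl : l ≫ W.hom = t),
      r.homEquiv (Over.homMk l hl : Over.mk t ⟶ W) = pull F' ξ l t hl := by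
    intro l hl
    rw [r.homEquiv_eq]
    rfl
  let c : Over.mk t ⟶ W := (r.homEquiv (X := Over.mk t)).symm b
  have hc : r.homEquiv c = b := (r.homEquiv (X := Over.mk t)).apply_symm_apply b
  let l₀ : T ⟶ W.left := c.left
  have hl₀ : l₀ ≫ W.hom = t := Over.w c
  have hcl : c = (Over.homMk l₀ hl₀ : Over.mk t ⟶ W) := Over.OverMorphism.ext rfl
  refine ⟨l₀, ?_, ?_⟩
  · have h1 : (El.res l₀ (⟨W.hom, ι (T := Over.mk W.hom) ξ⟩ : El F W.left)).1 =
        (⟨t, σ⟩ : El F T).1 := hl₀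
    apply El.ext h1
    change pull F (pull F (ι ξ) l₀ (l₀ ≫ W.hom) rfl) (𝟙 T) t
      (by rw [Category.id_comp]; exact hl₀) = σ
    rw [pull_pull _ _ _ _ _ _ _ (by rw [Category.id_comp]; exact hl₀),
      pull_congr _ (Category.id_comp l₀) _ _ hl₀, hpull, ← hrep, ← hcl, hc, hb]
  · intro l hl
    obtain ⟨h1, h2⟩ := El.eq_iff hl
    have h1' : l ≫ W.hom = t := h1
    let c' : Over.mk t ⟶ W := Over.homMk l h1'
    have h3 : r.homEquiv c' = b := by
      apply hι
      rw [hb, hrep, ← hpull]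
      change pull F (pull F (ι ξ) l (l ≫ W.hom) rfl) (𝟙 T) t
        (by rw [Category.id_comp]; exact h1') = σ at h2
      rw [← h2, pull_pull _ _ _ _ _ _ _ (by rw [Category.id_comp]; exact h1')]
      exact pull_congr _ (Category.id_comp l).symm _ _ _
    have h4 : c' = c := r.homEquiv.injective (h3.trans hc.symm)
    exact congrArg (fun d => d.left) h4

end sub

section step2
variable {Z X S : Scheme.{u}} (g : Z ⟶ S) (f : X ⟶ S)

theorem exists_post_of_good (U : X.Opens) {T : Scheme.{u}} (x : El (Flatn.morS g f) T)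
    (hx : Good g f U x) :
    ∃ b : (Flatn.morS g (U.ι ≫ f)).obj (op (Over.mk x.1)), post g f U b = x.2 := by
  have hr : Set.range x.2.left ⊆ Set.range U.ι := by
    rw [Scheme.Opens.range_ι]; exact hx
  let l : pullback x.1 g ⟶ U.toScheme := IsOpenImmersion.lift U.ι x.2.left hr
  have hl : l ≫ U.ι = x.2.left := IsOpenImmersion.lift_fac _ _ _
  have hw : l ≫ U.ι ≫ f = pullback.snd x.1 g ≫ g := by
    rw [← Category.assoc, hl]; exact Over.w x.2
  refine ⟨Over.homMk l hw, ?_⟩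
  apply Over.OverMorphism.ext
  exact hl

theorem good_post (U : X.Opens) {W : Over S} (b : (Flatn.morS g (U.ι ≫ f)).obj (op W)) :
    Good g f U (⟨W.hom, post g f U (T := Over.mk W.hom) b⟩ : El (Flatn.morS g f) W.left) := by
  rintro _ ⟨z, rfl⟩
  change (b.left ≫ U.ι) z ∈ U
  rw [Scheme.Hom.comp_apply]
  exact (b.left z).2

theorem exists_mem_O [IsFinite g] (A : Set X.Opens)
    (hAF : ∀ (s : S) (d : ℕ) (x : Fin d → ↥X), (∀ k, f (x k) = s) → ∃ U ∈ A, ∀ k, x k ∈ U)
    {T : Scheme.{u}} (x : El (Flatn.morS g f) T) (p : T) : ∃ U ∈ A, p ∈ O g f U x := by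
  have hfin : (pullback.fst x.1 g ⁻¹' {p}).Finite :=
    (pullback.fst x.1 g).finite_preimage_singleton p
  haveI : Finite ↥(pullback.fst x.1 g ⁻¹' {p}) := hfin.to_subtype
  obtain ⟨d, ⟨e⟩⟩ := Finite.exists_equiv_fin ↥(pullback.fst x.1 g ⁻¹' {p})
  let y : Fin d → X := fun k => El.mor g f x (e.symm k).1
  have hy : ∀ k, f (y k) = x.1 p := by
    intro k
    have hz : pullback.fst x.1 g (e.symm k).1 = p := (e.symm k).2
    change (El.mor g f x ≫ f) (e.symm k).1 = _
    rw [El.mor_over, ← pullback.condition, Scheme.Hom.comp_apply, hz]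
  obtain ⟨U, hU, hk⟩ := hAF (x.1 p) d y hy
  refine ⟨U, hU, ?_⟩
  rw [mem_O]
  intro z hz
  have := hk (e ⟨z, hz⟩)
  simpa [y] using this

/-- Step 2: representability from a family of opens of `X` affine over `S` and satisfying (AF). -/
theorem isRepresentable_of_affine_charts (hg : Mor2.IsFinLocFree g) (A : Set X.Opens)
    (hA : ∀ U ∈ A, IsAffineHom (U.ι ≫ f))
    (hAF : ∀ (s : S) (d : ℕ) (x : Fin d → ↥X), (∀ k, f (x k) = s) → ∃ U ∈ A, ∀ k, x k ∈ U) :
    (Flatn.morS g f).IsRepresentable := by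
  haveI : IsFinite g := hg.1
  have hrep : ∀ U : A, ∃ W : Over S, Nonempty ((Flatn.morS g (U.1.ι ≫ f)).RepresentableBy W) := by
    intro U
    haveI := hA U.1 U.2
    obtain ⟨W, -, hW⟩ := Groth.Agent.S7194.result g (U.1.ι ≫ f) hg
    exact ⟨W, hW⟩
  choose W hW using hrep
  let r : ∀ U : A, (Flatn.morS g (U.1.ι ≫ f)).RepresentableBy (W U) := fun U => (hW U).some
  let e : ∀ U : A, El (Flatn.morS g f) (W U).left := fun U =>
    ⟨(W U).hom, post g f U.1 (T := Over.mk (W U).hom) ((r U).homEquiv (𝟙 (W U)))⟩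
  refine isRepresentable_of_charts (A := A) (fun U => (W U).left) e
    (fun U {T} x => Good g f U.1 x) ?_ ?_ ?_ (fun U {T} x => O g f U.1 x) ?_ ?_
    (morS_isZarSheaf g f)
  · intro U T x hx
    exact existsUnique_of_sub (F' := Flatn.morS g (U.1.ι ≫ f)) (F := Flatn.morS g f)
      (fun {T} b => post g f U.1 b) (fun {T} b b' h => post_injective g f U.1 b b' h)
      (fun {T T' t} b h t' ht => pull_post g f U.1 b h t' ht) (r U) x
      (exists_post_of_good g f U.1 x hx)
  · intro U T T' h x hx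
    exact good_res g f U.1 h x hx
  · intro U
    exact good_post g f U.1 _
  · intro U T T' x h
    exact good_res_iff g f U.1 x h
  · intro T x p
    obtain ⟨U, hU, hp⟩ := exists_mem_O g f A hAF x p
    exact ⟨⟨U, hU⟩, hp⟩

end step2

section step1
variable {Z X S : Scheme.{u}} (g : Z ⟶ S) (f : X ⟶ S)

theorem af_pullback
    (hAF : ∀ (s : S) (d : ℕ) (x : Fin d → ↥X), (∀ k, f (x k) = s) →
      ∃ U : X.Opens, IsAffineOpen U ∧ ∀ k, x k ∈ U)
    {S' : Scheme.{u}} (q : S' ⟶ S) [IsOpenImmersion q] (s : S') (d : ℕ)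
    (x : Fin d → ↥(pullback f q)) (hx : ∀ k, pullback.snd f q (x k) = s) :
    ∃ U : (pullback f q).Opens, IsAffineOpen U ∧ ∀ k, x k ∈ U := by
  let j : pullback f q ⟶ X := pullback.fst f q
  have h1 : ∀ k, f (j (x k)) = q s := by
    intro k
    change (pullback.fst f q ≫ f) (x k) = _
    rw [pullback.condition, Scheme.Hom.comp_apply, hx]
  obtain ⟨U₀, hU₀, hk⟩ := hAF (q s) d (fun k => j (x k)) h1
  obtain ⟨h, hle, hmem⟩ := AffineAvoid.exists_basicOpen_le_of_finite hU₀ j.opensRange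
    (fun k => j (x k)) hk (fun k => ⟨x k, rfl⟩)
  exact ⟨j ⁻¹ᵁ X.basicOpen h, (hU₀.basicOpen h).preimage_of_isOpenImmersion j hle,
    fun k => hmem k⟩

theorem main (hg : Mor2.IsFinLocFree g)
    (hAF : ∀ (s : S) (d : ℕ) (x : Fin d → ↥X), (∀ k, f (x k) = s) →
      ∃ U : X.Opens, IsAffineOpen U ∧ ∀ k, x k ∈ U) :
    (Flatn.morS g f).IsRepresentable := by
  haveI := hg.1
  haveI := hg.2.1
  haveI := hg.2.2
  let q : ∀ V : S.affineOpens, V.1.toScheme ⟶ S := fun V => V.1.ι
  have hloc : ∀ V : S.affineOpens, ∃ W : Over V.1.toScheme,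
      Nonempty ((Flatn.morS (pullback.snd g (q V)) (pullback.snd f (q V))).RepresentableBy W) := by
    intro V
    haveI : IsAffine V.1.toScheme := V.2
    have hg' : Mor2.IsFinLocFree (pullback.snd g (q V)) :=
      ⟨inferInstance, inferInstance, inferInstance⟩
    have := isRepresentable_of_affine_charts (pullback.snd g (q V)) (pullback.snd f (q V)) hg'
      {U | IsAffineOpen U} (fun U hU => by
        haveI : IsAffine U.toScheme := hU
        infer_instance) (fun s d x hx => af_pullback f hAF (q V) s d x hx)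
    obtain ⟨W, ⟨r⟩⟩ := this
    exact ⟨W, ⟨r⟩⟩
  choose W hW using hloc
  let r : ∀ V, ((Over.map (q V)).op ⋙ Flatn.morS g f).RepresentableBy (W V) := fun V =>
    (hW V).some.ofIso (Groth.Agent.Lib.Helper26.MorSchBC.morSIso g f (q V))
  obtain ⟨W₀, rep, -⟩ := RelLocRep.exists_representableBy_of_local q W r
    (fun s => by
      obtain ⟨V, hV, hsV, -⟩ := exists_isAffineOpen_mem_and_subset (x := s) (U := ⊤) trivial
      refine ⟨⟨V, hV⟩, ?_⟩
      change s ∈ Set.range V.ι
      rw [Scheme.Opens.range_ι]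
      exact hsV) (MorSSheaf.morS_isZarSheaf g f)
  exact ⟨W₀, ⟨rep⟩⟩

end step1

end Groth.Agent.Lib.Helper13.MorSAF2
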