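import Mathlib

/-!
# A criterion for a Noetherian domain to be N-1

If `R_f` is integrally closed for some `f ≠ 0` and the localizations at (maximal ideals containing)
the associated primes of `R/f` have finite integral closure, then the integral closure of `R` in
its fraction field is finite.
-/

set_option autoImplicit false
set_option linter.style.haveILetI false
noncomputable section

namespace Groth.Agent.Lib.Helper13.N1Criterion

/-- an element of `R_f` lying in `R_q` for every associated prime `q` of `R/f` lies in `R` -/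
theorem mem_range_of_forall_assoc {R K : Type*} [CommRing R] [IsDomain R] [IsNoetherianRing R]
    [Field K] [Algebra R K] [IsFractionRing R K] (f : R) (hf : f ≠ 0) (k : ℕ) :
    ∀ (x : K), (∃ a : R, algebraMap R K a = algebraMap R K f ^ k * x) →
    (∀ q ∈ associatedPrimes R (R ⧸ Ideal.span {f}), ∃ s : R, s ∉ q ∧
      ∃ b : R, algebraMap R K b = algebraMap R K s * x) →
    ∃ r : R, algebraMap R K r = x := by
  have hfK : algebraMap R K f ≠ 0 := by
    rwa [Ne, map_eq_zero_iff _ (IsFractionRing.injective R K)]
  induction k with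
  | zero =>
    rintro x ⟨a, ha⟩ -
    exact ⟨a, by rw [ha, pow_zero, one_mul]⟩
  | succ k ih =>
    rintro x ⟨a, ha⟩ hq
    -- `a ∈ (f)`
    have hmem : a ∈ Ideal.span {f} := by
      by_contra hne
      have hne' : (Ideal.Quotient.mk (Ideal.span {f}) a) ≠ 0 := by
        rwa [Ne, Ideal.Quotient.eq_zero_iff_mem]
      obtain ⟨P, hP, hle⟩ := exists_le_isAssociatedPrime_of_isNoetherianRing R
        (Ideal.Quotient.mk (Ideal.span {f}) a) hne'
      obtain ⟨s, hsP, b, hb⟩ := hq P hP
      apply hsP
      apply hle
      rw [Submodule.mem_colon_singleton, Submodule.mem_bot]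
      have h1 : s • (Ideal.Quotient.mk (Ideal.span {f}) a) =
          Ideal.Quotient.mk (Ideal.span {f}) (s * a) := rfl
      rw [h1, Ideal.Quotient.eq_zero_iff_mem, Ideal.mem_span_singleton]
      refine ⟨f ^ k * b, ?_⟩
      apply IsFractionRing.injective R K
      rw [map_mul, ha, map_mul, map_mul, map_pow, hb]
      ring
    obtain ⟨a', rfl⟩ := Ideal.mem_span_singleton.mp hmem
    refine ih x ⟨a', ?_⟩ hq
    rw [map_mul, pow_succ] at ha
    have h2 : algebraMap R K f * algebraMap R K a' =
        algebraMap R K f * (algebraMap R K f ^ k * x) := by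
      rw [ha]; ring
    exact mul_left_cancel₀ hfK h2

/-- if the integral closure of the localization `R_m` is finite, then a uniform power of `f`
multiplies the integral closure of `R` into `R_m` -/
theorem exists_pow_mul_mem_localization {R K : Type*} [CommRing R] [IsDomain R] [Field K]
    [Algebra R K] [IsFractionRing R K] (f : R)
    (hfint : ∀ c : K, IsIntegral R c →
      ∃ k : ℕ, ∃ a : R, algebraMap R K a = algebraMap R K f ^ k * c)
    (m : Ideal R) [m.IsPrime] (Rm : Type*) [CommRing Rm] [Algebra R Rm]
    [IsLocalization.AtPrime Rm m] [Algebra Rm K] [IsScalarTower R Rm K]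
    (hfin : Module.Finite Rm (integralClosure Rm K)) :
    ∃ n : ℕ, ∀ c : K, IsIntegral R c → ∃ s : R, s ∉ m ∧
      ∃ b : R, algebraMap R K b = algebraMap R K s * (algebraMap R K f ^ n * c) := by
  classical
  obtain ⟨S, hS⟩ := hfin.fg_top
  have h1 : ∀ y : integralClosure Rm K, ∃ (t : R) (_ : t ∉ m) (k : ℕ) (a : R),
      algebraMap R K a = algebraMap R K f ^ k * (algebraMap R K t * (y : K)) := by
    intro y
    obtain ⟨⟨t, ht⟩, hty⟩ :=
      IsIntegral.exists_multiple_integral_of_isLocalization m.primeCompl (y : K) y.2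
    obtain ⟨k, a, ha⟩ := hfint _ hty
    refine ⟨t, ht, k, a, ?_⟩
    rw [ha, Submonoid.mk_smul, Algebra.smul_def]
  choose t ht k a ha using h1
  refine ⟨S.sup k, ?_⟩
  let N : Submodule Rm (integralClosure Rm K) :=
    { carrier := {c | ∃ s : R, s ∉ m ∧ ∃ b : R,
        algebraMap R K b = algebraMap R K s * (algebraMap R K f ^ (S.sup k) * (c : K))}
      zero_mem' := ⟨1, fun h => (Ideal.IsPrime.ne_top ‹_›) ((Ideal.eq_top_iff_one m).mpr h),
        0, by simp⟩
      add_mem' := by
        rintro x y ⟨s₁, hs₁, b₁, hb₁⟩ ⟨s₂, hs₂, b₂, hb₂⟩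
        refine ⟨s₁ * s₂, fun h => (Ideal.IsPrime.mem_or_mem ‹_› h).elim hs₁ hs₂,
          s₂ * b₁ + s₁ * b₂, ?_⟩
        rw [map_add, map_mul, map_mul, hb₁, hb₂, map_mul]
        push_cast
        ring
      smul_mem' := by
        rintro z x ⟨s, hs, b, hb⟩
        obtain ⟨⟨a', t'⟩, hz⟩ := IsLocalization.surj m.primeCompl z
        refine ⟨t'.1 * s, fun h => (Ideal.IsPrime.mem_or_mem ‹_› h).elim t'.2 hs, a' * b, ?_⟩
        have hz' : algebraMap Rm K z * algebraMap R K t'.1 = algebraMap R K a' := by
          rw [IsScalarTower.algebraMap_apply R Rm K, IsScalarTower.algebraMap_apply R Rm K,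
            ← map_mul]
          exact congrArg _ hz
        have hzx : ((z • x : integralClosure Rm K) : K) = algebraMap Rm K z * (x : K) := by
          change z • (x : K) = _
          rw [Algebra.smul_def]
        rw [hzx, map_mul, map_mul, hb, ← hz']
        ring }
  have hN : N = ⊤ := by
    rw [eq_top_iff, ← hS, Submodule.span_le]
    intro y hy
    refine ⟨t y, ht y, f ^ (S.sup k - k y) * a y, ?_⟩
    have hle : k y ≤ S.sup k := Finset.le_sup hy
    rw [map_mul, map_pow, ha y]
    have h3 : algebraMap R K f ^ (S.sup k) =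
        algebraMap R K f ^ (S.sup k - k y) * algebraMap R K f ^ (k y) := by
      rw [← pow_add, Nat.sub_add_cancel hle]
    rw [h3]
    ring
  intro c hc
  have hcN : (⟨c, hc.tower_top⟩ : integralClosure Rm K) ∈ N := by rw [hN]; trivial
  exact hcN

/-- the criterion in terms of the associated primes of `R/f` -/
theorem finite_integralClosure_of_assoc {R K : Type*} [CommRing R] [IsDomain R]
    [IsNoetherianRing R] [Field K] [Algebra R K] [IsFractionRing R K] (f : R) (hf : f ≠ 0)
    (hfint : ∀ c : K, IsIntegral R c →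
      ∃ k : ℕ, ∃ a : R, algebraMap R K a = algebraMap R K f ^ k * c)
    (hloc : ∀ q ∈ associatedPrimes R (R ⧸ Ideal.span {f}), ∃ n : ℕ, ∀ c : K, IsIntegral R c →
      ∃ s : R, s ∉ q ∧ ∃ b : R,
        algebraMap R K b = algebraMap R K s * (algebraMap R K f ^ n * c)) :
    Module.Finite R (integralClosure R K) := by
  classical
  have hfK : algebraMap R K f ≠ 0 := by
    rwa [Ne, map_eq_zero_iff _ (IsFractionRing.injective R K)]
  have hE : (associatedPrimes R (R ⧸ Ideal.span {f})).Finite := associatedPrimes.finite R _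
  choose n hn using hloc
  let n' : Ideal R → ℕ := fun q =>
    if h : q ∈ associatedPrimes R (R ⧸ Ideal.span {f}) then n q h else 0
  have hn' : ∀ q (h : q ∈ associatedPrimes R (R ⧸ Ideal.span {f})), n' q = n q h := fun q h =>
    dif_pos h
  set N := hE.toFinset.sup n' with hNdef
  have hle : ∀ q (h : q ∈ associatedPrimes R (R ⧸ Ideal.span {f})), n q h ≤ N := fun q h => by
    rw [← hn' q h]
    exact Finset.le_sup (hE.mem_toFinset.mpr h)
  have key : ∀ c : integralClosure R K, ∃ r : R,
      algebraMap R K r = algebraMap R K f ^ N * (c : K) := by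
    intro c
    obtain ⟨k0, a0, ha0⟩ := hfint c.1 c.2
    refine mem_range_of_forall_assoc f hf k0 _ ⟨f ^ N * a0, ?_⟩ (fun q hq => ?_)
    · rw [map_mul, map_pow, ha0]; ring
    · obtain ⟨s, hs, b, hb⟩ := hn q hq c.1 c.2
      refine ⟨s, hs, f ^ (N - n q hq) * b, ?_⟩
      have h3 : algebraMap R K f ^ N =
          algebraMap R K f ^ (N - n q hq) * algebraMap R K f ^ (n q hq) := by
        rw [← pow_add, Nat.sub_add_cancel (hle q hq)]
      rw [map_mul, map_pow, hb, h3]
      ring
  choose r hr using key
  let F : integralClosure R K →ₗ[R] R :=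
    { toFun := r
      map_add' := fun x y => IsFractionRing.injective R K (by
        rw [map_add, hr, hr, hr]
        push_cast
        ring)
      map_smul' := fun a x => IsFractionRing.injective R K (by
        rw [RingHom.id_apply, smul_eq_mul, map_mul, hr, hr]
        change _ * (a • (x : K)) = _
        rw [Algebra.smul_def]
        ring) }
  refine Module.Finite.of_injective F ?_
  intro x y hxy
  apply Subtype.ext
  have h1 : algebraMap R K f ^ N * (x : K) = algebraMap R K f ^ N * (y : K) := by
    rw [← hr, ← hr]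
    exact congrArg _ hxy
  exact mul_left_cancel₀ (pow_ne_zero _ hfK) h1

end Groth.Agent.Lib.Helper13.N1Criterion
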