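import Mathlib
import Groth.Agent.Lib.Helper13.NaArrow
import Groth.Agent.Lib.Helper13.NaOver
import Groth.Agent.Lib.Helper9.LimClosed1

/-! A closed subscheme of a qcqs scheme is the intersection of the finitely presented closed
subschemes containing it. -/

set_option autoImplicit false
universe u
open CategoryTheory CategoryTheory.Limits AlgebraicGeometry Opposite

namespace Groth.Agent.Lib.Helper13.NaClosed

open Groth.Agent.Lib.lead.NaMain Groth.Agent.Lib.Helper13.NaArrow Scheme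

lemma app_eq_zero_of_appLE {X Y : Scheme.{u}} (f : X ⟶ Y) (U : Y.Opens) (T : X.Opens)
    (hT : T = f ⁻¹ᵁ U) (x : Γ(Y, U)) (h : f.appLE U T hT.le x = 0) : f.app U x = 0 := by
  subst hT
  simpa [Scheme.Hom.appLE] using h

/-- a finitely presented closed immersion has a finitely presented image -/
lemma lfp_subschemeι_ker {W Y : Scheme.{u}} (w : W ⟶ Y) [IsClosedImmersion w]
    [LocallyOfFinitePresentation w] : LocallyOfFinitePresentation w.ker.subschemeι := by
  have h : w.imageι = inv w.toImage ≫ w := by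
    rw [IsIso.eq_inv_comp, Scheme.Hom.toImage_imageι]
  change LocallyOfFinitePresentation w.imageι
  rw [h]; infer_instance

/-- the key local statement: a section of the ideal of a closed subscheme of a qcqs scheme lies in
the ideal of a finitely presented closed subscheme containing it. -/
theorem exists_fp_ideal {X Y : Scheme.{u}} (ι : X ⟶ Y) [IsClosedImmersion ι] [CompactSpace Y]
    [QuasiSeparatedSpace Y] (U : Y.affineOpens) (x : Γ(Y, U.1)) (hx : x ∈ ι.ker.ideal U) :
    ∃ J : Y.IdealSheafData, J ≤ ι.ker ∧ LocallyOfFinitePresentation J.subschemeι ∧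
      x ∈ J.ideal U := by
  obtain ⟨A, _, _, _, D, π, ⟨hπ⟩, haff, hft⟩ := exists_approx' Y
  have : ∀ {i j : Aᵒᵖ} (a : i ⟶ j), IsAffineHom (D.map a) := fun a => haff _ _ a
  have hN : ∀ i, IsNoetherian (D.obj i) := fun i => isNoetherian_of_ftz (hft i)
  have : ∀ i, QuasiSeparatedSpace (D.obj i) := fun i => inferInstance
  obtain ⟨U, hU⟩ := U
  obtain ⟨i, V, hV, hVU⟩ := exists_isAffineOpen_preimage_eq D (Cone.mk Y π) hπ U hU
  change (π.app i) ⁻¹ᵁ V = U at hVU
  subst hVU
  obtain ⟨j, u, x', hx'⟩ := Groth.Agent.Lib.Helper9.LimClosed.exists_appLE_π_eq D (Cone.mk Y π) hπ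
    i V hV x
  change (π.app j).appLE (D.map u ⁻¹ᵁ V) (π.app i ⁻¹ᵁ V) _ x' = x at hx'
  have hV' : IsAffineOpen (D.map u ⁻¹ᵁ V) := hV.preimage (D.map u)
  haveI : CompactSpace X := QuasiCompact.compactSpace_of_compactSpace ι
  let ψ : X ⟶ D.obj j := ι ≫ π.app j
  haveI : QuasiCompact ψ := quasiCompact_of_compactSpace ψ
  let K : (D.obj j).IdealSheafData := ψ.ker
  let k : K.subscheme ⟶ D.obj j := K.subschemeι
  haveI : LocallyOfFinitePresentation k :=
    Groth.Agent.Lib.Helper27.NoethLfp.locallyOfFinitePresentation_of_isLocallyNoetherian k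
  let w : pullback k (π.app j) ⟶ Y := pullback.snd k (π.app j)
  -- the lift of `ι`
  have hKψ : k.ker ≤ ψ.ker := by rw [IdealSheafData.ker_subschemeι]
  let q : X ⟶ pullback k (π.app j) :=
    pullback.lift (IsClosedImmersion.lift k ψ hKψ) ι (IsClosedImmersion.lift_fac k ψ hKψ)
  have hq : q ≫ w = ι := pullback.lift_snd _ _ _
  refine ⟨w.ker, ?_, lfp_subschemeι_ker w, ?_⟩
  · rw [← hq]; exact Scheme.Hom.le_ker_comp q w
  · -- membership
    have hxU : (ι.app (π.app i ⁻¹ᵁ V)) x = 0 := by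
      have := hx
      rw [Scheme.Hom.ker_apply] at this
      exact this
    have hUV : π.app j ⁻¹ᵁ (D.map u ⁻¹ᵁ V) = π.app i ⁻¹ᵁ V := by
      rw [← Scheme.Hom.comp_preimage]
      exact congrArg (fun t => t ⁻¹ᵁ V) (Groth.Agent.Lib.Helper13.NaOver.pr_w π u)
    -- `x'` lies in the ideal of the image of `X`
    have hx'K : x' ∈ K.ideal ⟨(D.map u ⁻¹ᵁ V), hV'⟩ := by
      change x' ∈ ψ.ker.ideal ⟨(D.map u ⁻¹ᵁ V), hV'⟩
      rw [Scheme.Hom.ker_apply]
      change (ψ.app (D.map u ⁻¹ᵁ V)) x' = 0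
      have hT : ι ⁻¹ᵁ (π.app i ⁻¹ᵁ V) = ψ ⁻¹ᵁ (D.map u ⁻¹ᵁ V) := by
        change _ = (ι ≫ π.app j) ⁻¹ᵁ (D.map u ⁻¹ᵁ V)
        rw [Scheme.Hom.comp_preimage, hUV]
      refine app_eq_zero_of_appLE ψ (D.map u ⁻¹ᵁ V) _ hT x' ?_
      have h1 := Scheme.Hom.appLE_comp_appLE ι (π.app j) (D.map u ⁻¹ᵁ V) (π.app i ⁻¹ᵁ V)
        (ι ⁻¹ᵁ (π.app i ⁻¹ᵁ V)) hUV.ge le_rfl
      have h2 : (ψ.appLE (D.map u ⁻¹ᵁ V) (ι ⁻¹ᵁ (π.app i ⁻¹ᵁ V)) hT.le) x' =
          (ι.appLE (π.app i ⁻¹ᵁ V) (ι ⁻¹ᵁ (π.app i ⁻¹ᵁ V)) le_rfl)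
            ((π.app j).appLE (D.map u ⁻¹ᵁ V) (π.app i ⁻¹ᵁ V) hUV.ge x') := by
        rw [← CommRingCat.comp_apply, h1]
      rw [h2, hx', ← Scheme.Hom.app_eq_appLE]
      exact hxU
    have hkx' : (k.app (D.map u ⁻¹ᵁ V)) x' = 0 := by
      have := K.ker_subschemeι_app ⟨(D.map u ⁻¹ᵁ V), hV'⟩
      have h3 : x' ∈ RingHom.ker (K.subschemeι.app (D.map u ⁻¹ᵁ V)).hom := by rw [this]; exact hx'K
      exact h3
    rw [Scheme.Hom.ker_apply]
    change (w.app (π.app i ⁻¹ᵁ V)) x = 0
    rw [← hx', Scheme.Hom.app_eq_appLE, ← CommRingCat.comp_apply, Scheme.Hom.appLE_comp_appLE]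
    have hcond : w ≫ π.app j = pullback.fst k (π.app j) ≫ k := pullback.condition.symm
    rw [Groth.Agent.Lib.Helper9.LimClosed.appLE_congr_hom hcond, Scheme.Hom.comp_appLE,
      CommRingCat.comp_apply, hkx', map_zero]

section system

variable {X Y : Scheme.{u}} (ι : X ⟶ Y)

/-- the finitely presented closed subschemes containing `X` -/
structure Idx where
  ideal : Y.IdealSheafData
  le : ideal ≤ ι.ker
  lfp : LocallyOfFinitePresentation ideal.subschemeι

instance : Preorder (Idx ι) := Preorder.lift Idx.ideal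

lemma Idx.le_def {J J' : Idx ι} : J ≤ J' ↔ J.ideal ≤ J'.ideal := Iff.rfl

instance : Nonempty (Idx ι) := ⟨⟨⊥, bot_le, inferInstance⟩⟩

lemma Idx.le_ker (J : Idx ι) : J.ideal.subschemeι.ker ≤ ι.ker := by
  rw [IdealSheafData.ker_subschemeι]; exact J.le

variable [IsClosedImmersion ι]

instance : IsDirected (Idx ι) (· ≤ ·) := by
  refine ⟨fun J₁ J₂ => ?_⟩
  haveI := J₁.lfp
  haveI := J₂.lfp
  let p : pullback J₁.ideal.subschemeι J₂.ideal.subschemeι ⟶ Y :=
    pullback.fst J₁.ideal.subschemeι J₂.ideal.subschemeι ≫ J₁.ideal.subschemeι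
  have hp2 : p = pullback.snd J₁.ideal.subschemeι J₂.ideal.subschemeι ≫ J₂.ideal.subschemeι :=
    pullback.condition
  let q : X ⟶ pullback J₁.ideal.subschemeι J₂.ideal.subschemeι :=
    pullback.lift (IsClosedImmersion.lift J₁.ideal.subschemeι ι J₁.le_ker)
      (IsClosedImmersion.lift J₂.ideal.subschemeι ι J₂.le_ker) (by
        rw [IsClosedImmersion.lift_fac, IsClosedImmersion.lift_fac])
  have hq : q ≫ p = ι := by
    change q ≫ pullback.fst _ _ ≫ _ = _
    rw [pullback.lift_fst_assoc, IsClosedImmersion.lift_fac]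
  refine ⟨⟨p.ker, ?_, lfp_subschemeι_ker p⟩, ?_, ?_⟩
  · exact le_of_le_of_eq (Scheme.Hom.le_ker_comp q p) (congrArg Scheme.Hom.ker hq)
  · change J₁.ideal ≤ p.ker
    conv_lhs => rw [← IdealSheafData.ker_subschemeι J₁.ideal]
    exact Scheme.Hom.le_ker_comp _ _
  · change J₂.ideal ≤ p.ker
    conv_lhs => rw [← IdealSheafData.ker_subschemeι J₂.ideal]
    rw [hp2]
    exact Scheme.Hom.le_ker_comp _ _

/-- the diagram of the closed subschemes -/
noncomputable def clDiag : (Idx ι)ᵒᵖ ⥤ Scheme.{u} where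
  obj J := J.unop.ideal.subscheme
  map {J J'} a := IdealSheafData.inclusion (show J'.unop.ideal ≤ J.unop.ideal from leOfHom a.unop)
  map_id _ := IdealSheafData.inclusion_id _
  map_comp _ _ := (IdealSheafData.inclusion_comp _ _).symm

/-- the structure maps -/
noncomputable def clStr : clDiag ι ⟶ (Functor.const (Idx ι)ᵒᵖ).obj Y where
  app J := J.unop.ideal.subschemeι
  naturality J J' a := by
    change IdealSheafData.inclusion _ ≫ J'.unop.ideal.subschemeι = J.unop.ideal.subschemeι ≫ 𝟙 Y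
    rw [IdealSheafData.inclusion_subschemeι, Category.comp_id]

/-- the projections from `X` -/
noncomputable def clπ : (Functor.const (Idx ι)ᵒᵖ).obj X ⟶ clDiag ι where
  app J := (IsClosedImmersion.lift J.unop.ideal.subschemeι ι J.unop.le_ker :
    X ⟶ J.unop.ideal.subscheme)
  naturality J J' a := by
    change 𝟙 X ≫ IsClosedImmersion.lift J'.unop.ideal.subschemeι ι _ =
      IsClosedImmersion.lift J.unop.ideal.subschemeι ι _ ≫ IdealSheafData.inclusion _
    rw [Category.id_comp, ← cancel_mono J'.unop.ideal.subschemeι, IsClosedImmersion.lift_fac,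
      Category.assoc, IdealSheafData.inclusion_subschemeι, IsClosedImmersion.lift_fac]

lemma clπ_str (J : (Idx ι)ᵒᵖ) : (clπ ι).app J ≫ (clStr ι).app J = ι :=
  IsClosedImmersion.lift_fac J.unop.ideal.subschemeι ι J.unop.le_ker

/-- the least index -/
def Idx.bot : Idx ι := ⟨⊥, bot_le, inferInstance⟩

lemma Idx.bot_le (J : Idx ι) : Idx.bot ι ≤ J := (_root_.bot_le : (⊥ : Y.IdealSheafData) ≤ J.ideal)

/-- the common map to `Y` of a cone -/
noncomputable def coneMap (t : Cone (clDiag ι)) : t.pt ⟶ Y :=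
  t.π.app (op (Idx.bot ι)) ≫ (clStr ι).app (op (Idx.bot ι))

lemma coneMap_eq (t : Cone (clDiag ι)) (J : (Idx ι)ᵒᵖ) :
    t.π.app J ≫ (clStr ι).app J = coneMap ι t := by
  have a : J ⟶ op (Idx.bot ι) := (homOfLE (Idx.bot_le ι J.unop)).op
  have h1 := t.w a
  have h2 := (clStr ι).naturality a
  simp only [Functor.const_obj_obj, Functor.const_obj_map, Category.comp_id] at h2
  rw [coneMap, ← h1, Category.assoc, h2]

lemma ideal_le_ker_coneMap (t : Cone (clDiag ι)) (J : Idx ι) : J.ideal ≤ (coneMap ι t).ker := by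
  rw [← coneMap_eq ι t (op J)]
  conv_lhs => rw [← IdealSheafData.ker_subschemeι J.ideal]
  exact Scheme.Hom.le_ker_comp _ _

lemma ker_le_ker_coneMap [CompactSpace Y] [QuasiSeparatedSpace Y] (t : Cone (clDiag ι)) :
    ι.ker ≤ (coneMap ι t).ker := by
  intro U x hx
  obtain ⟨J, h1, h2, h3⟩ := exists_fp_ideal ι U x hx
  exact ideal_le_ker_coneMap ι t ⟨J, h1, h2⟩ U h3

/-- the cone with vertex `X` is a limit cone -/
noncomputable def clIsLimit [CompactSpace Y] [QuasiSeparatedSpace Y] :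
    IsLimit (Cone.mk X (clπ ι)) where
  lift t := IsClosedImmersion.lift ι (coneMap ι t) (ker_le_ker_coneMap ι t)
  fac t J := by
    haveI : Mono ((clStr ι).app J) := inferInstanceAs (Mono J.unop.ideal.subschemeι)
    rw [← cancel_mono ((clStr ι).app J)]
    change (IsClosedImmersion.lift ι (coneMap ι t) _ ≫ (clπ ι).app J) ≫ (clStr ι).app J = _
    rw [Category.assoc, clπ_str, IsClosedImmersion.lift_fac, coneMap_eq]
  uniq t m hm := by
    rw [← cancel_mono ι, IsClosedImmersion.lift_fac]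
    have := hm (op (Idx.bot ι))
    change m ≫ (clπ ι).app _ = _ at this
    calc m ≫ ι = m ≫ (clπ ι).app (op (Idx.bot ι)) ≫ (clStr ι).app (op (Idx.bot ι)) := by
          rw [clπ_str]
      _ = coneMap ι t := by rw [← Category.assoc, this]; rfl

end system

/-- **A closed subscheme of a qcqs scheme is a directed limit of finitely presented closed
subschemes** (strong form, in the category of schemes). -/
theorem exists_closed_approx {X Y : Scheme.{u}} (ι : X ⟶ Y) [IsClosedImmersion ι] [CompactSpace Y]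
    [QuasiSeparatedSpace Y] :
    ∃ (I : Type u) (_ : Preorder I) (_ : IsDirected I (· ≤ ·)) (_ : Nonempty I)
      (G : Iᵒᵖ ⥤ Scheme.{u}) (s : G ⟶ (Functor.const Iᵒᵖ).obj Y)
      (π : (Functor.const Iᵒᵖ).obj X ⟶ G),
      Nonempty (IsLimit (Cone.mk X π)) ∧ (∀ j, NaOver.pr π j ≫ s.app j = ι) ∧
      (∀ j, IsClosedImmersion (s.app j) ∧ LocallyOfFinitePresentation (s.app j)) ∧
      (∀ (i j : Iᵒᵖ) (a : i ⟶ j), IsClosedImmersion (G.map a)) ∧
      (∀ j, IsClosedImmersion (NaOver.pr π j)) := by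
  have hs : ∀ j : (Idx ι)ᵒᵖ, IsClosedImmersion ((clStr ι).app j) := fun j =>
    inferInstanceAs (IsClosedImmersion j.unop.ideal.subschemeι)
  refine ⟨Idx ι, inferInstance, inferInstance, inferInstance, clDiag ι, clStr ι, clπ ι,
    ⟨clIsLimit ι⟩, fun j => clπ_str ι j, fun j => ⟨hs j, j.unop.lfp⟩, fun i j a => ?_, fun j => ?_⟩
  · have := hs j
    have h : IsClosedImmersion ((clDiag ι).map a ≫ (clStr ι).app j) := by
      have h2 := (clStr ι).naturality a
      simp only [Functor.const_obj_obj, Functor.const_obj_map, Category.comp_id] at h2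
      rw [h2]; exact hs i
    exact IsClosedImmersion.of_comp _ ((clStr ι).app j)
  · have := hs j
    have h : IsClosedImmersion (NaOver.pr (clπ ι) j ≫ (clStr ι).app j) := by
      change IsClosedImmersion ((clπ ι).app j ≫ (clStr ι).app j)
      rw [clπ_str]; infer_instance
    exact IsClosedImmersion.of_comp _ ((clStr ι).app j)

end Groth.Agent.Lib.Helper13.NaClosed
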