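import Mathlib
import Groth.Agent.Lib.Helper13.NaClosed
import Groth.Agent.Lib.Helper13.NaStage

/-! Morphisms locally of finite type as limits of morphisms of finite presentation with closed
immersions as transition maps. -/

set_option autoImplicit false
universe u
open CategoryTheory CategoryTheory.Limits AlgebraicGeometry Opposite

namespace Groth.Agent.Lib.Helper13.NaLft

open Groth.Agent.Lib.Helper13.NaFP Groth.Agent.Lib.Helper13.NaOver Groth.Agent.Lib.Helper13.NaStage
  Groth.Agent.Lib.Helper13.NaClosed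

/-- restriction of a directed system to the indices above a given one -/
theorem exists_restrict {C : Type*} [Category C] {I : Type u} [Preorder I] [IsDirected I (· ≤ ·)]
    [Nonempty I] (G : Iᵒᵖ ⥤ C) (c : Cone G) (hc : IsLimit c) (i₀ : I) :
    ∃ (I' : Type u) (_ : Preorder I') (_ : IsDirected I' (· ≤ ·)) (_ : Nonempty I')
      (α : I' →o I), (∀ i', i₀ ≤ α i') ∧
      Nonempty (IsLimit (c.whisker α.monotone.functor.op)) := by
  let I' := {i : I // i₀ ≤ i}
  let α : I' →o I := ⟨Subtype.val, fun _ _ h => h⟩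
  haveI : Nonempty I' := ⟨⟨i₀, le_refl _⟩⟩
  haveI : IsDirected I' (· ≤ ·) := ⟨fun x y => by
    obtain ⟨k, h1, h2⟩ := exists_ge_ge x.1 y.1
    exact ⟨⟨k, x.2.trans h1⟩, h1, h2⟩⟩
  have hfin : α.monotone.functor.Final := by
    refine Functor.final_of_exists_of_isFiltered _ (fun d => ?_) (fun {d c} s s' => ?_)
    · obtain ⟨k, h1, h2⟩ := exists_ge_ge d i₀
      exact ⟨⟨k, h2⟩, ⟨homOfLE h1⟩⟩
    · exact ⟨c, 𝟙 c, Subsingleton.elim _ _⟩
  exact ⟨I', inferInstance, inferInstance, inferInstance, α, fun i' => i'.2,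
    ⟨(Functor.Initial.isLimitWhiskerEquiv _ c).symm hc⟩⟩

/-- **Strong form**: a morphism locally of finite type from a qcqs scheme to a quasi-separated
scheme is a directed limit of morphisms of finite presentation with closed immersions as
transition maps and projections. -/
theorem exists_lft_approx {X S : Scheme.{u}} (f : X ⟶ S) [LocallyOfFiniteType f]
    [CompactSpace X] [QuasiSeparatedSpace X] [QuasiSeparatedSpace S] :
    ∃ (I : Type u) (_ : Preorder I) (_ : IsDirected I (· ≤ ·)) (_ : Nonempty I)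
      (G : Iᵒᵖ ⥤ Scheme.{u}) (s : G ⟶ (Functor.const Iᵒᵖ).obj S)
      (π : (Functor.const Iᵒᵖ).obj X ⟶ G),
      Nonempty (IsLimit (Cone.mk X π)) ∧ (∀ j, pr π j ≫ s.app j = f) ∧
      (∀ j, LocallyOfFinitePresentation (s.app j) ∧ QuasiCompact (s.app j) ∧
        QuasiSeparated (s.app j)) ∧
      (∀ (i j : Iᵒᵖ) (a : i ⟶ j), IsClosedImmersion (G.map a)) ∧
      (∀ j, IsClosedImmersion (pr π j)) ∧
      (∀ j, CompactSpace (G.obj j) ∧ QuasiSeparatedSpace (G.obj j)) := by
  obtain ⟨I₀, _, _, _, G₀, s₀, π₀, ⟨hπ₀⟩, h1, h2, h3, h4⟩ := exists_fp_approx f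
  obtain ⟨i, hi⟩ := exists_closedImmersion_stage f G₀ s₀ π₀ hπ₀ h1 h3 (fun j => (h4 j).1)
  haveI := (h4 i).1
  haveI := (h4 i).2
  haveI := (h2 i).1
  haveI := (h2 i).2.1
  haveI := (h2 i).2.2
  obtain ⟨I, _, _, _, G, s, π, hπ, k1, k2, k3, k4⟩ := exists_closed_approx (pr π₀ i)
  refine ⟨I, inferInstance, inferInstance, inferInstance, G,
    s ≫ (Functor.const Iᵒᵖ).map (s₀.app i), π, hπ, fun j => ?_, fun j => ?_, k3, k4, fun j => ?_⟩
  · change pr π j ≫ s.app j ≫ s₀.app i = f
    rw [← Category.assoc, k1, h1]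
  · haveI := (k2 j).1
    haveI := (k2 j).2
    change LocallyOfFinitePresentation (s.app j ≫ s₀.app i) ∧ QuasiCompact (s.app j ≫ s₀.app i) ∧
      QuasiSeparated (s.app j ≫ s₀.app i)
    exact ⟨inferInstance, inferInstance, inferInstance⟩
  · have hc := (k2 j).1
    let sj : G.obj j ⟶ G₀.obj i := s.app j
    haveI : IsClosedImmersion sj := hc
    exact ⟨QuasiCompact.compactSpace_of_compactSpace sj,
      quasiSeparatedSpace_of_quasiSeparated sj⟩

end Groth.Agent.Lib.Helper13.NaLft
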