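import Mathlib
import Groth.Agent.Lib.Helper13.NaLft
import Groth.Agent.S2154

/-! Finite morphisms as limits of finite morphisms of finite presentation. -/

set_option autoImplicit false
universe u
open CategoryTheory CategoryTheory.Limits AlgebraicGeometry Opposite

namespace Groth.Agent.Lib.Helper13.NaFinite

open Groth.Agent.Lib.Helper13.NaOver Groth.Agent.Lib.Helper13.NaLft

/-- **Strong form**: a finite morphism to a qcqs scheme is a directed limit of finite morphisms of
finite presentation with closed immersions as transition maps and projections. -/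
theorem exists_finite_approx {X S : Scheme.{u}} (f : X ⟶ S) [IsFinite f]
    [CompactSpace S] [QuasiSeparatedSpace S] :
    ∃ (I : Type u) (_ : Preorder I) (_ : IsDirected I (· ≤ ·)) (_ : Nonempty I)
      (G : Iᵒᵖ ⥤ Scheme.{u}) (s : G ⟶ (Functor.const Iᵒᵖ).obj S)
      (π : (Functor.const Iᵒᵖ).obj X ⟶ G),
      Nonempty (IsLimit (Cone.mk X π)) ∧ (∀ j, pr π j ≫ s.app j = f) ∧
      (∀ j, IsFinite (s.app j) ∧ LocallyOfFinitePresentation (s.app j)) ∧
      (∀ (i j : Iᵒᵖ) (a : i ⟶ j), IsClosedImmersion (G.map a)) ∧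
      (∀ j, IsClosedImmersion (pr π j)) := by
  haveI : CompactSpace X := QuasiCompact.compactSpace_of_compactSpace f
  haveI : QuasiSeparatedSpace X := quasiSeparatedSpace_of_quasiSeparated f
  obtain ⟨I, _, _, _, G, s, π, ⟨hπ⟩, h1, h2, h3, h4, h5⟩ := exists_lft_approx f
  haveI : IsConnected Iᵒᵖ := IsCofiltered.isConnected _
  haveI : ∀ (i j : Iᵒᵖ) (a : i ⟶ j), IsFinite ((overDiag G s).map a).left := fun i j a => by
    have := h3 i j a
    change IsFinite (G.map a)
    infer_instance
  haveI : ∀ i, CompactSpace ((overDiag G s).obj i).left := fun i => (h5 i).1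
  haveI : ∀ i, QuasiSeparatedSpace ((overDiag G s).obj i).left := fun i => (h5 i).2
  haveI : ∀ i, LocallyOfFiniteType ((overDiag G s).obj i).hom := fun i => by
    have := (h2 i).1
    change LocallyOfFiniteType (s.app i)
    infer_instance
  haveI : IsIntegralHom (overCone G s π f h1).pt.hom := by
    change IsIntegralHom f
    infer_instance
  obtain ⟨i₀, hi₀⟩ := Groth.Agent.S2154.result S (overDiag G s) (overCone G s π f h1)
    (overIsLimit G s π f h1 hπ)
  obtain ⟨I', _, _, _, α, hα, ⟨hlim⟩⟩ := exists_restrict G (Cone.mk X π) hπ i₀.unop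
  let F := α.monotone.functor.op
  refine ⟨I', inferInstance, inferInstance, inferInstance, F ⋙ G, Functor.whiskerLeft F s,
    Functor.whiskerLeft F π, ⟨hlim⟩, fun j => h1 (F.obj j), fun j => ⟨?_, (h2 (F.obj j)).1⟩,
    fun i j a => h3 _ _ (F.map a), fun j => h4 (F.obj j)⟩
  exact hi₀ (F.obj j) (homOfLE (hα j.unop)).op

end Groth.Agent.Lib.Helper13.NaFinite
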