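import Mathlib
import Groth.Agent.Lib.Helper13.NaClosed

/-! The scheme-theoretic images of a closed subscheme of a cofiltered limit (affine transition
maps) in the stages form a diagram whose limit is the closed subscheme. -/

set_option autoImplicit false
universe u
open CategoryTheory CategoryTheory.Limits AlgebraicGeometry Opposite

namespace Groth.Agent.Lib.Helper13.NaImage

open Scheme Scheme.IdealSheafData Groth.Agent.Lib.Helper13.NaClosed

variable {I : Type u} [SmallCategory I] (D : I ⥤ Scheme.{u}) (c : Cone D)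
  {X : Scheme.{u}} (ι : X ⟶ c.pt)

/-- the ideal of the scheme-theoretic image of `X` in the stage `i` -/
noncomputable abbrev K (i : I) : (D.obj i).IdealSheafData := (ι ≫ c.π.app i).ker

lemma K_map {i j : I} (f : i ⟶ j) : K D c ι j = (K D c ι i).map (D.map f) := by
  unfold K
  rw [IdealSheafData.map_ker, Category.assoc, c.w]

/-- the diagram of the scheme-theoretic images -/
noncomputable def imDiag : I ⥤ Scheme.{u} where
  obj i := (K D c ι i).subscheme
  map {i j} f := subschemeMap _ _ (D.map f) (K_map D c ι f).le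
  map_id _ := by simp [← cancel_mono (subschemeι _)]
  map_comp _ _ := by simp [← cancel_mono (subschemeι _)]

/-- the closed immersions into the stages -/
noncomputable def imStr : imDiag D c ι ⟶ D where
  app i := (K D c ι i).subschemeι
  naturality _ _ _ := by simp [imDiag]

instance (i : I) : IsClosedImmersion ((imStr D c ι).app i) :=
  inferInstanceAs (IsClosedImmersion (K D c ι i).subschemeι)

/-- the projections -/
noncomputable def imπ : (Functor.const I).obj X ⟶ imDiag D c ι where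
  app i := (IsClosedImmersion.lift (K D c ι i).subschemeι (ι ≫ c.π.app i)
    (by rw [IdealSheafData.ker_subschemeι]) : X ⟶ (K D c ι i).subscheme)
  naturality i j f := by
    change 𝟙 X ≫ IsClosedImmersion.lift (K D c ι j).subschemeι (ι ≫ c.π.app j) _ =
      IsClosedImmersion.lift (K D c ι i).subschemeι (ι ≫ c.π.app i) _ ≫
        subschemeMap _ _ (D.map f) (K_map D c ι f).le
    rw [← cancel_mono (K D c ι j).subschemeι, Category.id_comp, IsClosedImmersion.lift_fac,
      Category.assoc, subschemeMap_subschemeι, IsClosedImmersion.lift_fac_assoc, Category.assoc,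
      c.w]

lemma imπ_str (i : I) : (imπ D c ι).app i ≫ (imStr D c ι).app i = ι ≫ c.π.app i :=
  IsClosedImmersion.lift_fac (K D c ι i).subschemeι (ι ≫ c.π.app i) _


variable [IsCofiltered I] [∀ {i j : I} (f : i ⟶ j), IsAffineHom (D.map f)]
  [∀ i, QuasiSeparatedSpace (D.obj i)]

/-- the key local statement: a section of the ideal of `X` comes from the ideal of the image of
`X` in some stage. -/
theorem exists_mem_comap (hc : IsLimit c) [IsClosedImmersion ι] (U : c.pt.affineOpens)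
    (x : Γ(c.pt, U.1)) (hx : x ∈ ι.ker.ideal U) :
    ∃ j : I, x ∈ ((K D c ι j).comap (c.π.app j)).ideal U := by
  obtain ⟨U, hU⟩ := U
  obtain ⟨i, V, hV, hVU⟩ := exists_isAffineOpen_preimage_eq D c hc U hU
  subst hVU
  obtain ⟨j, u, x', hx'⟩ := Groth.Agent.Lib.Helper9.LimClosed.exists_appLE_π_eq D c hc i V hV x
  have hV' : IsAffineOpen (D.map u ⁻¹ᵁ V) := hV.preimage (D.map u)
  haveI : IsAffineHom (c.π.app j) := isAffineHom_π_app D c hc j
  let ψ : X ⟶ D.obj j := ι ≫ c.π.app j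
  let k : (K D c ι j).subscheme ⟶ D.obj j := (K D c ι j).subschemeι
  let w : pullback (c.π.app j) k ⟶ c.pt := pullback.fst (c.π.app j) k
  refine ⟨j, ?_⟩
  have hxU : (ι.app (c.π.app i ⁻¹ᵁ V)) x = 0 := by
    have := hx
    rw [Scheme.Hom.ker_apply] at this
    exact this
  have hUV : c.π.app j ⁻¹ᵁ (D.map u ⁻¹ᵁ V) = c.π.app i ⁻¹ᵁ V := by
    rw [← Scheme.Hom.comp_preimage, c.w]
  have hx'K : x' ∈ (K D c ι j).ideal ⟨(D.map u ⁻¹ᵁ V), hV'⟩ := by
    change x' ∈ ψ.ker.ideal ⟨(D.map u ⁻¹ᵁ V), hV'⟩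
    rw [Scheme.Hom.ker_apply]
    change (ψ.app (D.map u ⁻¹ᵁ V)) x' = 0
    have hT : ι ⁻¹ᵁ (c.π.app i ⁻¹ᵁ V) = ψ ⁻¹ᵁ (D.map u ⁻¹ᵁ V) := by
      change _ = (ι ≫ c.π.app j) ⁻¹ᵁ (D.map u ⁻¹ᵁ V)
      rw [Scheme.Hom.comp_preimage, hUV]
    refine app_eq_zero_of_appLE ψ (D.map u ⁻¹ᵁ V) _ hT x' ?_
    have h1 := Scheme.Hom.appLE_comp_appLE ι (c.π.app j) (D.map u ⁻¹ᵁ V) (c.π.app i ⁻¹ᵁ V)
      (ι ⁻¹ᵁ (c.π.app i ⁻¹ᵁ V)) hUV.ge le_rfl
    have h2 : (ψ.appLE (D.map u ⁻¹ᵁ V) (ι ⁻¹ᵁ (c.π.app i ⁻¹ᵁ V)) hT.le) x' =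
        (ι.appLE (c.π.app i ⁻¹ᵁ V) (ι ⁻¹ᵁ (c.π.app i ⁻¹ᵁ V)) le_rfl)
          ((c.π.app j).appLE (D.map u ⁻¹ᵁ V) (c.π.app i ⁻¹ᵁ V) hUV.ge x') := by
      rw [← CommRingCat.comp_apply, h1]
    rw [h2, hx', ← Scheme.Hom.app_eq_appLE]
    exact hxU
  have hkx' : (k.app (D.map u ⁻¹ᵁ V)) x' = 0 := by
    have := (K D c ι j).ker_subschemeι_app ⟨(D.map u ⁻¹ᵁ V), hV'⟩
    have h3 : x' ∈ RingHom.ker ((K D c ι j).subschemeι.app (D.map u ⁻¹ᵁ V)).hom := by
      rw [this]; exact hx'K
    exact h3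
  change x ∈ w.ker.ideal ⟨c.π.app i ⁻¹ᵁ V, hU⟩
  rw [Scheme.Hom.ker_apply]
  change (w.app (c.π.app i ⁻¹ᵁ V)) x = 0
  rw [← hx', Scheme.Hom.app_eq_appLE, ← CommRingCat.comp_apply, Scheme.Hom.appLE_comp_appLE]
  have hcond : w ≫ c.π.app j = pullback.snd (c.π.app j) k ≫ k := pullback.condition
  rw [Groth.Agent.Lib.Helper9.LimClosed.appLE_congr_hom hcond, Scheme.Hom.comp_appLE,
    CommRingCat.comp_apply, hkx', map_zero]


lemma ker_le_iSup (hc : IsLimit c) [IsClosedImmersion ι] :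
    ι.ker ≤ ⨆ i, (K D c ι i).comap (c.π.app i) := by
  intro U x hx
  obtain ⟨j, hj⟩ := exists_mem_comap D c ι hc U x hx
  exact le_iSup (fun i => (K D c ι i).comap (c.π.app i)) j U hj

/-- the cone of the images with vertex `X` is a limit cone -/
noncomputable def imIsLimit (hc : IsLimit c) [IsClosedImmersion ι] :
    IsLimit (Cone.mk X (imπ D c ι)) where
  lift s := IsClosedImmersion.lift ι (hc.lift ((Cone.postcompose (imStr D c ι)).obj s)) (by
    refine (ker_le_iSup D c ι hc).trans (iSup_le fun i => ?_)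
    rw [← le_map_iff_comap_le, IdealSheafData.map_ker, hc.fac]
    change K D c ι i ≤ (s.π.app i ≫ (K D c ι i).subschemeι).ker
    conv_lhs => rw [← IdealSheafData.ker_subschemeι (K D c ι i)]
    exact Scheme.Hom.le_ker_comp _ _)
  fac s i := by
    rw [← cancel_mono ((imStr D c ι).app i)]
    change (IsClosedImmersion.lift ι _ _ ≫ (imπ D c ι).app i) ≫ (imStr D c ι).app i = _
    rw [Category.assoc, imπ_str, IsClosedImmersion.lift_fac_assoc, hc.fac]
    rfl
  uniq s m hm := by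
    rw [← cancel_mono ι, IsClosedImmersion.lift_fac]
    refine hc.hom_ext fun i => ?_
    rw [hc.fac, Category.assoc, ← imπ_str, ← Category.assoc]
    have := hm i
    change m ≫ (imπ D c ι).app i = _ at this
    rw [this]
    rfl

omit [IsCofiltered I] [∀ i, QuasiSeparatedSpace (D.obj i)] in
/-- the transition maps of the images are affine -/
lemma isAffineHom_imDiag_map {i j : I} (f : i ⟶ j) : IsAffineHom ((imDiag D c ι).map f) := by
  suffices IsAffineHom ((imDiag D c ι).map f ≫ (imStr D c ι).app j) from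
    .of_comp _ ((imStr D c ι).app j)
  rw [(imStr D c ι).naturality f]
  infer_instance

end Groth.Agent.Lib.Helper13.NaImage
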