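import Mathlib
import Groth.Agent.Lib.Helper13.NaOver
import Groth.Agent.Lib.Helper13.LimDescendSurj

/-! An open subscheme of a limit of closed immersions, locally of finite presentation over the
base, is an open subscheme of a stage. -/

set_option autoImplicit false
universe u
open CategoryTheory CategoryTheory.Limits AlgebraicGeometry Opposite

namespace Groth.Agent.Lib.Helper13.NaOpenStage

open Groth.Agent.Lib.Helper13.NaOver

/-- a quasi-compact open of the stage cutting out a given quasi-compact open of a closed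
subscheme -/
theorem exists_compact_open {T T' : Scheme.{u}} (ρ : T ⟶ T') [IsClosedImmersion ρ]
    (V : T.Opens) (hV : IsCompact (V : Set T)) :
    ∃ U : T'.Opens, IsCompact (U : Set T') ∧ ρ ⁻¹ᵁ U = V := by
  have hind : Topology.IsInducing ρ.base := ρ.isClosedEmbedding.isInducing
  obtain ⟨U₀, hU₀, hU₀V⟩ := hind.isOpen_iff.mp V.2
  have hK : IsCompact (ρ.base '' (V : Set T)) := hV.image ρ.continuous
  have hKU : ρ.base '' (V : Set T) ⊆ U₀ := by
    rintro _ ⟨x, hx, rfl⟩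
    have : x ∈ ρ.base ⁻¹' U₀ := by rw [hU₀V]; exact hx
    exact this
  obtain ⟨W, hWc, hWo, hKW, hWU⟩ :=
    PrespectralSpace.exists_isCompact_and_isOpen_between hK hU₀ hKU
  refine ⟨⟨W, hWo⟩, hWc, ?_⟩
  ext x
  constructor
  · intro hx
    have h1 : x ∈ ρ.base ⁻¹' U₀ := hWU hx
    rw [hU₀V] at h1
    exact h1
  · intro hx
    exact hKW ⟨x, hx, rfl⟩

/-- **Open stage**: if `T = lim G_i` along closed immersions, `j : X ⟶ T` is a quasi-compact
open immersion and `X` is locally of finite presentation over the base, then `X` is an open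
subscheme of some stage. -/
theorem exists_isOpenImmersion_stage {X T S : Scheme.{u}} (j : X ⟶ T) [IsOpenImmersion j]
    [CompactSpace X]
    {J : Type u} [SmallCategory J] [IsCofiltered J]
    (G : J ⥤ Scheme.{u}) (s : G ⟶ (Functor.const J).obj S)
    (ρ : (Functor.const J).obj T ⟶ G) (hρ : IsLimit (Cone.mk T ρ))
    (h3 : ∀ (i j : J) (a : i ⟶ j), IsClosedImmersion (G.map a))
    (h4 : ∀ i, IsClosedImmersion (pr ρ i))
    (h5 : ∀ i, QuasiSeparatedSpace (G.obj i))
    (hs : ∀ i, LocallyOfFiniteType (s.app i))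
    (hf : ∀ i, LocallyOfFinitePresentation (j ≫ pr ρ i ≫ s.app i)) :
    ∃ i, IsOpenImmersion (j ≫ pr ρ i) := by
  have haff : ∀ {i j : J} (a : i ⟶ j), IsAffineHom (G.map a) := fun a => by
    have := h3 _ _ a; infer_instance
  let i₀ : J := (IsCofiltered.nonempty (C := J)).some
  have := h4 i₀
  let c : Cone G := Cone.mk T ρ
  obtain ⟨U, hUc, hUV⟩ := exists_compact_open (pr ρ i₀) j.opensRange
    (by rw [Scheme.Hom.coe_opensRange]; exact isCompact_range j.continuous)
  let D : Over i₀ ⥤ Scheme.{u} := opensDiagram G i₀ U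
  let cD : Cone D := opensCone G c i₀ U
  have hcD : IsLimit cD := isLimitOpensCone G c hρ i₀ U
  let L : Scheme.{u} := (c.π.app i₀ ⁻¹ᵁ U).toScheme
  -- the structure maps to the stage `i₀`
  let t : D ⟶ (Functor.const (Over i₀)).obj (G.obj i₀) :=
    { app := fun k => (G.map k.hom ⁻¹ᵁ U).ι ≫ G.map k.hom
      naturality := fun k k' φ => by
        change (G.map φ.left).resLE _ _ _ ≫ (G.map k'.hom ⁻¹ᵁ U).ι ≫ G.map k'.hom =
          ((G.map k.hom ⁻¹ᵁ U).ι ≫ G.map k.hom) ≫ 𝟙 _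
        rw [Scheme.Hom.resLE_comp_ι_assoc, ← G.map_comp, Over.w, Category.comp_id] }
  let fL : L ⟶ G.obj i₀ := (c.π.app i₀ ⁻¹ᵁ U).ι ≫ c.π.app i₀
  -- `L ≅ X`
  have hrange : Set.range j = Set.range (c.π.app i₀ ⁻¹ᵁ U).ι := by
    rw [Scheme.Opens.range_ι]
    change _ = ((pr ρ i₀ ⁻¹ᵁ U : T.Opens) : Set T)
    rw [hUV, Scheme.Hom.coe_opensRange]
  let e : X ≅ L := IsOpenImmersion.isoOfRangeEq j (c.π.app i₀ ⁻¹ᵁ U).ι hrange
  have he : e.hom ≫ (c.π.app i₀ ⁻¹ᵁ U).ι = j := IsOpenImmersion.isoOfRangeEq_hom_fac _ _ _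
  have := hs i₀
  have := hf i₀
  have hfL : LocallyOfFinitePresentation fL := by
    have h1 : fL ≫ s.app i₀ = e.inv ≫ (j ≫ pr ρ i₀ ≫ s.app i₀) := by
      rw [← he]; simp [fL, pr, c]
    have : LocallyOfFinitePresentation (fL ≫ s.app i₀) := by rw [h1]; infer_instance
    exact Groth.Agent.Lib.Helper13.LimDescend.locallyOfFinitePresentation_of_comp fL (s.app i₀)
  have : ∀ k : Over i₀, CompactSpace (D.obj k) := fun k => by
    have := h3 _ _ k.hom
    exact isCompact_iff_compactSpace.mp (QuasiCompact.isCompact_preimage _ U.2 hUc)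
  have : ∀ k : Over i₀, QuasiSeparatedSpace (D.obj k) := fun k => by
    have := h5 k.left
    exact (isQuasiSeparated_iff_quasiSeparatedSpace _ (G.map _ ⁻¹ᵁ _).2).mp
      (.of_quasiSeparatedSpace _)
  have hcomp : ∀ k : Over i₀, cD.π.app k ≫ t.app k = fL := fun k => by
    change (c.π.app k.left).resLE _ _ _ ≫ (G.map k.hom ⁻¹ᵁ U).ι ≫ G.map k.hom = _
    rw [Scheme.Hom.resLE_comp_ι_assoc, c.w]
  obtain ⟨k, r, hr1, hr2⟩ := Scheme.exists_π_app_comp_eq_of_locallyOfFinitePresentation D t fL cD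
    hcD (𝟙 L) (by
      ext k : 2
      change cD.π.app k ≫ t.app k = 𝟙 L ≫ fL
      rw [hcomp, Category.id_comp])
  have := h3 _ _ k.hom
  have hmono : Mono (t.app k) := by
    change Mono ((G.map k.hom ⁻¹ᵁ U).ι ≫ G.map k.hom)
    infer_instance
  have hiso : IsIso (cD.π.app k) := by
    refine ⟨r, hr1, ?_⟩
    rw [← cancel_mono (t.app k)]
    change r ≫ cD.π.app k ≫ t.app k = 𝟙 _ ≫ t.app k
    exact (congrArg (r ≫ ·) (hcomp k)).trans (hr2.trans (Category.id_comp _).symm)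
  refine ⟨k.left, ?_⟩
  have hfac : j ≫ pr ρ k.left = e.hom ≫ cD.π.app k ≫ (G.map k.hom ⁻¹ᵁ U).ι := by
    change _ = e.hom ≫ (c.π.app k.left).resLE _ _ _ ≫ _
    rw [Scheme.Hom.resLE_comp_ι, ← Category.assoc, he]
    rfl
  rw [hfac]
  let Uk : (G.obj k.left).Opens := G.map k.hom ⁻¹ᵁ U
  let ιk : Uk.toScheme ⟶ G.obj k.left := Uk.ι
  let πk : L ⟶ Uk.toScheme := cD.π.app k
  haveI : IsIso πk := hiso
  change IsOpenImmersion (e.hom ≫ πk ≫ ιk)
  infer_instance

end Groth.Agent.Lib.Helper13.NaOpenStage
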