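import Mathlib
import Groth.Agent.Lib.Helper13.NaLft
import Groth.Agent.Lib.Helper28.ProjSpaceBasic
import Groth.Agent.S7395
import Groth.Agent.S7409
import Groth.Agent.S9207

set_option autoImplicit false
universe u
open CategoryTheory CategoryTheory.Limits AlgebraicGeometry TopologicalSpace Opposite Topology


/-! Eventually proper: a directed system of closed subschemes of a separated f.p. `S`-scheme with proper limit is eventually proper (uses lead's Chow lemma over a qcqs base, S7409). -/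

namespace Groth.Agent.Lib.Helper13.NaProper

open Groth.Agent.Lib.Helper13.NaOver Groth.Agent.Lib.Helper13.NaClosed
  Groth.Agent.Lib.Helper13.NaLft

/-- cancellation for morphisms locally of finite presentation -/
theorem lfp_of_comp {X Y Z : Scheme.{u}} (f : X ⟶ Y) (g : Y ⟶ Z)
    [LocallyOfFinitePresentation (f ≫ g)] [LocallyOfFiniteType g] :
    LocallyOfFinitePresentation f := by
  rw [HasRingHomProperty.iff_exists_appLE (P := @LocallyOfFinitePresentation)
    (RingHom.finitePresentation_stableUnderComposition.stableUnderCompositionWithLocalizationAway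
      RingHom.finitePresentation_holdsForLocalizationAway).left]
  intro x
  obtain ⟨_, ⟨Z0, hZ0, rfl⟩, hxZ0, -⟩ :=
    Z.isBasis_affineOpens.exists_subset_of_mem_open (Set.mem_univ (g (f x))) isOpen_univ
  obtain ⟨V, hV, hxV, hVZ0⟩ := exists_isAffineOpen_mem_and_subset (x := f x) (U := g ⁻¹ᵁ Z0) hxZ0
  obtain ⟨W, hW, hxW, hWV⟩ := exists_isAffineOpen_mem_and_subset (x := x) (U := f ⁻¹ᵁ V) hxV
  refine ⟨⟨V, hV⟩, ⟨W, hW⟩, hxW, hWV, ?_⟩
  have h1 := (f ≫ g).finitePresentation_appLE hZ0 hW
    (hWV.trans ((TopologicalSpace.Opens.map f.base).map (homOfLE hVZ0)).le)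
  rw [← Scheme.Hom.appLE_comp_appLE f g Z0 V W hVZ0 hWV, CommRingCat.hom_comp] at h1
  exact RingHom.FinitePresentation.of_comp_finiteType _ h1 (g.finiteType_appLE hZ0 hV hVZ0)

/-- constructible subsets of a prime spectrum are quasi-compact -/
lemma isCompact_of_isConstructible_primeSpectrum {R : Type u} [CommRing R]
    {s : Set (PrimeSpectrum R)} (hs : IsConstructible s) : IsCompact s := by
  obtain ⟨S, _, f, rfl⟩ := PrimeSpectrum.exists_range_eq_of_isConstructible hs
  exact isCompact_range (PrimeSpectrum.continuous_comap f)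

/-- constructible subsets of a quasi-compact scheme are quasi-compact -/
lemma isCompact_of_isConstructible {Y : Scheme.{u}} [CompactSpace Y] {s : Set Y}
    (hs : IsConstructible s) : IsCompact s := by
  let 𝒰 := Y.affineCover.finiteSubcover
  have hcov : s = ⋃ i : 𝒰.I₀, (𝒰.f i) '' ((𝒰.f i) ⁻¹' s) := by
    ext y
    simp only [Set.mem_iUnion, Set.mem_image, Set.mem_preimage]
    constructor
    · intro hy
      obtain ⟨i, x, rfl⟩ := 𝒰.exists_eq y
      exact ⟨i, x, hy, rfl⟩
    · rintro ⟨i, x, hx, rfl⟩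
      exact hx
  rw [hcov]
  apply isCompact_iUnion
  intro i
  apply IsCompact.image _ (𝒰.f i).continuous
  have h1 : IsConstructible ((𝒰.f i) ⁻¹' s) :=
    hs.preimage_of_isOpenEmbedding (𝒰.f i).isOpenEmbedding
  exact isCompact_of_isConstructible_primeSpectrum h1

/-- a separated finite type scheme over `S` whose image in a separated `S`-scheme `Y` is
contained in the image of a proper `S`-scheme is proper -/
theorem isProper_of_range_subset {P Y T S : Scheme.{u}} (g : Y ⟶ S) [IsSeparated g]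
    (h : P ⟶ Y) [IsProper (h ≫ g)] (s : T ⟶ Y) [IsClosedImmersion s] [LocallyOfFiniteType g]
    (hr : Set.range s ⊆ Set.range h) : IsProper (s ≫ g) := by
  have hq : Surjective (pullback.snd h s) := by
    refine ⟨fun z => ?_⟩
    obtain ⟨w, hw⟩ := hr ⟨z, rfl⟩
    obtain ⟨q, -, hq2⟩ := Scheme.Pullback.exists_preimage_pullback w z hw
    exact ⟨q, hq2⟩
  have h1 : UniversallyClosed (pullback.snd h s ≫ s ≫ g) := by
    rw [← Category.assoc, ← pullback.condition, Category.assoc]
    infer_instance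
  have h2 : UniversallyClosed (s ≫ g) := UniversallyClosed.of_comp_surjective (pullback.snd h s) _
  exact { }


/-- **eventually proper**: a directed system of closed subschemes of a separated f.p. `S`-scheme
whose limit is proper over `S` is eventually proper over `S`. -/
theorem exists_proper_stage {X Y S : Scheme.{u}} [CompactSpace S] [QuasiSeparatedSpace S]
    (g : Y ⟶ S) [IsSeparated g] [LocallyOfFinitePresentation g] [QuasiCompact g]
    (ι : X ⟶ Y) [IsClosedImmersion ι] [IsProper (ι ≫ g)]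
    {I : Type u} [Preorder I] [IsDirected I (· ≤ ·)] [Nonempty I]
    (G : Iᵒᵖ ⥤ Scheme.{u}) (s : G ⟶ (Functor.const Iᵒᵖ).obj Y)
    (π : (Functor.const Iᵒᵖ).obj X ⟶ G) (hπ : IsLimit (Cone.mk X π))
    (h1 : ∀ j, pr π j ≫ s.app j = ι)
    (h2 : ∀ j, IsClosedImmersion (s.app j))
    (h3 : ∀ (i j : Iᵒᵖ) (a : i ⟶ j), IsClosedImmersion (G.map a)) :
    ∃ i₀ : I, ∀ i : I, i₀ ≤ i → IsProper (s.app (op i) ≫ g) := by
  classical
  have hYc : CompactSpace Y := QuasiCompact.compactSpace_of_compactSpace g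
  have hYq : QuasiSeparatedSpace Y := quasiSeparatedSpace_of_quasiSeparated g
  -- Chow
  obtain ⟨n, X', p, j, hj, hcomm, hp, hps⟩ := Groth.Agent.S7409.result (ι ≫ g)
  let tb := CohB1.ProjSpaceOver.toBase n S
  have htb : IsProper tb := Groth.Agent.Lib.Helper28.ProjSpaceBasic.isProper_toBase n S
  have hjp : IsProper j := by
    have : IsProper (j ≫ tb) := by rw [hcomm]; infer_instance
    exact IsProper.of_comp j tb
  have hjc : IsClosedImmersion j :=
    IsClosedImmersion.of_isPreimmersion j j.isClosedMap.isClosed_range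
  have hPc : CompactSpace (CohB1.ProjSpaceOver n S) := QuasiCompact.compactSpace_of_compactSpace tb
  have hPq : QuasiSeparatedSpace (CohB1.ProjSpaceOver n S) :=
    quasiSeparatedSpace_of_quasiSeparated tb
  obtain ⟨J, _, _, _, G', s', π', ⟨hπ'⟩, k1, k2, k3, k4⟩ := exists_closed_approx j
  -- extend `X' ⟶ Y` to a stage
  have haff' : ∀ {i j : Jᵒᵖ} (a : i ⟶ j), IsAffineHom (G'.map a) := fun a => by
    have := k3 _ _ a; infer_instance
  have hG'c : ∀ a, CompactSpace (G'.obj a) := fun a => by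
    let sa : G'.obj a ⟶ CohB1.ProjSpaceOver n S := s'.app a
    have : IsClosedImmersion sa := (k2 a).1
    exact QuasiCompact.compactSpace_of_compactSpace sa
  have hG'q : ∀ a, QuasiSeparatedSpace (G'.obj a) := fun a => by
    let sa : G'.obj a ⟶ CohB1.ProjSpaceOver n S := s'.app a
    have : IsClosedImmersion sa := (k2 a).1
    exact quasiSeparatedSpace_of_quasiSeparated sa
  let t : G' ⟶ (Functor.const Jᵒᵖ).obj S := s' ≫ (Functor.const Jᵒᵖ).map tb
  obtain ⟨a₁, h₁, hh1, hh2⟩ := Scheme.exists_π_app_comp_eq_of_locallyOfFinitePresentation G' t g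
    (Cone.mk X' π') hπ' (p ≫ ι) (by
      ext a
      change pr π' a ≫ s'.app a ≫ tb = (p ≫ ι) ≫ g
      rw [← Category.assoc, k1, hcomm, Category.assoc])
  have hh2' : h₁ ≫ g = s'.app a₁ ≫ tb := hh2
  let sa₁ : G'.obj a₁ ⟶ CohB1.ProjSpaceOver n S := s'.app a₁
  have hsa₁ : IsClosedImmersion sa₁ := (k2 a₁).1
  have hsa₁' : LocallyOfFinitePresentation sa₁ := (k2 a₁).2
  have htbl : LocallyOfFinitePresentation tb := by
    have : LocallyOfFinitePresentation (CohB1.ProjSpace.toSpec n (ULift.{u} ℤ)) := by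
      have := Groth.Agent.Lib.Helper28.ProjSpaceBasic.isProper_toSpec n (ULift.{u} ℤ)
      exact Groth.Agent.Lib.Helper27.NoethLfp.locallyOfFinitePresentation_of_isLocallyNoetherian _
    exact inferInstanceAs (LocallyOfFinitePresentation
      (pullback.snd (CohB1.ProjSpace.toSpec n (ULift.{u} ℤ)) (specULiftZIsTerminal.from S)))
  have hcompP : IsProper (h₁ ≫ g) := by
    rw [hh2']; exact inferInstanceAs (IsProper (sa₁ ≫ tb))
  have hcompL : LocallyOfFinitePresentation (h₁ ≫ g) := by
    rw [hh2']; exact inferInstanceAs (LocallyOfFinitePresentation (sa₁ ≫ tb))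
  have hh₁p : IsProper h₁ := IsProper.of_comp h₁ g
  have hh₁l : LocallyOfFinitePresentation h₁ := lfp_of_comp h₁ g
  -- the image of `h₁`
  have hZcl : IsClosed (Set.range h₁) := h₁.isClosedMap.isClosed_range
  have hZcons : IsConstructible (Set.range h₁) := by
    rw [← Set.image_univ]
    exact h₁.isConstructible_image IsConstructible.univ
  have hZc : IsCompact (Set.range h₁)ᶜ := isCompact_of_isConstructible hZcons.compl
  have hιZ : Set.range ι ⊆ Set.range h₁ := by
    rintro _ ⟨x, rfl⟩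
    obtain ⟨x', rfl⟩ := hps.surj x
    refine ⟨(pr π' a₁) x', ?_⟩
    rw [← Scheme.Hom.comp_apply, ← Scheme.Hom.comp_apply]
    exact congrArg (fun φ : X' ⟶ Y => φ x') hh1
  -- a stage contained in the image
  have haff : ∀ (i j : Iᵒᵖ) (a : i ⟶ j), IsAffineHom (G.map a) := fun i j a => by
    have := h3 _ _ a; infer_instance
  have hGc : ∀ a, CompactSpace (G.obj a) := fun a => by
    let sa : G.obj a ⟶ Y := s.app a
    have : IsClosedImmersion sa := h2 a
    exact QuasiCompact.compactSpace_of_compactSpace sa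
  have hGq : ∀ a, QuasiSeparatedSpace (G.obj a) := fun a => by
    let sa : G.obj a ⟶ Y := s.app a
    have : IsClosedImmersion sa := h2 a
    exact quasiSeparatedSpace_of_quasiSeparated sa
  obtain ⟨i₀⟩ := ‹Nonempty I›
  let s₀ : G.obj (op i₀) ⟶ Y := s.app (op i₀)
  have hs₀ : IsClosedImmersion s₀ := h2 (op i₀)
  let U₀ : (G.obj (op i₀)).Opens := s₀ ⁻¹ᵁ ⟨(Set.range h₁)ᶜ, hZcl.isOpen_compl⟩
  have hU₀c : CompactSpace (U₀ : Scheme.{u}) :=
    isCompact_iff_compactSpace.mp (s₀.isClosedEmbedding.isCompact_preimage hZc)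
  have hempty : IsEmpty ↥(pullback U₀.ι ((Cone.mk X π).π.app (op i₀))) := by
    rw [Scheme.isEmpty_pullback_iff, Set.disjoint_left]
    rintro y hy1 ⟨x, rfl⟩
    rw [Scheme.Opens.range_ι] at hy1
    have hu : s₀ ((pr π (op i₀)) x) ∈ (Set.range h₁)ᶜ := hy1
    apply hu
    apply hιZ
    refine ⟨x, ?_⟩
    rw [← h1 (op i₀), Scheme.Hom.comp_apply]
  obtain ⟨i', φ, hi'⟩ := Groth.Agent.S9207.result G (Cone.mk X π) hπ (op i₀) U₀.ι hempty
  refine ⟨i'.unop, fun i hi => ?_⟩
  let si : G.obj (op i) ⟶ Y := s.app (op i)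
  have hsi : IsClosedImmersion si := h2 (op i)
  refine isProper_of_range_subset g h₁ si ?_
  rintro _ ⟨z, rfl⟩
  by_contra hz
  let ψ : op i ⟶ i' := (homOfLE hi).op
  have hnat : ∀ (a b : Iᵒᵖ) (θ : a ⟶ b), G.map θ ≫ s.app b = s.app a := fun a b θ => by
    have := s.naturality θ
    simpa using this
  have hz' : s₀ ((G.map (ψ ≫ φ)) z) = si z := by
    rw [← Scheme.Hom.comp_apply]
    exact congrArg (fun θ : G.obj (op i) ⟶ Y => θ z) (hnat _ _ (ψ ≫ φ))
  have hd := Scheme.isEmpty_pullback_iff.1 hi'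
  rw [Set.disjoint_left] at hd
  refine hd (a := (G.map (ψ ≫ φ)) z) ?_ ?_
  · rw [Scheme.Opens.range_ι]
    change s₀ ((G.map (ψ ≫ φ)) z) ∈ (Set.range h₁)ᶜ
    rw [hz']; exact hz
  · refine ⟨(G.map ψ) z, ?_⟩
    rw [← Scheme.Hom.comp_apply, ← G.map_comp]


end Groth.Agent.Lib.Helper13.NaProper
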