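import Groth.Agent.S9392
import Groth.Agent.S9835
import Groth.Agent.Lib.Helper6.DevRed

/-!
# Nagata schemes and Japanese integral closed subschemes
-/

set_option autoImplicit false
universe u
open CategoryTheory AlgebraicGeometry TopologicalSpace

namespace Groth.Agent.Lib.Helper13.NagataClosedSub

/-- N-2 transfers along ring isomorphisms. -/
theorem isN2_of_ringEquiv {R S : Type u} [CommRing R] [IsDomain R] [CommRing S] [IsDomain S]
    (e : R ≃+* S) (h : CAlg.IsN2 R) : CAlg.IsN2 S := by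
  letI : Algebra R S := e.toRingHom.toAlgebra
  haveI : IsLocalization (⊥ : Submonoid R) S := by
    apply IsLocalization.of_le_isUnit_of_bijective
    · rintro _ ⟨x, hx, rfl⟩
      replace hx : x ∈ (⊥ : Submonoid R) := hx
      rw [Submonoid.mem_bot] at hx
      subst hx
      simp [IsUnit.mem_submonoid_iff]
    · exact e.bijective
  exact Groth.Agent.S9392.result R ⊥ S h

/-- the quotient by the kernel of a surjection onto a domain -/
theorem isN2_of_surjective_of_isNagata {A B : Type u} [CommRing A] [CommRing B] [IsDomain B]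
    (φ : A →+* B) (hφ : Function.Surjective φ) (hA : CAlg.IsNagata A) : CAlg.IsN2 B := by
  haveI : (RingHom.ker φ).IsPrime := RingHom.ker_isPrime φ
  exact isN2_of_ringEquiv (RingHom.quotientKerEquivOfSurjective hφ) (hA.2 (RingHom.ker φ))

/-- (⇒) -/
theorem isN2_of_closedImmersion (X : Scheme.{u})
    (hN : ∀ U : X.Opens, IsAffineOpen U → CAlg.IsNagata Γ(X, U))
    (Z : Scheme.{u}) (i : Z ⟶ X) [IsClosedImmersion i] [IsIntegral Z]
    (V : Z.Opens) [Nonempty V] (hV : IsAffineOpen V) : CAlg.IsN2 Γ(Z, V) := by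
  let ι : Type u := {U : X.affineOpens // Nonempty (i ⁻¹ᵁ U.1)}
  let W : ι → Z.Opens := fun U => i ⁻¹ᵁ U.1.1
  haveI : ∀ k, Nonempty (W k) := fun k => k.2
  have hW : iSup W = ⊤ := by
    rw [eq_top_iff]
    rintro z -
    obtain ⟨_, ⟨U, hU, rfl⟩, hzU, -⟩ :=
      X.isBasis_affineOpens.exists_subset_of_mem_open (Set.mem_univ (i z)) isOpen_univ
    rw [Opens.mem_iSup]
    exact ⟨⟨⟨U, hU⟩, ⟨⟨z, hzU⟩⟩⟩, hzU⟩
  have haff : ∀ k, IsAffineOpen (W k) := fun k => k.1.2.preimage i
  refine Groth.Agent.S9835.result Z W hW haff (fun k => ?_) V hV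
  haveI : IsDomain Γ(Z, W k) := inferInstance
  exact isN2_of_surjective_of_isNagata (i.app k.1.1).hom (i.app_surjective k.1.1 k.1.2)
    (hN k.1.1 k.1.2)

open Scheme.IdealSheafData in
/-- (⇐) -/
theorem isNagata_of_forall_closedImmersion (X : Scheme.{u}) [IsLocallyNoetherian X]
    (h : ∀ (Z : Scheme.{u}) (i : Z ⟶ X) [IsClosedImmersion i] [IsIntegral Z]
        (V : Z.Opens) [Nonempty V], IsAffineOpen V → CAlg.IsN2 Γ(Z, V))
    (U : X.Opens) (hU : IsAffineOpen U) : CAlg.IsNagata Γ(X, U) := by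
  haveI : IsNoetherianRing Γ(X, U) := IsLocallyNoetherian.component_noetherian ⟨U, hU⟩
  refine ⟨inferInstance, fun p _ => ?_⟩
  let x : X := hU.fromSpec ⟨p, inferInstance⟩
  let Zc : Closeds X := ⟨closure {x}, isClosed_closure⟩
  have hirr : IsIrreducible (Zc : Set X) := isIrreducible_singleton.closure
  let I := vanishingIdeal Zc
  haveI : IsIntegral I.subscheme :=
    Groth.Agent.Lib.Helper6.DevRed.isIntegral_subscheme_vanishingIdeal Zc hirr
  have hxU : x ∈ U := by
    have : x ∈ Set.range hU.fromSpec := ⟨_, rfl⟩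
    rwa [hU.range_fromSpec] at this
  -- the ideal of `I` on `U` is `p`
  have hideal : I.ideal ⟨U, hU⟩ = p := by
    change (vanishingIdeal Zc).ideal ⟨U, hU⟩ = p
    rw [vanishingIdeal_ideal]
    have hpre : hU.fromSpec ⁻¹' closure {x} =
        closure {(⟨p, inferInstance⟩ : PrimeSpectrum Γ(X, U))} := by
      rw [hU.fromSpec.isOpenEmbedding.isOpenMap.preimage_closure_eq_closure_preimage
        hU.fromSpec.continuous]
      congr 1
      ext q
      simp only [Set.mem_preimage, Set.mem_singleton_iff]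
      exact ⟨fun hq => hU.fromSpec.isOpenEmbedding.injective hq, fun hq => by rw [hq]⟩
    have h3 := congrArg PrimeSpectrum.vanishingIdeal hpre
    rw [PrimeSpectrum.vanishingIdeal_closure, PrimeSpectrum.vanishingIdeal_singleton] at h3
    exact h3
  -- the affine open of the subscheme
  let V : I.subscheme.Opens := I.subschemeι ⁻¹ᵁ U
  have hV : IsAffineOpen V := hU.preimage I.subschemeι
  haveI : Nonempty V := by
    have hx : x ∈ Set.range I.subschemeι := by
      rw [Groth.Agent.Lib.Helper6.DevRed.range_subschemeι_vanishingIdeal]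
      exact subset_closure rfl
    obtain ⟨z, hz⟩ := hx
    exact ⟨⟨z, by change I.subschemeι z ∈ U; rw [hz]; exact hxU⟩⟩
  have h1 : CAlg.IsN2 Γ(I.subscheme, V) := h I.subscheme I.subschemeι V hV
  haveI : (I.ideal ⟨U, hU⟩).IsPrime := hideal ▸ inferInstance
  have h2 : CAlg.IsN2 (Γ(X, U) ⧸ I.ideal ⟨U, hU⟩) :=
    isN2_of_ringEquiv (I.subschemeObjIso ⟨U, hU⟩).commRingCatIsoToRingEquiv h1
  exact isN2_of_ringEquiv (Ideal.quotEquivOfEq hideal) h2

end Groth.Agent.Lib.Helper13.NagataClosedSub
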