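import Mathlib

/-!
# Auxiliary lemmas for the local characterization of Nagata rings
-/

set_option autoImplicit false
set_option linter.style.haveILetI false
noncomputable section

namespace Groth.Agent.Lib.Helper13.NagataLocal

open scoped TensorProduct

/-- a finite subalgebra of a finite extension of the fraction field with full fraction field -/
theorem exists_finite_subalgebra_isFractionRing (B K K' : Type*) [CommRing B] [IsDomain B]
    [Field K] [Field K'] [Algebra B K] [IsFractionRing B K] [Algebra B K'] [Algebra K K']
    [IsScalarTower B K K'] [FiniteDimensional K K'] :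
    ∃ B' : Subalgebra B K', Module.Finite B B' ∧ IsFractionRing B' K' := by
  classical
  obtain ⟨n, b, hb⟩ := Module.Finite.exists_fin (R := K) (M := K')
  obtain ⟨d, hd0, hd⟩ := exists_integral_multiples B K (Finset.univ.image b)
  have hinjB : Function.Injective (algebraMap B K') := by
    rw [IsScalarTower.algebraMap_eq B K K']
    exact (algebraMap K K').injective.comp (IsFractionRing.injective B K)
  have hdK : algebraMap B K' d ≠ 0 := by
    rwa [Ne, map_eq_zero_iff _ hinjB]
  let B' : Subalgebra B K' := Algebra.adjoin B (Set.range fun i => d • b i)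
  have hfin : Module.Finite B B' := by
    refine (Module.Finite.iff_fg (N := Subalgebra.toSubmodule B')).mpr ?_
    refine fg_adjoin_of_finite (Set.finite_range _) ?_
    rintro _ ⟨i, rfl⟩
    exact hd _ (Finset.mem_image_of_mem b (Finset.mem_univ i))
  refine ⟨B', hfin, ?_⟩
  -- every element has a denominator in `B`
  have key : ∀ z : K', ∃ s : B, s ≠ 0 ∧ algebraMap B K' s * z ∈ B' := by
    intro z
    have hz : z ∈ Submodule.span K (Set.range b) := by rw [hb]; trivial
    induction hz using Submodule.span_induction with
    | mem y hy =>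
      obtain ⟨i, rfl⟩ := hy
      refine ⟨d, hd0, ?_⟩
      rw [← Algebra.smul_def]
      exact Algebra.subset_adjoin ⟨i, rfl⟩
    | zero => exact ⟨1, one_ne_zero, by rw [mul_zero]; exact B'.zero_mem⟩
    | add y z _ _ hy hz =>
      obtain ⟨s, hs, hsy⟩ := hy
      obtain ⟨t, ht, htz⟩ := hz
      refine ⟨s * t, mul_ne_zero hs ht, ?_⟩
      have h1 : algebraMap B K' (s * t) * (y + z) =
          algebraMap B K' t * (algebraMap B K' s * y) +
          algebraMap B K' s * (algebraMap B K' t * z) := by
        rw [map_mul]; ring
      rw [h1]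
      exact B'.add_mem (B'.mul_mem (B'.algebraMap_mem t) hsy)
        (B'.mul_mem (B'.algebraMap_mem s) htz)
    | smul c y _ hy =>
      obtain ⟨s, hs, hsy⟩ := hy
      obtain ⟨a, t, ht, rfl⟩ := IsFractionRing.div_surjective (A := B) c
      have ht0 : t ≠ 0 := nonZeroDivisors.ne_zero ht
      refine ⟨t * s, mul_ne_zero ht0 hs, ?_⟩
      have htK : algebraMap B K t ≠ 0 := by
        rwa [Ne, map_eq_zero_iff _ (IsFractionRing.injective B K)]
      have h1 : algebraMap B K' (t * s) * ((algebraMap B K a / algebraMap B K t) • y) =
          algebraMap B K' a * (algebraMap B K' s * y) := by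
        rw [Algebra.smul_def, map_mul, map_div₀, ← IsScalarTower.algebraMap_apply,
          ← IsScalarTower.algebraMap_apply]
        have htK' : algebraMap B K' t ≠ 0 := by
          rwa [Ne, map_eq_zero_iff _ hinjB]
        field_simp
      rw [h1]
      exact B'.mul_mem (B'.algebraMap_mem a) hsy
  haveI : FaithfulSMul B' K' :=
    (faithfulSMul_iff_algebraMap_injective _ _).mpr Subtype.val_injective
  refine IsFractionRing.of_field B' K' (fun z => ?_)
  obtain ⟨s, hs, hsz⟩ := key z
  refine ⟨⟨_, hsz⟩, algebraMap B B' s, ?_⟩
  have hsK : algebraMap B K' s ≠ 0 := by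
    rwa [Ne, map_eq_zero_iff _ hinjB]
  change z = (algebraMap B K' s * z) / algebraMap B K' s
  field_simp

/-- transfer of finiteness of the integral closure from a subring `C` to a bigger ring `D`
which is integral over `C` up to units -/
theorem finite_integralClosure_transfer (C D K' : Type*) [CommRing C] [CommRing D] [Field K']
    [Algebra C K'] [Algebra D K'] (hinj : Function.Injective (algebraMap D K'))
    (hfin : Module.Finite C (integralClosure C K'))
    (h2 : ∀ c : C, ∃ d : D, algebraMap D K' d = algebraMap C K' c)
    (h3 : ∀ x : K', IsIntegral D x →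
      ∃ u : D, IsUnit u ∧ IsIntegral C (algebraMap D K' u * x)) :
    Module.Finite D (integralClosure D K') := by
  choose σ hσ using h2
  let σ' : C →+* D :=
    { toFun := σ
      map_one' := hinj (by rw [hσ, map_one, map_one])
      map_mul' := fun a b => hinj (by rw [hσ, map_mul, map_mul, hσ, hσ])
      map_zero' := hinj (by rw [hσ, map_zero, map_zero])
      map_add' := fun a b => hinj (by rw [hσ, map_add, map_add, hσ, hσ]) }
  letI : Algebra C D := σ'.toAlgebra
  haveI : IsScalarTower C D K' := .of_algebraMap_eq (fun c => (hσ c).symm)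
  let ι : integralClosure C K' →ₗ[C] integralClosure D K' :=
    { toFun := fun y => ⟨y.1, y.2.tower_top⟩
      map_add' := fun _ _ => rfl
      map_smul' := fun c y => by
        apply Subtype.ext
        rfl }
  haveI := hfin
  refine Module.Finite.of_surjective (ι.liftBaseChange D) ?_
  intro x
  obtain ⟨u, hu, hux⟩ := h3 x.1 x.2
  obtain ⟨v, hv⟩ := hu.exists_left_inv
  refine ⟨v ⊗ₜ[C] ⟨_, hux⟩, ?_⟩
  rw [LinearMap.liftBaseChange_tmul]
  apply Subtype.ext
  change v • (algebraMap D K' u * (x : K')) = x
  rw [Algebra.smul_def, ← mul_assoc, ← map_mul, hv, map_one, one_mul]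

end Groth.Agent.Lib.Helper13.NagataLocal
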