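import Groth.Agent.Lib.Helper13.NagataLocal
import Groth.Agent.Lib.Helper13.N1Criterion2
import Groth.Agent.S9392
import Groth.Agent.S4562

/-!
# Local characterization of Nagata rings
-/

set_option autoImplicit false
set_option linter.style.haveILetI false
universe u
noncomputable section

namespace Groth.Agent.Lib.Helper13.NagataLocal

open scoped nonZeroDivisors

/-- N-1 can be checked in any fraction field -/
theorem isN1_of_finite_integralClosure (D K : Type u) [CommRing D] [IsDomain D] [Field K]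
    [Algebra D K] [IsFractionRing D K] (h : Module.Finite D (integralClosure D K)) :
    CAlg.IsN1 D := by
  unfold CAlg.IsN1
  haveI := h
  exact Module.Finite.equiv ((FractionRing.algEquiv D K).symm.mapIntegralClosure).toLinearEquiv

section gamma

variable {A : Type u} [CommRing A] (p : Ideal A) [p.IsPrime] (𝔪 : Ideal A) [𝔪.IsPrime]
  (K' : Type u) [Field K'] [Algebra (A ⧸ p) K'] [FaithfulSMul (A ⧸ p) K']

/-- the composite `A → A/p → K'` -/
def g0 : A →+* K' := (algebraMap (A ⧸ p) K').comp (Ideal.Quotient.mk p)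

theorem g0_eq_zero_iff (a : A) : g0 p K' a = 0 ↔ a ∈ p := by
  change algebraMap (A ⧸ p) K' (Ideal.Quotient.mk p a) = 0 ↔ _
  rw [map_eq_zero_iff _ (FaithfulSMul.algebraMap_injective (A ⧸ p) K'),
    Ideal.Quotient.eq_zero_iff_mem]

variable {p 𝔪} in
theorem g0_isUnit (hle : p ≤ 𝔪) (y : 𝔪.primeCompl) : IsUnit (g0 p K' y) := by
  rw [isUnit_iff_ne_zero, Ne, g0_eq_zero_iff]
  exact fun h => y.2 (hle h)

/-- the induced map `A_𝔪 → K'` -/
def gamma0 (hle : p ≤ 𝔪) : Localization.AtPrime 𝔪 →+* K' :=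
  IsLocalization.lift (M := 𝔪.primeCompl) (g := g0 p K') (g0_isUnit K' hle)

theorem gamma0_algebraMap (hle : p ≤ 𝔪) (a : A) :
    gamma0 p 𝔪 K' hle (algebraMap A (Localization.AtPrime 𝔪) a) = g0 p K' a :=
  IsLocalization.lift_eq _ a

theorem gamma0_eq_zero_iff (hle : p ≤ 𝔪) (x : Localization.AtPrime 𝔪) :
    gamma0 p 𝔪 K' hle x = 0 ↔ x ∈ p.map (algebraMap A (Localization.AtPrime 𝔪)) := by
  obtain ⟨a, s, rfl⟩ := IsLocalization.exists_mk'_eq 𝔪.primeCompl x
  rw [gamma0, IsLocalization.lift_mk'_spec, mul_zero, g0_eq_zero_iff,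
    IsLocalization.mk'_mem_map_algebraMap_iff]
  constructor
  · intro ha
    exact ⟨1, 𝔪.primeCompl.one_mem, by rwa [one_mul]⟩
  · rintro ⟨t, ht, hta⟩
    exact (Ideal.IsPrime.mem_or_mem ‹p.IsPrime› hta).resolve_left (fun h => ht (hle h))

/-- the induced map `A_𝔪 / p A_𝔪 → K'` -/
def gamma (hle : p ≤ 𝔪) :
    Localization.AtPrime 𝔪 ⧸ p.map (algebraMap A (Localization.AtPrime 𝔪)) →+* K' :=
  Ideal.Quotient.lift _ (gamma0 p 𝔪 K' hle) (fun x hx => (gamma0_eq_zero_iff p 𝔪 K' hle x).mpr hx)

theorem gamma_injective (hle : p ≤ 𝔪) : Function.Injective (gamma p 𝔪 K' hle) := by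
  rw [injective_iff_map_eq_zero]
  intro c hc
  obtain ⟨x, rfl⟩ := Ideal.Quotient.mk_surjective c
  rw [gamma, Ideal.Quotient.lift_mk, gamma0_eq_zero_iff] at hc
  exact Ideal.Quotient.eq_zero_iff_mem.mpr hc

theorem gamma_mk (hle : p ≤ 𝔪) (x : Localization.AtPrime 𝔪) :
    gamma p 𝔪 K' hle (Ideal.Quotient.mk _ x) = gamma0 p 𝔪 K' hle x := rfl

theorem gamma_algebraMap (hle : p ≤ 𝔪) (b : A ⧸ p) :
    gamma p 𝔪 K' hle (algebraMap (A ⧸ p)
      (Localization.AtPrime 𝔪 ⧸ p.map (algebraMap A (Localization.AtPrime 𝔪))) b) =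
      algebraMap (A ⧸ p) K' b := by
  obtain ⟨a, rfl⟩ := Ideal.Quotient.mk_surjective b
  rw [Ideal.Quotient.algebraMap_quotient_map_quotient, gamma_mk, gamma0_algebraMap]
  rfl

/-- finiteness of the integral closure of `A_𝔪 / p A_𝔪` in a finite extension of `Frac (A/p)` -/
theorem finite_integralClosure_quotient_localization (hle : p ≤ 𝔪)
    [Algebra (FractionRing (A ⧸ p)) K'] [IsScalarTower (A ⧸ p) (FractionRing (A ⧸ p)) K']
    [FiniteDimensional (FractionRing (A ⧸ p)) K']
    [hP : (p.map (algebraMap A (Localization.AtPrime 𝔪))).IsPrime]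
    (hN2 : CAlg.IsN2 (Localization.AtPrime 𝔪 ⧸ p.map (algebraMap A (Localization.AtPrime 𝔪)))) :
    letI := (gamma p 𝔪 K' hle).toAlgebra
    Module.Finite (Localization.AtPrime 𝔪 ⧸ p.map (algebraMap A (Localization.AtPrime 𝔪)))
      (integralClosure
        (Localization.AtPrime 𝔪 ⧸ p.map (algebraMap A (Localization.AtPrime 𝔪))) K') := by
  letI algC := (gamma p 𝔪 K' hle).toAlgebra
  haveI : FaithfulSMul
      (Localization.AtPrime 𝔪 ⧸ p.map (algebraMap A (Localization.AtPrime 𝔪))) K' :=
    (faithfulSMul_iff_algebraMap_injective _ _).mpr (gamma_injective p 𝔪 K' hle)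
  letI := FractionRing.liftAlgebra
    (Localization.AtPrime 𝔪 ⧸ p.map (algebraMap A (Localization.AtPrime 𝔪))) K'
  haveI := FractionRing.isScalarTower_liftAlgebra
    (Localization.AtPrime 𝔪 ⧸ p.map (algebraMap A (Localization.AtPrime 𝔪))) K'
  haveI : IsScalarTower (A ⧸ p)
      (Localization.AtPrime 𝔪 ⧸ p.map (algebraMap A (Localization.AtPrime 𝔪))) K' :=
    .of_algebraMap_eq (fun b => by
      obtain ⟨a, rfl⟩ := Ideal.Quotient.mk_surjective b
      change _ = gamma p 𝔪 K' hle (algebraMap (A ⧸ p) _ (Ideal.Quotient.mk p a))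
      rw [Ideal.Quotient.algebraMap_quotient_map_quotient, gamma_mk, gamma0_algebraMap]
      rfl)
  have hinjBC : Function.Injective (algebraMap (A ⧸ p)
      (Localization.AtPrime 𝔪 ⧸ p.map (algebraMap A (Localization.AtPrime 𝔪)))) := by
    have h1 : Function.Injective (algebraMap (A ⧸ p) K') :=
      FaithfulSMul.algebraMap_injective _ _
    rw [IsScalarTower.algebraMap_eq (A ⧸ p)
      (Localization.AtPrime 𝔪 ⧸ p.map (algebraMap A (Localization.AtPrime 𝔪))) K',
      RingHom.coe_comp] at h1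
    exact Function.Injective.of_comp h1
  haveI : FaithfulSMul (A ⧸ p) (FractionRing
      (Localization.AtPrime 𝔪 ⧸ p.map (algebraMap A (Localization.AtPrime 𝔪)))) := by
    rw [faithfulSMul_iff_algebraMap_injective, IsScalarTower.algebraMap_eq (A ⧸ p)
      (Localization.AtPrime 𝔪 ⧸ p.map (algebraMap A (Localization.AtPrime 𝔪))),
      RingHom.coe_comp]
    exact (IsFractionRing.injective _ _).comp hinjBC
  letI := FractionRing.liftAlgebra (A ⧸ p) (FractionRing
    (Localization.AtPrime 𝔪 ⧸ p.map (algebraMap A (Localization.AtPrime 𝔪))))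
  haveI := FractionRing.isScalarTower_liftAlgebra (A ⧸ p) (FractionRing
    (Localization.AtPrime 𝔪 ⧸ p.map (algebraMap A (Localization.AtPrime 𝔪))))
  haveI : IsScalarTower (FractionRing (A ⧸ p)) (FractionRing
      (Localization.AtPrime 𝔪 ⧸ p.map (algebraMap A (Localization.AtPrime 𝔪)))) K' := by
    refine .of_algebraMap_eq' (IsLocalization.ringHom_ext (A ⧸ p)⁰ ?_)
    ext b
    simp only [RingHom.comp_apply]
    rw [← IsScalarTower.algebraMap_apply (A ⧸ p) (FractionRing (A ⧸ p)) K',
      ← IsScalarTower.algebraMap_apply (A ⧸ p) (FractionRing (A ⧸ p)),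
      IsScalarTower.algebraMap_apply (A ⧸ p)
        (Localization.AtPrime 𝔪 ⧸ p.map (algebraMap A (Localization.AtPrime 𝔪)))
        (FractionRing (Localization.AtPrime 𝔪 ⧸ p.map (algebraMap A (Localization.AtPrime 𝔪)))),
      ← IsScalarTower.algebraMap_apply
        (Localization.AtPrime 𝔪 ⧸ p.map (algebraMap A (Localization.AtPrime 𝔪)))
        (FractionRing (Localization.AtPrime 𝔪 ⧸ p.map (algebraMap A (Localization.AtPrime 𝔪))))
        K',
      ← IsScalarTower.algebraMap_apply (A ⧸ p)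
        (Localization.AtPrime 𝔪 ⧸ p.map (algebraMap A (Localization.AtPrime 𝔪))) K']
  haveI : Module.Finite (FractionRing
      (Localization.AtPrime 𝔪 ⧸ p.map (algebraMap A (Localization.AtPrime 𝔪)))) K' :=
    Module.Finite.of_restrictScalars_finite (FractionRing (A ⧸ p)) _ _
  exact hN2 K' inferInstance

end gamma

/-- the localizations of a finite subalgebra `B'` of `K'` at its maximal ideals are N-1 provided
the local quotients of `A` are N-2 -/
theorem isN1_atPrime_of_local {A : Type u} [CommRing A] (p : Ideal A) [p.IsPrime]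
    (h1 : ∀ (m : Ideal A) [m.IsMaximal] (P : Ideal (Localization.AtPrime m)) [P.IsPrime],
      CAlg.IsN2 (Localization.AtPrime m ⧸ P))
    (K' : Type u) [Field K'] [Algebra (A ⧸ p) K'] [FaithfulSMul (A ⧸ p) K']
    [Algebra (FractionRing (A ⧸ p)) K'] [IsScalarTower (A ⧸ p) (FractionRing (A ⧸ p)) K']
    [FiniteDimensional (FractionRing (A ⧸ p)) K']
    (B' : Subalgebra (A ⧸ p) K') [Module.Finite (A ⧸ p) B'] [IsFractionRing B' K']
    (m' : Ideal B') [m'.IsMaximal] : CAlg.IsN1 (Localization.AtPrime m') := by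
  haveI : Algebra.IsIntegral (A ⧸ p) B' := Algebra.IsIntegral.of_finite _ _
  haveI hn : (m'.comap (algebraMap (A ⧸ p) B')).IsMaximal :=
    Ideal.isMaximal_comap_of_isIntegral_of_isMaximal m'
  set 𝔪 : Ideal A := (m'.comap (algebraMap (A ⧸ p) B')).comap (Ideal.Quotient.mk p) with h𝔪def
  haveI h𝔪 : 𝔪.IsMaximal := Ideal.comap_isMaximal_of_surjective _ Ideal.Quotient.mk_surjective
  haveI : 𝔪.IsPrime := h𝔪.isPrime
  have hmem𝔪 : ∀ a : A, a ∈ 𝔪 ↔ algebraMap (A ⧸ p) B' (Ideal.Quotient.mk p a) ∈ m' :=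
    fun a => Iff.rfl
  have hle : p ≤ 𝔪 := fun a ha => by
    rw [hmem𝔪, Ideal.Quotient.eq_zero_iff_mem.mpr ha, map_zero]
    exact m'.zero_mem
  haveI hP : (p.map (algebraMap A (Localization.AtPrime 𝔪))).IsPrime :=
    IsLocalization.isPrime_of_isPrime_disjoint 𝔪.primeCompl _ p ‹_›
      (Set.disjoint_left.mpr fun a ha hap => ha (hle hap))
  have hC := finite_integralClosure_quotient_localization p 𝔪 K' hle (h1 𝔪 _)
  letI algC := (gamma p 𝔪 K' hle).toAlgebra
  haveI : IsScalarTower (A ⧸ p)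
      (Localization.AtPrime 𝔪 ⧸ p.map (algebraMap A (Localization.AtPrime 𝔪))) K' :=
    .of_algebraMap_eq (fun b => (gamma_algebraMap p 𝔪 K' hle b).symm)
  -- the algebra structure of the localization of `B'` on `K'`
  have hle' : m'.primeCompl ≤ B'⁰ := m'.primeCompl_le_nonZeroDivisors
  have hunit : ∀ y : m'.primeCompl, IsUnit (algebraMap B' K' y) := fun y =>
    IsLocalization.map_units K' (⟨y.1, hle' y.2⟩ : B'⁰)
  letI : Algebra (Localization.AtPrime m') K' :=
    (IsLocalization.lift (M := m'.primeCompl) (S := Localization.AtPrime m') hunit).toAlgebra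
  haveI : IsScalarTower B' (Localization.AtPrime m') K' := .of_algebraMap_eq (fun x =>
    (IsLocalization.lift_eq (M := m'.primeCompl) (S := Localization.AtPrime m') hunit x).symm)
  haveI : IsFractionRing (Localization.AtPrime m') K' :=
    IsFractionRing.isFractionRing_of_isDomain_of_isLocalization m'.primeCompl
      (Localization.AtPrime m') K'
  have hD : Module.Finite (Localization.AtPrime m')
      (integralClosure (Localization.AtPrime m') K') := by
    refine finite_integralClosure_transfer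
      (Localization.AtPrime 𝔪 ⧸ p.map (algebraMap A (Localization.AtPrime 𝔪)))
      (Localization.AtPrime m') K' (IsFractionRing.injective (Localization.AtPrime m') K') hC
      ?_ ?_
    · intro c
      obtain ⟨x, rfl⟩ := Ideal.Quotient.mk_surjective c
      obtain ⟨a, s, rfl⟩ := IsLocalization.exists_mk'_eq 𝔪.primeCompl x
      have hs : algebraMap (A ⧸ p) B' (Ideal.Quotient.mk p s.1) ∈ m'.primeCompl :=
        fun h => s.2 ((hmem𝔪 s.1).mpr h)
      refine ⟨IsLocalization.mk' _ (algebraMap (A ⧸ p) B' (Ideal.Quotient.mk p a)) ⟨_, hs⟩, ?_⟩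
      change IsLocalization.lift (M := m'.primeCompl) (S := Localization.AtPrime m') hunit _ =
        gamma0 p 𝔪 K' hle (IsLocalization.mk' _ a s)
      rw [IsLocalization.lift_mk'_spec]
      have h2 : g0 p K' a = g0 p K' s.1 * gamma0 p 𝔪 K' hle (IsLocalization.mk' _ a s) :=
        (IsLocalization.lift_mk'_spec (M := 𝔪.primeCompl) (S := Localization.AtPrime 𝔪)
          (g0_isUnit K' hle) a _ s).mp rfl
      exact h2
    · intro x hx
      obtain ⟨t, ht⟩ := IsIntegral.exists_multiple_integral_of_isLocalization m'.primeCompl x hx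
      refine ⟨algebraMap B' (Localization.AtPrime m') t.1,
        IsLocalization.map_units (Localization.AtPrime m') t, ?_⟩
      rw [← IsScalarTower.algebraMap_apply B' (Localization.AtPrime m') K']
      have h2 : IsIntegral B' (algebraMap B' K' t.1 * x) := by
        rwa [Submonoid.smul_def, Algebra.smul_def] at ht
      have h3 : IsIntegral (A ⧸ p) (algebraMap B' K' t.1 * x) := isIntegral_trans _ h2
      exact h3.tower_top
  exact isN1_of_finite_integralClosure (Localization.AtPrime m') K' hD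

end Groth.Agent.Lib.Helper13.NagataLocal
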