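import Groth.Agent.Lib.Helper13.NagataLocal2

/-!
# Local characterization of Nagata rings: the equivalence
-/

set_option autoImplicit false
set_option linter.style.haveILetI false
universe u
noncomputable section

namespace Groth.Agent.Lib.Helper13.NagataLocal

open scoped nonZeroDivisors

/-- the integral closures of `B` and of a finite `B`-subalgebra `B'` in `K'` coincide; finiteness
transfers from `B` to `B'` -/
theorem finite_integralClosure_subalgebra (B K' : Type*) [CommRing B] [Field K'] [Algebra B K']
    (B' : Subalgebra B K') [Module.Finite B B']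
    (h : Module.Finite B (integralClosure B K')) : Module.Finite B' (integralClosure B' K') := by
  haveI : Algebra.IsIntegral B B' := Algebra.IsIntegral.of_finite _ _
  haveI := h
  let E : integralClosure B K' →ₗ[B] integralClosure B' K' :=
    { toFun := fun x => ⟨x.1, x.2.tower_top⟩
      map_add' := fun _ _ => rfl
      map_smul' := fun _ _ => rfl }
  have hE : Function.Surjective E := fun y => ⟨⟨y.1, isIntegral_trans y.1 y.2⟩, rfl⟩
  haveI : Module.Finite B (integralClosure B' K') := Module.Finite.of_surjective E hE
  exact Module.Finite.of_restrictScalars_finite B B' _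

/-- finiteness transfers from a finite subalgebra `B'` back to `B` -/
theorem finite_integralClosure_of_subalgebra (B K' : Type*) [CommRing B] [Field K']
    [Algebra B K'] (B' : Subalgebra B K') [Module.Finite B B']
    (h : Module.Finite B' (integralClosure B' K')) : Module.Finite B (integralClosure B K') := by
  haveI : Algebra.IsIntegral B B' := Algebra.IsIntegral.of_finite _ _
  haveI := h
  haveI : Module.Finite B (integralClosure B' K') := Module.Finite.trans B' _
  let E : integralClosure B' K' →ₗ[B] integralClosure B K' :=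
    { toFun := fun x => ⟨x.1, isIntegral_trans x.1 x.2⟩
      map_add' := fun _ _ => rfl
      map_smul' := fun _ _ => rfl }
  have hE : Function.Surjective E := fun y => ⟨⟨y.1, y.2.tower_top⟩, rfl⟩
  exact Module.Finite.of_surjective E hE

/-- the local conditions imply Nagata -/
theorem isNagata_of_local {A : Type u} [CommRing A] [IsNoetherianRing A]
    (h1 : ∀ (m : Ideal A) [m.IsMaximal] (P : Ideal (Localization.AtPrime m)) [P.IsPrime],
      CAlg.IsN2 (Localization.AtPrime m ⧸ P))
    (h2 : ∀ (p : Ideal A) [p.IsPrime] (K' : Type u) [Field K'] [Algebra (A ⧸ p) K']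
      [Algebra (FractionRing (A ⧸ p)) K'] [IsScalarTower (A ⧸ p) (FractionRing (A ⧸ p)) K']
      [FiniteDimensional (FractionRing (A ⧸ p)) K'] [IsPurelyInseparable (FractionRing (A ⧸ p)) K']
      (B' : Subalgebra (A ⧸ p) K'), Module.Finite (A ⧸ p) B' → IsFractionRing B' K' →
        ∃ f : B', f ≠ 0 ∧ IsIntegrallyClosed (Localization.Away f)) :
    CAlg.IsNagata A := by
  refine ⟨inferInstance, fun p _ => ?_⟩
  apply Groth.Agent.S4562.result
  intro K' _ _ _ _ hfin hpi
  haveI := hfin
  haveI := hpi
  obtain ⟨B', hB'fin, hB'frac⟩ :=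
    exists_finite_subalgebra_isFractionRing (A ⧸ p) (FractionRing (A ⧸ p)) K'
  haveI := hB'fin
  haveI := hB'frac
  obtain ⟨f, hf0, hAf⟩ := h2 p K' B' hB'fin hB'frac
  haveI : FaithfulSMul (A ⧸ p) K' := by
    rw [faithfulSMul_iff_algebraMap_injective,
      IsScalarTower.algebraMap_eq (A ⧸ p) (FractionRing (A ⧸ p)) K', RingHom.coe_comp]
    exact (algebraMap (FractionRing (A ⧸ p)) K').injective.comp
      (IsFractionRing.injective (A ⧸ p) (FractionRing (A ⧸ p)))
  haveI : IsNoetherianRing B' := Algebra.FiniteType.isNoetherianRing (A ⧸ p) B'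
  have hN1 : CAlg.IsN1 B' := N1Criterion.isN1_of_away_of_atPrime B' f hf0 hAf
    (fun m' _ => isN1_atPrime_of_local p h1 K' B' m')
  have h3 : Module.Finite B' (integralClosure B' K') := by
    unfold CAlg.IsN1 at hN1
    haveI := hN1
    exact Module.Finite.equiv ((FractionRing.algEquiv B' K').mapIntegralClosure).toLinearEquiv
  exact finite_integralClosure_of_subalgebra (A ⧸ p) K' B' h3

/-- quotients of the localizations of a Nagata ring are N-2 -/
theorem isN2_quotient_localization_of_isNagata {A : Type u} [CommRing A]
    (hN : CAlg.IsNagata A) (m : Ideal A) [m.IsPrime] (P : Ideal (Localization.AtPrime m))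
    [P.IsPrime] : CAlg.IsN2 (Localization.AtPrime m ⧸ P) := by
  have key : ∀ (Q : Ideal (Localization.AtPrime m)),
      Q = (P.comap (algebraMap A (Localization.AtPrime m))).map
        (algebraMap A (Localization.AtPrime m)) →
      ∀ [Q.IsPrime], CAlg.IsN2 (Localization.AtPrime m ⧸ Q) := by
    intro Q hQ
    subst hQ
    intro _
    exact Groth.Agent.S9392.result (A ⧸ P.comap (algebraMap A (Localization.AtPrime m)))
      (Algebra.algebraMapSubmonoid (A ⧸ P.comap (algebraMap A (Localization.AtPrime m)))
        m.primeCompl) _ (hN.2 _)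
  exact key P (IsLocalization.map_comap m.primeCompl _ P).symm

/-- generic normality of finite subalgebras over a Nagata ring -/
theorem exists_isIntegrallyClosed_away_of_isNagata {A : Type u} [CommRing A]
    (hN : CAlg.IsNagata A) (p : Ideal A) [p.IsPrime] (K' : Type u) [Field K']
    [Algebra (A ⧸ p) K'] [Algebra (FractionRing (A ⧸ p)) K']
    [IsScalarTower (A ⧸ p) (FractionRing (A ⧸ p)) K']
    [FiniteDimensional (FractionRing (A ⧸ p)) K']
    (B' : Subalgebra (A ⧸ p) K') (hfin : Module.Finite (A ⧸ p) B')
    (hfrac : IsFractionRing B' K') :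
    ∃ f : B', f ≠ 0 ∧ IsIntegrallyClosed (Localization.Away f) := by
  haveI := hfin
  haveI := hfrac
  have h0 : Module.Finite (A ⧸ p) (integralClosure (A ⧸ p) K') := hN.2 p K' inferInstance
  have h1 : Module.Finite B' (integralClosure B' K') :=
    finite_integralClosure_subalgebra (A ⧸ p) K' B' h0
  obtain ⟨f, hf0, hf⟩ := NormalLocus.exists_common_denominator B' K' h1
  exact ⟨f, hf0, N1Criterion.isIntegrallyClosed_away_of_common_denominator f hf0 hf⟩

end Groth.Agent.Lib.Helper13.NagataLocal
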