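import Groth.Agent.Lib.Helper13.NormFactorAlg
import Groth.Agent.Lib.Helper13.NormIso

/-!
# Morphisms from normal schemes factor through the normalization

`X` integral, `t : T ⟶ X` with `T` normal (all stalks integrally closed domains) and such that every
point of `T` has a generization mapping to the generic point of `X`.  Then `t` factors uniquely
through the normalization `X' → X` (in the function field).
-/

set_option autoImplicit false
universe u
open CategoryTheory AlgebraicGeometry CategoryTheory.Limits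
open Groth.Agent.Lib.Helper13.Normalization Groth.Agent.Lib.Helper13.NormDimOne
open Groth.Agent.Lib.Helper13.NormFactorAlg

namespace Groth.Agent.Lib.Helper13.NormFactor

/-- `t : T ⟶ X` is good: `T` is normal and every point has a generization over the generic point -/
def Good {X T : Scheme.{u}} [IsIntegral X] (t : T ⟶ X) : Prop :=
  (∀ τ : T, IsDomain (T.presheaf.stalk τ) ∧ IsIntegrallyClosed (T.presheaf.stalk τ)) ∧
  ∀ τ : T, ∃ ξ : T, ξ ⤳ τ ∧ t ξ = genericPoint X

theorem Good.comp_openImmersion {X T N : Scheme.{u}} [IsIntegral X] {t : T ⟶ X} (ht : Good t)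
    (ι : N ⟶ T) [IsOpenImmersion ι] : Good (ι ≫ t) := by
  refine ⟨fun n => ?_, fun n => ?_⟩
  · obtain ⟨hd, hic⟩ := ht.1 (ι n)
    let eq := (asIso (ι.stalkMap n)).commRingCatIsoToRingEquiv
    exact ⟨eq.symm.toMulEquiv.isDomain _, IsIntegrallyClosed.of_equiv eq⟩
  · obtain ⟨ξ, hξ, hξη⟩ := ht.2 (ι n)
    have hmem : ξ ∈ Set.range ι := hξ.mem_open ι.isOpenEmbedding.isOpen_range ⟨n, rfl⟩
    obtain ⟨ξ', rfl⟩ := hmem
    exact ⟨ξ', ι.isOpenEmbedding.isInducing.specializes_iff.mp hξ, hξη⟩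

theorem Good.germ_appLE_ne_zero {X T : Scheme.{u}} [IsIntegral X] {t : T ⟶ X} (ht : Good t)
    {U : X.Opens} {W : T.Opens} (e : W ≤ t ⁻¹ᵁ U) (τ : T) (hτ : τ ∈ W) (b : Γ(X, U)) (hb : b ≠ 0) :
    T.presheaf.germ W τ hτ (t.appLE U W e b) ≠ 0 := by
  obtain ⟨ξ, hξ, hξη⟩ := ht.2 τ
  have hξW : ξ ∈ W := hξ.mem_open W.isOpen hτ
  have hηb : genericPoint X ∈ X.basicOpen b := by
    refine ((genericPoint_spec X).mem_open_set_iff (X.basicOpen b).isOpen).mpr ?_
    have : X.basicOpen b ≠ ⊥ := fun h => hb ((basicOpen_eq_bot_iff b).mp h)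
    obtain ⟨x, hx⟩ := (TopologicalSpace.Opens.ne_bot_iff_nonempty _).mp this
    exact ⟨x, Set.mem_univ _, hx⟩
  have hξb : ξ ∈ T.basicOpen (t.appLE U W e b) := by
    rw [Scheme.Hom.appLE, CommRingCat.comp_apply, Scheme.basicOpen_res]
    refine ⟨hξW, ?_⟩
    rw [← Scheme.Hom.preimage_basicOpen]
    show t ξ ∈ X.basicOpen b
    rw [hξη]; exact hηb
  have hunit : IsUnit (T.presheaf.germ W ξ hξW (t.appLE U W e b)) :=
    (Scheme.mem_basicOpen _ _ _ hξW).mp hξb
  intro h0
  have h1 := congr($(T.presheaf.germ_stalkSpecializes hτ hξ) (t.appLE U W e b))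
  rw [CommRingCat.comp_apply, h0, map_zero] at h1
  rw [← h1] at hunit
  exact not_isUnit_zero hunit

theorem locNormal_sections {X T : Scheme.{u}} [IsIntegral X] {t : T ⟶ X} (ht : Good t)
    {U : X.Opens} {W : T.Opens} (hW : IsAffineOpen W) (e : W ≤ t ⁻¹ᵁ U) :
    LocNormal Γ(T, W) (imageNonzero (t.appLE U W e).hom) := by
  intro q hq
  have hτ : hW.fromSpec ⟨q, hq⟩ ∈ W := (hW.isoSpec.inv _).2
  refine ⟨T.presheaf.stalk (hW.fromSpec ⟨q, hq⟩), inferInstance,
    TopCat.Presheaf.algebra_section_stalk T.presheaf ⟨_, hτ⟩,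
    hW.isLocalization_stalk' ⟨q, hq⟩ hτ, (ht.1 _).1, (ht.1 _).2, ?_⟩
  rintro _ ⟨b, hb, rfl⟩
  exact ht.germ_appLE_ne_zero e _ hτ b hb

section
variable (X : Scheme.{u}) [IsIntegral X]
  [QuasiCompact (X.fromSpecStalk (genericPoint X))] [QuasiSeparated (X.fromSpecStalk (genericPoint X))]

set_option quotPrecheck false in
local notation "X'" => (Scheme.Hom.normalization (X.fromSpecStalk (genericPoint X)))
set_option quotPrecheck false in
local notation "ν" => (Scheme.Hom.fromNormalization (X.fromSpecStalk (genericPoint X)))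

theorem existsUnique_sections {T : Scheme.{u}} {t : T ⟶ X} (ht : Good t)
    {U : X.Opens} (hU : IsAffineOpen U) [Nonempty U]
    {W : T.Opens} (hW : IsAffineOpen W) (e : W ≤ t ⁻¹ᵁ U) :
    ∃! ψ : Γ(X', ν ⁻¹ᵁ U) →+* Γ(T, W), ψ.comp ((ν).app U).hom = (t.appLE U W e).hom := by
  haveI : IsDomain Γ(X, U) := IsIntegral.component_integral U
  haveI := functionField_isFractionRing_of_isAffineOpen X U hU
  obtain ⟨es, hes⟩ := exists_sectionsEquiv X hU
  have hinjA : Function.Injective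
      (algebraMap Γ(X, U) (integralClosure Γ(X, U) X.functionField)) := by
    intro a b hab
    exact IsFractionRing.injective Γ(X, U) X.functionField (congrArg Subtype.val hab)
  apply existsUnique_ringHom
  · intro a b hab
    apply hinjA
    rw [← hes, ← hes]
    exact congrArg es hab
  · exact IsIntegralHom.isIntegral_app ν U hU
  · intro a'
    obtain ⟨⟨a, b⟩, hab⟩ := IsLocalization.surj (nonZeroDivisors Γ(X, U))
      ((es a').1 : X.functionField)
    refine ⟨b.1, a, nonZeroDivisors.ne_zero b.2, ?_⟩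
    apply es.injective
    rw [map_mul]
    erw [hes, hes]
    apply Subtype.ext
    rw [mul_comm]
    exact hab
  · exact locNormal_sections ht hW e

theorem existsUnique_lift_affine {T : Scheme.{u}} [IsAffine T] {t : T ⟶ X} (ht : Good t)
    {U : X.Opens} (hU : IsAffineOpen U) (htU : ∀ τ, t τ ∈ U) :
    ∃! h : T ⟶ X', h ≫ ν = t := by
  rcases isEmpty_or_nonempty T with hemp | hne
  · exact ⟨isInitialOfIsEmpty.to _, isInitialOfIsEmpty.hom_ext _ _,
      fun _ _ => isInitialOfIsEmpty.hom_ext _ _⟩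
  obtain ⟨τ₀⟩ := hne
  haveI : Nonempty U := ⟨⟨t τ₀, htU τ₀⟩⟩
  have e : (⊤ : T.Opens) ≤ t ⁻¹ᵁ U := fun τ _ => htU τ
  have hU' : IsAffineOpen (ν ⁻¹ᵁ U) := hU.preimage ν
  have hT := isAffineOpen_top T
  obtain ⟨ψ, hψ, hψu⟩ := existsUnique_sections X ht hU hT e
  refine ⟨T.isoSpec.hom ≫ Spec.map (CommRingCat.ofHom ψ) ≫ hU'.fromSpec, ?_, ?_⟩
  · have h1 := IsAffineOpen.SpecMap_appLE_fromSpec ν hU hU' le_rfl
    have h2 := IsAffineOpen.SpecMap_appLE_fromSpec t hU hT e
    show (T.isoSpec.hom ≫ Spec.map (CommRingCat.ofHom ψ) ≫ hU'.fromSpec) ≫ ν = t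
    rw [Category.assoc, Category.assoc, ← h1, ← Spec.map_comp_assoc]
    have h3 : (ν).appLE U (ν ⁻¹ᵁ U) le_rfl ≫ CommRingCat.ofHom ψ = t.appLE U ⊤ e := by
      ext1
      rw [← hψ, ← Scheme.Hom.app_eq_appLE]
      rfl
    rw [h3, h2, IsAffineOpen.fromSpec_top, Iso.hom_inv_id_assoc]
  · intro h' hh'
    replace hh' : h' ≫ ν = t := hh'
    have e' : (⊤ : T.Opens) ≤ h' ⁻¹ᵁ (ν ⁻¹ᵁ U) := fun τ _ => by
      show ν (h' τ) ∈ U
      rw [← Scheme.Hom.comp_apply, hh']; exact htU τ
    have h4 := IsAffineOpen.SpecMap_appLE_fromSpec h' hU' hT e'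
    have h5 : (h'.appLE (ν ⁻¹ᵁ U) ⊤ e').hom = ψ := by
      apply hψu
      rw [← CommRingCat.hom_comp]
      congr 1
      rw [Scheme.Hom.app_eq_appLE, Scheme.Hom.appLE_comp_appLE]
      subst hh'; rfl
    rw [IsAffineOpen.fromSpec_top] at h4
    rw [← h5, CommRingCat.ofHom_hom, h4, Iso.hom_inv_id_assoc]

/-- the cover of `T` by affine opens mapping into affine opens of `X` -/
noncomputable def cover {T : Scheme.{u}} (t : T ⟶ X) : T.OpenCover :=
  T.openCoverOfIsOpenCover _ (T.isBasis_affineOpens.isOpenCover_mem_and_le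
    (X.isBasis_affineOpens.isOpenCover.comap t.base.hom))

theorem lift_unique {T : Scheme.{u}} {t : T ⟶ X} (ht : Good t) (h₁ h₂ : T ⟶ X')
    (e₁ : h₁ ≫ ν = t) (e₂ : h₂ ≫ ν = t) : h₁ = h₂ := by
  apply (cover X t).hom_ext
  intro i
  haveI : IsAffine ((cover X t).X i) := i.2.1
  have hgood := ht.comp_openImmersion ((cover X t).f i)
  obtain ⟨h, -, hu⟩ := existsUnique_lift_affine X hgood i.1.2.2 (fun τ => i.2.2 τ.2)
  have a₁ : ((cover X t).f i ≫ h₁) ≫ ν = (cover X t).f i ≫ t := by rw [Category.assoc, e₁]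
  have a₂ : ((cover X t).f i ≫ h₂) ≫ ν = (cover X t).f i ≫ t := by rw [Category.assoc, e₂]
  exact (hu _ a₁).trans (hu _ a₂).symm

theorem exists_lift {T : Scheme.{u}} {t : T ⟶ X} (ht : Good t) : ∃ h : T ⟶ X', h ≫ ν = t := by
  have key : ∀ i, ∃ h : (cover X t).X i ⟶ X', h ≫ ν = (cover X t).f i ≫ t := fun i => by
    haveI : IsAffine ((cover X t).X i) := i.2.1
    exact (existsUnique_lift_affine X (ht.comp_openImmersion ((cover X t).f i)) i.1.2.2
      (fun τ => i.2.2 τ.2)).exists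
  choose h hh using key
  have compat : ∀ i j, pullback.fst ((cover X t).f i) ((cover X t).f j) ≫ h i =
      pullback.snd _ _ ≫ h j := fun i j => by
    apply lift_unique X (t := pullback.fst ((cover X t).f i) ((cover X t).f j) ≫
      (cover X t).f i ≫ t)
    · rw [← Category.assoc]; exact ht.comp_openImmersion _
    · rw [Category.assoc, hh]
    · rw [Category.assoc, hh, pullback.condition_assoc]
  refine ⟨(cover X t).glueMorphisms h compat, ?_⟩
  apply (cover X t).hom_ext
  intro i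
  rw [← Category.assoc, (cover X t).ι_glueMorphisms, hh]

theorem existsUnique_lift {T : Scheme.{u}} {t : T ⟶ X} (ht : Good t) :
    ∃! h : T ⟶ X', h ≫ ν = t := by
  obtain ⟨h, hh⟩ := exists_lift X ht
  exact ⟨h, hh, fun h' hh' => lift_unique X ht h' h hh' hh⟩

/-- normal schemes all of whose components dominate `X` are good -/
theorem good_of_normal {T : Scheme.{u}} (t : T ⟶ X)
    (hT : ∀ τ : T, IsDomain (T.presheaf.stalk τ) ∧ IsIntegrallyClosed (T.presheaf.stalk τ))
    (hdom : ∀ z : T, closure {z} ∈ irreducibleComponents ↥T → t z = genericPoint ↥X) :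
    Good t := by
  refine ⟨hT, fun τ => ?_⟩
  obtain ⟨ξ, hξ⟩ := QuasiSober.sober (isIrreducible_irreducibleComponent (x := τ))
    isClosed_irreducibleComponent
  have hcl : closure {ξ} = irreducibleComponent τ := hξ
  refine ⟨ξ, ?_, hdom ξ ?_⟩
  · rw [specializes_iff_mem_closure, hcl]
    exact mem_irreducibleComponent
  · rw [hcl]
    exact irreducibleComponent_mem_irreducibleComponents τ

end

end Groth.Agent.Lib.Helper13.NormFactor
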