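import Mathlib

/-!
# Algebra for factoring through the normalization

* `mem_of_forall_maximal`: local-global principle for membership in an ideal.
* `exists_mul_eq_of_scaleRoots`: if all localizations of `C` at primes are integrally closed domains
  in which `b ≠ 0`, and `a / b` satisfies a monic equation (homogenised: `(p.scaleRoots b)(a) = 0`),
  then `b ∣ a`.
* `existsUnique_ringHom`: `A → A'` injective, integral and birational, `γ : A → C` with `C` as above
  and `γ b ≠ 0` in every localization for `b ≠ 0`; then `γ` extends uniquely to `A' → C`.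
-/

set_option autoImplicit false
universe u

namespace Groth.Agent.Lib.Helper13.NormFactorAlg

open Polynomial

theorem mem_of_forall_maximal {C : Type*} [CommRing C] (J : Ideal C) (a : C)
    (h : ∀ q : Ideal C, q.IsMaximal → ∃ s, s ∉ q ∧ s * a ∈ J) : a ∈ J := by
  by_contra ha
  have hI : J.colon {a} ≠ ⊤ := by
    intro hI
    have h1 : (1 : C) ∈ J.colon {a} := hI ▸ Submodule.mem_top
    rw [Submodule.mem_colon_singleton] at h1
    exact ha (by simpa using h1)
  obtain ⟨m, hm, hIm⟩ := Ideal.exists_le_maximal _ hI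
  obtain ⟨s, hs, hsa⟩ := h m hm
  exact hs (hIm (Submodule.mem_colon_singleton.mpr hsa))

/-- The local hypothesis: every localization at a prime is an integrally closed domain in which
the elements of `S` are nonzero. -/
def LocNormal (C : Type u) [CommRing C] (S : Set C) : Prop :=
  ∀ (q : Ideal C) [q.IsPrime], ∃ (L : Type u) (_ : CommRing L) (_ : Algebra C L),
    IsLocalization.AtPrime L q ∧ IsDomain L ∧ IsIntegrallyClosed L ∧
      ∀ b ∈ S, algebraMap C L b ≠ 0

theorem eq_zero_of_mul_eq_zero {C : Type u} [CommRing C] {S : Set C} (h : LocNormal C S)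
    {b c : C} (hb : b ∈ S) (hbc : b * c = 0) : c = 0 := by
  have : c ∈ (⊥ : Ideal C) := by
    apply mem_of_forall_maximal
    intro q hq
    have := hq.isPrime
    obtain ⟨L, _, _, hloc, hdom, -, hS⟩ := h q
    have h1 : algebraMap C L b * algebraMap C L c = 0 := by rw [← map_mul, hbc, map_zero]
    have h2 : algebraMap C L c = 0 := (mul_eq_zero.mp h1).resolve_left (hS b hb)
    obtain ⟨t, ht⟩ := (IsLocalization.map_eq_zero_iff q.primeCompl L c).mp h2
    exact ⟨t, t.2, by rw [Ideal.mem_bot]; exact ht⟩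
  simpa using this

theorem exists_mul_eq_of_scaleRoots {C : Type u} [CommRing C] {S : Set C} (h : LocNormal C S)
    (a b : C) (hb : b ∈ S) (p : C[X]) (hp : p.Monic) (hpab : (p.scaleRoots b).eval a = 0) :
    ∃ c, a = b * c := by
  have key : a ∈ Ideal.span {b} := by
    apply mem_of_forall_maximal
    intro q hq
    have := hq.isPrime
    obtain ⟨L, _, _, hloc, hdom, hic, hS⟩ := h q
    have hbL := hS b hb
    let F := FractionRing L
    let f : L →+* F := algebraMap L F
    let g : C →+* L := algebraMap C L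
    have hbF : f (g b) ≠ 0 := (map_ne_zero_iff _ (IsFractionRing.injective L F)).mpr hbL
    have hint : IsIntegral L (f (g a) / f (g b)) := by
      refine ⟨p.map g, hp.map _, ?_⟩
      have h1 := Polynomial.scaleRoots_eval₂_mul (p := p.map g) f (f (g a) / f (g b)) (g b)
      rw [mul_div_cancel₀ _ hbF] at h1
      have h2 : eval₂ f (f (g a)) ((p.map g).scaleRoots (g b)) = 0 := by
        rw [← Polynomial.map_scaleRoots p b g (by rw [hp.leadingCoeff, map_one]; exact one_ne_zero),
          Polynomial.eval₂_map, ← RingHom.comp_apply, Polynomial.eval₂_at_apply, hpab, map_zero]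
      rw [h2] at h1
      exact (mul_eq_zero.mp h1.symm).resolve_left (pow_ne_zero _ hbF)
    obtain ⟨y, hy⟩ := IsIntegrallyClosed.isIntegral_iff.mp hint
    have hy' : g a = g b * y := by
      apply IsFractionRing.injective L F
      rw [map_mul]
      show f (g a) = f (g b) * f y
      have : f y = f (g a) / f (g b) := hy
      rw [this, mul_div_cancel₀ _ hbF]
    obtain ⟨⟨c, s⟩, rfl⟩ := IsLocalization.mk'_surjective q.primeCompl y
    have h3 : g (a * s) = g (b * c) := by
      rw [map_mul, map_mul, hy', mul_assoc]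
      congr 1
      exact IsLocalization.mk'_spec L c s
    obtain ⟨t, ht⟩ := (IsLocalization.eq_iff_exists q.primeCompl L).mp h3
    refine ⟨t * s, (q.primeCompl.mul_mem t.2 s.2), ?_⟩
    rw [Ideal.mem_span_singleton']
    exact ⟨t * c, by linear_combination -ht⟩
  obtain ⟨c, hc⟩ := Ideal.mem_span_singleton'.mp key
  exact ⟨c, by rw [← hc, mul_comm]⟩

/-- the set of images of nonzero elements -/
def imageNonzero {A C : Type*} [CommRing A] [CommRing C] (γ : A →+* C) : Set C :=
  {c | ∃ b : A, b ≠ 0 ∧ γ b = c}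

section
variable {A A' C : Type u} [CommRing A] [IsDomain A] [CommRing A'] [CommRing C]
  (α : A →+* A') (γ : A →+* C)

/-- the relation defining the extension -/
def Rel (a' : A') (c : C) : Prop :=
  ∃ b a : A, b ≠ 0 ∧ α b * a' = α a ∧ γ b * c = γ a

variable {α γ}

theorem Rel.unique (hα : Function.Injective α) (hC : LocNormal C (imageNonzero γ))
    {a' : A'} {c₁ c₂ : C} (h₁ : Rel α γ a' c₁) (h₂ : Rel α γ a' c₂) : c₁ = c₂ := by
  obtain ⟨b₁, a₁, hb₁, h1, h1'⟩ := h₁
  obtain ⟨b₂, a₂, hb₂, h2, h2'⟩ := h₂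
  have e1 : b₂ * a₁ = b₁ * a₂ := by
    apply hα
    rw [map_mul, map_mul, ← h1, ← h2]; ring
  have e2 : γ b₂ * γ a₁ = γ b₁ * γ a₂ := by rw [← map_mul, ← map_mul, e1]
  have e3 : γ (b₁ * b₂) * (c₁ - c₂) = 0 := by
    rw [map_mul]
    linear_combination (γ b₂) * h1' - (γ b₁) * h2' + e2
  have := eq_zero_of_mul_eq_zero hC ⟨b₁ * b₂, mul_ne_zero hb₁ hb₂, rfl⟩ e3
  exact sub_eq_zero.mp this

theorem Rel.exists (hα : Function.Injective α) (hint : α.IsIntegral)
    (hbir : ∀ a' : A', ∃ b a : A, b ≠ 0 ∧ α b * a' = α a)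
    (hC : LocNormal C (imageNonzero γ)) (a' : A') : ∃ c, Rel α γ a' c := by
  obtain ⟨b, a, hb, hba⟩ := hbir a'
  rcases subsingleton_or_nontrivial C with hsub | hnt
  · exact ⟨0, b, a, hb, hba, Subsingleton.elim _ _⟩
  obtain ⟨p, hp, hpa⟩ := hint a'
  have h1 : (p.scaleRoots b).eval a = 0 := by
    apply hα
    rw [← Polynomial.eval₂_at_apply, ← hba, Polynomial.scaleRoots_eval₂_mul, hpa, mul_zero,
      map_zero]
  have h2 : ((p.map γ).scaleRoots (γ b)).eval (γ a) = 0 := by
    rw [← Polynomial.map_scaleRoots p b γ (by rw [hp.leadingCoeff, map_one]; exact one_ne_zero),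
      Polynomial.eval_map, Polynomial.eval₂_at_apply, h1, map_zero]
  obtain ⟨c, hc⟩ := exists_mul_eq_of_scaleRoots hC (γ a) (γ b) ⟨b, hb, rfl⟩ (p.map γ) (hp.map _) h2
  exact ⟨c, b, a, hb, hba, hc.symm⟩

theorem existsUnique_ringHom (hα : Function.Injective α) (hint : α.IsIntegral)
    (hbir : ∀ a' : A', ∃ b a : A, b ≠ 0 ∧ α b * a' = α a)
    (hC : LocNormal C (imageNonzero γ)) :
    ∃! ψ : A' →+* C, ψ.comp α = γ := by
  choose ψ hψ using Rel.exists hα hint hbir hC
  have huniq : ∀ a' c, Rel α γ a' c → ψ a' = c := fun a' c h => Rel.unique hα hC (hψ a') h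
  let Ψ : A' →+* C :=
    { toFun := ψ
      map_one' := huniq _ _ ⟨1, 1, one_ne_zero, by simp, by simp⟩
      map_mul' := fun x y => by
        obtain ⟨b₁, a₁, hb₁, h1, h1'⟩ := hψ x
        obtain ⟨b₂, a₂, hb₂, h2, h2'⟩ := hψ y
        refine huniq _ _ ⟨b₁ * b₂, a₁ * a₂, mul_ne_zero hb₁ hb₂, ?_, ?_⟩
        · rw [map_mul, map_mul, ← h1, ← h2]; ring
        · rw [map_mul, map_mul, ← h1', ← h2']; ring
      map_zero' := huniq _ _ ⟨1, 0, one_ne_zero, by simp, by simp⟩
      map_add' := fun x y => by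
        obtain ⟨b₁, a₁, hb₁, h1, h1'⟩ := hψ x
        obtain ⟨b₂, a₂, hb₂, h2, h2'⟩ := hψ y
        refine huniq _ _ ⟨b₁ * b₂, b₂ * a₁ + b₁ * a₂, mul_ne_zero hb₁ hb₂, ?_, ?_⟩
        · simp only [map_mul, map_add, ← h1, ← h2]; ring
        · simp only [map_mul, map_add, ← h1', ← h2']; ring }
  refine ⟨Ψ, ?_, ?_⟩
  · ext a₀
    exact huniq _ _ ⟨1, a₀, one_ne_zero, by simp, by simp⟩
  · intro ψ' hψ'
    ext a'
    symm
    obtain ⟨b, a, hb, hba⟩ := hbir a'
    refine huniq _ _ ⟨b, a, hb, hba, ?_⟩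
    have h := congrArg ψ' hba
    rw [map_mul] at h
    have e : ∀ x, ψ' (α x) = γ x := fun x => congr($hψ' x)
    rw [e, e] at h
    exact h
end

end Groth.Agent.Lib.Helper13.NormFactorAlg
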