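import Groth.Agent.Lib.Helper13.NormFT

/-!
# Normalization of an integral scheme in a finite extension of its function field
-/

set_option autoImplicit false
set_option linter.style.haveILetI false
universe u
noncomputable section

open CategoryTheory AlgebraicGeometry
open Groth.Agent.Lib.Helper13.Normalization

namespace Groth.Agent.Lib.Helper13.NormField

/-- integral ring extensions of domains preserve height one -/
theorem height_eq_one_of_comap {A C : Type*} [CommRing A] [IsDomain A] [CommRing C] [IsDomain C]
    [Algebra A C] [Algebra.IsIntegral A C] (hinj : Function.Injective (algebraMap A C))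
    (P : Ideal C) [P.IsPrime] (h : (P.comap (algebraMap A C)).height = 1) : P.height = 1 := by
  apply le_antisymm
  · rw [show (1 : ℕ∞) = ((1 : ℕ) : ℕ∞) from rfl, Ideal.height_le_iff]
    intro Q hQ hQP
    have h1 : Q.comap (algebraMap A C) < P.comap (algebraMap A C) :=
      Ideal.IsIntegral.comap_lt_comap hQP
    haveI : (P.comap (algebraMap A C)).FiniteHeight :=
      ⟨Or.inr (by rw [h]; exact ENat.one_ne_top)⟩
    have h2 := Ideal.height_strict_mono_of_isPrime_of_isPrime h1
    rw [h] at h2
    have h3 : (Q.comap (algebraMap A C)).height = 0 := ENat.lt_one_iff_eq_zero.mp h2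
    rw [Ideal.height_eq_zero_iff_eq_bot] at h3
    have h4 : Q = ⊥ := Ideal.IsIntegral.eq_bot_of_comap_eq_bot A h3
    rw [h4, Ideal.height_bot]
    exact zero_lt_one
  · rw [ENat.one_le_iff_ne_zero, Ne, Ideal.height_eq_zero_iff_eq_bot]
    rintro rfl
    have h5 : (⊥ : Ideal C).comap (algebraMap A C) = ⊥ := by
      rw [← RingHom.ker_eq_comap_bot]
      exact (RingHom.injective_iff_ker_eq_bot _).mp hinj
    rw [h5, Ideal.height_bot] at h
    exact zero_ne_one h

section
variable (X : Scheme.{u}) [IsIntegral X] (K : Type u) [Field K]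
  (φ : X.functionField →+* K) (g : Spec (CommRingCat.of K) ⟶ X)
  (hg : g = Spec.map (CommRingCat.ofHom φ) ≫ X.fromSpecStalk (genericPoint X))

include hg in
theorem hgη : ∀ pt, g pt = genericPoint X := fun pt => by
  rw [hg]; exact comp_fromSpecStalk_apply X K φ pt

include hg in
theorem sectionsEquiv_app {U : X.Opens} (hηU : genericPoint X ∈ U) (a : Γ(X, U)) :
    sectionsEquiv g (hgη X K φ g hg) hηU (g.app U a) =
      φ (X.presheaf.germ U (genericPoint X) hηU a) := by
  have hU' : g (IsLocalRing.closedPoint K) ∈ U :=
    Set.mem_of_eq_of_mem (hgη X K φ g hg _) hηU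
  have h1 := Scheme.germ_stalkClosedPointTo g U hU'
  have h2 : X.presheaf.germ U _ hU' ≫ Scheme.stalkClosedPointTo g =
      X.presheaf.germ U (genericPoint X) hηU ≫ CommRingCat.ofHom φ := by
    subst hg
    exact Scheme.germ_stalkClosedPointTo_Spec_fromSpecStalk (CommRingCat.ofHom φ) U hU'
  have h3 := h1.symm.trans h2
  exact congr(($h3).hom a)

variable [QuasiCompact g] [QuasiSeparated g]

include hg in
theorem exists_sectionsEquiv {U : X.Opens} (hU : IsAffineOpen U) (hηU : genericPoint X ∈ U) :
    letI := (φ.comp (X.presheaf.germ U (genericPoint X) hηU).hom).toAlgebra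
    ∃ e : Γ(g.normalization, g.fromNormalization ⁻¹ᵁ U) ≃+* integralClosure Γ(X, U) K,
      ∀ a : Γ(X, U), e (g.fromNormalization.app U a) =
        algebraMap Γ(X, U) (integralClosure Γ(X, U) K) a := by
  letI := (φ.comp (X.presheaf.germ U (genericPoint X) hηU).hom).toAlgebra
  letI := (g.app U).hom.toAlgebra
  let θ := sectionsEquiv g (hgη X K φ g hg) hηU
  let θalg : Γ(Spec (CommRingCat.of K), g ⁻¹ᵁ U) ≃ₐ[Γ(X, U)] K :=
    AlgEquiv.ofRingEquiv (f := θ) (fun a => sectionsEquiv_app X K φ g hg hηU a)
  let e₁ := (g.normalizationObjIso hU).commRingCatIsoToRingEquiv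
  refine ⟨e₁.trans θalg.mapIntegralClosure.toRingEquiv, fun a => ?_⟩
  have h1 : e₁ (g.fromNormalization.app U a) = algebraMap Γ(X, U) _ a := by
    rw [g.fromNormalization_app hU]
    exact congr($((g.normalizationObjIso hU).inv_hom_id) (algebraMap Γ(X, U) _ a))
  simp only [RingEquiv.trans_apply, h1]
  exact θalg.mapIntegralClosure.commutes a

end


section finite
variable (k : Type u) [Field k] (X : Scheme.{u}) [IsIntegral X]
  (s : X ⟶ Spec (CommRingCat.of k)) [LocallyOfFiniteType s]
  (K : Type u) [Field K]
  (φ : X.functionField →+* K) (hφ : φ.Finite) (g : Spec (CommRingCat.of K) ⟶ X)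
  (hg : g = Spec.map (CommRingCat.ofHom φ) ≫ X.fromSpecStalk (genericPoint X))
  [QuasiCompact g] [QuasiSeparated g]

include s hφ hg in
/-- the normalization of an integral scheme locally of finite type over a field in a finite
extension of its function field is finite -/
theorem isFinite_fromNormalization : IsFinite g.fromNormalization := by
  haveI : IsIntegralHom g.fromNormalization := inferInstance
  refine { finite_app := fun U hU => ?_ }
  by_cases hne : Nonempty U
  · haveI := hne
    have hηU : genericPoint X ∈ U :=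
      ((genericPoint_spec X).mem_open_set_iff U.isOpen).mpr
        (by obtain ⟨x⟩ := hne; exact ⟨x.1, Set.mem_univ _, x.2⟩)
    haveI : IsDomain Γ(X, U) := IsIntegral.component_integral U
    obtain ⟨_, hft⟩ := NormFT.exists_algebra_finiteType k s hU
    haveI hfr := functionField_isFractionRing_of_isAffineOpen X U hU
    letI : Algebra X.functionField K := φ.toAlgebra
    haveI : FiniteDimensional X.functionField K := hφ
    letI : Algebra Γ(X, U) K := (φ.comp (X.presheaf.germ U (genericPoint X) hηU).hom).toAlgebra
    haveI : IsScalarTower Γ(X, U) X.functionField K := .of_algebraMap_eq (fun a => rfl)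
    have hfin : Module.Finite Γ(X, U) (integralClosure Γ(X, U) K) :=
      Japanese.finite_integralClosure_of_finiteType k Γ(X, U) X.functionField K
    obtain ⟨e, he⟩ := exists_sectionsEquiv X K φ g hg hU hηU
    have h1 : (e.symm.toRingHom.comp (algebraMap Γ(X, U) (integralClosure Γ(X, U) K))).Finite :=
      RingHom.Finite.comp (RingHom.Finite.of_surjective _ e.symm.surjective)
        (RingHom.finite_algebraMap.mpr hfin)
    have h2 : e.symm.toRingHom.comp (algebraMap Γ(X, U) (integralClosure Γ(X, U) K)) =
        (g.fromNormalization.app U).hom := by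
      ext a
      rw [RingHom.comp_apply, ← he a]
      exact e.symm_apply_apply _
    rw [h2] at h1
    exact h1
  · have hU0 : U = ⊥ := by
      ext x
      simp only [TopologicalSpace.Opens.coe_bot, Set.mem_empty_iff_false, iff_false]
      exact fun hx => hne ⟨⟨x, hx⟩⟩
    subst hU0
    letI := (g.fromNormalization.app ⊥).hom.toAlgebra
    haveI : Subsingleton Γ(g.normalization, g.fromNormalization ⁻¹ᵁ ⊥) := by
      rw [Scheme.Hom.preimage_bot]
      infer_instance
    show Module.Finite _ _
    infer_instance

end finite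

section dim
variable (X : Scheme.{u}) [IsIntegral X] (K : Type u) [Field K]
  (φ : X.functionField →+* K) (g : Spec (CommRingCat.of K) ⟶ X)
  (hg : g = Spec.map (CommRingCat.ofHom φ) ≫ X.fromSpecStalk (genericPoint X))
  [QuasiCompact g] [QuasiSeparated g]

include hg in
/-- closed points of the normalization have one-dimensional local rings when those of `X` do -/
theorem ringKrullDim_stalk_eq_one
    (hX : ∀ x : X, IsClosed ({x} : Set X) → ringKrullDim (X.presheaf.stalk x) = 1)
    (x' : g.normalization) (hx' : IsClosed ({x'} : Set g.normalization)) :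
    ringKrullDim (g.normalization.presheaf.stalk x') = 1 := by
  have hK : IsField (CommRingCat.of K) := Field.toIsField K
  haveI := isIntegral_Spec hK
  have hxcl : IsClosed ({g.fromNormalization x'} : Set X) := by
    have := g.fromNormalization.isClosedMap _ hx'
    rwa [Set.image_singleton] at this
  obtain ⟨_, ⟨U, hU, rfl⟩, hxU, -⟩ := X.isBasis_affineOpens.exists_subset_of_mem_open
    (Set.mem_univ (g.fromNormalization x')) isOpen_univ
  have hηU : genericPoint X ∈ U :=
    ((genericPoint_spec X).mem_open_set_iff U.isOpen).mpr ⟨_, Set.mem_univ _, hxU⟩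
  have hV : IsAffineOpen (g.fromNormalization ⁻¹ᵁ U) := hU.preimage _
  have hx'V : x' ∈ g.fromNormalization ⁻¹ᵁ U := hxU
  haveI : Nonempty U := ⟨⟨_, hxU⟩⟩
  haveI : Nonempty (g.fromNormalization ⁻¹ᵁ U : g.normalization.Opens) := ⟨⟨_, hx'V⟩⟩
  haveI : IsDomain Γ(X, U) := IsIntegral.component_integral U
  haveI : IsDomain Γ(g.normalization, g.fromNormalization ⁻¹ᵁ U) :=
    IsIntegral.component_integral _
  letI : Algebra Γ(X, U) Γ(g.normalization, g.fromNormalization ⁻¹ᵁ U) :=
    (g.fromNormalization.app U).hom.toAlgebra
  haveI : Algebra.IsIntegral Γ(X, U) Γ(g.normalization, g.fromNormalization ⁻¹ᵁ U) :=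
    ⟨g.fromNormalization.isIntegral_app U hU⟩
  have hinj : Function.Injective
      (algebraMap Γ(X, U) Γ(g.normalization, g.fromNormalization ⁻¹ᵁ U)) := by
    obtain ⟨e, he⟩ := exists_sectionsEquiv X K φ g hg hU hηU
    rw [injective_iff_map_eq_zero]
    intro a ha
    have h1 := he a
    have h2 : g.fromNormalization.app U a = 0 := ha
    rw [h2, map_zero] at h1
    have h3 := congrArg Subtype.val h1
    have h4 : φ (X.presheaf.germ U (genericPoint X) hηU a) = 0 := h3.symm
    rw [map_eq_zero] at h4
    exact (injective_iff_map_eq_zero _).mp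
      (germ_injective_of_isIntegral X (genericPoint X) hηU) a h4
  -- heights
  have hcomap : (hV.primeIdealOf ⟨x', hx'V⟩).asIdeal.comap (g.fromNormalization.app U).hom =
      (hU.primeIdealOf ⟨g.fromNormalization x', hxU⟩).asIdeal := by
    have h := IsAffineOpen.comap_primeIdealOf_appLE U hU _ hV le_rfl hx'V
      (f := g.fromNormalization)
    rw [← Scheme.Hom.app_eq_appLE] at h
    exact congrArg PrimeSpectrum.asIdeal h
  have hp1 : (hU.primeIdealOf ⟨g.fromNormalization x', hxU⟩).asIdeal.height = 1 := by
    letI := X.presheaf.algebra_section_stalk ⟨g.fromNormalization x', hxU⟩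
    haveI := hU.isLocalization_stalk ⟨g.fromNormalization x', hxU⟩
    have h1 := IsLocalization.AtPrime.ringKrullDim_eq_height
      (hU.primeIdealOf ⟨g.fromNormalization x', hxU⟩).asIdeal
      (X.presheaf.stalk (g.fromNormalization x'))
    rw [hX _ hxcl] at h1
    exact_mod_cast h1.symm
  have hP1 : (hV.primeIdealOf ⟨x', hx'V⟩).asIdeal.height = 1 := by
    apply height_eq_one_of_comap (A := Γ(X, U)) hinj
    rw [← hp1, ← hcomap]
    rfl
  letI := g.normalization.presheaf.algebra_section_stalk ⟨x', hx'V⟩
  haveI := hV.isLocalization_stalk ⟨x', hx'V⟩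
  rw [IsLocalization.AtPrime.ringKrullDim_eq_height (hV.primeIdealOf ⟨x', hx'V⟩).asIdeal
    (g.normalization.presheaf.stalk x'), hP1]
  rfl

end dim

end Groth.Agent.Lib.Helper13.NormField
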