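import Groth.Agent.Lib.Helper13.NagataFT2
import Groth.Agent.Lib.Helper13.NormNagata

/-!
# Relative normalization over a Nagata base: the case of finitely generated residue fields at
generic points (no finite type hypothesis)
-/

set_option autoImplicit false
set_option linter.style.haveILetI false
universe u
noncomputable section

open CategoryTheory AlgebraicGeometry

namespace Groth.Agent.Lib.Helper13.NormNagata3

/-- the residue field at a point of an affine open is generated by the coordinate ring -/
theorem exists_evaluation_eq {S : Scheme.{u}} {U : S.Opens} (hU : IsAffineOpen U) (y : S)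
    (hy : y ∈ U) (z : S.residueField y) :
    ∃ a s : Γ(S, U), (S.evaluation U y hy).hom s ≠ 0 ∧
      z * (S.evaluation U y hy).hom s = (S.evaluation U y hy).hom a := by
  obtain ⟨w, rfl⟩ := S.residue_surjective y z
  letI := S.presheaf.algebra_section_stalk ⟨y, hy⟩
  haveI := hU.isLocalization_stalk ⟨y, hy⟩
  obtain ⟨⟨a, s⟩, hws⟩ := IsLocalization.surj (hU.primeIdealOf ⟨y, hy⟩).asIdeal.primeCompl w
  have hunit : IsUnit (algebraMap Γ(S, U) (S.presheaf.stalk y) s.1) :=
    IsLocalization.map_units _ s
  refine ⟨a, s.1, ?_, ?_⟩
  · have h1 : IsUnit ((S.residue y).hom (algebraMap Γ(S, U) (S.presheaf.stalk y) s.1)) :=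
      hunit.map _
    exact h1.ne_zero
  · have h2 := congrArg (S.residue y).hom hws
    rw [map_mul] at h2
    exact h2

/-- reduction of finiteness of the relative normalization to finiteness of integral closures -/
theorem isFinite_fromNormalization_of_forall {X S : Scheme.{u}} (f : X ⟶ S) [QuasiCompact f]
    [QuasiSeparated f]
    (H : ∀ (U : S.Opens), IsAffineOpen U →
      letI := (f.app U).hom.toAlgebra
      Module.Finite Γ(S, U) (integralClosure Γ(S, U) Γ(X, f ⁻¹ᵁ U))) :
    IsFinite f.fromNormalization := by
  haveI : IsIntegralHom f.fromNormalization := inferInstance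
  refine { finite_app := fun U hU => ?_ }
  letI := (f.app U).hom.toAlgebra
  have hfin := H U hU
  rw [f.fromNormalization_app hU]
  have h1 : (algebraMap Γ(S, U) (integralClosure Γ(S, U) Γ(X, f ⁻¹ᵁ U))).Finite :=
    RingHom.finite_algebraMap.mpr hfin
  have h2 : ((f.normalizationObjIso hU).inv.hom).Finite :=
    RingHom.Finite.of_surjective _
      (ConcreteCategory.bijective_of_isIso (f.normalizationObjIso hU).inv).2
  exact h2.comp h1

/-- the generic points of irreducible components meeting a quasi-compact open are finite in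
number when the components are locally finite -/
theorem finite_genericPoints {X : Scheme.{u}} (V : X.Opens) (hV : IsCompact (V : Set X))
    (hfin : LocallyFinite (fun Z : ↥(irreducibleComponents ↥X) => (Z : Set ↥X))) :
    {η : X | η ∈ V ∧ closure {η} ∈ irreducibleComponents ↥X}.Finite := by
  have h1 := hfin.finite_nonempty_inter_compact hV
  have h2 : (Subtype.val '' {Z : ↥(irreducibleComponents ↥X) |
      ((Z : Set ↥X) ∩ (V : Set X)).Nonempty}).Finite := h1.image _
  refine Set.Finite.of_injOn (f := fun η : X => closure {η}) ?_ ?_ h2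
  · rintro η ⟨hηV, hη⟩
    exact ⟨⟨_, hη⟩, ⟨η, subset_closure rfl, hηV⟩, rfl⟩
  · rintro η _ η' _ h
    have h3 : IsGenericPoint η (closure {η'}) := h
    exact h3.eq (isGenericPoint_closure)

/-- a section of a reduced scheme vanishing at all generic points of irreducible components
is zero -/
theorem eq_zero_of_forall_evaluation {X : Scheme.{u}} [IsReduced X] (V : X.Opens) (b : Γ(X, V))
    (h : ∀ (η : X) (hη : η ∈ V), closure {η} ∈ irreducibleComponents ↥X →
      X.evaluation V η hη b = 0) : b = 0 := by
  rw [← basicOpen_eq_bot_iff]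
  by_contra hne
  rw [← TopologicalSpace.Opens.not_nonempty_iff_eq_bot, not_not] at hne
  obtain ⟨x, hx⟩ := hne
  have hirr : IsIrreducible (irreducibleComponent x) := isIrreducible_irreducibleComponent
  have hcl : IsClosed (irreducibleComponent x) := isClosed_irreducibleComponent
  have hgen := hirr.isGenericPoint_genericPoint hcl
  set η := hirr.genericPoint with hη
  have hspec : η ⤳ x := (isGenericPoint_iff_specializes.mp hgen x).mpr mem_irreducibleComponent
  have hηb : η ∈ X.basicOpen b := hspec.mem_open (X.basicOpen b).2 hx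
  have hηV : η ∈ V := X.basicOpen_le b hηb
  have hcomp : closure {η} ∈ irreducibleComponents ↥X := by
    rw [hgen.def]
    exact irreducibleComponent_mem_irreducibleComponents x
  have h0 := h η hηV hcomp
  rw [Scheme.evaluation_eq_zero_iff_notMem_basicOpen] at h0
  exact h0 hηb

/-- finiteness of the integral closure of a Nagata coordinate ring in the sections over the
preimage, under finitely generated residue fields at the generic points -/
theorem finite_integralClosure_app {X S : Scheme.{u}} (f : X ⟶ S) [QuasiCompact f] [IsReduced X]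
    {U : S.Opens} (hU : IsAffineOpen U) (hN : CAlg.IsNagata Γ(S, U))
    (hfin : LocallyFinite (fun Z : ↥(irreducibleComponents ↥X) => (Z : Set ↥X)))
    (hres : ∀ x : X, closure {x} ∈ irreducibleComponents ↥X →
      (f.residueFieldMap x).hom.EssFiniteType) :
    letI := (f.app U).hom.toAlgebra
    Module.Finite Γ(S, U) (integralClosure Γ(S, U) Γ(X, f ⁻¹ᵁ U)) := by
  letI := (f.app U).hom.toAlgebra
  haveI : IsNoetherianRing Γ(S, U) := hN.1
  have hcpt : IsCompact (f ⁻¹ᵁ U : Set X) :=
    quasiCompact_iff_forall_isAffineOpen.mp ‹_› U hU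
  have hGfin := finite_genericPoints (f ⁻¹ᵁ U) hcpt hfin
  set G : Set X := {η : X | η ∈ f ⁻¹ᵁ U ∧ closure {η} ∈ irreducibleComponents ↥X} with hG
  haveI : Finite G := hGfin.to_subtype
  letI alg : ∀ η : G, Algebra Γ(S, U) (X.residueField η.1) := fun η =>
    ((f.residueFieldMap η.1).hom.comp (S.evaluation U (f η.1) η.2.1).hom).toAlgebra
  have hfinη : ∀ η : G, Module.Finite Γ(S, U) (integralClosure Γ(S, U) (X.residueField η.1)) :=
    fun η => NagataFT2.finite_integralClosure_of_residue Γ(S, U) (S.residueField (f η.1))
      (X.residueField η.1) hN (S.evaluation U (f η.1) η.2.1).hom (f.residueFieldMap η.1).hom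
      (hres η.1 η.2.2) (exists_evaluation_eq hU (f η.1) η.2.1)
  haveI := hfinη
  haveI : Module.Finite Γ(S, U)
      (∀ η : G, integralClosure Γ(S, U) (X.residueField η.1)) := Module.Finite.pi
  haveI : IsNoetherian Γ(S, U) (∀ η : G, integralClosure Γ(S, U) (X.residueField η.1)) :=
    isNoetherian_of_isNoetherianRing_of_finite _ _
  let ρ : ∀ η : G, Γ(X, f ⁻¹ᵁ U) →ₐ[Γ(S, U)] X.residueField η.1 := fun η =>
    { (X.evaluation (f ⁻¹ᵁ U) η.1 η.2.1).hom with
      commutes' := fun a => by
        change (X.evaluation (f ⁻¹ᵁ U) η.1 η.2.1).hom ((f.app U).hom a) =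
          (f.residueFieldMap η.1).hom ((S.evaluation U (f η.1) η.2.1).hom a)
        exact (Scheme.evaluation_naturality_apply f η.1 η.2.1 a).symm }
  let Ψ : integralClosure Γ(S, U) Γ(X, f ⁻¹ᵁ U) →ₗ[Γ(S, U)]
      (∀ η : G, integralClosure Γ(S, U) (X.residueField η.1)) :=
    { toFun := fun x η => ⟨ρ η x.1, x.2.map (ρ η)⟩
      map_add' := fun x y => by
        funext η; apply Subtype.ext; exact map_add (ρ η) x.1 y.1
      map_smul' := fun a x => by
        funext η; apply Subtype.ext; exact map_smul (ρ η) a x.1 }
  refine Module.Finite.of_injective Ψ ?_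
  rw [← LinearMap.ker_eq_bot, LinearMap.ker_eq_bot']
  intro x hx
  apply Subtype.ext
  refine eq_zero_of_forall_evaluation (f ⁻¹ᵁ U) x.1 (fun η hηV hη => ?_)
  exact congrArg Subtype.val (congrFun hx ⟨η, hηV, hη⟩)

/-- **finiteness of the relative normalization over a Nagata base** for a quasi-compact
quasi-separated morphism from a reduced scheme with locally finitely many irreducible components
and finitely generated residue field extensions at the generic points -/
theorem isFinite_fromNormalization {X S : Scheme.{u}} (f : X ⟶ S)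
    [QuasiCompact f] [QuasiSeparated f] [IsReduced X]
    (hS : ∀ U : S.affineOpens, CAlg.IsNagata Γ(S, (U : S.Opens)))
    (hfin : LocallyFinite (fun Z : ↥(irreducibleComponents ↥X) => (Z : Set ↥X)))
    (hres : ∀ x : X, closure {x} ∈ irreducibleComponents ↥X →
      (f.residueFieldMap x).hom.EssFiniteType) :
    IsFinite f.fromNormalization :=
  isFinite_fromNormalization_of_forall f (fun U hU =>
    finite_integralClosure_app f hU (hS ⟨U, hU⟩) hfin hres)

end Groth.Agent.Lib.Helper13.NormNagata3
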