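
import Groth.Agent.Lib.Helper13.NormIso
import Groth.Agent.S8051
import Groth.Prelude.Def_Curv2

set_option autoImplicit false
universe u
open CategoryTheory AlgebraicGeometry TopologicalSpace

namespace Groth.Agent.Lib.Helper13.NormRedIso

/-- a morphism from a reduced scheme factors through the reduction of the target -/
theorem exists_lift_nilradical {W Y : Scheme.{u}} [IsReduced Y] (h : Y ⟶ W) :
    ∃ f : Y ⟶ W.nilradical.subscheme, f ≫ W.nilradical.subschemeι = h := by
  have hker : W.nilradical.subschemeι.ker ≤ h.ker := by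
    rw [Scheme.IdealSheafData.ker_subschemeι]
    exact Groth.Agent.S8051.nilradical_le_ker_of_isReduced h
  exact ⟨IsClosedImmersion.lift W.nilradical.subschemeι h hker, IsClosedImmersion.lift_fac _ _ _⟩

theorem subschemeι_nilradical_surjective (W : Scheme.{u}) :
    Function.Surjective W.nilradical.subschemeι := by
  intro w
  have : w ∈ Set.range W.nilradical.subschemeι := by
    rw [Scheme.IdealSheafData.range_subschemeι, Scheme.support_nilradical]
    trivial
  exact this

theorem isHomeomorph_subschemeι_nilradical (W : Scheme.{u}) :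
    IsHomeomorph W.nilradical.subschemeι :=
  isHomeomorph_iff_continuous_isClosedMap_bijective.mpr
    ⟨W.nilradical.subschemeι.continuous, W.nilradical.subschemeι.isClosedEmbedding.isClosedMap,
      W.nilradical.subschemeι.isClosedEmbedding.injective, subschemeι_nilradical_surjective W⟩

/-- **Lemma N**: an integral surjective morphism `h : Y ⟶ W` from an irreducible scheme with
normal local rings which is a closed immersion over a nonempty open of `W` identifies `Y` with the
normalization of `W_red`. -/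
theorem exists_iso_normalization_red {W Y : Scheme.{u}}
    [IsIntegral W.nilradical.subscheme]
    [QuasiCompact (W.nilradical.subscheme.fromSpecStalk (genericPoint W.nilradical.subscheme))]
    [QuasiSeparated (W.nilradical.subscheme.fromSpecStalk (genericPoint W.nilradical.subscheme))]
    (h : Y ⟶ W) [IsIntegralHom h] [Surjective h]
    (hn : ∀ y : Y, IsDomain (Y.presheaf.stalk y) ∧ IsIntegrallyClosed (Y.presheaf.stalk y))
    (U : W.Opens) (hU : (U : Set W).Nonempty) (hdense : Dense ((h ⁻¹ᵁ U : Y.Opens) : Set Y))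
    (hcl : IsClosedImmersion (h ∣_ U)) :
    ∃ e : Y ≅ Curv2.normalization W.nilradical.subscheme,
      e.hom ≫ Curv2.normalizationι W.nilradical.subscheme ≫ W.nilradical.subschemeι = h := by
  haveI : IsReduced Y := by
    haveI : ∀ y : Y, _root_.IsReduced (Y.presheaf.stalk y) := fun y => by
      haveI := (hn y).1; infer_instance
    exact isReduced_of_isReduced_stalk Y
  obtain ⟨f, hf⟩ := exists_lift_nilradical h
  haveI : IsIntegralHom (f ≫ W.nilradical.subschemeι) := by rw [hf]; infer_instance
  haveI : IsIntegralHom f := IsIntegralHom.of_comp f W.nilradical.subschemeι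
  have hιhomeo := isHomeomorph_subschemeι_nilradical W
  -- surjectivity of f
  have hfsurj : Function.Surjective f := by
    intro z
    obtain ⟨y, hy⟩ := (inferInstance : Surjective h).surj (W.nilradical.subschemeι z)
    refine ⟨y, hιhomeo.injective ?_⟩
    rw [← Scheme.Hom.comp_apply, hf, hy]
  have hU'ne : ((W.nilradical.subschemeι ⁻¹ᵁ U : W.nilradical.subscheme.Opens) :
      Set W.nilradical.subscheme).Nonempty := by
    obtain ⟨w, hw⟩ := hU
    obtain ⟨z, rfl⟩ := hιhomeo.surjective w
    exact ⟨z, hw⟩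
  have hU'dense : Dense ((W.nilradical.subschemeι ⁻¹ᵁ U : W.nilradical.subscheme.Opens) :
      Set W.nilradical.subscheme) :=
    (W.nilradical.subschemeι ⁻¹ᵁ U).isOpen.dense hU'ne
  have hfU' : Dense ((f ⁻¹ᵁ (W.nilradical.subschemeι ⁻¹ᵁ U) : Y.Opens) : Set Y) := by
    have : (f ⁻¹ᵁ (W.nilradical.subschemeι ⁻¹ᵁ U) : Y.Opens) = h ⁻¹ᵁ U := by
      rw [← Scheme.Hom.comp_preimage, hf]
    rw [this]
    exact hdense
  -- f restricted to U' is an iso
  have hcomp : (f ≫ W.nilradical.subschemeι) ∣_ U =
      f ∣_ (W.nilradical.subschemeι ⁻¹ᵁ U) ≫ W.nilradical.subschemeι ∣_ U :=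
    morphismRestrict_comp f W.nilradical.subschemeι U
  haveI : IsClosedImmersion (f ∣_ (W.nilradical.subschemeι ⁻¹ᵁ U) ≫
      W.nilradical.subschemeι ∣_ U) := by
    rw [← hcomp]
    subst hf
    exact hcl
  haveI : IsClosedImmersion (f ∣_ (W.nilradical.subschemeι ⁻¹ᵁ U)) :=
    IsClosedImmersion.of_comp (f ∣_ (W.nilradical.subschemeι ⁻¹ᵁ U))
      (W.nilradical.subschemeι ∣_ U)
  haveI : Surjective (f ∣_ (W.nilradical.subschemeι ⁻¹ᵁ U)) := by
    constructor
    intro z
    obtain ⟨y, hy⟩ := hfsurj z.1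
    have hyU : y ∈ f ⁻¹ᵁ (W.nilradical.subschemeι ⁻¹ᵁ U) := by
      show f y ∈ W.nilradical.subschemeι ⁻¹ᵁ U
      rw [hy]; exact z.2
    refine ⟨⟨y, hyU⟩, ?_⟩
    apply Subtype.ext
    exact (morphismRestrict_base_coe f (W.nilradical.subschemeι ⁻¹ᵁ U) ⟨y, hyU⟩).trans hy
  haveI : IsReduced W.nilradical.subscheme :=
    Groth.Agent.S8051.isReduced_nilradical_subscheme W
  haveI : IsReduced (W.nilradical.subschemeι ⁻¹ᵁ U).toScheme := inferInstance
  have hiso : IsIso (f ∣_ (W.nilradical.subschemeι ⁻¹ᵁ U)) :=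
    isIso_of_isClosedImmersion_of_surjective (f ∣_ (W.nilradical.subschemeι ⁻¹ᵁ U))
  obtain ⟨e, he⟩ := NormIso.exists_iso_of_dense_open_iso W.nilradical.subscheme f hn
    (W.nilradical.subschemeι ⁻¹ᵁ U) hU'dense hfU' hiso
  refine ⟨e, ?_⟩
  change e.hom ≫ (W.nilradical.subscheme.fromSpecStalk
    (genericPoint W.nilradical.subscheme)).fromNormalization ≫ W.nilradical.subschemeι = h
  rw [← Category.assoc, he, hf]

/-- variant of Lemma N with an irreducible source -/
theorem exists_iso_normalization_red' {W Y : Scheme.{u}}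
    [IsIntegral W.nilradical.subscheme]
    [QuasiCompact (W.nilradical.subscheme.fromSpecStalk (genericPoint W.nilradical.subscheme))]
    [QuasiSeparated (W.nilradical.subscheme.fromSpecStalk (genericPoint W.nilradical.subscheme))]
    (h : Y ⟶ W) [IsIntegralHom h] [Surjective h] [IrreducibleSpace Y]
    (hn : ∀ y : Y, IsDomain (Y.presheaf.stalk y) ∧ IsIntegrallyClosed (Y.presheaf.stalk y))
    (U : W.Opens) (hU : (U : Set W).Nonempty) (hcl : IsClosedImmersion (h ∣_ U)) :
    ∃ e : Y ≅ Curv2.normalization W.nilradical.subscheme,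
      e.hom ≫ Curv2.normalizationι W.nilradical.subscheme ≫ W.nilradical.subschemeι = h := by
  refine exists_iso_normalization_red h hn U hU ?_ hcl
  apply (h ⁻¹ᵁ U).isOpen.dense
  obtain ⟨w, hw⟩ := hU
  obtain ⟨y, rfl⟩ := h.surjective w
  exact ⟨y, hw⟩

end Groth.Agent.Lib.Helper13.NormRedIso
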