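import Groth.Agent.Lib.Helper13.NormFactor
import Groth.Agent.Lib.Helper17.SmoothNormal

/-!
# Normalization commutes with smooth base change (integral case, function-field normalization)

For `f : X ⟶ Y` smooth with `X`, `Y` integral: `X^ν ≅ X ×_Y Y^ν` over `X`, uniquely.
Proof: both sides are normal and all components dominate, so the universal property
(`NormFactor.existsUnique_lift`) gives mutually inverse maps.
-/

set_option autoImplicit false
universe u
open CategoryTheory AlgebraicGeometry CategoryTheory.Limits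
open Groth.Agent.Lib.Helper13.Normalization Groth.Agent.Lib.Helper13.NormDimOne
open Groth.Agent.Lib.Helper13.NormFactor Groth.Agent.Lib.Helper13.NormIso

namespace Groth.Agent.Lib.Helper13.NormSmoothBC

theorem flat_fromSpecStalk (X : Scheme.{u}) (x : X) : Flat (X.fromSpecStalk x) := by
  obtain ⟨_, ⟨U, hU : IsAffineOpen U, rfl⟩, hxU, -⟩ :=
    X.isBasis_affineOpens.exists_subset_of_mem_open (Set.mem_univ x) isOpen_univ
  rw [← hU.fromSpecStalk_eq_fromSpecStalk hxU]
  dsimp [IsAffineOpen.fromSpecStalk]
  have : Flat (Spec.map (X.presheaf.germ U x hxU)) := by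
    rw [Flat.SpecMap_iff]
    let : Algebra Γ(X, U) (X.presheaf.stalk x) := (X.presheaf.germ U x hxU).hom.toAlgebra
    have := hU.isLocalization_stalk ⟨x, hxU⟩
    exact IsLocalization.flat (X.presheaf.stalk x) (hU.primeIdealOf ⟨x, hxU⟩).asIdeal.primeCompl
  infer_instance

theorem isIntegrallyClosed_section {X : Scheme.{u}} [IsIntegral X]
    (hX : ∀ x : X, IsIntegrallyClosed (X.presheaf.stalk x)) (U : X.Opens) (hU : IsAffineOpen U)
    [Nonempty U] : IsIntegrallyClosed Γ(X, U) := by
  refine IsIntegrallyClosed.of_localization_maximal (fun p _ hp => ?_)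
  let y : PrimeSpectrum Γ(X, U) := ⟨p, hp.isPrime⟩
  have hy : hU.fromSpec y ∈ U := (hU.isoSpec.inv y).2
  let alg := X.presheaf.algebra_section_stalk ⟨hU.fromSpec y, hy⟩
  have hloc := hU.isLocalization_stalk' y hy
  haveI : IsLocalization p.primeCompl (X.presheaf.stalk (hU.fromSpec y)) := hloc
  haveI := hX (hU.fromSpec y)
  exact IsIntegrallyClosed.of_equiv
    (IsLocalization.algEquiv p.primeCompl (X.presheaf.stalk (hU.fromSpec y))
      (Localization.AtPrime p)).toRingEquiv

/-- smooth over a normal integral scheme has normal local rings -/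
theorem normal_stalk_of_smooth {Z X : Scheme.{u}} (p : Z ⟶ X) [Smooth p] [IsIntegral X]
    (hX : ∀ x : X, IsIntegrallyClosed (X.presheaf.stalk x)) (y : Z) :
    IsDomain (Z.presheaf.stalk y) ∧ IsIntegrallyClosed (Z.presheaf.stalk y) := by
  obtain ⟨_, ⟨U, hU, rfl⟩, hxU, -⟩ :=
    X.isBasis_affineOpens.exists_subset_of_mem_open (Set.mem_univ (p y)) isOpen_univ
  obtain ⟨_, ⟨V, hV, rfl⟩, hxV, hVU⟩ :=
    Z.isBasis_affineOpens.exists_subset_of_mem_open hxU (U.2.preimage p.continuous)
  have hsm : (p.appLE U V hVU).hom.Smooth := p.smooth_appLE hU hV hVU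
  algebraize [(p.appLE U V hVU).hom]
  haveI : Algebra.Smooth Γ(X, U) Γ(Z, V) := RingHom.smooth_algebraMap.mp hsm
  haveI : Nonempty U := ⟨⟨p y, hxU⟩⟩
  haveI : IsIntegrallyClosed Γ(X, U) := isIntegrallyClosed_section hX U hU
  let algS := Z.presheaf.algebra_section_stalk ⟨y, hxV⟩
  have hlocS := hV.isLocalization_stalk ⟨y, hxV⟩
  obtain ⟨h1, h2⟩ :=
    Groth.Agent.Lib.Helper17.SmoothNormal.isDomain_and_isIntegrallyClosed_atPrime_of_smooth
      Γ(X, U) (B := Γ(Z, V)) (hV.primeIdealOf ⟨y, hxV⟩).asIdeal
  let e := IsLocalization.algEquiv (hV.primeIdealOf ⟨y, hxV⟩).asIdeal.primeCompl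
    (Z.presheaf.stalk y) (Localization.AtPrime (hV.primeIdealOf ⟨y, hxV⟩).asIdeal)
  haveI : IsDomain (Z.presheaf.stalk y) := e.injective.isDomain
  exact ⟨inferInstance, IsIntegrallyClosed.of_equiv e.symm.toRingEquiv⟩

theorem map_genericPoint_of_flat {X Y : Scheme.{u}} [IsIntegral X] [IsIntegral Y] (f : X ⟶ Y)
    [Flat f] : f (genericPoint X) = genericPoint Y := by
  obtain ⟨x', hx', hfx'⟩ := Flat.generalizingMap f (genericPoint_specializes (f (genericPoint X)))
  have : x' = genericPoint X := (hx'.antisymm (genericPoint_specializes x')).eq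
  rw [← this]; exact hfx'

section Main
variable {X Y : Scheme.{u}} (f : X ⟶ Y) [Smooth f] [IsIntegral X] [IsIntegral Y]
  [QuasiCompact (X.fromSpecStalk (genericPoint X))] [QuasiSeparated (X.fromSpecStalk (genericPoint X))]
  [QuasiCompact (Y.fromSpecStalk (genericPoint Y))] [QuasiSeparated (Y.fromSpecStalk (genericPoint Y))]

set_option quotPrecheck false in
local notation "νX" => (Scheme.Hom.fromNormalization (X.fromSpecStalk (genericPoint X)))
set_option quotPrecheck false in
local notation "νY" => (Scheme.Hom.fromNormalization (Y.fromSpecStalk (genericPoint Y)))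

omit [Smooth f] [IsIntegral Y] [QuasiCompact (Y.fromSpecStalk (genericPoint Y))]
  [QuasiSeparated (Y.fromSpecStalk (genericPoint Y))] in
theorem good_normalization : Good νX := by
  haveI := isIntegral_normalization X
  exact ⟨isNormal_normalization X, fun τ =>
    ⟨genericPoint _, genericPoint_specializes τ, fromNormalization_genericPoint' X⟩⟩

omit [QuasiCompact (Y.fromSpecStalk (genericPoint Y))]
  [QuasiSeparated (Y.fromSpecStalk (genericPoint Y))] in
theorem good_normalization_comp : Good (νX ≫ f) := by
  haveI := isIntegral_normalization X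
  refine ⟨isNormal_normalization X, fun τ =>
    ⟨genericPoint _, genericPoint_specializes τ, ?_⟩⟩
  rw [Scheme.Hom.comp_apply, fromNormalization_genericPoint' X]
  exact map_genericPoint_of_flat f

omit [QuasiCompact (X.fromSpecStalk (genericPoint X))]
  [QuasiSeparated (X.fromSpecStalk (genericPoint X))] in
theorem good_fst : Good (pullback.fst f νY) := by
  haveI := isIntegral_normalization Y
  refine ⟨fun p => normal_stalk_of_smooth (pullback.snd f νY)
    (fun y => (isNormal_normalization Y y).2) p, fun p => ?_⟩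
  let jY := Y.fromSpecStalk (genericPoint Y)
  let j' := jY.toNormalization
  have hj' : j' ≫ νY = jY := jY.toNormalization_fromNormalization
  let w : pullback f jY ⟶ pullback f νY :=
    pullback.lift (pullback.fst f jY) (pullback.snd f jY ≫ j')
      (by rw [Category.assoc, hj']; exact pullback.condition)
  have hw1 : w ≫ pullback.fst f νY = pullback.fst f jY := pullback.lift_fst _ _ _
  have hw2 : w ≫ pullback.snd f νY = pullback.snd f jY ≫ j' := pullback.lift_snd _ _ _
  have sq : IsPullback w (pullback.snd f jY) (pullback.snd f νY) j' := by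
    refine IsPullback.of_right ?_ hw2 (IsPullback.of_hasPullback f νY)
    rw [hw1, hj']
    exact IsPullback.of_hasPullback f jY
  have hK : IsField (Y.presheaf.stalk (genericPoint Y)) := Field.toIsField Y.functionField
  obtain ⟨pt⟩ := nonempty_Spec hK
  have hpt : j' pt = genericPoint _ := toNormalization_eq_genericPoint hK jY pt
  obtain ⟨p₁, hp₁, hp₁'⟩ := Flat.generalizingMap (pullback.snd f νY)
    (genericPoint_specializes (pullback.snd f νY p))
  obtain ⟨q₁, hq₁, -⟩ := Scheme.exists_preimage_of_isPullback sq p₁ pt (by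
    show (pullback.snd f νY) p₁ = j' pt
    rw [hp₁', hpt])
  haveI : Flat jY := flat_fromSpecStalk Y _
  obtain ⟨q₂, hq₂, hq₂'⟩ := Flat.generalizingMap (pullback.fst f jY)
    (genericPoint_specializes (pullback.fst f jY q₁))
  refine ⟨w q₂, ?_, ?_⟩
  · have h1 : w q₂ ⤳ w q₁ := hq₂.map w.continuous
    have h2 : w q₁ = p₁ := hq₁
    rw [h2] at h1
    exact h1.trans hp₁
  · rw [← Scheme.Hom.comp_apply, hw1]; exact hq₂'

theorem existsUnique_iso :
    ∃! e : (X.fromSpecStalk (genericPoint X)).normalization ≅ pullback f νY,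
      e.hom ≫ pullback.fst f νY = νX := by
  have gX := good_normalization (X := X)
  have gXf := good_normalization_comp f
  have gP := good_fst f
  obtain ⟨a, ha⟩ := exists_lift Y gXf
  let uu : (X.fromSpecStalk (genericPoint X)).normalization ⟶ pullback f νY :=
    pullback.lift νX a ha.symm
  have hu1 : uu ≫ pullback.fst f νY = νX := pullback.lift_fst _ _ _
  have hu2 : uu ≫ pullback.snd f νY = a := pullback.lift_snd _ _ _
  obtain ⟨v, hv⟩ := exists_lift X gP
  have huv : uu ≫ v = 𝟙 _ :=
    lift_unique X gX _ _ (by rw [Category.assoc, hv, hu1]) (by rw [Category.id_comp])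
  have gPf : Good (pullback.fst f νY ≫ f) := ⟨gP.1, fun p => by
    obtain ⟨ξ, h1, h2⟩ := gP.2 p
    exact ⟨ξ, h1, by rw [Scheme.Hom.comp_apply, h2]; exact map_genericPoint_of_flat f⟩⟩
  have hvu : v ≫ uu = 𝟙 _ := by
    apply pullback.hom_ext
    · rw [Category.assoc, hu1, hv, Category.id_comp]
    · rw [Category.assoc, hu2, Category.id_comp]
      exact lift_unique Y gPf _ _ (by rw [Category.assoc, ha, ← Category.assoc, hv])
        pullback.condition.symm
  refine ⟨⟨uu, v, huv, hvu⟩, hu1, ?_⟩
  intro e' he'
  replace he' : e'.hom ≫ pullback.fst f νY = νX := he'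
  ext1
  show e'.hom = uu
  apply pullback.hom_ext
  · rw [he', hu1]
  · rw [hu2]
    exact lift_unique Y gXf _ _
      (by rw [Category.assoc, ← pullback.condition, ← Category.assoc, he']) ha

end Main

end Groth.Agent.Lib.Helper13.NormSmoothBC
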