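import Groth.Agent.Lib.Helper13.JCocycle

/-!
# Jacobson's theorem: a `p`-mapping from its values on a basis
(helper13 library for the `PLie` area).

If `b` is a basis of the Lie algebra `L` over `R` (of characteristic `p`) and `y i` satisfies
`(ad (b i))^p = ad (y i)`, there is exactly one `p`-mapping `φ` with `φ (b i) = y i`.
-/

set_option autoImplicit false
set_option linter.unusedSectionVars false

attribute [local instance 100] LieRing.ofAssociativeRing

open PLie

namespace Groth.Agent.Lib.Helper13.PMapBasis

open JLemmas JCocycle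

variable {R : Type*} [CommRing R] (p : ℕ) [hp : Fact p.Prime] [CharP R p]
variable {L : Type*} [LieRing L] [LieAlgebra R L] {ι : Type*} (b : Module.Basis ι R L) (y : ι → L)

/-- `x` lies in the span of the `b i`, `i ∈ S` -/
def InV (S : Finset ι) (x : L) : Prop := ∀ i, i ∉ S → b.repr x i = 0

variable {b} in
theorem InV.mono {S T : Finset ι} (h : S ⊆ T) {x : L} (hx : InV b S x) : InV b T x :=
  fun i hi => hx i (fun h' => hi (h h'))

variable {b} in
theorem InV.add {S : Finset ι} {x x' : L} (hx : InV b S x) (hx' : InV b S x') :
    InV b S (x + x') := fun i hi => by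
  rw [map_add, Finsupp.add_apply, hx i hi, hx' i hi, add_zero]

variable {b} in
theorem InV.smul {S : Finset ι} (c : R) {x : L} (hx : InV b S x) : InV b S (c • x) :=
  fun i hi => by rw [map_smul, Finsupp.smul_apply, hx i hi, smul_zero]

theorem InV.zero (S : Finset ι) : InV b S (0 : L) := fun i _ => by simp

theorem InV.basis {S : Finset ι} {i : ι} (hi : i ∈ S) : InV b S (b i) := fun j hj => by
  classical
  rw [b.repr_self, Finsupp.single_apply, if_neg]
  rintro rfl
  exact hj hi

theorem InV.support (x : L) : InV b (b.repr x).support x := fun i hi => by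
  simpa using hi

/-- the `b j`-free part of `x` -/
theorem InV.sub_smul [DecidableEq ι] {S : Finset ι} {j : ι} {x : L}
    (hx : InV b (insert j S) x) :
    InV b S (x - b.repr x j • b j) := fun i hi => by
  rw [map_sub, map_smul, b.repr_self, Finsupp.sub_apply, Finsupp.smul_apply, Finsupp.single_apply]
  by_cases hij : j = i
  · subst hij; simp
  · rw [if_neg hij, smul_zero, sub_zero]
    exact hx i (by simp [Finset.mem_insert, hi, Ne.symm hij])

theorem eq_zero_of_InV_empty {x : L} (hx : InV b ∅ x) : x = 0 := by
  apply b.repr.injective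
  ext i
  simpa using hx i (by simp)

theorem mem_span_of_InV {S : Finset ι} {x : L} (hx : InV b S x) :
    x ∈ Submodule.span R (b '' (S : Set ι)) := by
  rw [b.mem_span_image]
  intro i hi
  by_contra h
  exact (Finsupp.mem_support_iff.1 hi) (hx i h)

/-- a partial `p`-mapping on the span of the `b i`, `i ∈ S` -/
structure IsPartial (S : Finset ι) (ψ : L → L) : Prop where
  map_add : ∀ x x', InV b S x → InV b S x' → ψ (x + x') = ψ x + ψ x' - jacobson R p x x'
  map_smul : ∀ (c : R) x, InV b S x → ψ (c • x) = c ^ p • ψ x
  ad_map : ∀ x, InV b S x → LieAlgebra.ad R L (ψ x) = LieAlgebra.ad R L x ^ p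
  basis : ∀ i ∈ S, ψ (b i) = y i

variable {p b y}

theorem IsPartial.mono {S T : Finset ι} (h : S ⊆ T) {ψ : L → L} (hψ : IsPartial p b y T ψ) :
    IsPartial p b y S ψ where
  map_add x x' hx hx' := hψ.map_add x x' (hx.mono h) (hx'.mono h)
  map_smul c x hx := hψ.map_smul c x (hx.mono h)
  ad_map x hx := hψ.ad_map x (hx.mono h)
  basis i hi := hψ.basis i (h hi)

include hp in
theorem IsPartial.map_zero {S : Finset ι} {ψ : L → L} (hψ : IsPartial p b y S ψ) : ψ 0 = 0 := by
  have := hψ.map_smul 0 0 (InV.zero b S)
  rwa [zero_smul, zero_pow hp.out.ne_zero, zero_smul] at this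

/-- uniqueness of partial `p`-mappings -/
theorem IsPartial.eq {S : Finset ι} {ψ₁ ψ₂ : L → L} (h₁ : IsPartial p b y S ψ₁)
    (h₂ : IsPartial p b y S ψ₂) {x : L} (hx : InV b S x) : ψ₁ x = ψ₂ x := by
  have key : ∀ x ∈ Submodule.span R (b '' (S : Set ι)), InV b S x ∧ ψ₁ x = ψ₂ x := by
    intro x hx
    induction hx using Submodule.span_induction with
    | mem x hx =>
      obtain ⟨i, hi, rfl⟩ := hx
      exact ⟨InV.basis b hi, by rw [h₁.basis i hi, h₂.basis i hi]⟩
    | zero => exact ⟨InV.zero b S, by rw [h₁.map_zero, h₂.map_zero]⟩
    | add x x' _ _ hx hx' =>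
      exact ⟨hx.1.add hx'.1, by rw [h₁.map_add x x' hx.1 hx'.1, h₂.map_add x x' hx.1 hx'.1,
        hx.2, hx'.2]⟩
    | smul c x _ hx =>
      exact ⟨hx.1.smul c, by rw [h₁.map_smul c x hx.1, h₂.map_smul c x hx.1, hx.2]⟩
  exact (key x (mem_span_of_InV b hx)).2


/-! ### The extension step -/

variable (p) in
/-- a consequence of the cocycle identity and the symmetry of Jacobson's sum -/
theorem jacobson_four (v v' β β' : L) (hβ : ⁅β', β⁆ = 0) :
    jacobson R p v v' + jacobson R p (v + v') (β + β') =
      jacobson R p v β + jacobson R p v' β' + jacobson R p (v + β) (v' + β') := by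
  have c1 := jacobson_cocycle (R := R) p v β (v' + β')
  have c2 := jacobson_symm (R := R) p β (v' + β')
  have c3 := jacobson_cocycle (R := R) p v' β' β
  have c4 : jacobson R p β' β = 0 := jacobson_eq_zero_of_lie_eq_zero p β' β hβ
  have c5 := jacobson_cocycle (R := R) p v v' (β + β')
  rw [show β + (v' + β') = v' + (β + β') by abel] at c1
  rw [show β' + β = β + β' from add_comm _ _] at c3
  rw [c5]
  have h1 : jacobson R p v β + jacobson R p (v + β) (v' + β') =
      jacobson R p (v' + β') β + jacobson R p v (v' + (β + β')) := by rw [c1, c2]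
  have h2 : jacobson R p v' β' + jacobson R p (v' + β') β = jacobson R p v' (β + β') := by
    rw [c3, c4, zero_add]
  calc jacobson R p v' (β + β') + jacobson R p v (v' + (β + β'))
      = (jacobson R p v' β' + jacobson R p (v' + β') β) + jacobson R p v (v' + (β + β')) := by
        rw [h2]
    _ = jacobson R p v' β' + (jacobson R p (v' + β') β + jacobson R p v (v' + (β + β'))) := by
        abel
    _ = jacobson R p v' β' + (jacobson R p v β + jacobson R p (v + β) (v' + β')) := by rw [h1]
    _ = _ := by abel

variable (p b y) in
/-- the extension of a partial `p`-mapping across `b j` -/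
noncomputable def extend (ψ : L → L) (j : ι) (x : L) : L :=
  ψ (x - b.repr x j • b j) + (b.repr x j) ^ p • y j
    - jacobson R p (x - b.repr x j • b j) (b.repr x j • b j)

theorem IsPartial.extend [DecidableEq ι] {S : Finset ι} {ψ : L → L}
    (hψ : IsPartial p b y S ψ) (j : ι)
    (hyj : LieAlgebra.ad R L (b j) ^ p = LieAlgebra.ad R L (y j)) :
    IsPartial p b y (insert j S) (extend p b y ψ j) where
  map_add x x' hx hx' := by
    have hv := hx.sub_smul
    have hv' := hx'.sub_smul
    set a := b.repr x j with ha
    set a' := b.repr x' j with ha'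
    set v := x - a • b j with hv_def
    set v' := x' - a' • b j with hv'_def
    have hx_eq : x = v + a • b j := by rw [hv_def]; abel
    have hx'_eq : x' = v' + a' • b j := by rw [hv'_def]; abel
    have hrepr : b.repr (x + x') j = a + a' := by rw [_root_.map_add, Finsupp.add_apply]
    have hvv : x + x' - (a + a') • b j = v + v' := by
      rw [hv_def, hv'_def, add_smul]; abel
    have hβ : ⁅a' • b j, a • b j⁆ = 0 := by simp
    have hstar := jacobson_four (R := R) p v v' (a • b j) (a' • b j) hβ
    unfold PMapBasis.extend
    rw [hrepr, hvv, add_smul, hψ.map_add v v' hv hv', add_pow_char, add_smul, ← ha, ← ha',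
      ← hv_def, ← hv'_def]
    rw [← hx_eq, ← hx'_eq] at hstar
    have e1 : jacobson R p (v + v') (a • b j + a' • b j) =
        jacobson R p v (a • b j) + jacobson R p v' (a' • b j) + jacobson R p x x'
          - jacobson R p v v' := by
      rw [← hstar]; abel
    rw [e1]
    abel
  map_smul c x hx := by
    have hv := hx.sub_smul
    set a := b.repr x j with ha
    set v := x - a • b j with hv_def
    have hrepr : b.repr (c • x) j = c * a := by rw [_root_.map_smul, Finsupp.smul_apply, smul_eq_mul]
    have hvv : c • x - (c * a) • b j = c • v := by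
      rw [hv_def, smul_sub, mul_smul]
    unfold PMapBasis.extend
    rw [hrepr, hvv, mul_smul, hψ.map_smul c v hv, jacobson_smul, mul_pow, mul_smul, ← ha,
      ← hv_def, smul_sub, smul_add]
  ad_map x hx := by
    have hv := hx.sub_smul
    set a := b.repr x j with ha
    set v := x - a • b j with hv_def
    have hx_eq : v + a • b j = x := by rw [hv_def]; abel
    unfold PMapBasis.extend
    rw [← ha, ← hv_def, _root_.map_sub, _root_.map_add, _root_.map_smul, hψ.ad_map v hv, ad_jacobson, hx_eq,
      _root_.map_smul, smul_pow, hyj]
    abel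
  basis i hi := by
    unfold PMapBasis.extend
    by_cases hij : i = j
    · subst hij
      have : b.repr (b i) i = 1 := by simp
      rw [this, one_smul, sub_self, hψ.map_zero, one_pow, one_smul, jacobson_zero_left]
      simp
    · have hiS : i ∈ S := by
        rcases Finset.mem_insert.1 hi with h | h
        · exact absurd h hij
        · exact h
      have : b.repr (b i) j = 0 := by
        rw [b.repr_self, Finsupp.single_apply, if_neg hij]
      rw [this, zero_smul, sub_zero, hψ.basis i hiS, zero_pow hp.out.ne_zero, zero_smul,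
        jacobson_zero_right]
      simp


/-! ### Existence on finite subsets of the basis, and gluing -/

include hp in
theorem isPartial_empty : IsPartial p b y ∅ (fun _ => (0 : L)) where
  map_add x x' hx hx' := by
    rw [eq_zero_of_InV_empty b hx, eq_zero_of_InV_empty b hx', jacobson_zero_left]
    simp
  map_smul c x _ := by simp
  ad_map x hx := by
    rw [eq_zero_of_InV_empty b hx, _root_.map_zero, zero_pow hp.out.ne_zero]
  basis i hi := by simp at hi

theorem exists_isPartial (hy : ∀ i : ι, LieAlgebra.ad R L (b i) ^ p = LieAlgebra.ad R L (y i))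
    (S : Finset ι) : ∃ ψ : L → L, IsPartial p b y S ψ := by
  classical
  induction S using Finset.induction_on with
  | empty => exact ⟨_, isPartial_empty⟩
  | insert j S _ ih =>
    obtain ⟨ψ, hψ⟩ := ih
    exact ⟨_, hψ.extend j (hy j)⟩

variable (p b y) in
/-- the chosen partial `p`-mapping on the span of `b i`, `i ∈ S` -/
noncomputable def partialMap
    (hy : ∀ i : ι, LieAlgebra.ad R L (b i) ^ p = LieAlgebra.ad R L (y i)) (S : Finset ι) : L → L :=
  (exists_isPartial hy S).choose

theorem partialMap_spec
    (hy : ∀ i : ι, LieAlgebra.ad R L (b i) ^ p = LieAlgebra.ad R L (y i)) (S : Finset ι) :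
    IsPartial p b y S (partialMap p b y hy S) :=
  (exists_isPartial hy S).choose_spec

variable (p b y) in
/-- the glued map -/
noncomputable def glued
    (hy : ∀ i : ι, LieAlgebra.ad R L (b i) ^ p = LieAlgebra.ad R L (y i)) (x : L) : L :=
  partialMap p b y hy (b.repr x).support x

theorem glued_eq (hy : ∀ i : ι, LieAlgebra.ad R L (b i) ^ p = LieAlgebra.ad R L (y i))
    {S : Finset ι} {x : L} (hx : InV b S x) : glued p b y hy x = partialMap p b y hy S x := by
  classical
  unfold glued
  have h1 : IsPartial p b y ((b.repr x).support ∩ S) (partialMap p b y hy (b.repr x).support) :=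
    (partialMap_spec hy _).mono Finset.inter_subset_left
  have h2 : IsPartial p b y ((b.repr x).support ∩ S) (partialMap p b y hy S) :=
    (partialMap_spec hy _).mono Finset.inter_subset_right
  refine h1.eq h2 ?_
  intro i hi
  by_contra h
  apply hi
  rw [Finset.mem_inter]
  refine ⟨Finsupp.mem_support_iff.2 h, ?_⟩
  by_contra h'
  exact h (hx i h')

variable (p b y) in
/-- **Jacobson's theorem**, existence: the `p`-mapping with prescribed values on a basis. -/
noncomputable def pmapOfBasis
    (hy : ∀ i : ι, LieAlgebra.ad R L (b i) ^ p = LieAlgebra.ad R L (y i)) : PMap R p L where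
  toFun := glued p b y hy
  map_smul c x := by
    have hx := InV.support b x
    rw [glued_eq hy (hx.smul c), glued_eq hy hx]
    exact (partialMap_spec hy _).map_smul c x hx
  ad_map x := by
    have hx := InV.support b x
    rw [glued_eq hy hx]
    exact (partialMap_spec hy _).ad_map x hx
  map_add x x' := by
    classical
    have hx : InV b ((b.repr x).support ∪ (b.repr x').support) x :=
      (InV.support b x).mono Finset.subset_union_left
    have hx' : InV b ((b.repr x).support ∪ (b.repr x').support) x' :=
      (InV.support b x').mono Finset.subset_union_right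
    rw [glued_eq hy (hx.add hx'), glued_eq hy hx, glued_eq hy hx']
    exact (partialMap_spec hy _).map_add x x' hx hx'

theorem pmapOfBasis_basis
    (hy : ∀ i : ι, LieAlgebra.ad R L (b i) ^ p = LieAlgebra.ad R L (y i)) (i : ι) :
    pmapOfBasis p b y hy (b i) = y i := by
  change glued p b y hy (b i) = y i
  rw [glued_eq hy (InV.basis b (Finset.mem_singleton_self i))]
  exact (partialMap_spec hy _).basis i (Finset.mem_singleton_self i)

/-- every `p`-mapping is a partial `p`-mapping for its values on the basis -/
theorem isPartial_of_pmap (φ : PMap R p L) (hφ : ∀ i, φ (b i) = y i) (S : Finset ι) :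
    IsPartial p b y S φ where
  map_add x x' _ _ := φ.map_add x x'
  map_smul c x _ := φ.map_smul c x
  ad_map x _ := φ.ad_map x
  basis i _ := hφ i

variable (p b y) in
/-- **Jacobson's theorem**: a Lie algebra `L` over a ring of characteristic `p`, free with basis
`b`, with `(ad (b i))^p = ad (y i)` for all `i`, has exactly one `p`-mapping `φ` with
`φ (b i) = y i`. -/
theorem existsUnique_pmap
    (hy : ∀ i : ι, LieAlgebra.ad R L (b i) ^ p = LieAlgebra.ad R L (y i)) :
    ∃! φ : PMap R p L, ∀ i : ι, φ (b i) = y i := by
  refine ⟨pmapOfBasis p b y hy, pmapOfBasis_basis hy, ?_⟩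
  intro φ hφ
  have hfun : φ.toFun = (pmapOfBasis p b y hy).toFun := by
    funext x
    have hx := InV.support b x
    change φ x = glued p b y hy x
    rw [glued_eq hy hx]
    exact (isPartial_of_pmap φ hφ _).eq (partialMap_spec hy _) hx
  cases φ
  simp only at hfun
  subst hfun
  rfl

end Groth.Agent.Lib.Helper13.PMapBasis
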