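import Groth.Agent.Lib.Helper13.PMapBasis

/-!
# Restrictability criterion for free Lie algebras (helper13 library for the `PLie` area)

A Lie algebra `L`, free with basis `b` over a ring of characteristic `p`, carries a `p`-mapping
iff `(ad (b i))^p` is an inner derivation for every `i`; in terms of the matrices of `ad (b i)`.
-/

set_option autoImplicit false

attribute [local instance 100] LieRing.ofAssociativeRing

open PLie

namespace Groth.Agent.Lib.Helper13.PMapCriterion

variable {R : Type*} [CommRing R] (p : ℕ) [hp : Fact p.Prime] [CharP R p]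
variable {L : Type*} [LieRing L] [LieAlgebra R L] {ι : Type*} (b : Module.Basis ι R L)

/-- restrictability criterion (Jacobson) -/
theorem nonempty_pmap_iff :
    Nonempty (PMap R p L) ↔
      ∀ i : ι, ∃ w : L, LieAlgebra.ad R L w = LieAlgebra.ad R L (b i) ^ p := by
  constructor
  · rintro ⟨φ⟩ i
    exact ⟨φ (b i), φ.ad_map (b i)⟩
  · intro h
    choose y hy using h
    exact ⟨PMapBasis.pmapOfBasis p b y (fun i => (hy i).symm)⟩

section Matrix

variable {n : Type*} [Fintype n] [DecidableEq n] (bs : Module.Basis n R L)

/-- the matrix of `ad (bs i)` -/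
noncomputable def adMat (i : n) : Matrix n n R := LinearMap.toMatrix bs bs (LieAlgebra.ad R L (bs i))

theorem adMat_apply (i j k : n) : adMat bs i j k = bs.repr ⁅bs i, bs k⁆ j := by
  simp [adMat, LinearMap.toMatrix_apply]

theorem toMatrix_ad (w : L) :
    LinearMap.toMatrix bs bs (LieAlgebra.ad R L w) = ∑ l, bs.repr w l • adMat bs l := by
  conv_lhs => rw [← bs.sum_repr w]
  rw [map_sum, map_sum]
  refine Finset.sum_congr rfl fun l _ => ?_
  rw [map_smul, map_smul, adMat]

/-- restrictability criterion in terms of the matrices of `ad (bs i)` -/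
theorem nonempty_pmap_iff_matrix :
    Nonempty (PMap R p L) ↔
      ∀ i : n, ∃ α : n → R, ∑ l, α l • adMat bs l = adMat bs i ^ p := by
  rw [nonempty_pmap_iff p bs]
  refine forall_congr' fun i => ?_
  constructor
  · rintro ⟨w, hw⟩
    refine ⟨fun l => bs.repr w l, ?_⟩
    rw [← toMatrix_ad, hw, adMat, LinearMap.toMatrix_pow]
  · rintro ⟨α, hα⟩
    refine ⟨∑ l, α l • bs l, ?_⟩
    apply (LinearMap.toMatrix bs bs).injective
    rw [← LinearMap.toMatrix_pow, ← adMat, ← hα, toMatrix_ad]
    refine Finset.sum_congr rfl fun l _ => ?_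
    congr 1
    simp [Finsupp.single_apply, Finset.sum_apply']

end Matrix

end Groth.Agent.Lib.Helper13.PMapCriterion
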