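import Mathlib.Algebra.MvPolynomial.Expand
import Mathlib.Algebra.MvPolynomial.PDeriv
import Mathlib.Algebra.MvPolynomial.Derivation
import Mathlib.RingTheory.MvPolynomial.Basic
import Mathlib.Algebra.CharP.Two
import Mathlib.Tactic

/-! # Parity decomposition of `R[x, y]` in characteristic 2 (helper13)

`R[x,y]` is free over `R[x²,y²] = range (expand 2)` with basis `1, x, y, xy`; derivations kill
`range (expand 2)`.  Used for the KumFam statements S13120–S13122.
-/

set_option autoImplicit false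

namespace Groth.Agent.Lib.Helper13.Parity2

open MvPolynomial

variable {R : Type*} [CommRing R] [CharP R 2]

theorem two_eq_zero₂ : (2 : MvPolynomial (Fin 2) R) = 0 := CharTwo.two_eq_zero

/-- Derivations kill `R[x²,y²]` in characteristic 2. -/
theorem deriv_expand (D : Derivation R (MvPolynomial (Fin 2) R) (MvPolynomial (Fin 2) R))
    (q : MvPolynomial (Fin 2) R) : D (expand 2 q) = 0 := by
  induction q using MvPolynomial.induction_on with
  | C r =>
    rw [expand_C]
    exact D.map_algebraMap r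
  | add p q hp hq => rw [map_add, map_add, hp, hq, add_zero]
  | mul_X p i hp =>
    rw [map_mul, expand_X, D.leibniz, hp, smul_zero, add_zero, D.leibniz_pow]
    have : (2 : ℕ) • ((X i : MvPolynomial (Fin 2) R) ^ (2 - 1) • D (X i)) = 0 := by
      rw [nsmul_eq_mul]
      have h2 : ((2 : ℕ) : MvPolynomial (Fin 2) R) = 0 := by exact_mod_cast two_eq_zero₂ (R := R)
      rw [h2, zero_mul]
    rw [this, smul_zero]

/-- The element `E q₀₀ + x E q₁₀ + y E q₀₁ + xy E q₁₁`. -/
noncomputable def dec (q₀₀ q₁₀ q₀₁ q₁₁ : MvPolynomial (Fin 2) R) : MvPolynomial (Fin 2) R :=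
  expand 2 q₀₀ + X 0 * expand 2 q₁₀ + X 1 * expand 2 q₀₁ + X 0 * X 1 * expand 2 q₁₁

omit [CharP R 2] in
theorem exists_dec (p : MvPolynomial (Fin 2) R) :
    ∃ q₀₀ q₁₀ q₀₁ q₁₁ : MvPolynomial (Fin 2) R, p = dec q₀₀ q₁₀ q₀₁ q₁₁ := by
  induction p using MvPolynomial.induction_on with
  | C r => exact ⟨C r, 0, 0, 0, by simp [dec]⟩
  | add p q hp hq =>
    obtain ⟨a, b, c, d, rfl⟩ := hp
    obtain ⟨a', b', c', d', rfl⟩ := hq
    exact ⟨a + a', b + b', c + c', d + d', by simp only [dec, map_add]; ring⟩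
  | mul_X p i hp =>
    obtain ⟨a, b, c, d, rfl⟩ := hp
    fin_cases i
    · exact ⟨X 0 * b, a, X 0 * d, c, by simp only [dec, map_mul, expand_X, Fin.zero_eta]; ring⟩
    · exact ⟨X 1 * c, X 1 * d, a, b, by simp only [dec, map_mul, expand_X, Fin.mk_one]; ring⟩

/-- A derivation applied to a decomposed element. -/
theorem deriv_dec (D : Derivation R (MvPolynomial (Fin 2) R) (MvPolynomial (Fin 2) R))
    (q₀₀ q₁₀ q₀₁ q₁₁ : MvPolynomial (Fin 2) R) :
    D (dec q₀₀ q₁₀ q₀₁ q₁₁) = expand 2 q₁₀ * D (X 0) + expand 2 q₀₁ * D (X 1) +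
      expand 2 q₁₁ * (X 1 * D (X 0) + X 0 * D (X 1)) := by
  simp only [dec, map_add, D.leibniz, deriv_expand, smul_zero, zero_add, smul_eq_mul, add_zero]
  ring

theorem dec_eq_zero {q₀₀ q₁₀ q₀₁ q₁₁ : MvPolynomial (Fin 2) R} (h : dec q₀₀ q₁₀ q₀₁ q₁₁ = 0) :
    q₀₀ = 0 ∧ q₁₀ = 0 ∧ q₀₁ = 0 ∧ q₁₁ = 0 := by
  have hinj := expand_injective (R := R) (σ := Fin 2) (n := 2) (by norm_num)
  have h0 := congrArg (pderiv (R := R) (0 : Fin 2)) h
  have h1 := congrArg (pderiv (R := R) (1 : Fin 2)) h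
  rw [deriv_dec, map_zero] at h0 h1
  simp only [pderiv_X_self, pderiv_X_of_ne (show (1 : Fin 2) ≠ 0 by decide),
    pderiv_X_of_ne (show (0 : Fin 2) ≠ 1 by decide), mul_one, mul_zero, add_zero, zero_add] at h0 h1
  -- h0 : E q₁₀ + E q₁₁ * X 1 = 0,  h1 : E q₀₁ + E q₁₁ * X 0 = 0
  have h01 := congrArg (pderiv (R := R) (1 : Fin 2)) h0
  rw [map_add, map_zero, Derivation.leibniz, deriv_expand, deriv_expand, pderiv_X_self] at h01
  simp only [smul_zero, add_zero, zero_add, smul_eq_mul, mul_one, mul_zero] at h01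
  have hq11 : q₁₁ = 0 := hinj (by rw [h01, map_zero])
  rw [hq11, map_zero, zero_mul, add_zero] at h0 h1
  have hq10 : q₁₀ = 0 := hinj (by rw [h0, map_zero])
  have hq01 : q₀₁ = 0 := hinj (by rw [h1, map_zero])
  rw [hq11, hq10, hq01] at h
  simp only [dec, map_zero, mul_zero, add_zero] at h
  exact ⟨hinj (by rw [h, map_zero]), hq10, hq01, hq11⟩

omit [CharP R 2] in
theorem dec_sub (a b c d a' b' c' d' : MvPolynomial (Fin 2) R) :
    dec a b c d - dec a' b' c' d' = dec (a - a') (b - b') (c - c') (d - d') := by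
  simp only [dec, map_sub]; ring

theorem dec_inj {a b c d a' b' c' d' : MvPolynomial (Fin 2) R} (h : dec a b c d = dec a' b' c' d') :
    a = a' ∧ b = b' ∧ c = c' ∧ d = d' := by
  have := dec_eq_zero (by rw [← dec_sub, h, sub_self] : dec (a - a') (b - b') (c - c') (d - d') = 0)
  exact ⟨sub_eq_zero.mp this.1, sub_eq_zero.mp this.2.1, sub_eq_zero.mp this.2.2.1,
    sub_eq_zero.mp this.2.2.2⟩

/-! ### The kernel of `R[a,b,c] → R[x,y]`, `a ↦ x²`, `b ↦ y²`, `c ↦ h` -/

/-- The inclusion `R[a,b] → R[a,b,c]`. -/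
noncomputable def incl : MvPolynomial (Fin 2) R →ₐ[R] MvPolynomial (Fin 3) R :=
  aeval ![X 0, X 1]

omit [CharP R 2] in
theorem exists_reduction (G : MvPolynomial (Fin 2) R) (P : MvPolynomial (Fin 3) R) :
    ∃ P₀ P₁ : MvPolynomial (Fin 2) R,
      P - (incl P₀ + incl P₁ * X 2) ∈ Ideal.span {(X 2 ^ 2 + incl G : MvPolynomial (Fin 3) R)} := by
  set I := Ideal.span {(X 2 ^ 2 + incl G : MvPolynomial (Fin 3) R)} with hI
  have hF : (X 2 ^ 2 + incl G : MvPolynomial (Fin 3) R) ∈ I := Ideal.subset_span rfl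
  induction P using MvPolynomial.induction_on with
  | C r =>
    refine ⟨C r, 0, ?_⟩
    simp [incl]
  | add p q hp hq =>
    obtain ⟨a, b, hab⟩ := hp
    obtain ⟨a', b', hab'⟩ := hq
    refine ⟨a + a', b + b', ?_⟩
    have := I.add_mem hab hab'
    convert this using 1
    simp only [map_add]; ring
  | mul_X p i hp =>
    obtain ⟨a, b, hab⟩ := hp
    fin_cases i
    · refine ⟨a * X 0, b * X 0, ?_⟩
      have := I.mul_mem_right (X 0) hab
      convert this using 1
      simp only [map_mul, incl, aeval_X, Matrix.cons_val_zero, Fin.zero_eta]; ring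
    · refine ⟨a * X 1, b * X 1, ?_⟩
      have := I.mul_mem_right (X 1) hab
      convert this using 1
      simp only [map_mul, incl, aeval_X, Matrix.cons_val_one, Matrix.cons_val_zero, Fin.mk_one]; ring
    · refine ⟨-(b * G), a, ?_⟩
      have := I.add_mem (I.mul_mem_right (X 2) hab) (I.mul_mem_left (incl b) hF)
      convert this using 1
      simp only [map_mul, map_neg, Fin.reduceFinMk]; ring

omit [CharP R 2] in
theorem aeval_incl (h : MvPolynomial (Fin 2) R) (q : MvPolynomial (Fin 2) R) :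
    aeval (R := R) (S₁ := MvPolynomial (Fin 2) R) ![X 0 ^ 2, X 1 ^ 2, h] (incl q) = expand 2 q := by
  have : (aeval (R := R) (S₁ := MvPolynomial (Fin 2) R) ![X 0 ^ 2, X 1 ^ 2, h]).comp incl =
      expand 2 := by
    apply MvPolynomial.algHom_ext
    intro i
    fin_cases i <;> simp [incl]
  exact DFunLike.congr_fun this q

/-- The kernel of `a ↦ x², b ↦ y², c ↦ h` for `h = x E α + y E β + xy E γ` with `γ` regular,
where `h² = E G`. -/
theorem ker_aeval_eq_span {α β γ G : MvPolynomial (Fin 2) R} (hγ : IsLeftRegular γ)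
    {h : MvPolynomial (Fin 2) R}
    (hh : h = X 0 * expand 2 α + X 1 * expand 2 β + X 0 * X 1 * expand 2 γ)
    (hG : h ^ 2 = expand 2 G) :
    RingHom.ker (aeval (R := R) (S₁ := MvPolynomial (Fin 2) R) ![X 0 ^ 2, X 1 ^ 2, h]) =
      Ideal.span {(X 2 ^ 2 + incl G : MvPolynomial (Fin 3) R)} := by
  set φ := aeval (R := R) (S₁ := MvPolynomial (Fin 2) R) ![X 0 ^ 2, X 1 ^ 2, h] with hφ
  have hφc : φ (X 2) = h := by simp [hφ]
  have hF : φ (X 2 ^ 2 + incl G) = 0 := by
    rw [map_add, map_pow, hφc, hφ, aeval_incl, hG]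
    have : expand 2 G + expand 2 G = 2 * expand 2 G := by ring
    rw [this, two_eq_zero₂, zero_mul]
  have hle : Ideal.span {(X 2 ^ 2 + incl G : MvPolynomial (Fin 3) R)} ≤ RingHom.ker φ := by
    rw [Ideal.span_le, Set.singleton_subset_iff]
    exact hF
  refine le_antisymm ?_ hle
  intro P hP
  rw [RingHom.mem_ker] at hP
  obtain ⟨P₀, P₁, hred⟩ := exists_reduction G P
  have h0 := hle hred
  rw [RingHom.mem_ker, map_sub, hP, zero_sub, neg_eq_zero, map_add, map_mul, hφc, hφ, aeval_incl,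
    aeval_incl, hh] at h0
  have hdec : dec P₀ (P₁ * α) (P₁ * β) (P₁ * γ) = 0 := by
    rw [← h0]; simp only [dec, map_mul]; ring
  obtain ⟨h1, -, -, h4⟩ := dec_eq_zero hdec
  have hP1 : P₁ = 0 := by
    have : γ * P₁ = γ * 0 := by rw [mul_zero, mul_comm]; exact h4
    exact hγ this
  simp only [h1, hP1, map_zero, zero_mul, add_zero, sub_zero] at hred
  exact hred

/-! ### Derivations with `D x = E A₀ + x E T`, `D y = E B₀ + y E T` -/

theorem add_self₂ (p : MvPolynomial (Fin 2) R) : p + p = 0 := CharTwo.add_self_eq_zero p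

theorem deriv_dec' (D : Derivation R (MvPolynomial (Fin 2) R) (MvPolynomial (Fin 2) R))
    {A₀ B₀ T : MvPolynomial (Fin 2) R} (hDx : D (X 0) = expand 2 A₀ + X 0 * expand 2 T)
    (hDy : D (X 1) = expand 2 B₀ + X 1 * expand 2 T) (q₀₀ q₁₀ q₀₁ q₁₁ : MvPolynomial (Fin 2) R) :
    D (dec q₀₀ q₁₀ q₀₁ q₁₁) =
      dec (q₁₀ * A₀ + q₀₁ * B₀) (q₁₀ * T + q₁₁ * B₀) (q₀₁ * T + q₁₁ * A₀) 0 := by
  rw [deriv_dec, hDx, hDy]
  simp only [dec, map_add, map_mul, map_zero, mul_zero, add_zero]
  have h2 := add_self₂ (X 0 * X 1 * expand 2 q₁₁ * expand 2 T)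
  linear_combination h2

omit [CharP R 2] in
/-- A derivation killing the generators kills the image of `aeval`. -/
theorem deriv_aeval_eq_zero {σ : Type*}
    (D : Derivation R (MvPolynomial (Fin 2) R) (MvPolynomial (Fin 2) R))
    (f : σ → MvPolynomial (Fin 2) R) (hf : ∀ i, D (f i) = 0) (P : MvPolynomial σ R) :
    D (aeval f P) = 0 := by
  induction P using MvPolynomial.induction_on with
  | C r =>
    rw [aeval_C]
    exact D.map_algebraMap r
  | add p q hp hq => rw [map_add, map_add, hp, hq, add_zero]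
  | mul_X p i hp => rw [map_mul, aeval_X, D.leibniz, hp, hf, smul_zero, smul_zero, add_zero]

omit [CharP R 2] in
theorem expand_mem_adjoin (s : Set (MvPolynomial (Fin 2) R))
    (h0 : (X 0 ^ 2 : MvPolynomial (Fin 2) R) ∈ s) (h1 : (X 1 ^ 2 : MvPolynomial (Fin 2) R) ∈ s)
    (q : MvPolynomial (Fin 2) R) : expand 2 q ∈ Algebra.adjoin R s := by
  induction q using MvPolynomial.induction_on with
  | C r =>
    rw [expand_C]
    exact (Algebra.adjoin R s).algebraMap_mem r
  | add p q hp hq => rw [map_add]; exact (Algebra.adjoin R s).add_mem hp hq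
  | mul_X p i hp =>
    rw [map_mul, expand_X]
    refine (Algebra.adjoin R s).mul_mem hp (Algebra.subset_adjoin ?_)
    fin_cases i
    · exact h0
    · exact h1

end Groth.Agent.Lib.Helper13.Parity2
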