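
import Groth.Agent.Lib.Helper13.NormRedIso
import Groth.Agent.Lib.Helper13.NormField
import Groth.Agent.Lib.Helper13.NormFT
import Groth.Agent.Lib.Helper5.RegSmoothScheme
import Groth.Agent.Lib.Helper27.NoethLfp
import Groth.Prelude.Def_Curv2

set_option autoImplicit false
set_option linter.style.haveILetI false
universe u
open CategoryTheory CategoryTheory.Limits AlgebraicGeometry TopologicalSpace

namespace Groth.Agent.Lib.Helper13.PerfNorm

open Groth.Agent.Lib.Helper13

/-- dimension is a topological invariant -/
theorem topologicalKrullDim_eq_of_isHomeomorph {A B : Type*} [TopologicalSpace A]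
    [TopologicalSpace B] (f : A → B) (hf : IsHomeomorph f) :
    topologicalKrullDim A = topologicalKrullDim B :=
  IsHomeomorph.topologicalKrullDim_eq f hf

section
variable (K : Type u) [Field K] [PerfectField K] (W : Scheme.{u})
  (str : W ⟶ Spec (CommRingCat.of K)) [LocallyOfFiniteType str]
  [IsIntegral W.nilradical.subscheme]
  [QuasiCompact (W.nilradical.subscheme.fromSpecStalk (genericPoint W.nilradical.subscheme))]
  [QuasiSeparated (W.nilradical.subscheme.fromSpecStalk (genericPoint W.nilradical.subscheme))]
  (hdim : topologicalKrullDim W ≤ 1)

include hdim in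
/-- over a perfect field, the normalization of the reduction of a scheme of finite type of
dimension `≤ 1` is finite over it, smooth over the field, surjective, and a closed immersion over
a nonempty open -/
theorem props :
    IsFinite (Curv2.normalizationι W.nilradical.subscheme ≫ W.nilradical.subschemeι) ∧
    Smooth ((Curv2.normalizationι W.nilradical.subscheme ≫ W.nilradical.subschemeι) ≫ str) ∧
    Surjective (Curv2.normalizationι W.nilradical.subscheme ≫ W.nilradical.subschemeι) ∧
    IsIntegral (Curv2.normalization W.nilradical.subscheme) ∧
    ∃ V : W.Opens, (V : Set W).Nonempty ∧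
      IsClosedImmersion
        ((Curv2.normalizationι W.nilradical.subscheme ≫ W.nilradical.subschemeι) ∣_ V) := by
  unfold Curv2.normalizationι Curv2.normalization
  have hιhomeo := NormRedIso.isHomeomorph_subschemeι_nilradical W
  haveI : LocallyOfFiniteType (W.nilradical.subschemeι ≫ str) := inferInstance
  haveI : IsLocallyNoetherian W.nilradical.subscheme :=
    LocallyOfFiniteType.isLocallyNoetherian (W.nilradical.subschemeι ≫ str)
  have hdimZ : topologicalKrullDim W.nilradical.subscheme ≤ 1 := by
    rw [IsHomeomorph.topologicalKrullDim_eq _ hιhomeo]
    exact hdim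
  -- finiteness
  have hfin : IsFinite ((W.nilradical.subscheme.fromSpecStalk (genericPoint W.nilradical.subscheme)).fromNormalization) :=
    NormField.isFinite_fromNormalization K W.nilradical.subscheme (W.nilradical.subschemeι ≫ str)
      W.nilradical.subscheme.functionField (RingHom.id _)
      (RingHom.Finite.id _)
      (W.nilradical.subscheme.fromSpecStalk (genericPoint W.nilradical.subscheme))
      (by simp)
  haveI := hfin
  haveI hint : IsIntegral ((W.nilradical.subscheme.fromSpecStalk (genericPoint W.nilradical.subscheme)).normalization) :=
    NormDimOne.isIntegral_normalization W.nilradical.subscheme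
  -- surjectivity
  haveI : Surjective ((W.nilradical.subscheme.fromSpecStalk (genericPoint W.nilradical.subscheme)).fromNormalization) :=
    ⟨Normalization.surjective_fromNormalization
      (Field.toIsField W.nilradical.subscheme.functionField) _
      (NormDimOne.hgη_fromSpecStalk W.nilradical.subscheme)⟩
  haveI : Surjective W.nilradical.subschemeι :=
    ⟨NormRedIso.subschemeι_nilradical_surjective W⟩
  refine ⟨inferInstance, ?_, inferInstance, hint, ?_⟩
  · -- smoothness
    haveI : LocallyOfFiniteType
        (((W.nilradical.subscheme.fromSpecStalk (genericPoint W.nilradical.subscheme)).fromNormalization ≫ W.nilradical.subschemeι) ≫ str) :=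
      inferInstance
    haveI : LocallyOfFinitePresentation
        (((W.nilradical.subscheme.fromSpecStalk (genericPoint W.nilradical.subscheme)).fromNormalization ≫ W.nilradical.subschemeι) ≫ str) :=
      Groth.Agent.Lib.Helper27.NoethLfp.locallyOfFinitePresentation_of_isLocallyNoetherian _
    rw [← Scheme.Hom.smoothLocus_eq_top_iff]
    refine top_le_iff.mp fun y _ => ?_
    rw [Groth.Agent.Lib.Helper5.RegSmoothCore.mem_smoothLocus_iff_regular K]
    by_cases hy : y = genericPoint ((W.nilradical.subscheme.fromSpecStalk (genericPoint W.nilradical.subscheme)).normalization)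
    · subst hy
      change IsRegularLocalRing ((W.nilradical.subscheme.fromSpecStalk (genericPoint W.nilradical.subscheme)).normalization).functionField
      infer_instance
    · obtain ⟨hdom, hdvr⟩ :=
        NormDimOne.isDiscreteValuationRing_stalk W.nilradical.subscheme hdimZ y hy
      haveI := hdom
      haveI := hdvr
      infer_instance
  · -- the normal open
    obtain ⟨V', hV'ne, hV'⟩ := NormFT.exists_normal_open K (W.nilradical.subschemeι ≫ str)
    have hiso : IsIso ((W.nilradical.subscheme.fromSpecStalk (genericPoint W.nilradical.subscheme)).fromNormalization ∣_ V') :=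
      NormIso.isIso_morphismRestrict_normalization W.nilradical.subscheme V' hV'
    let V : W.Opens := ⟨W.nilradical.subschemeι '' (V' : Set W.nilradical.subscheme),
      hιhomeo.isOpenMap _ V'.isOpen⟩
    have hVV' : W.nilradical.subschemeι ⁻¹ᵁ V = V' := by
      apply TopologicalSpace.Opens.ext
      exact Set.preimage_image_eq _ hιhomeo.injective
    refine ⟨V, ?_, ?_⟩
    · obtain ⟨z, hz⟩ := hV'ne
      exact ⟨_, z, hz, rfl⟩
    · rw [morphismRestrict_comp]
      have hiso' : IsIso ((W.nilradical.subscheme.fromSpecStalk
          (genericPoint W.nilradical.subscheme)).fromNormalization ∣_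
          (W.nilradical.subschemeι ⁻¹ᵁ V)) := by
        rw [hVV']; exact hiso
      have hcl : IsClosedImmersion (W.nilradical.subschemeι ∣_ V) :=
        MorphismProperty.of_isPullback (P := @IsClosedImmersion)
          (isPullback_morphismRestrict W.nilradical.subschemeι V).flip inferInstance
      exact (@MorphismProperty.cancel_left_of_respectsIso _ _ @IsClosedImmersion _ _ _ _
        _ (W.nilradical.subschemeι ∣_ V) hiso').mpr hcl

end


section gen
variable (K : Type u) [Field K] (W : Scheme.{u})
  (str : W ⟶ Spec (CommRingCat.of K)) [LocallyOfFiniteType str]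
  [IsIntegral W.nilradical.subscheme]
  [QuasiCompact (W.nilradical.subscheme.fromSpecStalk (genericPoint W.nilradical.subscheme))]
  [QuasiSeparated (W.nilradical.subscheme.fromSpecStalk (genericPoint W.nilradical.subscheme))]

include str in
/-- over any field, the normalization of the reduction of a scheme locally of finite type is finite
over it, surjective, integral, and a closed immersion over a nonempty open -/
theorem props_gen :
    IsFinite (Curv2.normalizationι W.nilradical.subscheme ≫ W.nilradical.subschemeι) ∧
    Surjective (Curv2.normalizationι W.nilradical.subscheme ≫ W.nilradical.subschemeι) ∧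
    IsIntegral (Curv2.normalization W.nilradical.subscheme) ∧
    ∃ V : W.Opens, (V : Set W).Nonempty ∧
      IsClosedImmersion
        ((Curv2.normalizationι W.nilradical.subscheme ≫ W.nilradical.subschemeι) ∣_ V) := by
  unfold Curv2.normalizationι Curv2.normalization
  have hιhomeo := NormRedIso.isHomeomorph_subschemeι_nilradical W
  haveI : LocallyOfFiniteType (W.nilradical.subschemeι ≫ str) := inferInstance
  -- finiteness
  have hfin : IsFinite (W.nilradical.subscheme.fromSpecStalk (genericPoint W.nilradical.subscheme)).fromNormalization :=
    NormField.isFinite_fromNormalization K W.nilradical.subscheme (W.nilradical.subschemeι ≫ str)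
      W.nilradical.subscheme.functionField (RingHom.id _)
      (RingHom.Finite.id _)
      (W.nilradical.subscheme.fromSpecStalk (genericPoint W.nilradical.subscheme))
      (by simp)
  haveI := hfin
  haveI hint : IsIntegral (W.nilradical.subscheme.fromSpecStalk (genericPoint W.nilradical.subscheme)).normalization :=
    NormDimOne.isIntegral_normalization W.nilradical.subscheme
  -- surjectivity
  haveI : Surjective (W.nilradical.subscheme.fromSpecStalk (genericPoint W.nilradical.subscheme)).fromNormalization :=
    ⟨Normalization.surjective_fromNormalization
      (Field.toIsField W.nilradical.subscheme.functionField) _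
      (NormDimOne.hgη_fromSpecStalk W.nilradical.subscheme)⟩
  haveI : Surjective W.nilradical.subschemeι :=
    ⟨NormRedIso.subschemeι_nilradical_surjective W⟩
  refine ⟨inferInstance, inferInstance, hint, ?_⟩
  -- the normal open
  obtain ⟨V', hV'ne, hV'⟩ := NormFT.exists_normal_open K (W.nilradical.subschemeι ≫ str)
  have hiso : IsIso ((W.nilradical.subscheme.fromSpecStalk (genericPoint W.nilradical.subscheme)).fromNormalization ∣_ V') :=
    NormIso.isIso_morphismRestrict_normalization W.nilradical.subscheme V' hV'
  let V : W.Opens := ⟨W.nilradical.subschemeι '' (V' : Set W.nilradical.subscheme),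
    hιhomeo.isOpenMap _ V'.isOpen⟩
  have hVV' : W.nilradical.subschemeι ⁻¹ᵁ V = V' := by
    apply TopologicalSpace.Opens.ext
    exact Set.preimage_image_eq _ hιhomeo.injective
  refine ⟨V, ?_, ?_⟩
  · obtain ⟨z, hz⟩ := hV'ne
    exact ⟨_, z, hz, rfl⟩
  · rw [morphismRestrict_comp]
    have hiso' : IsIso ((W.nilradical.subscheme.fromSpecStalk
        (genericPoint W.nilradical.subscheme)).fromNormalization ∣_
        (W.nilradical.subschemeι ⁻¹ᵁ V)) := by
      rw [hVV']; exact hiso
    have hcl : IsClosedImmersion (W.nilradical.subschemeι ∣_ V) :=
      MorphismProperty.of_isPullback (P := @IsClosedImmersion)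
        (isPullback_morphismRestrict W.nilradical.subschemeι V).flip inferInstance
    exact (@MorphismProperty.cancel_left_of_respectsIso _ _ @IsClosedImmersion _ _ _ _
      _ (W.nilradical.subschemeι ∣_ V) hiso').mpr hcl


end gen

end Groth.Agent.Lib.Helper13.PerfNorm
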