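import Groth.Agent.Lib.Helper13.JLemmas

/-!
# The polynomial Lie algebra `L[X] = R[X] ⊗ L`, its Euler derivation, and a separation lemma
(helper13 library for the `PLie` area).

The point: `L[X] × R` is a Lie module over `L[X]` (the adjoint action of `L[X] ⋊ R·(X d/dX)`
restricted to `L[X]`); an element `w` of `L[X]` acting by zero satisfies `X dw/dX = 0`.  This is
used as a substitute for a faithful representation (no PBW theorem in Mathlib).
-/

set_option autoImplicit false

attribute [local instance 100] LieRing.ofAssociativeRing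

open scoped TensorProduct
open Polynomial

namespace Groth.Agent.Lib.Helper13.PolyLie

variable (R : Type*) [CommRing R] (L : Type*) [LieRing L] [LieAlgebra R L]

/-- `L[X] = R[X] ⊗ L`, as a type synonym (so that the bracket is found through `LieRing`). -/
def PolyL : Type _ := R[X] ⊗[R] L

noncomputable instance : LieRing (PolyL R L) := LieAlgebra.ExtendScalars.instLieRing R R[X] L

noncomputable instance : LieAlgebra R (PolyL R L) :=
  LieAlgebra.ExtendScalars.instBaseLieAlgebra R R[X] L

variable {R L}

/-- pure tensors `f ⊗ x` -/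
noncomputable def tm (f : R[X]) (x : L) : PolyL R L := f ⊗ₜ[R] x

theorem lie_tm (f g : R[X]) (x y : L) : ⁅tm f x, tm g y⁆ = tm (f * g) ⁅x, y⁆ := rfl

theorem tm_add (f : R[X]) (x y : L) : tm f (x + y) = tm f x + tm f y := TensorProduct.tmul_add _ _ _

theorem add_tm (f g : R[X]) (x : L) : tm (f + g) x = tm f x + tm g x := TensorProduct.add_tmul _ _ _

theorem tm_smul (c : R) (f : R[X]) (x : L) : tm f (c • x) = c • tm f x :=
  TensorProduct.tmul_smul _ _ _

@[elab_as_elim]
theorem induction_on {motive : PolyL R L → Prop} (w : PolyL R L) (zero : motive 0)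
    (tm : ∀ f x, motive (tm f x)) (add : ∀ u v, motive u → motive v → motive (u + v)) :
    motive w :=
  TensorProduct.induction_on w zero tm add

variable (R L)

/-- coefficient of `X^n` -/
noncomputable def cf (n : ℕ) : PolyL R L →ₗ[R] L :=
  (TensorProduct.lift ((LinearMap.lsmul R L).comp (lcoeff R n)) : R[X] ⊗[R] L →ₗ[R] L)

@[simp] theorem cf_tm (n : ℕ) (f : R[X]) (x : L) : cf R L n (tm f x) = f.coeff n • x :=
  (TensorProduct.lift.tmul (f' := (LinearMap.lsmul R L).comp (lcoeff R n)) f x).trans (by simp)

theorem cf_lie (n : ℕ) (u v : PolyL R L) :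
    cf R L n ⁅u, v⁆ =
      ∑ ij ∈ Finset.HasAntidiagonal.antidiagonal n, ⁅cf R L ij.1 u, cf R L ij.2 v⁆ := by
  induction u using induction_on with
  | zero => simp
  | tm f x =>
    induction v using induction_on with
    | zero => simp
    | tm g y =>
      rw [lie_tm, cf_tm, coeff_mul, Finset.sum_smul]
      refine Finset.sum_congr rfl fun ij _ => ?_
      rw [cf_tm, cf_tm, smul_lie, lie_smul, smul_smul]
    | add v₁ v₂ h₁ h₂ =>
      rw [lie_add, map_add, h₁, h₂, ← Finset.sum_add_distrib]
      refine Finset.sum_congr rfl fun ij _ => ?_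
      rw [map_add, lie_add]
  | add u₁ u₂ h₁ h₂ =>
    rw [add_lie, map_add, h₁, h₂, ← Finset.sum_add_distrib]
    refine Finset.sum_congr rfl fun ij _ => ?_
    rw [map_add, add_lie]

/-- `f ↦ X f'` -/
noncomputable def eulerPoly : R[X] →ₗ[R] R[X] := (LinearMap.mulLeft R (X : R[X])).comp derivative

@[simp] theorem eulerPoly_apply (f : R[X]) : eulerPoly R f = X * derivative f := rfl

/-- the Euler derivation `X d/dX` of `L[X]` -/
noncomputable def euler : PolyL R L →ₗ[R] PolyL R L :=
  (LinearMap.rTensor L (eulerPoly R) : R[X] ⊗[R] L →ₗ[R] R[X] ⊗[R] L)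

@[simp] theorem euler_tm (f : R[X]) (x : L) :
    euler R L (tm f x) = tm (X * derivative f) x :=
  LinearMap.rTensor_tmul L (eulerPoly R) x f

theorem cf_euler (n : ℕ) (u : PolyL R L) : cf R L n (euler R L u) = (n : R) • cf R L n u := by
  induction u using induction_on with
  | zero => simp
  | tm f x =>
    rw [euler_tm, cf_tm, cf_tm, smul_smul]
    congr 1
    cases n with
    | zero => simp
    | succ n => rw [coeff_X_mul, coeff_derivative]; push_cast; ring
  | add u₁ u₂ h₁ h₂ => rw [map_add, map_add, h₁, h₂, map_add, smul_add]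

theorem euler_lie (u v : PolyL R L) :
    euler R L ⁅u, v⁆ = ⁅euler R L u, v⁆ + ⁅u, euler R L v⁆ := by
  induction u using induction_on with
  | zero => simp
  | tm f x =>
    induction v using induction_on with
    | zero => simp
    | tm g y =>
      rw [lie_tm, euler_tm, euler_tm, euler_tm, lie_tm, lie_tm, ← add_tm, derivative_mul]
      congr 1
      ring
    | add v₁ v₂ h₁ h₂ =>
      rw [lie_add, map_add, h₁, h₂, map_add, lie_add, lie_add]
      abel
  | add u₁ u₂ h₁ h₂ =>
    rw [add_lie, map_add, h₁, h₂, map_add, add_lie, add_lie]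
    abel

/-- evaluation at `a`, as a linear map -/
noncomputable def evLin (a : R) : PolyL R L →ₗ[R] L :=
  (TensorProduct.lift ((LinearMap.lsmul R L).comp (leval a)) : R[X] ⊗[R] L →ₗ[R] L)

@[simp] theorem evLin_tm (a : R) (f : R[X]) (x : L) : evLin R L a (tm f x) = f.eval a • x :=
  (TensorProduct.lift.tmul (f' := (LinearMap.lsmul R L).comp (leval a)) f x).trans (by simp)

theorem evLin_lie (a : R) (u v : PolyL R L) :
    evLin R L a ⁅u, v⁆ = ⁅evLin R L a u, evLin R L a v⁆ := by
  induction u using induction_on with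
  | zero => simp
  | tm f x =>
    induction v using induction_on with
    | zero => simp
    | tm g y =>
      rw [lie_tm, evLin_tm, evLin_tm, evLin_tm, eval_mul, smul_lie, lie_smul, smul_smul]
    | add v₁ v₂ h₁ h₂ => rw [lie_add, map_add, h₁, h₂, map_add, lie_add]
  | add u₁ u₂ h₁ h₂ => rw [add_lie, map_add, h₁, h₂, map_add, add_lie]

/-- evaluation at `a`, as a Lie algebra homomorphism `L[X] → L` -/
noncomputable def ev (a : R) : PolyL R L →ₗ⁅R⁆ L :=
  { evLin R L a with map_lie' := fun {u v} => evLin_lie R L a u v }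

@[simp] theorem ev_tm (a : R) (f : R[X]) (x : L) : ev R L a (tm f x) = f.eval a • x :=
  evLin_tm R L a f x

theorem ev_eq_sum (a : R) (w : PolyL R L) :
    ∃ N₀ : ℕ, ∀ N, N₀ ≤ N → ev R L a w = ∑ n ∈ Finset.range N, a ^ n • cf R L n w := by
  induction w using induction_on with
  | zero => exact ⟨0, fun N _ => by simp⟩
  | tm f x =>
    refine ⟨f.natDegree + 1, fun N hN => ?_⟩
    rw [ev_tm, eval_eq_sum_range' (show f.natDegree < N by omega), Finset.sum_smul]
    refine Finset.sum_congr rfl fun n _ => ?_
    rw [cf_tm, smul_smul, mul_comm]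
  | add u₁ u₂ h₁ h₂ =>
    obtain ⟨N₁, h₁⟩ := h₁
    obtain ⟨N₂, h₂⟩ := h₂
    refine ⟨max N₁ N₂, fun N hN => ?_⟩
    rw [map_add, h₁ N (le_trans (le_max_left _ _) hN), h₂ N (le_trans (le_max_right _ _) hN),
      ← Finset.sum_add_distrib]
    refine Finset.sum_congr rfl fun n _ => ?_
    rw [map_add, smul_add]


/-! ### The module `L[X] × R` -/

/-- the action of `g ∈ L[X]` on `L[X] × R`: `(m, t) ↦ (⁅g, m⁆ - t • E g, 0)` -/
noncomputable def rhoEnd (g : PolyL R L) : Module.End R (PolyL R L × R) :=
  (LinearMap.inl R (PolyL R L) R).comp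
    (LinearMap.coprod (LieAlgebra.ad R (PolyL R L) g)
      (-(LinearMap.toSpanSingleton R (PolyL R L) (euler R L g))))

theorem rhoEnd_apply (g m : PolyL R L) (t : R) :
    rhoEnd R L g (m, t) = (⁅g, m⁆ - t • euler R L g, 0) := by
  simp [rhoEnd, sub_eq_add_neg]

/-- `L[X] × R` as a representation of `L[X]` -/
noncomputable def rho : PolyL R L →ₗ⁅R⁆ Module.End R (PolyL R L × R) :=
  { toFun := rhoEnd R L
    map_add' := by
      intro g h
      refine LinearMap.ext fun ⟨m, t⟩ => ?_
      rw [LinearMap.add_apply, rhoEnd_apply, rhoEnd_apply, rhoEnd_apply]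
      ext
      · simp only [Prod.fst_add, add_lie, map_add, smul_add]; abel
      · simp
    map_smul' := by
      intro c g
      refine LinearMap.ext fun ⟨m, t⟩ => ?_
      rw [LinearMap.smul_apply, rhoEnd_apply, rhoEnd_apply]
      ext
      · simp only [Prod.smul_fst, smul_lie, map_smul, RingHom.id_apply, smul_sub, smul_comm t c]
      · simp
    map_lie' := by
      intro g h
      refine LinearMap.ext fun ⟨m, t⟩ => ?_
      rw [LieRing.of_associative_ring_bracket, LinearMap.sub_apply, Module.End.mul_apply,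
        Module.End.mul_apply, rhoEnd_apply, rhoEnd_apply, rhoEnd_apply, rhoEnd_apply,
        rhoEnd_apply, euler_lie]
      ext
      · simp only [Prod.fst_sub, zero_smul, sub_zero, lie_sub, lie_smul, smul_add, lie_lie]
        rw [← lie_skew h (euler R L g)]
        simp only [smul_neg]
        abel
      · simp }

theorem rho_apply (g m : PolyL R L) (t : R) :
    rho R L g (m, t) = (⁅g, m⁆ - t • euler R L g, 0) := rhoEnd_apply R L g m t

theorem euler_eq_zero_of_rho_eq_zero (w : PolyL R L) (h : rho R L w = 0) : euler R L w = 0 := by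
  have := congrArg (fun f => (f ((0 : PolyL R L), (1 : R))).1) h
  simpa [rho_apply] using this

/-! ### Degrees -/

/-- `u` has degree at most `d` in `X` -/
def degLE (d : ℕ) (u : PolyL R L) : Prop := ∀ n, d < n → cf R L n u = 0

variable {R L}

theorem degLE_mono {d e : ℕ} (h : d ≤ e) {u : PolyL R L} (hu : degLE R L d u) : degLE R L e u :=
  fun n hn => hu n (lt_of_le_of_lt h hn)

theorem degLE_zero (d : ℕ) : degLE R L d (0 : PolyL R L) := fun n _ => by simp

theorem degLE_add {d : ℕ} {u v : PolyL R L} (hu : degLE R L d u) (hv : degLE R L d v) :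
    degLE R L d (u + v) := fun n hn => by rw [map_add, hu n hn, hv n hn, add_zero]

theorem degLE_sub {d : ℕ} {u v : PolyL R L} (hu : degLE R L d u) (hv : degLE R L d v) :
    degLE R L d (u - v) := fun n hn => by rw [map_sub, hu n hn, hv n hn, sub_zero]

theorem degLE_smul {d : ℕ} (c : R) {u : PolyL R L} (hu : degLE R L d u) :
    degLE R L d (c • u) := fun n hn => by rw [map_smul, hu n hn, smul_zero]

theorem degLE_sum {ι : Type*} (s : Finset ι) {d : ℕ} (u : ι → PolyL R L)
    (hu : ∀ i ∈ s, degLE R L d (u i)) : degLE R L d (∑ i ∈ s, u i) := fun n hn => by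
  rw [map_sum]
  exact Finset.sum_eq_zero fun i hi => hu i hi n hn

theorem degLE_lie {d e : ℕ} {u v : PolyL R L} (hu : degLE R L d u) (hv : degLE R L e v) :
    degLE R L (d + e) ⁅u, v⁆ := fun n hn => by
  rw [cf_lie]
  refine Finset.sum_eq_zero fun ij hij => ?_
  have hsum : ij.1 + ij.2 = n := Finset.HasAntidiagonal.mem_antidiagonal.1 hij
  by_cases h1 : d < ij.1
  · rw [hu _ h1, zero_lie]
  · rw [hv _ (by omega), lie_zero]

theorem degLE_tm (f : R[X]) (x : L) : degLE R L f.natDegree (tm f x) := fun n hn => by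
  rw [cf_tm, coeff_eq_zero_of_natDegree_lt hn, zero_smul]

theorem degLE_tm_one (x : L) : degLE R L 0 (tm (1 : R[X]) x) := by
  have := degLE_tm (1 : R[X]) x
  simpa using this

theorem degLE_tm_X (x : L) : degLE R L 1 (tm (X : R[X]) x) :=
  degLE_mono natDegree_X_le (degLE_tm (X : R[X]) x)

open PLie in
theorem degLE_bracketWord_A {x₀ x₁ : PolyL R L} (h₀ : degLE R L 1 x₀) (h₁ : degLE R L 0 x₁)
    (l : List Bool) : degLE R L (l.count false) (bracketWord (pair x₀ x₁) x₁ l) := by
  induction l with
  | nil => simpa using h₁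
  | cons i l ih =>
    rw [bracketWord_cons]
    cases i with
    | false =>
      have := degLE_lie h₀ ih
      simpa [pair, add_comm] using this
    | true =>
      have := degLE_lie h₁ ih
      simpa [pair] using this

open PLie in
theorem degLE_bracketWord_B {x₀ x₁ : PolyL R L} (h₀ : degLE R L 0 x₀) (h₁ : degLE R L 1 x₁)
    (l : List Bool) : degLE R L (l.count true + 1) (bracketWord (pair x₀ x₁) x₁ l) := by
  induction l with
  | nil => simpa using h₁
  | cons i l ih =>
    rw [bracketWord_cons]
    cases i with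
    | false =>
      have := degLE_lie h₀ ih
      simpa [pair] using this
    | true =>
      have := degLE_lie h₁ ih
      simpa [pair, add_comm, add_assoc] using this


/-! ### The separation lemma -/

section Sep

variable (p : ℕ) [hp : Fact p.Prime] [CharP R p]

include hp in
theorem isUnit_natCast_of_lt {n : ℕ} (h0 : 0 < n) (hn : n < p) : IsUnit ((n : ℕ) : R) := by
  have hne : ((n : ℕ) : ZMod p) ≠ 0 := by
    rw [Ne, ZMod.natCast_eq_zero_iff]
    intro hdvd
    exact absurd (Nat.le_of_dvd h0 hdvd) (by omega)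
  have h1 : ((n : ℕ) : R) = (ZMod.castHom (dvd_refl p) R) ((n : ℕ) : ZMod p) := by simp
  rw [h1]
  exact (IsUnit.mk0 _ hne).map _

/-- **Separation lemma**: an element of `L[X]` of degree `< p` which acts by zero on `L[X] × R`
is constant: its values at `1` and `0` agree. -/
theorem ev_one_eq_ev_zero (w : PolyL R L) (hρ : rho R L w = 0)
    (hdeg : degLE R L (p - 1) w) : ev R L 1 w = ev R L 0 w := by
  have hE := euler_eq_zero_of_rho_eq_zero R L w hρ
  have hcf : ∀ n, 0 < n → cf R L n w = 0 := by
    intro n hn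
    by_cases hlt : n < p
    · have h1 := cf_euler R L n w
      rw [hE, map_zero] at h1
      obtain ⟨u, hu⟩ := isUnit_natCast_of_lt (R := R) p hn hlt
      rw [← hu] at h1
      have := congrArg (fun z => (↑u⁻¹ : R) • z) h1
      simpa [smul_smul] using this.symm
    · exact hdeg n (by have := hp.out.one_le; omega)
  obtain ⟨N₁, h₁⟩ := ev_eq_sum R L 1 w
  obtain ⟨N₀, h₀⟩ := ev_eq_sum R L 0 w
  set N := max (max N₁ N₀) 1 with hN
  rw [h₁ N (le_trans (le_max_left _ _) (le_max_left _ _)),
    h₀ N (le_trans (le_max_right _ _) (le_max_left _ _))]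
  refine Finset.sum_congr rfl fun n _ => ?_
  rcases Nat.eq_zero_or_pos n with h | h
  · subst h; simp
  · rw [hcf n h, smul_zero, smul_zero]

open PLie in
theorem degLE_jacobson_A {a b : PolyL R L} (ha : degLE R L 1 a) (hb : degLE R L 0 b) :
    degLE R L (p - 1) (jacobson R p a b) := by
  unfold jacobson
  refine degLE_sum _ _ fun t _ => degLE_smul _ ?_
  refine degLE_mono ?_ (degLE_bracketWord_A ha hb _)
  have := List.count_le_length (a := false) (l := List.ofFn t)
  rwa [List.length_ofFn] at this

open PLie in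
theorem degLE_jacobson_B {a b : PolyL R L} (hb : degLE R L 0 b) (ha : degLE R L 1 a) :
    degLE R L (p - 1) (jacobson R p b a) := by
  unfold jacobson
  refine degLE_sum _ _ fun t _ => ?_
  by_cases h : Fintype.card {i // t i = false} = 0
  · rw [h, Nat.cast_zero, inv_zero, map_zero, zero_smul]
    exact degLE_zero _
  · refine degLE_smul _ (degLE_mono ?_ (degLE_bracketWord_B hb ha _))
    have := Jacobson.count_true_add_card_false t
    omega

open PLie in
/-- the value of `ρ` on a Jacobson sum -/
theorem rho_jacobson (a b : PolyL R L) :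
    rho R L (jacobson R p a b) =
      rho R L a ^ p + rho R L b ^ p - (rho R L a + rho R L b) ^ p :=
  JLemmas.map_jacobson_assoc p (rho R L) a b

end Sep

end Groth.Agent.Lib.Helper13.PolyLie
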