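import Mathlib.CategoryTheory.Monoidal.Closed.Basic
import Mathlib.CategoryTheory.Monoidal.Cartesian.Basic
import Mathlib.CategoryTheory.Yoneda
import Mathlib.CategoryTheory.Adjunction.Basic

/-!
# `R [L Y, X] ≅ [Y, R X]` for an adjunction `L ⊣ R` with `L` preserving binary products
-/
universe v v' u u'
open CategoryTheory CategoryTheory.Limits MonoidalCategory MonoidalClosed CartesianMonoidalCategory

namespace Groth.Agent.Lib.Helper13.PushIhom

theorem push_ihom_pull_iso {E : Type u} [Category.{v} E] {E' : Type u'} [Category.{v'} E']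
    [CartesianMonoidalCategory E] [MonoidalClosed E]
    [CartesianMonoidalCategory E'] [MonoidalClosed E'] (L : E' ⥤ E) (R : E ⥤ E') (adj : L ⊣ R)
    [∀ A B : E', PreservesLimit (pair A B) L]
    (X : E) (Y : E') : Nonempty (R.obj ((ihom (L.obj Y)).obj X) ≅ (ihom Y).obj (R.obj X)) := by
  refine ⟨Yoneda.ext _ _
    (fun {W} g => curry (adj.homEquiv (Y ⊗ W) X
      (prodComparison L Y W ≫ uncurry ((adj.homEquiv W _).symm g))))
    (fun {W} g => adj.homEquiv W _ (curry (inv (prodComparison L Y W) ≫
      (adj.homEquiv (Y ⊗ W) X).symm (uncurry g))))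
    ?_ ?_ ?_⟩
  · intro W f
    rw [uncurry_curry, Equiv.symm_apply_apply, IsIso.inv_hom_id_assoc, curry_uncurry,
      Equiv.apply_symm_apply]
  · intro W f
    rw [Equiv.symm_apply_apply, uncurry_curry, IsIso.hom_inv_id_assoc, Equiv.apply_symm_apply,
      curry_uncurry]
  · intro W W' f g
    rw [Adjunction.homEquiv_naturality_left_symm, uncurry_natural_left,
      ← prodComparison_natural_whiskerLeft_assoc, Adjunction.homEquiv_naturality_left,
      curry_natural_left]

end Groth.Agent.Lib.Helper13.PushIhom
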