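import Mathlib

open AlgebraicGeometry CategoryTheory Limits TopologicalSpace

universe u

namespace Groth.Agent.Lib.Helper13.QAffSurj

/-- For a qcqs scheme `V` and a global section `g` with `V_g` affine, `D(g)` lies in the
range of `V ⟶ Spec Γ(V)`. -/
lemma basicOpen_subset_range_toSpecΓ (V : Scheme.{u}) [CompactSpace V] [QuasiSeparatedSpace V]
    (g : Γ(V, ⊤)) (hg : IsAffineOpen (V.basicOpen g)) :
    (PrimeSpectrum.basicOpen g : Set (PrimeSpectrum Γ(V, ⊤))) ⊆ Set.range V.toSpecΓ := by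
  have hloc := isLocalization_basicOpen_of_qcqs (X := V) (U := ⊤) isCompact_univ
    isQuasiSeparated_univ g
  have hrange := PrimeSpectrum.localization_away_comap_range (Γ(V, V.basicOpen g)) g
  have hcomp := Scheme.Opens.toSpecΓ_SpecMap_presheaf_map_top (V.basicOpen g)
  intro p hp
  rw [← hrange] at hp
  obtain ⟨q, rfl⟩ := hp
  have hiso : IsIso (V.basicOpen g).toSpecΓ := by
    have : (V.basicOpen g).toSpecΓ = hg.isoSpec.hom := by
      simp [IsAffineOpen.isoSpec_hom]
    rw [this]; infer_instance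
  obtain ⟨v, rfl⟩ : ∃ v, (V.basicOpen g).toSpecΓ v = q :=
    (ConcreteCategory.bijective_of_isIso (V.basicOpen g).toSpecΓ.base).2 q
  refine ⟨(V.basicOpen g).ι v, ?_⟩
  have := congr($(hcomp) v)
  simp only [Scheme.Hom.comp_apply] at this
  rw [← this]
  rfl

theorem isAffine_of_immersion_basicOpen (A : Type u) [CommRing A] (V : Scheme.{u})
    (j : V ⟶ Spec (CommRingCat.of A)) [IsImmersion j] [QuasiCompact j] (f : A)
    (haff : IsAffineOpen (j ⁻¹ᵁ PrimeSpectrum.basicOpen f))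
    (hcl : IsClosed (Set.range ⇑j ∩ PrimeSpectrum.zeroLocus {f})) : IsAffine V := by
  have : CompactSpace V := QuasiCompact.compactSpace_of_compactSpace j
  have : V.IsQuasiAffine := Scheme.IsQuasiAffine.of_isImmersion j
  suffices hsurj : Function.Surjective V.toSpecΓ by
    have : IsIso V.toSpecΓ :=
      (isIso_iff_isOpenImmersion_and_surjective _).mpr ⟨inferInstance, ⟨hsurj⟩⟩
    exact IsAffine.of_isIso V.toSpecΓ
  -- the factorization of `j`
  set ψ : Spec Γ(V, ⊤) ⟶ Spec (CommRingCat.of A) :=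
    Spec.map ((Scheme.ΓSpecIso (CommRingCat.of A)).inv ≫ j.appTop) with hψdef
  have hψ : V.toSpecΓ ≫ ψ = j := by
    rw [hψdef, Spec.map_comp, ← Scheme.toSpecΓ_naturality_assoc, toSpecΓ_SpecMap_ΓSpecIso_inv,
      Category.comp_id]
  -- the element `f'`
  set f' : Γ(V, ⊤) := j.appTop ((Scheme.ΓSpecIso (CommRingCat.of A)).inv f) with hf'def
  have hf' : V.basicOpen f' = j ⁻¹ᵁ PrimeSpectrum.basicOpen f := by
    rw [hf'def, ← Scheme.preimage_basicOpen_top, basicOpen_eq_of_affine]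
  -- the closed subscheme `Z = j⁻¹ V(f)`
  let c : Spec (CommRingCat.of (A ⧸ Ideal.span {f})) ⟶ Spec (CommRingCat.of A) :=
    Spec.map (CommRingCat.ofHom (Ideal.Quotient.mk (Ideal.span {f})))
  have : IsClosedImmersion c :=
    IsClosedImmersion.spec_of_surjective _ Ideal.Quotient.mk_surjective
  have hc : Set.range c = PrimeSpectrum.zeroLocus {f} := by
    have := _root_.range_comap_of_surjective _ (Ideal.Quotient.mk (Ideal.span {f}))
      Ideal.Quotient.mk_surjective
    rw [Ideal.mk_ker, PrimeSpectrum.zeroLocus_span] at this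
    exact this
  let i : pullback j c ⟶ V := pullback.fst j c
  have hi : Set.range i = j ⁻¹' PrimeSpectrum.zeroLocus {f} := by
    rw [← hc]; exact Scheme.Pullback.range_fst j c
  have : IsClosedImmersion (i ≫ j) := by
    apply IsClosedImmersion.of_isPreimmersion
    have : Set.range (i ≫ j) = Set.range j ∩ PrimeSpectrum.zeroLocus {f} := by
      rw [← hc]; exact Scheme.Pullback.range_fst_comp j c
    rw [this]
    exact hcl
  have : IsClosedImmersion ((i ≫ V.toSpecΓ) ≫ ψ) := by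
    rw [Category.assoc, hψ]; infer_instance
  have : IsClosedImmersion (i ≫ V.toSpecΓ) := IsClosedImmersion.of_comp _ ψ
  have hT' : IsClosed (V.toSpecΓ '' (j ⁻¹' PrimeSpectrum.zeroLocus {f})) := by
    have h1 := (i ≫ V.toSpecΓ).isClosedEmbedding.isClosed_range
    have h2 : Set.range (i ≫ V.toSpecΓ) = V.toSpecΓ '' (j ⁻¹' PrimeSpectrum.zeroLocus {f}) := by
      rw [← hi]
      ext x
      constructor
      · rintro ⟨z, rfl⟩
        exact ⟨i z, ⟨z, rfl⟩, rfl⟩
      · rintro ⟨_, ⟨z, rfl⟩, rfl⟩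
        exact ⟨z, rfl⟩
    rwa [h2] at h1
  -- surjectivity
  intro p
  by_contra hp
  have hpT : p ∈ (V.toSpecΓ '' (j ⁻¹' PrimeSpectrum.zeroLocus {f}))ᶜ := by
    rintro ⟨v, -, rfl⟩
    exact hp ⟨v, rfl⟩
  obtain ⟨_, ⟨_, ⟨g, rfl⟩, rfl⟩, hpg, hgT⟩ :=
    PrimeSpectrum.isBasis_basic_opens.exists_subset_of_mem_open hpT hT'.isOpen_compl
  have hle : V.basicOpen g ≤ V.basicOpen f' := by
    rw [hf', ← Scheme.toSpecΓ_preimage_basicOpen]
    intro v hv
    have h1 : V.toSpecΓ v ∉ V.toSpecΓ '' (j ⁻¹' PrimeSpectrum.zeroLocus {f}) := hgT hv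
    have h2 : j v ∉ PrimeSpectrum.zeroLocus {f} := fun h => h1 ⟨v, h, rfl⟩
    have h3 : (j v : PrimeSpectrum A) ∈ (PrimeSpectrum.basicOpen f : Set (PrimeSpectrum A)) := by
      rw [PrimeSpectrum.basicOpen_eq_zeroLocus_compl]
      exact h2
    exact h3
  have hgaff : IsAffineOpen (V.basicOpen g) := by
    have haff' : IsAffineOpen (V.basicOpen f') := hf' ▸ haff
    have := haff'.basicOpen (V.presheaf.map (homOfLE (le_top : V.basicOpen f' ≤ ⊤)).op g)
    rwa [Scheme.basicOpen_res, inf_eq_right.mpr hle] at this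
  exact hp (basicOpen_subset_range_toSpecΓ V g hgaff hpg)

end Groth.Agent.Lib.Helper13.QAffSurj
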