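import Mathlib
import Groth.Agent.Lib.Helper13.LfpNhd2

/-!
# Quasi-compact opens of a base change `X ×_R A` in terms of finitely many elements of `A` (helper13)
-/

set_option autoImplicit false
set_option linter.unusedSectionVars false
set_option linter.unusedVariables false
set_option linter.style.haveILetI false
universe u

open CategoryTheory CategoryTheory.Limits AlgebraicGeometry TopologicalSpace IsLocalRing Opposite

namespace Groth.Agent.Lib.Helper13.QcOpenData

open Groth.Agent.Lib.Helper13.AffPts2 Groth.Agent.Lib.Helper13.LfpNhd1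
open Groth.Agent.Lib.Helper13.LfpNhd2

/-- an affine open of `X` with finitely many pairs (section over it, element of `A`) -/
structure Datum (X : Scheme.{u}) (A : CommRingCat.{u}) where
  U : X.Opens
  hU : IsAffineOpen U
  N : ℕ
  c : Fin N → Γ((U : Scheme.{u}), ⊤)
  a : Fin N → A

/-- push a datum along a ring map -/
def Datum.map {X : Scheme.{u}} {A' A : CommRingCat.{u}} (θ : A' ⟶ A) (i : Datum X A') : Datum X A where
  U := i.U
  hU := i.hU
  N := i.N
  c := i.c
  a := fun l => θ.hom (i.a l)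

variable {X : Scheme.{u}} {R A : CommRingCat.{u}} (p : X ⟶ Spec R) (ψ : R ⟶ A)

/-- the chart of `X ×_R A` over the open `U` -/
noncomputable abbrev chart (U : X.Opens) : Scheme.{u} := pullback (U.ι ≫ p) (Spec.map ψ)

/-- the open immersion of a chart -/
noncomputable def jmap (U : X.Opens) : chart p ψ U ⟶ pullback p (Spec.map ψ) :=
  pullback.map (U.ι ≫ p) (Spec.map ψ) p (Spec.map ψ) U.ι (𝟙 _) (𝟙 _) (by simp) (by simp)

instance (U : X.Opens) : IsOpenImmersion (jmap p ψ U) := by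
  unfold jmap; infer_instance

theorem jmap_fst (U : X.Opens) : jmap p ψ U ≫ pullback.fst p (Spec.map ψ) =
    pullback.fst (U.ι ≫ p) (Spec.map ψ) ≫ U.ι := by
  unfold jmap; rw [map_fst]

theorem jmap_snd (U : X.Opens) : jmap p ψ U ≫ pullback.snd p (Spec.map ψ) =
    pullback.snd (U.ι ≫ p) (Spec.map ψ) := by
  unfold jmap; rw [map_snd, Category.comp_id]

theorem range_jmap (U : X.Opens) : Set.range (jmap p ψ U).base =
    (pullback.fst p (Spec.map ψ)).base ⁻¹' (U : Set X) := by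
  have := Scheme.Pullback.range_map (U.ι ≫ p) (Spec.map ψ) p (Spec.map ψ) U.ι (𝟙 _) (𝟙 _)
    (by simp) (by simp)
  unfold jmap
  rw [this, Scheme.Opens.range_ι]
  simp

/-- the section of a chart attached to a datum -/
noncomputable def dsec (i : Datum X A) : Γ(chart p ψ i.U, ⊤) :=
  ∑ l, (pullback.fst (i.U.ι ≫ p) (Spec.map ψ)).appTop.hom (i.c l) *
    (pullback.snd (i.U.ι ≫ p) (Spec.map ψ)).appTop.hom (sec (i.a l))

/-- the open subset of `X ×_R A` attached to a datum -/
noncomputable def piece (i : Datum X A) : Set ↥(pullback p (Spec.map ψ)) :=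
  (jmap p ψ i.U).base '' ((chart p ψ i.U).basicOpen (dsec p ψ i) : Set ↥(chart p ψ i.U))

theorem isOpen_piece (i : Datum X A) : IsOpen (piece p ψ i) :=
  (jmap p ψ i.U).isOpenEmbedding.isOpenMap _ ((chart p ψ i.U).basicOpen (dsec p ψ i)).isOpen

theorem isCompact_piece (i : Datum X A) : IsCompact (piece p ψ i) := by
  haveI : IsAffine (i.U : Scheme.{u}) := i.hU
  apply IsCompact.image _ (jmap p ψ i.U).continuous
  exact ((isAffineOpen_top (chart p ψ i.U)).basicOpen (dsec p ψ i)).isCompact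

/-- every section of a chart over an affine open comes from a datum -/
theorem exists_datum_dsec_eq (U : X.Opens) (hU : IsAffineOpen U) (d : Γ(chart p ψ U, ⊤)) :
    ∃ i : Datum X A, ∃ h : i.U = U, h ▸ dsec p ψ i = d := by
  haveI : IsAffine (U : Scheme.{u}) := hU
  have h1 : (1 : Γ(chart p ψ U, ⊤)) ∈ prodSubgroup (U.ι ≫ p) (Spec.map ψ) ⊤ := by
    apply AddSubgroup.subset_closure
    exact ⟨1, 1, Submodule.mem_top, by simp⟩
  have h2 : d ∈ prodSubgroup (U.ι ≫ p) (Spec.map ψ) ⊤ := by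
    have := mul_mem_prodSubgroup (U.ι ≫ p) (Spec.map ψ) ⊤ d h1
    rwa [mul_one] at this
  obtain ⟨N, c, q, -, rfl⟩ := exists_sum_of_mem_prodSubgroup (U.ι ≫ p) (Spec.map ψ) ⊤ h2
  refine ⟨⟨U, hU, N, c, fun l => (Scheme.ΓSpecIso A).hom.hom (q l)⟩, rfl, ?_⟩
  show dsec p ψ _ = _
  unfold dsec
  refine Finset.sum_congr rfl fun l _ => ?_
  congr 2
  show (Scheme.ΓSpecIso A).inv.hom ((Scheme.ΓSpecIso A).hom.hom (q l)) = q l
  exact Iso.hom_inv_id_apply (C := CommRingCat) _ _

/-- **quasi-compact opens of `X ×_R A` are finite unions of pieces** -/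
theorem exists_finset_eq_iUnion_piece (V : Set ↥(pullback p (Spec.map ψ))) (hV : IsOpen V)
    (hVc : IsCompact V) : ∃ t : Finset (Datum X A), V = ⋃ i ∈ t, piece p ψ i := by
  classical
  have hcov : ∀ x ∈ V, ∃ i : Datum X A, x ∈ piece p ψ i ∧ piece p ψ i ⊆ V := by
    intro x hx
    obtain ⟨U, hU, hxU, -⟩ := exists_isAffineOpen_mem_and_subset
      (x := (pullback.fst p (Spec.map ψ)).base x) (U := ⊤) trivial
    haveI : IsAffine (U : Scheme.{u}) := hU
    have hxr : x ∈ Set.range (jmap p ψ U).base := by rw [range_jmap]; exact hxU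
    obtain ⟨y, rfl⟩ := hxr
    have hopen : IsOpen ((jmap p ψ U).base ⁻¹' V) := hV.preimage (jmap p ψ U).continuous
    obtain ⟨_, ⟨d, rfl⟩, hyd, hdV⟩ := (Opens.isBasis_iff_nbhd.mp (isBasis_basicOpen (chart p ψ U)))
      (show y ∈ (⟨_, hopen⟩ : (chart p ψ U).Opens) from hx)
    obtain ⟨i, hiU, hid⟩ := exists_datum_dsec_eq p ψ U hU d
    obtain ⟨U', hU', N, c, a⟩ := i
    subst hiU
    subst hid
    refine ⟨⟨U', hU', N, c, a⟩, ⟨y, hyd, rfl⟩, ?_⟩
    rintro _ ⟨y', hy', rfl⟩
    exact hdV hy'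
  choose F hF1 hF2 using hcov
  obtain ⟨s, hs⟩ := hVc.elim_nhds_subcover' (fun x hx => piece p ψ (F x hx))
    (fun x hx => (isOpen_piece p ψ (F x hx)).mem_nhds (hF1 x hx))
  refine ⟨s.image (fun x => F x.1 x.2), ?_⟩
  apply Set.Subset.antisymm
  · intro x hx
    obtain ⟨y, hy, hxy⟩ := Set.mem_iUnion₂.mp (hs hx)
    exact Set.mem_iUnion₂.mpr ⟨F y.1 y.2, Finset.mem_image_of_mem _ hy, hxy⟩
  · intro x hx
    obtain ⟨i, hi, hxi⟩ := Set.mem_iUnion₂.mp hx
    obtain ⟨y, hy, rfl⟩ := Finset.mem_image.mp hi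
    exact hF2 y.1 y.2 hxi

theorem SpecMap_appTop_sec {A' A : CommRingCat.{u}} (θ : A' ⟶ A) (x : A') :
    (Spec.map θ).appTop.hom (sec x) = sec (θ.hom x) := by
  have := Scheme.ΓSpecIso_inv_naturality θ
  exact (congrArg (fun χ : A' ⟶ Γ(Spec A, ⊤) => χ.hom x) this).symm

/-- **functoriality of pieces** under a change of the ring `A` -/
theorem preimage_piece {A' : CommRingCat.{u}} (ψ' : R ⟶ A') (θ : A' ⟶ A) (hθ : ψ' ≫ θ = ψ)
    (π : pullback p (Spec.map ψ) ⟶ pullback p (Spec.map ψ'))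
    (h1 : π ≫ pullback.fst p (Spec.map ψ') = pullback.fst p (Spec.map ψ))
    (h2 : π ≫ pullback.snd p (Spec.map ψ') = pullback.snd p (Spec.map ψ) ≫ Spec.map θ)
    (i' : Datum X A') : π.base ⁻¹' (piece p ψ' i') = piece p ψ (i'.map θ) := by
  obtain ⟨U, hU, N, c, a'⟩ := i'
  haveI : IsAffine (U : Scheme.{u}) := hU
  let πU : chart p ψ U ⟶ chart p ψ' U :=
    pullback.map (U.ι ≫ p) (Spec.map ψ) (U.ι ≫ p) (Spec.map ψ') (𝟙 _) (Spec.map θ) (𝟙 _)
      (by simp) (by rw [Category.comp_id, ← Spec.map_comp, hθ])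
  have hπfst : πU ≫ pullback.fst (U.ι ≫ p) (Spec.map ψ') =
      pullback.fst (U.ι ≫ p) (Spec.map ψ) ≫ 𝟙 _ := map_fst _ _ _ _ _ _ _ _ _
  have hπsnd : πU ≫ pullback.snd (U.ι ≫ p) (Spec.map ψ') =
      pullback.snd (U.ι ≫ p) (Spec.map ψ) ≫ Spec.map θ := map_snd _ _ _ _ _ _ _ _ _
  have hcomm : jmap p ψ U ≫ π = πU ≫ jmap p ψ' U := by
    apply pullback.hom_ext
    · rw [Category.assoc, h1, jmap_fst, Category.assoc, jmap_fst, ← Category.assoc, hπfst,
        Category.comp_id]
    · rw [Category.assoc, h2, ← Category.assoc, jmap_snd, Category.assoc, jmap_snd, hπsnd]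
  have hpull : πU.appTop.hom (dsec p ψ' ⟨U, hU, N, c, a'⟩) =
      dsec p ψ (Datum.map θ ⟨U, hU, N, c, a'⟩) := by
    have e1 : ∀ y, πU.appTop.hom ((pullback.fst (U.ι ≫ p) (Spec.map ψ')).appTop.hom y) =
        (pullback.fst (U.ι ≫ p) (Spec.map ψ)).appTop.hom y := by
      intro y
      have := appTop_apply_of_comp_eq _ _ _ _ hπfst y
      rw [this]; simp
    have e2 : ∀ y, πU.appTop.hom ((pullback.snd (U.ι ≫ p) (Spec.map ψ')).appTop.hom y) =
        (pullback.snd (U.ι ≫ p) (Spec.map ψ)).appTop.hom ((Spec.map θ).appTop.hom y) :=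
      fun y => appTop_apply_of_comp_eq _ _ _ _ hπsnd y
    unfold dsec
    rw [map_sum]
    refine Finset.sum_congr rfl fun l _ => ?_
    rw [map_mul, e1, e2, SpecMap_appTop_sec]
    rfl
  have key : ∀ y : ↥(chart p ψ U),
      y ∈ (chart p ψ U).basicOpen (dsec p ψ (Datum.map θ ⟨U, hU, N, c, a'⟩)) ↔
      πU.base y ∈ (chart p ψ' U).basicOpen (dsec p ψ' ⟨U, hU, N, c, a'⟩) := by
    intro y
    have := mem_basicOpen_appTop_iff πU (dsec p ψ' ⟨U, hU, N, c, a'⟩) y
    rw [hpull] at this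
    exact this
  have hpt : ∀ y : ↥(chart p ψ U),
      (jmap p ψ' U).base (πU.base y) = π.base ((jmap p ψ U).base y) := by
    intro y
    rw [← Scheme.Hom.comp_apply, ← hcomm, Scheme.Hom.comp_apply]
  ext x
  constructor
  · rintro ⟨y', hy', hxy'⟩
    have hxU : x ∈ Set.range (jmap p ψ U).base := by
      rw [range_jmap]
      show (pullback.fst p (Spec.map ψ)).base x ∈ U
      have e3 : (pullback.fst p (Spec.map ψ)).base x =
          (pullback.fst p (Spec.map ψ')).base (π.base x) := by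
        rw [← Scheme.Hom.comp_apply, h1]
      rw [e3, ← hxy']
      have : (jmap p ψ' U).base y' ∈ Set.range (jmap p ψ' U).base := ⟨y', rfl⟩
      rw [range_jmap] at this
      exact this
    obtain ⟨y, rfl⟩ := hxU
    have hy : πU.base y = y' := by
      apply (jmap p ψ' U).isOpenEmbedding.injective
      rw [hpt y]
      exact hxy'.symm
    refine ⟨y, (key y).mpr ?_, rfl⟩
    rw [hy]
    exact hy'
  · rintro ⟨y, hy, rfl⟩
    refine ⟨πU.base y, (key y).mp hy, ?_⟩
    · exact hpt y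


end Groth.Agent.Lib.Helper13.QcOpenData
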