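import Mathlib
import Groth.Agent.Lib.Helper13.AffineAvoid

/-! Helper13: finitely many points in a fibre of a separated locally quasi-finite morphism lie in an affine open (ZMT + prime avoidance). -/

set_option autoImplicit false
universe u
open CategoryTheory CategoryTheory.Limits AlgebraicGeometry Opposite

namespace Groth.Agent.Lib.Helper13.QfAF

/-- Finitely many points of a scheme admitting an open immersion into an affine scheme lie in a
common affine open. -/
theorem af_of_openImmersion_affine {X N : Scheme.{u}} [IsAffine N] (j : X ⟶ N) [IsOpenImmersion j]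
    {d : ℕ} (x : Fin d → X) : ∃ U : X.Opens, IsAffineOpen U ∧ ∀ k, x k ∈ U := by
  obtain ⟨h, hle, hmem⟩ := AffineAvoid.exists_basicOpen_le_of_finite (isAffineOpen_top N)
    j.opensRange (fun k => j (x k)) (fun k => trivial) (fun k => ⟨x k, rfl⟩)
  exact ⟨j ⁻¹ᵁ N.basicOpen h,
    ((isAffineOpen_top N).basicOpen h).preimage_of_isOpenImmersion j hle, fun k => hmem k⟩

set_option backward.isDefEq.respectTransparency.types false in
/-- (AF) for separated locally quasi-finite morphisms, via Zariski's main theorem. -/
theorem af_of_separated_lqf {X S : Scheme.{u}} (f : X ⟶ S) [IsSeparated f] [LocallyQuasiFinite f]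
    [LocallyOfFiniteType f] (s : S) (d : ℕ) (x : Fin d → X) (hx : ∀ k, f (x k) = s) :
    ∃ U : X.Opens, IsAffineOpen U ∧ ∀ k, x k ∈ U := by
  obtain ⟨V, hV, hsV, -⟩ := exists_isAffineOpen_mem_and_subset (x := s) (U := ⊤) trivial
  have hxk : ∀ k, x k ∈ f ⁻¹ᵁ V := fun k => by
    change f (x k) ∈ V
    rw [hx]
    exact hsV
  choose U hU hxU hUV using fun k => exists_isAffineOpen_mem_and_subset (hxk k)
  let X' : X.Opens := ⨆ k, U k
  have hX'V : X' ≤ f ⁻¹ᵁ V := iSup_le hUV
  have hxX' : ∀ k, x k ∈ X' := fun k => (le_iSup U k) (hxU k)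
  haveI : CompactSpace X' := by
    have h1 : (X' : Set X) = ⋃ k, (U k : Set X) := by simp [X']
    have h2 : IsCompact (X' : Set X) := by
      rw [h1]
      exact isCompact_iUnion (fun k => (hU k).isCompact)
    exact isCompact_iff_compactSpace.mp h2
  let f' : X'.toScheme ⟶ V.toScheme := f.resLE V X' hX'V
  haveI : IsAffine V.toScheme := hV
  haveI : IsSeparated f' := inferInstance
  haveI : LocallyOfFiniteType f' := inferInstance
  haveI : LocallyQuasiFinite f' := inferInstance
  haveI : QuasiCompact f' :=
    (HasAffineProperty.iff_of_isAffine (P := @QuasiCompact)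
      (Q := fun X _ _ _ => CompactSpace X)).mpr inferInstance
  haveI : IsAffine f'.normalization := isAffine_of_isAffineHom f'.fromNormalization
  obtain ⟨B, hB, hxB⟩ := af_of_openImmersion_affine f'.toNormalization
    (fun k => (⟨x k, hxX' k⟩ : X'))
  exact ⟨X'.ι ''ᵁ B, hB.image_of_isOpenImmersion X'.ι, fun k => ⟨⟨x k, hxX' k⟩, hxB k, rfl⟩⟩

end Groth.Agent.Lib.Helper13.QfAF
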