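import Groth.Agent.Lib.Helper18.FF.Approx
import Groth.Agent.Lib.Helper18.FF.Residue
import Mathlib.FieldTheory.Separable
import Mathlib.Algebra.Polynomial.Identities
import Mathlib.RingTheory.IntegralDomain

/-! # Ramification groups of a place (helper13)

`InG Q σ j` : `σ` is in the `j`-th ramification group of `Q`, i.e. `v(σ x - x) ≥ j` for all
`x ∈ O_Q` (so `j = 1` is the inertia group).  We assume that the residue field is separable over `k`.
-/

set_option autoImplicit false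

namespace Groth.Agent.Lib.Helper13.Ram

open FunFld WithZero Groth.Agent.Lib.Helper18.FF

variable {k : Type*} {L : Type*} [Field k] [Field L] [Algebra k L]

/-- `σ` lies in the `j`-th ramification group of `Q`. -/
def InG (Q : Place k L) (σ : L ≃ₐ[k] L) (j : ℕ) : Prop :=
  ∀ x : L, Q.1 x ≤ 1 → Q.1 (σ x - x) ≤ exp (-(j : ℤ))

/-- The translate of a place by an automorphism. -/
def smulPlace (σ : L ≃ₐ[k] L) (Q : Place k L) : Place k L :=
  ⟨Q.1.comap (σ : L →+* L), by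
    refine ⟨fun c => ?_, ?_⟩
    · have : (σ : L →+* L) (algebraMap k L c) = algebraMap k L c := σ.commutes c
      rw [Valuation.comap_apply, this]
      exact Q.2.1 c
    · intro γ
      obtain ⟨x, hx⟩ := Q.2.2 γ
      refine ⟨σ.symm x, ?_⟩
      rw [Valuation.comap_apply]
      simpa using hx⟩

theorem smulPlace_apply (σ : L ≃ₐ[k] L) (Q : Place k L) (x : L) :
    (smulPlace σ Q).1 x = Q.1 (σ x) := rfl

theorem exp_neg_le_one (j : ℕ) : (exp (-(j : ℤ)) : ℤᵐ⁰) ≤ 1 := by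
  rw [← exp_zero, exp_le_exp]; omega

theorem InG.mono {Q : Place k L} {σ : L ≃ₐ[k] L} {i j : ℕ} (h : InG Q σ j) (hij : i ≤ j) :
    InG Q σ i := fun x hx => (h x hx).trans (by rw [exp_le_exp]; omega)

theorem InG.val_le_one {Q : Place k L} {σ : L ≃ₐ[k] L} {j : ℕ} (h : InG Q σ j) {x : L}
    (hx : Q.1 x ≤ 1) : Q.1 (σ x) ≤ 1 := by
  have : σ x = (σ x - x) + x := by ring
  rw [this]
  exact (Q.1.map_add _ _).trans (max_le ((h x hx).trans (exp_neg_le_one j)) hx)

/-- Elements of the inertia group preserve the valuation. -/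
theorem InG.val_eq {Q : Place k L} {σ : L ≃ₐ[k] L} {j : ℕ} (h : InG Q σ j) (x : L) :
    Q.1 (σ x) = Q.1 x := by
  have : Q = smulPlace σ Q := by
    by_contra hne
    obtain ⟨y, hy1, hy2⟩ := exists_val_le_one_lt hne
    rw [smulPlace_apply] at hy2
    exact absurd (h.val_le_one hy1) (not_le.mpr hy2)
  conv_rhs => rw [this]
  rfl

theorem InG.val_symm_eq {Q : Place k L} {σ : L ≃ₐ[k] L} {j : ℕ} (h : InG Q σ j) (x : L) :
    Q.1 (σ.symm x) = Q.1 x := by
  rw [← h.val_eq (σ.symm x), AlgEquiv.apply_symm_apply]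

theorem InG.one (Q : Place k L) (j : ℕ) : InG Q 1 j := by
  intro x _
  simp

theorem InG.mul {Q : Place k L} {σ τ : L ≃ₐ[k] L} {j : ℕ} (hσ : InG Q σ j) (hτ : InG Q τ j) :
    InG Q (σ * τ) j := by
  intro x hx
  have : (σ * τ) x - x = σ (τ x - x) + (σ x - x) := by
    rw [AlgEquiv.mul_apply, map_sub]; ring
  rw [this]
  refine (Q.1.map_add _ _).trans (max_le ?_ (hσ x hx))
  rw [hσ.val_eq]
  exact hτ x hx

theorem InG.inv {Q : Place k L} {σ : L ≃ₐ[k] L} {j : ℕ} (hσ : InG Q σ j) : InG Q σ⁻¹ j := by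
  intro x hx
  have : σ⁻¹ x - x = -σ.symm (σ x - x) := by
    rw [map_sub, AlgEquiv.symm_apply_apply]
    change σ.symm x - x = _
    ring
  rw [this, Valuation.map_neg, hσ.val_symm_eq]
  exact hσ x hx

theorem InG.pow {Q : Place k L} {σ : L ≃ₐ[k] L} {j : ℕ} (hσ : InG Q σ j) (n : ℕ) :
    InG Q (σ ^ n) j := by
  induction n with
  | zero => rw [pow_zero]; exact InG.one Q j
  | succ n ih => rw [pow_succ]; exact ih.mul hσ

/-! ### Residue map as an algebra hom and polynomial evaluation -/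

/-- The residue map as a `k`-algebra hom. -/
noncomputable def resHom (Q : Place k L) : Q.O →ₐ[k] IsLocalRing.ResidueField Q.O :=
  { IsLocalRing.residue Q.O with commutes' := fun _ => rfl }

/-- The inclusion of the valuation ring as a `k`-algebra hom. -/
def valHom (Q : Place k L) : Q.O →ₐ[k] L :=
  { Q.O.subtype with commutes' := fun _ => rfl }

theorem val_aeval_le_one (Q : Place k L) (g : Polynomial k) {x : L} (hx : Q.1 x ≤ 1) :
    Q.1 (Polynomial.aeval x g) ≤ 1 := by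
  have := Polynomial.aeval_algHom_apply (valHom Q) (⟨x, hx⟩ : Q.O) g
  change Polynomial.aeval x g = _ at this
  rw [this]
  exact (Polynomial.aeval (⟨x, hx⟩ : Q.O) g).2

theorem res_aeval (Q : Place k L) (g : Polynomial k) {x : L} (hx : Q.1 x ≤ 1) :
    res Q (Polynomial.aeval x g) (val_aeval_le_one Q g hx) = Polynomial.aeval (res Q x hx) g := by
  have h1 := Polynomial.aeval_algHom_apply (valHom Q) (⟨x, hx⟩ : Q.O) g
  change Polynomial.aeval x g = _ at h1
  have h2 := Polynomial.aeval_algHom_apply (resHom Q) (⟨x, hx⟩ : Q.O) g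
  change Polynomial.aeval (res Q x hx) g = _ at h2
  rw [h2]
  change IsLocalRing.residue Q.O _ = IsLocalRing.residue Q.O _
  congr 1
  exact Subtype.ext h1

/-- Second order Taylor expansion with integral remainder. -/
theorem taylor_two (Q : Place k L) (g : Polynomial k) {x d : L} (hx : Q.1 x ≤ 1) (hd : Q.1 d ≤ 1) :
    ∃ c : L, Q.1 c ≤ 1 ∧ Polynomial.aeval (x + d) g =
      Polynomial.aeval x g + Polynomial.aeval x (Polynomial.derivative g) * d + c * d ^ 2 := by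
  have hx' : x ∈ Q.O := hx
  have hd' : d ∈ Q.O := hd
  obtain ⟨c, hc⟩ := Polynomial.binomExpansion (g.map (algebraMap k Q.O)) (⟨x, hx'⟩ : Q.O) ⟨d, hd'⟩
  refine ⟨c.1, c.2, ?_⟩
  rw [Polynomial.derivative_map, Polynomial.eval_map_algebraMap, Polynomial.eval_map_algebraMap,
    Polynomial.eval_map_algebraMap] at hc
  have h := congrArg (valHom Q) hc
  rw [map_add, map_add, map_mul, map_mul, map_pow, ← Polynomial.aeval_algHom_apply,
    ← Polynomial.aeval_algHom_apply, ← Polynomial.aeval_algHom_apply] at h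
  exact h

/-! ### The key step: `σ ∈ G_i` and `σ t ≡ t mod m^(i+1)` imply `σ ∈ G_(i+1)` -/

theorem exp_neg_mul_exp_neg (a b : ℤ) : (exp (-a) : ℤᵐ⁰) * exp (-b) = exp (-(a + b)) := by
  rw [← exp_add]; congr 1; ring

theorem inG_succ_of_uniformizer (Q : Place k L) [Algebra.IsSeparable k (IsLocalRing.ResidueField Q.O)]
    {σ : L ≃ₐ[k] L} {i : ℕ} (hi : 1 ≤ i) (hσ : InG Q σ i) {t : L} (ht : Q.1 t = exp (-1 : ℤ))
    (hσt : Q.1 (σ t - t) ≤ exp (-((i + 1 : ℕ) : ℤ))) : InG Q σ (i + 1) := by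
  intro x hx
  set xb := res Q x hx with hxb
  set g := minpoly k xb with hg
  have hsep : g.Separable := Algebra.IsSeparable.isSeparable k xb
  have ht0 : t ≠ 0 := by rintro rfl; rw [map_zero] at ht; exact exp_ne_zero ht.symm
  -- `g(x)` lies in the maximal ideal
  have hgx1 : Q.1 (Polynomial.aeval x g) ≤ 1 := val_aeval_le_one Q g hx
  have hgx : Q.1 (Polynomial.aeval x g) < 1 := by
    rw [← res_eq_zero_iff Q _ hgx1, res_aeval Q g hx]
    exact minpoly.aeval k xb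
  -- `g'(x)` is a unit
  have hg'x1 : Q.1 (Polynomial.aeval x (Polynomial.derivative g)) ≤ 1 := val_aeval_le_one Q _ hx
  have hg'x : Q.1 (Polynomial.aeval x (Polynomial.derivative g)) = 1 := by
    refine le_antisymm hg'x1 (not_lt.mp fun hlt => ?_)
    rw [← res_eq_zero_iff Q _ hg'x1, res_aeval Q _ hx] at hlt
    exact hsep.aeval_derivative_ne_zero (minpoly.aeval k xb) hlt
  -- write `g(x) = t * y`
  set y := Polynomial.aeval x g / t with hy
  have hy1 : Q.1 y ≤ 1 := by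
    rw [hy, map_div₀, ht, div_le_iff₀ exp_pos, one_mul]
    exact (zm0_lt_one_iff _).mp hgx
  have hgty : Polynomial.aeval x g = t * y := by rw [hy]; field_simp
  -- the difference `d = σ x - x`
  set d := σ x - x with hd
  have hdi : Q.1 d ≤ exp (-(i : ℤ)) := hσ x hx
  have hd1 : Q.1 d ≤ 1 := hdi.trans (exp_neg_le_one i)
  obtain ⟨c, hc1, hc⟩ := taylor_two Q g hx hd1
  have hxd : x + d = σ x := by rw [hd]; ring
  have hσg : Polynomial.aeval (σ x) g = σ (Polynomial.aeval x g) :=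
    Polynomial.aeval_algHom_apply (σ : L →ₐ[k] L) x g
  rw [hxd, hσg, hgty, map_mul] at hc
  -- estimate `σ (t y) - t y`
  have h1 : Q.1 (σ t * σ y - t * y) ≤ exp (-((i + 1 : ℕ) : ℤ)) := by
    have : σ t * σ y - t * y = σ t * (σ y - y) + (σ t - t) * y := by ring
    rw [this]
    refine (Q.1.map_add _ _).trans (max_le ?_ ?_)
    · rw [map_mul, hσ.val_eq, ht]
      calc exp (-1 : ℤ) * Q.1 (σ y - y) ≤ exp (-1 : ℤ) * exp (-(i : ℤ)) := by
            gcongr; exact hσ y hy1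
        _ = exp (-((i + 1 : ℕ) : ℤ)) := by rw [exp_neg_mul_exp_neg]; congr 1; push_cast; ring
    · rw [map_mul]
      calc Q.1 (σ t - t) * Q.1 y ≤ exp (-((i + 1 : ℕ) : ℤ)) * 1 := by gcongr
        _ = _ := mul_one _
  have h2 : Q.1 (c * d ^ 2) ≤ exp (-((i + 1 : ℕ) : ℤ)) := by
    rw [map_mul, map_pow]
    calc Q.1 c * Q.1 d ^ 2 ≤ 1 * exp (-(i : ℤ)) ^ 2 := by gcongr
      _ = exp (-(i : ℤ)) * exp (-(i : ℤ)) := by rw [one_mul, sq]
      _ = exp (-((i : ℤ) + i)) := exp_neg_mul_exp_neg _ _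
      _ ≤ exp (-((i + 1 : ℕ) : ℤ)) := by rw [exp_le_exp]; push_cast; omega
  have h3 : Polynomial.aeval x (Polynomial.derivative g) * d = (σ t * σ y - t * y) - c * d ^ 2 := by
    rw [hc]; ring
  have h4 : Q.1 (Polynomial.aeval x (Polynomial.derivative g) * d) ≤ exp (-((i + 1 : ℕ) : ℤ)) := by
    rw [h3]
    exact (Q.1.map_sub _ _).trans (max_le h1 h2)
  rwa [map_mul, hg'x, one_mul] at h4

/-- **Ramification groups via a uniformizer**: for `σ` in the inertia group and a uniformizer `t`,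
`σ ∈ G_j` iff `σ t ≡ t mod m^j`. -/
theorem inG_of_uniformizer (Q : Place k L) [Algebra.IsSeparable k (IsLocalRing.ResidueField Q.O)]
    {σ : L ≃ₐ[k] L} (hσ : InG Q σ 1) {t : L} (ht : Q.1 t = exp (-1 : ℤ)) {j : ℕ} (hj : 1 ≤ j)
    (hσt : Q.1 (σ t - t) ≤ exp (-(j : ℤ))) : InG Q σ j := by
  induction j, hj using Nat.le_induction with
  | base => exact hσ
  | succ j hj ih =>
    refine inG_succ_of_uniformizer Q hj (ih (hσt.trans ?_)) ht hσt
    rw [exp_le_exp]; push_cast; omega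

/-! ### Higher ramification groups: `G_i / G_(i+1)` is elementary abelian for `i ≥ 2` -/

theorem InG.val_map_sub_le {Q : Place k L} {ρ : L ≃ₐ[k] L} {i : ℕ} (hρ : InG Q ρ i) {t : L}
    (ht : Q.1 t = exp (-1 : ℤ)) (m : ℕ) :
    ∀ z : L, Q.1 z ≤ exp (-((m + 1 : ℕ) : ℤ)) → Q.1 (ρ z - z) ≤ exp (-((m + i : ℕ) : ℤ)) := by
  have ht0 : t ≠ 0 := by rintro rfl; rw [map_zero] at ht; exact exp_ne_zero ht.symm
  have hρt : Q.1 (ρ t - t) ≤ exp (-(i : ℤ)) :=
    hρ t (by rw [ht, ← exp_zero, exp_le_exp]; norm_num)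
  induction m with
  | zero =>
    intro z hz
    set y := z / t with hy
    have hy1 : Q.1 y ≤ 1 := by
      rw [hy, map_div₀, ht, div_le_iff₀ exp_pos, one_mul]
      simpa using hz
    have hzty : z = t * y := by rw [hy]; field_simp
    have : ρ z - z = ρ t * (ρ y - y) + (ρ t - t) * y := by rw [hzty, map_mul]; ring
    rw [this]
    refine (Q.1.map_add _ _).trans (max_le ?_ ?_)
    · rw [map_mul, hρ.val_eq, ht]
      calc exp (-1 : ℤ) * Q.1 (ρ y - y) ≤ 1 * exp (-(i : ℤ)) := by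
            gcongr
            · rw [← exp_zero, exp_le_exp]; norm_num
            · exact hρ y hy1
        _ = exp (-((0 + i : ℕ) : ℤ)) := by rw [one_mul, zero_add]
    · rw [map_mul]
      calc Q.1 (ρ t - t) * Q.1 y ≤ exp (-(i : ℤ)) * 1 := by gcongr
        _ = exp (-((0 + i : ℕ) : ℤ)) := by rw [mul_one, zero_add]
  | succ m ih =>
    intro z hz
    set w := z / t with hw
    have hw1 : Q.1 w ≤ exp (-((m + 1 : ℕ) : ℤ)) := by
      rw [hw, map_div₀, ht, div_le_iff₀ exp_pos, exp_neg_mul_exp_neg]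
      refine hz.trans (le_of_eq ?_)
      congr 1
    have hztw : z = t * w := by rw [hw]; field_simp
    have : ρ z - z = ρ t * (ρ w - w) + (ρ t - t) * w := by rw [hztw, map_mul]; ring
    rw [this]
    refine (Q.1.map_add _ _).trans (max_le ?_ ?_)
    · rw [map_mul, hρ.val_eq, ht]
      calc exp (-1 : ℤ) * Q.1 (ρ w - w) ≤ exp (-1 : ℤ) * exp (-((m + i : ℕ) : ℤ)) := by
            gcongr; exact ih w hw1
        _ = exp (-((m + 1 + i : ℕ) : ℤ)) := by
            rw [exp_neg_mul_exp_neg]; congr 1; push_cast; ring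
    · rw [map_mul]
      calc Q.1 (ρ t - t) * Q.1 w ≤ exp (-(i : ℤ)) * exp (-((m + 1 : ℕ) : ℤ)) := by gcongr
        _ = exp (-((m + 1 + i : ℕ) : ℤ)) := by
            rw [exp_neg_mul_exp_neg]; congr 1; push_cast; ring

/-- The additive subgroup `m_Q ^ n` of `L`. -/
def mpow (Q : Place k L) (n : ℤ) : AddSubgroup L where
  carrier := {z | Q.1 z ≤ exp (-n)}
  add_mem' ha hb := (Q.1.map_add _ _).trans (max_le ha hb)
  zero_mem' := by simp
  neg_mem' ha := by simpa [Valuation.map_neg] using ha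

theorem mem_mpow {Q : Place k L} {n : ℤ} {z : L} : z ∈ mpow Q n ↔ Q.1 z ≤ exp (-n) := Iff.rfl

/-- The class of `ρ t - t` modulo `m^n`. -/
def phi (Q : Place k L) (t : L) (n : ℤ) (ρ : L ≃ₐ[k] L) : L ⧸ mpow Q n :=
  QuotientAddGroup.mk (ρ t - t)

theorem phi_eq_zero_iff {Q : Place k L} {t : L} {n : ℤ} {ρ : L ≃ₐ[k] L} :
    phi Q t n ρ = 0 ↔ Q.1 (ρ t - t) ≤ exp (-n) := by
  rw [phi, QuotientAddGroup.eq_zero_iff, mem_mpow]

theorem phi_one (Q : Place k L) (t : L) (n : ℤ) : phi Q t n 1 = 0 := by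
  rw [phi_eq_zero_iff]; simp

theorem phi_mul {Q : Place k L} {ρ ρ' : L ≃ₐ[k] L} {i : ℕ} (hi : 2 ≤ i) (hρ : InG Q ρ i)
    (hρ' : InG Q ρ' i) {t : L} (ht : Q.1 t = exp (-1 : ℤ)) :
    phi Q t ((i + 1 : ℕ) : ℤ) (ρ * ρ') = phi Q t ((i + 1 : ℕ) : ℤ) ρ + phi Q t ((i + 1 : ℕ) : ℤ) ρ' := by
  rw [phi, phi, phi, ← QuotientAddGroup.mk_add, QuotientAddGroup.eq, mem_mpow]
  have ht1 : Q.1 t ≤ 1 := by rw [ht, ← exp_zero, exp_le_exp]; norm_num
  set z := ρ' t - t with hz
  have hzi : Q.1 z ≤ exp (-(((i - 1) + 1 : ℕ) : ℤ)) := by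
    have := hρ' t ht1
    rwa [show i - 1 + 1 = i by omega]
  have h := hρ.val_map_sub_le ht (i - 1) z hzi
  have : -((ρ * ρ') t - t) + (ρ t - t + (ρ' t - t)) = -(ρ z - z) := by
    rw [AlgEquiv.mul_apply, hz, map_sub]; ring
  rw [this, Valuation.map_neg]
  refine h.trans ?_
  rw [exp_le_exp]; push_cast; omega

theorem phi_inv {Q : Place k L} {ρ : L ≃ₐ[k] L} {i : ℕ} (hi : 2 ≤ i) (hρ : InG Q ρ i)
    {t : L} (ht : Q.1 t = exp (-1 : ℤ)) :
    phi Q t ((i + 1 : ℕ) : ℤ) ρ⁻¹ = -phi Q t ((i + 1 : ℕ) : ℤ) ρ := by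
  have h := phi_mul hi hρ hρ.inv ht
  rw [mul_inv_cancel, phi_one] at h
  exact eq_neg_of_add_eq_zero_right h.symm

theorem phi_pow {Q : Place k L} {ρ : L ≃ₐ[k] L} {i : ℕ} (hi : 2 ≤ i) (hρ : InG Q ρ i)
    {t : L} (ht : Q.1 t = exp (-1 : ℤ)) (n : ℕ) :
    phi Q t ((i + 1 : ℕ) : ℤ) (ρ ^ n) = n • phi Q t ((i + 1 : ℕ) : ℤ) ρ := by
  induction n with
  | zero => rw [pow_zero, phi_one, zero_nsmul]
  | succ n ih => rw [pow_succ, phi_mul hi (hρ.pow n) hρ ht, ih, succ_nsmul]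

theorem nsmul_phi (Q : Place k L) (t : L) (m : ℤ) (ρ : L ≃ₐ[k] L) (n : ℕ) :
    n • phi Q t m ρ = QuotientAddGroup.mk ((n : L) * (ρ t - t)) := by
  rw [phi, ← QuotientAddGroup.mk_nsmul, nsmul_eq_mul]

/-- The commutator of two elements of `G_i` (`i ≥ 2`) lies in `G_(i+1)`. -/
theorem inG_commutator (Q : Place k L) [Algebra.IsSeparable k (IsLocalRing.ResidueField Q.O)]
    {σ τ : L ≃ₐ[k] L} {i : ℕ} (hi : 2 ≤ i) (hσ : InG Q σ i) (hτ : InG Q τ i) :
    InG Q (σ * τ * σ⁻¹ * τ⁻¹) (i + 1) := by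
  obtain ⟨t, ht⟩ := exists_uniformizer Q
  have hmem : InG Q (σ * τ * σ⁻¹ * τ⁻¹) i := ((hσ.mul hτ).mul hσ.inv).mul hτ.inv
  refine inG_of_uniformizer Q (hmem.mono (by omega)) ht (by omega) ?_
  rw [← phi_eq_zero_iff, phi_mul hi ((hσ.mul hτ).mul hσ.inv) hτ.inv ht,
    phi_mul hi (hσ.mul hτ) hσ.inv ht, phi_mul hi hσ hτ ht, phi_inv hi hσ ht, phi_inv hi hτ ht]
  abel

/-- In characteristic `p`, the `p`-th power of an element of `G_i` (`i ≥ 2`) lies in `G_(i+1)`. -/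
theorem inG_pow_char (Q : Place k L) [Algebra.IsSeparable k (IsLocalRing.ResidueField Q.O)]
    {σ : L ≃ₐ[k] L} {i : ℕ} (hi : 2 ≤ i) (hσ : InG Q σ i) {p : ℕ} (hp : (p : L) = 0) :
    InG Q (σ ^ p) (i + 1) := by
  obtain ⟨t, ht⟩ := exists_uniformizer Q
  refine inG_of_uniformizer Q ((hσ.pow p).mono (by omega)) ht (by omega) ?_
  rw [← phi_eq_zero_iff, phi_pow hi hσ ht, nsmul_phi, hp, zero_mul]
  rfl

/-- If `σ ∈ G_i` (`i ≥ 2`) has order `n` with `n` a unit at `Q`, then `σ ∈ G_(i+1)`. -/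
theorem inG_succ_of_pow_eq_one (Q : Place k L) [Algebra.IsSeparable k (IsLocalRing.ResidueField Q.O)]
    {σ : L ≃ₐ[k] L} {i : ℕ} (hi : 2 ≤ i) (hσ : InG Q σ i) {n : ℕ} (hn : σ ^ n = 1)
    (hn1 : Q.1 (n : L) = 1) : InG Q σ (i + 1) := by
  obtain ⟨t, ht⟩ := exists_uniformizer Q
  refine inG_of_uniformizer Q (hσ.mono (by omega)) ht (by omega) ?_
  have h := phi_pow hi hσ ht n
  rw [hn, phi_one, nsmul_phi] at h
  have h2 := (QuotientAddGroup.eq_zero_iff _).mp h.symm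
  rw [mem_mpow, map_mul, hn1, one_mul] at h2
  exact h2

/-! ### `G_1 / G_2` is cyclic -/

theorem res_map_eq {Q : Place k L} {ρ : L ≃ₐ[k] L} (hρ : InG Q ρ 1) {w : L} (hw : Q.1 w ≤ 1) :
    res Q (ρ w) (hρ.val_le_one hw) = res Q w hw := by
  have h1 : Q.1 (ρ w - w) ≤ 1 := (hρ w hw).trans (exp_neg_le_one 1)
  have h0 : res Q (ρ w - w) h1 = 0 := by
    rw [res_eq_zero_iff, zm0_lt_one_iff]
    exact hρ w hw
  have := res_add Q (ρ w - w) w h1 hw
  rw [h0, zero_add] at this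
  rw [← this]
  exact res_congr Q (by ring) _ _

theorem InG.val_div_uniformizer {Q : Place k L} {ρ : L ≃ₐ[k] L} (hρ : InG Q ρ 1) {t : L}
    (ht : Q.1 t = exp (-1 : ℤ)) : Q.1 (ρ t / t) = 1 := by
  rw [map_div₀, hρ.val_eq, ht, div_self exp_ne_zero]

/-- The class of `ρ t / t` in the residue field. -/
noncomputable def theta (Q : Place k L) {t : L} (ht : Q.1 t = exp (-1 : ℤ)) (ρ : L ≃ₐ[k] L)
    (hρ : InG Q ρ 1) : IsLocalRing.ResidueField Q.O :=
  res Q (ρ t / t) (hρ.val_div_uniformizer ht).le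

theorem theta_one (Q : Place k L) {t : L} (ht : Q.1 t = exp (-1 : ℤ)) :
    theta Q ht 1 (InG.one Q 1) = 1 := by
  have ht0 : t ≠ 0 := by rintro rfl; rw [map_zero] at ht; exact exp_ne_zero ht.symm
  rw [theta]
  have h1 : Q.1 (1 : L) ≤ 1 := by rw [map_one]
  rw [res_congr Q (show (1 : L ≃ₐ[k] L) t / t = 1 from div_self ht0) _ h1]
  exact map_one (IsLocalRing.residue Q.O)

theorem theta_mul (Q : Place k L) {t : L} (ht : Q.1 t = exp (-1 : ℤ)) {ρ ρ' : L ≃ₐ[k] L}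
    (hρ : InG Q ρ 1) (hρ' : InG Q ρ' 1) :
    theta Q ht (ρ * ρ') (hρ.mul hρ') = theta Q ht ρ hρ * theta Q ht ρ' hρ' := by
  have ht0 : t ≠ 0 := by rintro rfl; rw [map_zero] at ht; exact exp_ne_zero ht.symm
  have hw : Q.1 (ρ' t / t) ≤ 1 := (hρ'.val_div_uniformizer ht).le
  have hu : Q.1 (ρ t / t) ≤ 1 := (hρ.val_div_uniformizer ht).le
  have heq : (ρ * ρ') t / t = ρ t / t * ρ (ρ' t / t) := by
    have hρt0 : ρ t ≠ 0 := (map_ne_zero ρ).mpr ht0
    rw [AlgEquiv.mul_apply, map_div₀]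
    field_simp
  rw [theta, theta, theta, res_congr Q heq _ (by rw [map_mul]; exact mul_le_one' hu (hρ.val_le_one hw)),
    res_mul Q _ _ hu (hρ.val_le_one hw), res_map_eq hρ hw]

theorem theta_eq_one_iff (Q : Place k L) [Algebra.IsSeparable k (IsLocalRing.ResidueField Q.O)]
    {t : L} (ht : Q.1 t = exp (-1 : ℤ)) {ρ : L ≃ₐ[k] L} (hρ : InG Q ρ 1) :
    theta Q ht ρ hρ = 1 ↔ InG Q ρ 2 := by
  have ht0 : t ≠ 0 := by rintro rfl; rw [map_zero] at ht; exact exp_ne_zero ht.symm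
  have ht1 : Q.1 t ≤ 1 := by rw [ht, ← exp_zero, exp_le_exp]; norm_num
  have hu : Q.1 (ρ t / t) ≤ 1 := (hρ.val_div_uniformizer ht).le
  have h1 : Q.1 (1 : L) ≤ 1 := by rw [map_one]
  have hd : Q.1 (ρ t / t - 1) ≤ 1 := (Q.1.map_sub _ _).trans (max_le hu h1)
  have hkey : theta Q ht ρ hρ = 1 ↔ Q.1 (ρ t / t - 1) < 1 := by
    rw [← res_eq_zero_iff Q _ hd]
    have hadd := res_add Q (ρ t / t - 1) 1 hd h1
    have hone : res Q 1 h1 = 1 := map_one (IsLocalRing.residue Q.O)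
    have hsum : res Q (ρ t / t - 1 + 1) ((Q.1.map_add _ _).trans (max_le hd h1)) = theta Q ht ρ hρ :=
      res_congr Q (by ring) _ _
    rw [hsum, hone] at hadd
    rw [hadd]
    constructor
    · intro h; exact add_eq_right.mp h
    · intro h; rw [h, zero_add]
  rw [hkey]
  have hdiv : ρ t / t - 1 = (ρ t - t) / t := by field_simp
  rw [hdiv, map_div₀, ht, div_lt_iff₀ exp_pos, one_mul]
  constructor
  · intro h
    refine inG_of_uniformizer Q hρ ht (by norm_num) ?_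
    rcases eq_or_ne (ρ t - t) 0 with h0 | h0
    · rw [h0, map_zero]; exact zero_le
    · rw [val_eq_exp_neg_ord Q h0] at h ⊢
      rw [exp_lt_exp] at h
      rw [exp_le_exp]
      push_cast
      omega
  · intro h
    refine (h t ht1).trans_lt ?_
    rw [exp_lt_exp]; norm_num

/-- A finite group mapping multiplicatively to a domain is cyclic modulo the kernel. -/
theorem exists_pow_inv_mul_map_eq_one {H : Type*} [Group H] [Finite H] {R : Type*} [CommRing R]
    [IsDomain R] (θ : H →* R) : ∃ h₀ : H, ∀ h : H, ∃ n : ℕ, θ ((h₀ ^ n)⁻¹ * h) = 1 := by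
  set θ' : H →* Rˣ := θ.toHomUnits with hθ'
  have hcyc : IsCyclic (H ⧸ θ'.ker) :=
    isCyclic_of_injective_ringHom ((Units.coeHom R).comp (QuotientGroup.kerLift θ'))
      (Units.val_injective.comp (QuotientGroup.kerLift_injective θ'))
  obtain ⟨x, hx⟩ := IsCyclic.exists_monoid_generator (α := H ⧸ θ'.ker)
  obtain ⟨g₀, rfl⟩ := QuotientGroup.mk_surjective x
  refine ⟨g₀, fun g => ?_⟩
  obtain ⟨n, hn⟩ := hx (QuotientGroup.mk g)
  refine ⟨n, ?_⟩
  dsimp only at hn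
  rw [← QuotientGroup.mk_pow, QuotientGroup.eq, MonoidHom.mem_ker] at hn
  have := congrArg Units.val hn
  rwa [hθ', MonoidHom.coe_toHomUnits, Units.val_one] at this

/-- The inertia group as a subgroup of a group acting on `L`. -/
def inertia (Q : Place k L) {G : Type*} [Group G] (f : G →* (L ≃ₐ[k] L)) : Subgroup G where
  carrier := {g | InG Q (f g) 1}
  mul_mem' := fun {a b} ha hb => by
    change InG Q (f (a * b)) 1
    rw [map_mul]; exact InG.mul ha hb
  one_mem' := by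
    change InG Q (f 1) 1
    rw [map_one]; exact InG.one Q 1
  inv_mem' := fun {a} ha => by
    change InG Q (f a⁻¹) 1
    rw [map_inv]; exact InG.inv ha

/-- `theta` as a monoid hom on the inertia group. -/
noncomputable def thetaHom (Q : Place k L) {t : L} (ht : Q.1 t = exp (-1 : ℤ)) {G : Type*} [Group G]
    (f : G →* (L ≃ₐ[k] L)) : inertia Q f →* IsLocalRing.ResidueField Q.O where
  toFun := fun g => theta Q ht (f g.1) g.2
  map_one' := by
    have := theta_one Q ht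
    convert this using 2
    exact map_one f
  map_mul' := fun a b => by
    have := theta_mul Q ht a.2 b.2
    convert this using 2
    exact map_mul f a.1 b.1

/-- `G_1 / G_2` is cyclic, for the ramification groups of `Q` inside any finite group acting on `L`. -/
theorem exists_generator_G1_mod_G2 (Q : Place k L)
    [Algebra.IsSeparable k (IsLocalRing.ResidueField Q.O)] {G : Type*} [Group G] [Finite G]
    (f : G →* (L ≃ₐ[k] L)) :
    ∃ g₀ : G, InG Q (f g₀) 1 ∧ ∀ g : G, InG Q (f g) 1 → ∃ n : ℕ, InG Q (f ((g₀ ^ n)⁻¹ * g)) 2 := by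
  obtain ⟨t, ht⟩ := exists_uniformizer Q
  obtain ⟨g₀, hg₀⟩ := exists_pow_inv_mul_map_eq_one (thetaHom Q ht f)
  refine ⟨g₀.1, g₀.2, fun g hg => ?_⟩
  obtain ⟨n, hn⟩ := hg₀ ⟨g, hg⟩
  refine ⟨n, ?_⟩
  have hmem : InG Q (f ((g₀.1 ^ n)⁻¹ * g)) 1 := ((g₀ ^ n)⁻¹ * (⟨g, hg⟩ : inertia Q f)).2
  exact (theta_eq_one_iff Q ht hmem).mp hn

end Groth.Agent.Lib.Helper13.Ram
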