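import Mathlib

set_option autoImplicit false
set_option linter.unusedSectionVars false
set_option linter.unusedVariables false
set_option linter.style.haveILetI false
universe u

open CategoryTheory CategoryTheory.Limits AlgebraicGeometry TopologicalSpace

/-!
# Factoring morphisms from reduced schemes through reduced closed subschemes (helper13)
-/

namespace Groth.Agent.Lib.Helper13.RedLift

/-- the kernel of a morphism from a reduced scheme is the vanishing ideal of the closure of its
range -/
theorem ker_eq_vanishingIdeal_of_isReduced {W X : Scheme.{u}} [IsReduced W] (l : W ⟶ X) :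
    l.ker = Scheme.IdealSheafData.vanishingIdeal (Closeds.closure (Set.range l.base)) := by
  have h := Scheme.IdealSheafData.map_vanishingIdeal l ⊤
  rw [Scheme.IdealSheafData.vanishingIdeal_top, Scheme.nilradical_eq_bot,
    Scheme.IdealSheafData.map_bot] at h
  rw [h]
  congr 2
  simp

/-- a morphism from a reduced scheme with range in a closed set factors through the reduced
closed subscheme -/
theorem exists_lift_vanishingIdeal {W X : Scheme.{u}} [IsReduced W] (l : W ⟶ X) (T : Closeds X)
    (h : Set.range l.base ⊆ (T : Set X)) :
    ∃ l' : W ⟶ (Scheme.IdealSheafData.vanishingIdeal T).subscheme,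
      l' ≫ (Scheme.IdealSheafData.vanishingIdeal T).subschemeι = l := by
  have hker : (Scheme.IdealSheafData.vanishingIdeal T).subschemeι.ker ≤ l.ker := by
    rw [Scheme.IdealSheafData.ker_subschemeι, ker_eq_vanishingIdeal_of_isReduced]
    apply Scheme.IdealSheafData.vanishingIdeal_antimono
    rw [Closeds.closure_le]
    exact h
  exact ⟨IsClosedImmersion.lift _ l hker, IsClosedImmersion.lift_fac _ l hker⟩

end Groth.Agent.Lib.Helper13.RedLift
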