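import Mathlib

/-!
# Reduced noetherian rings with finite normalization: local rings away from the conductor

For a reduced noetherian ring `A` with total ring of fractions `Q`, if `d` is a nonzerodivisor
which multiplies every element of `Q` integral over `A` into `A`, then for each prime `p ∌ d`
the local ring `A_p` is an integrally closed domain.
-/

set_option autoImplicit false
set_option linter.style.haveILetI false
universe u
noncomputable section

namespace Groth.Agent.Lib.Helper13.ReducedNormal

open scoped nonZeroDivisors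

/-- in a reduced noetherian ring, `(x) + ann(x)` contains a nonzerodivisor -/
theorem exists_mul_add_mem_nonZeroDivisors {A : Type*} [CommRing A] [IsNoetherianRing A]
    [IsReduced A] (x : A) : ∃ r z : A, z * x = 0 ∧ r * x + z ∈ A⁰ := by
  by_contra hcon
  push_neg at hcon
  let I : Ideal A := Ideal.span {x} ⊔ Submodule.annihilator (Ideal.span {x})
  have hI : ∀ a ∈ I, ∃ r z : A, z * x = 0 ∧ a = r * x + z := by
    intro a ha
    obtain ⟨y, hy, z, hz, rfl⟩ := Submodule.mem_sup.mp ha
    obtain ⟨r, rfl⟩ := Ideal.mem_span_singleton'.mp hy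
    refine ⟨r, z, ?_, rfl⟩
    have := Submodule.mem_annihilator.mp hz x (Ideal.mem_span_singleton_self x)
    simpa using this
  have hdisj : Disjoint (I : Set A) (A⁰ : Set A) := by
    rw [Set.disjoint_left]
    intro a ha ha0
    obtain ⟨r, z, hz, rfl⟩ := hI a ha
    exact hcon r z hz ha0
  have hlt := Ideal.bot_lt_annihilator_of_disjoint_nonZeroDivisors hdisj
  obtain ⟨w, hw, hw0⟩ := SetLike.exists_of_lt hlt
  apply hw0
  rw [Submodule.mem_annihilator] at hw
  have h1 : w * x = 0 := by
    have := hw x (Submodule.mem_sup_left (Ideal.mem_span_singleton_self x))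
    simpa using this
  have h2 : w ∈ I := by
    apply Submodule.mem_sup_right
    rw [Submodule.mem_annihilator]
    intro y hy
    obtain ⟨c, rfl⟩ := Ideal.mem_span_singleton'.mp hy
    rw [smul_eq_mul, mul_comm c, ← mul_assoc, h1, zero_mul]
  have h3 : w * w = 0 := by
    have := hw w h2
    simpa using this
  have : IsNilpotent w := ⟨2, by rw [pow_two, h3]⟩
  simpa using this.eq_zero

section

variable {A : Type*} [CommRing A] [IsNoetherianRing A] [IsReduced A]
  (Q : Type*) [CommRing Q] [Algebra A Q] [IsLocalization A⁰ Q]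

/-- the idempotent attached to `x`: there is `a` with `a * y = 0` whenever `x * y = 0`
and `(d - a) * x = 0`. -/
theorem exists_idempotent_split (d : A)
    (hd : ∀ b : Q, IsIntegral A b → ∃ a : A, algebraMap A Q a = algebraMap A Q d * b) (x : A) :
    ∃ a : A, (∀ y : A, x * y = 0 → a * y = 0) ∧ (d - a) * x = 0 := by
  obtain ⟨r, z, hz, hn⟩ := exists_mul_add_mem_nonZeroDivisors x
  set n : A := r * x + z with hndef
  set e : Q := IsLocalization.mk' Q (r * x) (⟨n, hn⟩ : A⁰) with he
  have hee : e * e = e := by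
    rw [he, ← IsLocalization.mk'_mul, IsLocalization.mk'_eq_iff_eq]
    congr 1
    simp only [Submonoid.mk_mul_mk]
    rw [hndef]
    have : z * x = 0 := hz
    linear_combination (-(r * x + z) * r) * this
  have hint : IsIntegral A e := by
    refine ⟨Polynomial.X ^ 2 - Polynomial.X, ?_, ?_⟩
    · apply Polynomial.monic_X_pow_sub
      exact (Polynomial.degree_X_le).trans_lt (by norm_num)
    · simp [pow_two, hee]
  obtain ⟨a, ha⟩ := hd e hint
  have hinj : Function.Injective (algebraMap A Q) := IsLocalization.injective Q le_rfl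
  have hspec : a * n = d * (r * x) := by
    apply hinj
    rw [map_mul, ha, map_mul (algebraMap A Q) d, mul_assoc, he, IsLocalization.mk'_spec_mk]
  refine ⟨a, fun y hy => ?_, ?_⟩
  · have h1 : a * y * n = 0 := by
      calc a * y * n = (a * n) * y := by ring
        _ = d * (r * x) * y := by rw [hspec]
        _ = d * r * (x * y) := by ring
        _ = 0 := by rw [hy, mul_zero]
    exact hn.2 _ h1
  · have h1 : (d - a) * x * n = 0 := by
      calc (d - a) * x * n = d * x * n - (a * n) * x := by ring
        _ = d * x * (r * x + z) - d * (r * x) * x := by rw [hspec]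
        _ = d * (z * x) := by ring
        _ = 0 := by rw [hz, mul_zero]
    exact hn.2 _ h1

/-- away from the conductor, the local rings of a reduced noetherian ring with finite
normalization are domains -/
theorem isDomain_atPrime (d : A)
    (hd : ∀ b : Q, IsIntegral A b → ∃ a : A, algebraMap A Q a = algebraMap A Q d * b)
    (p : Ideal A) [p.IsPrime] (hdp : d ∉ p) (Rp : Type*) [CommRing Rp] [Algebra A Rp]
    [IsLocalization.AtPrime Rp p] : IsDomain Rp := by
  haveI : IsLocalRing Rp := IsLocalization.AtPrime.isLocalRing Rp p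
  haveI : NoZeroDivisors Rp := by
    refine ⟨fun {α β} hαβ => ?_⟩
    obtain ⟨x, s, rfl⟩ := IsLocalization.exists_mk'_eq p.primeCompl α
    obtain ⟨y, t, rfl⟩ := IsLocalization.exists_mk'_eq p.primeCompl β
    rw [← IsLocalization.mk'_mul, IsLocalization.mk'_eq_zero_iff] at hαβ
    obtain ⟨u, hu⟩ := hαβ
    obtain ⟨a, ha1, ha2⟩ := exists_idempotent_split Q d hd (u.1 * x)
    have h1 : a * y = 0 := ha1 y (by rw [← hu]; ring)
    by_cases hap : a ∈ p
    · left
      have hda : d - a ∉ p := fun h => hdp (by simpa using p.add_mem h hap)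
      rw [IsLocalization.mk'_eq_zero_iff]
      exact ⟨⟨(d - a) * u.1, p.primeCompl.mul_mem hda u.2⟩, by rw [← ha2]; ring⟩
    · right
      rw [IsLocalization.mk'_eq_zero_iff]
      exact ⟨⟨a, hap⟩, h1⟩
  exact NoZeroDivisors.to_isDomain _

/-- away from the conductor, the local rings of a reduced noetherian ring with finite
normalization are integrally closed -/
theorem isIntegrallyClosed_atPrime (d : A)
    (hd : ∀ b : Q, IsIntegral A b → ∃ a : A, algebraMap A Q a = algebraMap A Q d * b)
    (p : Ideal A) [p.IsPrime] (hdp : d ∉ p) (Rp : Type*) [CommRing Rp] [Algebra A Rp]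
    [IsLocalization.AtPrime Rp p] [IsDomain Rp] (K : Type*) [Field K] [Algebra Rp K]
    [IsFractionRing Rp K] [Algebra A K] [IsScalarTower A Rp K] : IsIntegrallyClosed Rp := by
  haveI : Nontrivial A := by
    by_contra h
    rw [not_nontrivial_iff_subsingleton] at h
    exact (‹p.IsPrime›).ne_top (p.eq_top_iff_one.mpr
      (by rw [Subsingleton.elim (1 : A) 0]; exact p.zero_mem))
  have hinjK : Function.Injective (algebraMap Rp K) := IsFractionRing.injective Rp K
  -- vanishing in `K`
  have hg_zero : ∀ a : A, algebraMap A K a = 0 → ∃ u : A, u ∉ p ∧ u * a = 0 := by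
    intro a h0
    rw [IsScalarTower.algebraMap_apply A Rp K, map_eq_zero_iff _ hinjK,
      IsLocalization.map_eq_zero_iff p.primeCompl] at h0
    obtain ⟨u, hu⟩ := h0
    exact ⟨u.1, u.2, hu⟩
  have hg_ne : ∀ s : A, s ∉ p → algebraMap A K s ≠ 0 := by
    intro s hs h0
    have hu : IsUnit (algebraMap A Rp s) :=
      IsLocalization.map_units Rp (⟨s, hs⟩ : p.primeCompl)
    rw [IsScalarTower.algebraMap_apply A Rp K, map_eq_zero_iff _ hinjK] at h0
    rw [h0] at hu
    exact not_isUnit_zero hu
  -- nonzerodivisors of `A` are nonzero in `K`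
  have hg0 : ∀ n : A, n ∈ A⁰ → algebraMap A K n ≠ 0 := by
    intro n hn h0
    obtain ⟨u, hup, hu⟩ := hg_zero n h0
    have : u = 0 := hn.2 _ hu
    exact hup (this ▸ p.zero_mem)
  have hunit : ∀ n : A⁰, IsUnit (algebraMap A K n) := fun n => (hg0 n.1 n.2).isUnit
  let φ : Q →+* K := IsLocalization.lift (M := A⁰) (S := Q) hunit
  have hφ : ∀ a : A, φ (algebraMap A Q a) = algebraMap A K a := IsLocalization.lift_eq hunit
  have hφcomp : φ.comp (algebraMap A Q) = algebraMap A K := RingHom.ext hφ
  -- the kernel of `φ`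
  have hker : ∀ w : Q, φ w = 0 → ∃ u : A, u ∉ p ∧ algebraMap A Q u * w = 0 := by
    intro w hw
    obtain ⟨a, n, rfl⟩ := IsLocalization.exists_mk'_eq A⁰ w
    have h1 : algebraMap A K a = 0 := by
      rw [← hφ, ← IsLocalization.mk'_spec Q a n, map_mul, hw, zero_mul]
    obtain ⟨u, hup, hu⟩ := hg_zero a h1
    refine ⟨u, hup, ?_⟩
    rw [IsLocalization.mul_mk'_eq_mk'_of_mul, hu, IsLocalization.mk'_zero]
  -- `φ` is surjective
  have hsurj : ∀ ξ : K, ∃ η : Q, φ η = ξ := by
    intro ξ
    obtain ⟨α, β, hβ, rfl⟩ := IsFractionRing.div_surjective (A := Rp) ξ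
    have hβ0 : β ≠ 0 := nonZeroDivisors.ne_zero hβ
    obtain ⟨x, s, rfl⟩ := IsLocalization.exists_mk'_eq p.primeCompl α
    obtain ⟨y, t, rfl⟩ := IsLocalization.exists_mk'_eq p.primeCompl β
    have hα : algebraMap Rp K (IsLocalization.mk' Rp x s) * algebraMap A K s = algebraMap A K x := by
      rw [IsScalarTower.algebraMap_apply A Rp K, ← map_mul, IsLocalization.mk'_spec,
        ← IsScalarTower.algebraMap_apply]
    have hβ' : algebraMap Rp K (IsLocalization.mk' Rp y t) * algebraMap A K t = algebraMap A K y := by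
      rw [IsScalarTower.algebraMap_apply A Rp K, ← map_mul, IsLocalization.mk'_spec,
        ← IsScalarTower.algebraMap_apply]
    have hs0 := hg_ne s.1 s.2
    have ht0 := hg_ne t.1 t.2
    have hβK : algebraMap Rp K (IsLocalization.mk' Rp y t) ≠ 0 := by
      rwa [Ne, map_eq_zero_iff _ hinjK]
    have hy0 : algebraMap A K y ≠ 0 := by
      rw [← hβ']; exact mul_ne_zero hβK ht0
    -- a nonzerodivisor
    obtain ⟨r, z, hz, hn⟩ := exists_mul_add_mem_nonZeroDivisors (y * s.1)
    have hz0 : algebraMap A K z = 0 := by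
      have : algebraMap A K z * algebraMap A K (y * s.1) = 0 := by
        rw [← map_mul, hz, map_zero]
      rcases mul_eq_zero.mp this with h | h
      · exact h
      · rw [map_mul] at h
        exact absurd h (mul_ne_zero hy0 hs0)
    have hn0 := hg0 _ hn
    have hnK : algebraMap A K (r * (y * s.1) + z) =
        algebraMap A K r * (algebraMap A K y * algebraMap A K s.1) := by
      rw [map_add, hz0, add_zero, map_mul, map_mul]
    refine ⟨IsLocalization.mk' Q (x * t.1 * r) (⟨r * (y * s.1) + z, hn⟩ : A⁰), ?_⟩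
    have hspec : φ (IsLocalization.mk' Q (x * t.1 * r) (⟨r * (y * s.1) + z, hn⟩ : A⁰)) *
        algebraMap A K (r * (y * s.1) + z) = algebraMap A K (x * t.1 * r) := by
      rw [← hφ, ← map_mul, IsLocalization.mk'_spec_mk, hφ]
    rw [hnK] at hn0
    have hr0 : algebraMap A K r ≠ 0 := left_ne_zero_of_mul hn0
    rw [eq_div_iff hβK]
    apply mul_right_cancel₀ hn0
    rw [← hnK] at hn0 ⊢
    calc φ (IsLocalization.mk' Q (x * t.1 * r) (⟨r * (y * s.1) + z, hn⟩ : A⁰)) *
          algebraMap Rp K (IsLocalization.mk' Rp y t) * algebraMap A K (r * (y * s.1) + z)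
        = (φ (IsLocalization.mk' Q (x * t.1 * r) (⟨r * (y * s.1) + z, hn⟩ : A⁰)) *
          algebraMap A K (r * (y * s.1) + z)) * algebraMap Rp K (IsLocalization.mk' Rp y t) := by
          ring
      _ = algebraMap A K (x * t.1 * r) * algebraMap Rp K (IsLocalization.mk' Rp y t) := by
          rw [hspec]
      _ = algebraMap Rp K (IsLocalization.mk' Rp x s) * algebraMap A K (r * (y * s.1) + z) := by
          rw [hnK, map_mul, map_mul, ← hα, ← hβ']
          ring
  -- main argument
  rw [isIntegrallyClosed_iff K]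
  intro ξ hξ
  obtain ⟨t, ht⟩ := IsIntegral.exists_multiple_integral_of_isLocalization p.primeCompl ξ hξ
  obtain ⟨η, rfl⟩ := hsurj ξ
  obtain ⟨P, hPm, hP⟩ := ht
  have h1 : t • φ η = φ (algebraMap A Q t.1 * η) := by
    rw [map_mul, hφ, Submonoid.smul_def, Algebra.smul_def]
  set w : Q := Polynomial.eval₂ (algebraMap A Q) (algebraMap A Q t.1 * η) (P * Polynomial.X)
    with hwdef
  have hw : φ w = 0 := by
    rw [hwdef, Polynomial.hom_eval₂, hφcomp, ← h1, Polynomial.eval₂_mul, hP, zero_mul]
  obtain ⟨u, hup, hu⟩ := hker w hw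
  have hint : IsIntegral A (algebraMap A Q u * (algebraMap A Q t.1 * η)) := by
    refine ⟨Polynomial.scaleRoots (P * Polynomial.X) u,
      (Polynomial.monic_scaleRoots_iff _).mpr (hPm.mul Polynomial.monic_X), ?_⟩
    rw [Polynomial.scaleRoots_eval₂_mul, (hPm.natDegree_mul Polynomial.monic_X),
      Polynomial.natDegree_X, pow_succ, mul_assoc, ← hwdef, hu, mul_zero]
  obtain ⟨a', ha'⟩ := hd _ hint
  have hdut : d * u * t.1 ∈ p.primeCompl :=
    p.primeCompl.mul_mem (p.primeCompl.mul_mem hdp hup) t.2
  refine ⟨IsLocalization.mk' Rp a' ⟨d * u * t.1, hdut⟩, ?_⟩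
  have hs0 := hg_ne _ hdut
  apply mul_right_cancel₀ hs0
  have h2 : algebraMap Rp K (IsLocalization.mk' Rp a' ⟨d * u * t.1, hdut⟩) *
      algebraMap A K (d * u * t.1) = algebraMap A K a' := by
    rw [IsScalarTower.algebraMap_apply A Rp K (d * u * t.1), ← map_mul,
      IsLocalization.mk'_spec_mk, ← IsScalarTower.algebraMap_apply]
  rw [h2, ← hφ a', ha', map_mul, map_mul, map_mul, hφ, hφ, hφ, map_mul, map_mul]
  ring

/-- a common denominator for a finite integral closure in the total ring of fractions -/
theorem exists_common_denominator (hfin : Module.Finite A (integralClosure A Q)) :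
    ∃ d : A, d ∈ A⁰ ∧ ∀ c : Q, IsIntegral A c →
      ∃ a : A, algebraMap A Q a = algebraMap A Q d * c := by
  classical
  obtain ⟨S, hS⟩ := hfin.fg_top
  obtain ⟨b, hb⟩ := IsLocalization.exist_integer_multiples_of_finset A⁰
    (S.image (fun c : integralClosure A Q => (c : Q)))
  refine ⟨b, b.2, fun c hc => ?_⟩
  let N : Submodule A (integralClosure A Q) :=
    { carrier := {c | ∃ a : A, algebraMap A Q a = algebraMap A Q b * (c : Q)}
      add_mem' := by
        rintro x y ⟨a, ha⟩ ⟨a', ha'⟩
        exact ⟨a + a', by rw [map_add, ha, ha']; push_cast; ring⟩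
      zero_mem' := ⟨0, by simp⟩
      smul_mem' := by
        rintro r x ⟨a, ha⟩
        refine ⟨r * a, ?_⟩
        rw [map_mul, ha]
        change _ = _ * ((r • x : integralClosure A Q) : Q)
        rw [Subalgebra.coe_smul, Algebra.smul_def]
        ring }
  have hSN : (S : Set (integralClosure A Q)) ⊆ N := by
    intro c hc
    obtain ⟨a, ha⟩ := hb (c : Q) (Finset.mem_image.mpr ⟨c, hc, rfl⟩)
    exact ⟨a, by rw [ha, Algebra.smul_def]⟩
  have hN : N = ⊤ := by
    rw [eq_top_iff, ← hS]
    exact Submodule.span_le.mpr hSN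
  have hcN : (⟨c, hc⟩ : integralClosure A Q) ∈ N := by rw [hN]; trivial
  exact hcN

/-- **normal locus contains the complement of the conductor** -/
theorem exists_nonZeroDivisor_forall_normal (hfin : Module.Finite A (integralClosure A Q)) :
    ∃ d : A, d ∈ A⁰ ∧ ∀ (p : Ideal A) [p.IsPrime], d ∉ p →
      IsDomain (Localization.AtPrime p) ∧ IsIntegrallyClosed (Localization.AtPrime p) := by
  obtain ⟨d, hd0, hd⟩ := exists_common_denominator Q hfin
  refine ⟨d, hd0, fun p _ hdp => ?_⟩
  have hdom : IsDomain (Localization.AtPrime p) :=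
    isDomain_atPrime Q d hd p hdp (Localization.AtPrime p)
  refine ⟨hdom, ?_⟩
  exact isIntegrallyClosed_atPrime Q d hd p hdp (Localization.AtPrime p)
    (FractionRing (Localization.AtPrime p))

end

end Groth.Agent.Lib.Helper13.ReducedNormal
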