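import Mathlib
import Groth.Agent.Lib.Helper12.BrnchH
import Groth.Agent.Lib.Helper12.StrictTensorF
import Groth.Agent.Lib.Helper12.StrictQuotient
import Groth.Agent.S2135
import Groth.Agent.S2750
import Groth.Agent.S2715

/-!
# Strict henselizations: transfer along ring isomorphisms, counting minimal primes along flat
local homomorphisms, quotient of a localization
-/

set_option autoImplicit false
set_option linter.style.haveILetI false
universe u

namespace Groth.Agent.Lib.Helper13.SHBranchA


open IsLocalRing TensorProduct

/-- contraction of a minimal prime along a going-down map is minimal -/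
theorem under_mem_minimalPrimes {R S : Type*} [CommRing R] [CommRing S]
    [Algebra R S] [Algebra.HasGoingDown R S] {Q : Ideal S} (hQ : Q ∈ minimalPrimes S) :
    Q.under R ∈ minimalPrimes R := by
  haveI : Q.IsPrime := hQ.1.1
  refine ⟨⟨Ideal.comap_isPrime _ _, bot_le⟩, ?_⟩
  rintro P ⟨hP, -⟩ hle
  by_contra hne
  have hlt : P < Q.under R := lt_of_le_of_ne hle (fun h => hne (h ▸ le_rfl))
  obtain ⟨Q', hQ'le, hQ'prime, hQ'over⟩ :=
    Algebra.HasGoingDown.exists_ideal_le_liesOver_of_lt (p := P) Q hlt
  have h2 : Q ≤ Q' := hQ.2 ⟨hQ'prime, bot_le⟩ hQ'le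
  have h3 : Q' = Q := le_antisymm hQ'le h2
  apply hne
  rw [← h3]
  exact le_of_eq hQ'over.over.symm

/-- Lemma M: flat local hom with at most one minimal prime over each minimal prime. -/
theorem card_minimalPrimes_eq_of_flat {A E : Type u} [CommRing A] [CommRing E] [IsLocalRing A]
    [IsLocalRing E] [Algebra A E] [IsLocalHom (algebraMap A E)] [Module.Flat A E]
    (h : ∀ P₁ ∈ minimalPrimes E, ∀ P₂ ∈ minimalPrimes E, P₁.under A = P₂.under A → P₁ = P₂) :
    ENat.card (minimalPrimes E) = ENat.card (minimalPrimes A) := by
  haveI : Module.FaithfullyFlat A E := Module.FaithfullyFlat.of_flat_of_isLocalHom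
  let f : minimalPrimes E → minimalPrimes A := fun P => ⟨P.1.under A, under_mem_minimalPrimes P.2⟩
  have hinj : Function.Injective f := by
    intro P₁ P₂ h12
    exact Subtype.ext (h P₁.1 P₁.2 P₂.1 P₂.2 (congrArg Subtype.val h12))
  have hsurj : Function.Surjective f := by
    rintro ⟨𝔭, h𝔭⟩
    haveI : 𝔭.IsPrime := h𝔭.1.1
    obtain ⟨P', hP'⟩ := PrimeSpectrum.comap_surjective_of_faithfullyFlat (A := A) (B := E) ⟨𝔭, inferInstance⟩
    obtain ⟨P, hPmin, hPle⟩ := Ideal.exists_minimalPrimes_le (bot_le : (⊥ : Ideal E) ≤ P'.asIdeal)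
    refine ⟨⟨P, hPmin⟩, Subtype.ext ?_⟩
    show P.under A = 𝔭
    have h1 : P.under A ≤ 𝔭 := by
      have : P'.asIdeal.under A = 𝔭 := congrArg PrimeSpectrum.asIdeal hP'
      rw [← this]
      exact Ideal.comap_mono hPle
    have h2 := under_mem_minimalPrimes (R := A) hPmin
    exact le_antisymm h1 (h𝔭.2 h2.1 h1)
  exact ENat.card_congr (Equiv.ofBijective f ⟨hinj, hsurj⟩)

/-- Lemma M2 -/
theorem card_minimalPrimes_eq_of_unique {A E : Type u} [CommRing A] [CommRing E] [IsLocalRing A]
    [IsLocalRing E] [Algebra A E] [IsLocalHom (algebraMap A E)] [Module.Flat A E]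
    (h : ∀ 𝔭 ∈ minimalPrimes A, CAlgX.HasUniqueMinimalPrime (E ⧸ 𝔭.map (algebraMap A E))) :
    ENat.card (minimalPrimes E) = ENat.card (minimalPrimes A) := by
  apply card_minimalPrimes_eq_of_flat
  intro P₁ hP₁ P₂ hP₂ h12
  have h𝔭 := under_mem_minimalPrimes (R := A) hP₁
  set 𝔭 := P₁.under A with h𝔭def
  set J := 𝔭.map (algebraMap A E) with hJ
  obtain ⟨P₀, -, huniq⟩ := h 𝔭 h𝔭
  have key : ∀ P ∈ minimalPrimes E, P.under A = 𝔭 →
      P = P₀.comap (Ideal.Quotient.mk J) := by
    intro P hP hPu
    have hJP : J ≤ P := by
      rw [hJ, Ideal.map_le_iff_le_comap, ← hPu]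
    have hPJ : P ∈ J.minimalPrimes := by
      refine ⟨⟨hP.1.1, hJP⟩, ?_⟩
      rintro P' ⟨hP'prime, -⟩ hle
      exact hP.2 ⟨hP'prime, bot_le⟩ hle
    have h1 := Ideal.comap_minimalPrimes_eq_of_surjective
      (f := Ideal.Quotient.mk J) Ideal.Quotient.mk_surjective ⊥
    have h2 : (⊥ : Ideal (E ⧸ J)).comap (Ideal.Quotient.mk J) = J := by
      rw [← RingHom.ker_eq_comap_bot, Ideal.mk_ker]
    rw [h2] at h1
    rw [h1] at hPJ
    obtain ⟨Pb, hPb, rfl⟩ := hPJ
    rw [huniq Pb hPb]
  rw [key P₁ hP₁ rfl, key P₂ hP₂ h12.symm]




/-- Lemma T: transfer of strict henselization along a ring isomorphism of the base. -/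
theorem isStrictHenselization_of_ringEquiv (A B S : Type u) [CommRing A] [IsLocalRing A]
    [CommRing B] [IsLocalRing B] [CommRing S] [IsLocalRing S] [Algebra B S]
    [IsLocalHom (algebraMap B S)] [Hensel.IsStrictHenselization B S] (e : A ≃+* B)
    [Algebra A S] (h : algebraMap A S = (algebraMap B S).comp e.toRingHom)
    [IsLocalHom (algebraMap A S)] : Hensel.IsStrictHenselization A S := by
  have hcl := Hensel.IsStrictHenselization.isSepClosure (R := B) (S := S)
  haveI : IsLocalHom e.toRingHom := by
    constructor
    intro a ha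
    have : IsUnit (e.symm (e a)) := ha.map e.symm
    simpa using this
  -- residue field iso
  let eκ : ResidueField A ≃+* ResidueField B := ResidueField.mapEquiv e
  have heκ : (algebraMap (ResidueField B) (ResidueField S)).comp (eκ : ResidueField A →+* ResidueField B)
      = (RingHom.id _).comp (algebraMap (ResidueField A) (ResidueField S)) := by
    refine RingHom.ext fun x => ?_
    obtain ⟨a, rfl⟩ := residue_surjective x
    simp only [RingHom.comp_apply, RingHom.id_apply]
    show algebraMap (ResidueField B) (ResidueField S) (ResidueField.map e.toRingHom (residue A a)) = _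
    rw [ResidueField.map_residue, ResidueField.algebraMap_residue, ResidueField.algebraMap_residue, h]
    rfl
  refine ⟨Hensel.IsStrictHenselization.henselian (R := B), ⟨hcl.sep_closed, ?_⟩, ?_⟩
  · haveI := hcl.separable
    exact Algebra.IsSeparable.of_equiv_equiv eκ.symm (RingEquiv.refl _) (by
      refine RingHom.ext fun x => ?_
      obtain ⟨y, rfl⟩ := eκ.surjective x
      have := RingHom.congr_fun heκ y
      simp only [RingHom.comp_apply, RingHom.id_apply] at this
      simp only [RingHom.comp_apply]
      rw [show ((eκ.symm : ResidueField B →+* ResidueField A) (eκ y)) = y from eκ.symm_apply_apply y]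
      rw [← this]
      rfl)
  · intro T _ _ f _ τ hτ
    let f' : B →+* T := f.comp e.symm.toRingHom
    haveI : IsLocalHom e.symm.toRingHom := by
      constructor
      intro a ha
      have : IsUnit (e (e.symm a)) := ha.map e
      simpa using this
    haveI : IsLocalHom f' := RingHom.isLocalHom_comp _ _
    have hτ' : τ.comp (ResidueField.map (algebraMap B S)) = ResidueField.map f' := by
      refine RingHom.ext fun x => ?_
      obtain ⟨b, rfl⟩ := residue_surjective x
      have h1 := RingHom.congr_fun hτ (residue A (e.symm b))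
      simp only [RingHom.comp_apply, ResidueField.map_residue] at h1 ⊢
      rw [h] at h1
      simp only [RingHom.comp_apply] at h1
      have h2 : e.toRingHom (e.symm b) = b := e.apply_symm_apply b
      rw [h2] at h1
      rw [h1]
      rfl
    obtain ⟨g, ⟨hg1, hg2⟩, hguniq⟩ := Hensel.IsStrictHenselization.universal (R := B) (S := S) T f' τ hτ'
    refine ⟨g, ⟨?_, hg2⟩, ?_⟩
    · rw [h, ← RingHom.comp_assoc, hg1]
      refine RingHom.ext fun a => ?_
      simp [f']
    · rintro g' ⟨hg'1, hg'2⟩
      apply hguniq
      refine ⟨?_, hg'2⟩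
      rw [h] at hg'1
      refine RingHom.ext fun b => ?_
      have := RingHom.congr_fun hg'1 (e.symm b)
      simp only [RingHom.comp_apply] at this
      have h2 : e.toRingHom (e.symm b) = b := e.apply_symm_apply b
      rw [h2] at this
      simp [f', this]

/-- the number of geometric branches is invariant under ring isomorphism -/
theorem numGeomBranches_congr {A B : Type u} [CommRing A] [IsLocalRing A]
    [CommRing B] [IsLocalRing B] (e : A ≃+* B) :
    Brnch.numGeomBranches A = Brnch.numGeomBranches B := by
  let S := Groth.Agent.Lib.Helper12.StrictHenselization B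
  letI : Algebra A S := ((algebraMap B S).comp e.toRingHom).toAlgebra
  haveI : IsLocalHom e.toRingHom := by
    constructor
    intro a ha
    have : IsUnit (e.symm (e a)) := ha.map e.symm
    simpa using this
  haveI : IsLocalHom (algebraMap A S) := by
    show IsLocalHom ((algebraMap B S).comp e.toRingHom)
    exact RingHom.isLocalHom_comp _ _
  haveI := isStrictHenselization_of_ringEquiv A B S e rfl
  rw [← Groth.Agent.Lib.Helper12.BrnchHens.card_minimalPrimes_strictHenselization_eq_numGeomBranches A S,
    ← Groth.Agent.Lib.Helper12.BrnchHens.card_minimalPrimes_strictHenselization_eq_numGeomBranches B S]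

/-- geometric unibranchness is invariant under ring isomorphism -/
theorem isGeomUnibranch_congr {A B : Type u} [CommRing A] [IsLocalRing A]
    [CommRing B] [IsLocalRing B] (e : A ≃+* B) (hB : CAlg2.IsGeomUnibranch B) :
    CAlg2.IsGeomUnibranch A := by
  let S := Groth.Agent.Lib.Helper12.StrictHenselization B
  letI : Algebra A S := ((algebraMap B S).comp e.toRingHom).toAlgebra
  haveI : IsLocalHom e.toRingHom := by
    constructor
    intro a ha
    have : IsUnit (e.symm (e a)) := ha.map e.symm
    simpa using this
  haveI : IsLocalHom (algebraMap A S) := by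
    show IsLocalHom ((algebraMap B S).comp e.toRingHom)
    exact RingHom.isLocalHom_comp _ _
  haveI := isStrictHenselization_of_ringEquiv A B S e rfl
  exact (Groth.Agent.S2135.result (A := A) (Ash := S)).mpr
    ((Groth.Agent.S2135.result (A := B) (Ash := S)).mp hB)

/-- a strictly henselian local ring is its own strict henselization -/
theorem isStrictHenselization_self (A : Type u) [CommRing A] [HenselianLocalRing A]
    [IsSepClosed (ResidueField A)] : Hensel.IsStrictHenselization A A := by
  have hmap : ResidueField.map (algebraMap A A) = RingHom.id _ := by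
    refine RingHom.ext fun x => ?_
    obtain ⟨a, rfl⟩ := residue_surjective x
    simp
  have halg : @algebraMap (ResidueField A) (ResidueField A) _ _
      (ResidueField.instAlgebra (R := A) (S := A)) = RingHom.id _ := by
    refine RingHom.ext fun x => ?_
    obtain ⟨a, rfl⟩ := residue_surjective x
    rw [ResidueField.algebraMap_residue]
    rfl
  refine { henselian := inferInstance, isSepClosure := ?_, universal := ?_ }
  · refine @IsSepClosure.mk (ResidueField A) _ (ResidueField A) _
      (ResidueField.instAlgebra (R := A) (S := A)) inferInstance ?_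
    refine @Algebra.IsSeparable.mk (ResidueField A) (ResidueField A) _ _
      (ResidueField.instAlgebra (R := A) (S := A)) (fun x => ?_)
    have hx : x = @algebraMap (ResidueField A) (ResidueField A) _ _
        (ResidueField.instAlgebra (R := A) (S := A)) x := by rw [halg]; rfl
    rw [hx]
    exact @isSeparable_algebraMap (ResidueField A) _ (ResidueField A) _
      (ResidueField.instAlgebra (R := A) (S := A)) x
  · intro T _ _ f _ τ hτ
    rw [hmap, RingHom.comp_id] at hτ
    refine ⟨f, ⟨by ext; simp, fun x => ?_⟩, ?_⟩
    · rw [hτ, ResidueField.map_residue]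
    · rintro g ⟨hg1, -⟩
      rw [← hg1]
      ext; simp

/-- a strictly henselian local domain is geometrically unibranch -/
theorem isGeomUnibranch_of_strictlyHenselian_domain (A : Type u) [CommRing A] [IsDomain A]
    [HenselianLocalRing A] [IsSepClosed (ResidueField A)] : CAlg2.IsGeomUnibranch A := by
  haveI := isStrictHenselization_self A
  exact ((Groth.Agent.S2750.result A A).mpr inferInstance).2




theorem card_minimalPrimes_congr {E F : Type u} [CommRing E] [CommRing F] (e : E ≃+* F) :
    ENat.card (minimalPrimes E) = ENat.card (minimalPrimes F) := by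
  have h1 := Ideal.comap_minimalPrimes_eq_of_surjective (f := (e : E →+* F)) e.surjective ⊥
  have h2 : (⊥ : Ideal F).comap (e : E →+* F) = ⊥ := by
    rw [← RingHom.ker_eq_comap_bot]
    exact (RingHom.injective_iff_ker_eq_bot _).mp e.injective
  rw [h2] at h1
  have h3 : minimalPrimes E = Ideal.comap (e : E →+* F) '' minimalPrimes F := h1
  rw [ENat.card_coe_set_eq, ENat.card_coe_set_eq, h3]
  exact (Ideal.comap_injective_of_surjective _ e.surjective).encard_image _

theorem nonempty_quotient_equiv_of_surjective {R P : Type u} [CommRing R] [CommRing P]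
    (S Q : Type u) [CommRing S] [CommRing Q] [Algebra R S] [Algebra P Q] (M : Submonoid R)
    (T : Submonoid P) [IsLocalization M S] [IsLocalization T Q] (g : R →+* P)
    (hg : Function.Surjective g) (hT : Submonoid.map g M = T) :
    Nonempty ((S ⧸ (RingHom.ker g).map (algebraMap R S)) ≃+* Q) := by
  subst hT
  let F : S →+* Q := IsLocalization.map Q g M.le_comap_map
  have hF : Function.Surjective F := IsLocalization.map_surjective_of_surjective M S Q hg
  have hker : RingHom.ker F = (RingHom.ker g).map (algebraMap R S) :=
    IsLocalization.ker_map Q g rfl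
  exact ⟨(Ideal.quotEquivOfEq hker.symm).trans (RingHom.quotientKerEquivOfSurjective hF)⟩

theorem nonempty_quotient_atPrime_equiv {D Db : Type u} [CommRing D] [CommRing Db]
    (π : D →+* Db) (hπ : Function.Surjective π) (Q : Ideal D) [Q.IsPrime]
    (qb : Ideal Db) [qb.IsPrime] (hq : qb.comap π = Q) :
    Nonempty ((Localization.AtPrime Q ⧸ (RingHom.ker π).map (algebraMap D (Localization.AtPrime Q)))
      ≃+* Localization.AtPrime qb) := by
  refine nonempty_quotient_equiv_of_surjective _ _ Q.primeCompl qb.primeCompl π hπ ?_
  ext x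
  constructor
  · rintro ⟨d, hd, rfl⟩
    intro hx
    apply hd
    rw [← hq]
    exact hx
  · intro hx
    obtain ⟨d, rfl⟩ := hπ x
    refine ⟨d, ?_, rfl⟩
    intro hd
    apply hx
    rw [← hq] at hd
    exact hd


end Groth.Agent.Lib.Helper13.SHBranchA
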