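import Mathlib
import Groth.Agent.Lib.Helper13.SHBranchA

/-!
# Minimal primes of the strict henselization of a localization of `A ⊗[k] K`, `A` strictly henselian
-/

set_option autoImplicit false
set_option linter.style.haveILetI false
universe u

namespace Groth.Agent.Lib.Helper13.SHBranchB

open IsLocalRing TensorProduct
open Groth.Agent.Lib.Helper12 Groth.Agent.Lib.Helper13.SHBranchA

theorem hasUniqueMinimalPrime_quotient (B E C : Type u) [CommRing B] [IsLocalRing B] [CommRing E]
    [IsLocalRing E] [Algebra B E] [IsLocalHom (algebraMap B E)] [Hensel.IsStrictHenselization B E]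
    (I : Ideal B) (hI : I ≠ ⊤) [CommRing C] [IsLocalRing C] (ψ : (B ⧸ I) ≃+* C)
    (hC : CAlg2.IsGeomUnibranch C) :
    CAlgX.HasUniqueMinimalPrime (E ⧸ I.map (algebraMap B E)) := by
  obtain ⟨hR, hT, hloc, hH⟩ := StrictQuotient.isStrictHenselization_quotient B E I hI
  haveI := hR; haveI := hT; haveI := hloc; haveI := hH
  have hGU : CAlg2.IsGeomUnibranch (B ⧸ I) := isGeomUnibranch_congr ψ hC
  exact (Groth.Agent.S2135.result (A := B ⧸ I) (Ash := E ⧸ I.map (algebraMap B E))).mp hGU

/-- a quotient of a strictly henselian local ring by a prime is geometrically unibranch -/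
theorem isGeomUnibranch_quotient_prime (A : Type u) [CommRing A] [HenselianLocalRing A]
    [IsSepClosed (ResidueField A)] (𝔭 : Ideal A) [h𝔭 : 𝔭.IsPrime] :
    ∃ (_ : IsLocalRing (A ⧸ 𝔭)), CAlg2.IsGeomUnibranch (A ⧸ 𝔭) := by
  haveI := isStrictHenselization_self A
  obtain ⟨hR, hT, hloc, hH⟩ :=
    StrictQuotient.isStrictHenselization_quotient A A 𝔭 h𝔭.ne_top
  haveI := hR; haveI := hT; haveI := hloc; haveI := hH
  have hmap : 𝔭.map (algebraMap A A) = 𝔭 := by
    rw [Algebra.algebraMap_self, Ideal.map_id]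
  have hdom : IsDomain (A ⧸ 𝔭.map (algebraMap A A)) := by
    rw [Ideal.Quotient.isDomain_iff_prime, hmap]
    exact h𝔭
  exact ⟨hR, ((Groth.Agent.S2750.result (A ⧸ 𝔭) (A ⧸ 𝔭.map (algebraMap A A))).mpr hdom).2⟩

/-- Lemma SH -/
theorem card_minimalPrimes_sh (k A K : Type u) [Field k] [CommRing A] [Algebra k A]
    [HenselianLocalRing A] [IsSepClosed (ResidueField A)] [Field K] [Algebra k K]
    (Q : Ideal (A ⊗[k] K)) [Q.IsPrime]
    (hQ : Q.comap (algebraMap A (A ⊗[k] K)) = maximalIdeal A)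
    (E : Type u) [CommRing E] [IsLocalRing E] [Algebra (Localization.AtPrime Q) E]
    [IsLocalHom (algebraMap (Localization.AtPrime Q) E)]
    [Hensel.IsStrictHenselization (Localization.AtPrime Q) E] :
    ENat.card (minimalPrimes E) = ENat.card (minimalPrimes A) := by
  classical
  set D := A ⊗[k] K with hD
  set B := Localization.AtPrime Q with hB
  letI algAE : Algebra A E := ((algebraMap B E).comp (algebraMap A B)).toAlgebra
  haveI : IsScalarTower A B E := IsScalarTower.of_algebraMap_eq (fun _ => rfl)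
  haveI : Module.Flat D B := IsLocalization.flat B Q.primeCompl
  haveI : Module.Flat A B := Module.Flat.trans A D B
  haveI : Module.Flat B E := StrictStruct.flat_of_isStrictHenselization B E
  haveI : Module.Flat A E := Module.Flat.trans A B E
  have hcomapB : (maximalIdeal B).comap (algebraMap A B) = maximalIdeal A := by
    have h0 : (maximalIdeal B).comap (algebraMap D B) = Q :=
      IsLocalization.AtPrime.under_maximalIdeal B Q
    rw [IsScalarTower.algebraMap_eq A D B, ← Ideal.comap_comap, h0, hQ]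
  haveI hlocAB : IsLocalHom (algebraMap A B) :=
    ((local_hom_TFAE (algebraMap A B)).out 0 4).mpr hcomapB
  haveI hlocAE : IsLocalHom (algebraMap A E) := by
    show IsLocalHom ((algebraMap B E).comp (algebraMap A B))
    exact RingHom.isLocalHom_comp _ _
  apply card_minimalPrimes_eq_of_unique
  intro 𝔭 h𝔭
  haveI h𝔭prime : 𝔭.IsPrime := h𝔭.1.1
  obtain ⟨hloc𝔭, hGU⟩ := isGeomUnibranch_quotient_prime A 𝔭
  haveI := hloc𝔭
  -- the surjection
  let π : D →ₐ[k] (A ⧸ 𝔭) ⊗[k] K :=
    Algebra.TensorProduct.map (Ideal.Quotient.mkₐ k 𝔭) (AlgHom.id k K)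
  have hπ : Function.Surjective π :=
    Algebra.TensorProduct.map_surjective _ _ (Ideal.Quotient.mkₐ_surjective k 𝔭)
      Function.surjective_id
  let πr : D →+* (A ⧸ 𝔭) ⊗[k] K := π.toRingHom
  have hπr : Function.Surjective πr := hπ
  have hkerπ : RingHom.ker πr = 𝔭.map (algebraMap A D) := by
    have h1 := Algebra.TensorProduct.rTensor_ker (R := k) (C := K) (Ideal.Quotient.mkₐ k 𝔭)
      (Ideal.Quotient.mkₐ_surjective k 𝔭)
    have hk : RingHom.ker (Ideal.Quotient.mkₐ k 𝔭) = 𝔭 := by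
      ext x
      simp [RingHom.mem_ker, Ideal.Quotient.eq_zero_iff_mem]
    rw [hk] at h1
    have hmapeq : Ideal.map (Algebra.TensorProduct.includeLeft : A →ₐ[k] D) 𝔭 =
        Ideal.map (algebraMap A D) 𝔭 := by
      unfold Ideal.map
      congr 2
    rw [← hmapeq, ← h1]
    rfl
  have h𝔭m : 𝔭 ≤ maximalIdeal A := IsLocalRing.le_maximalIdeal h𝔭prime.ne_top
  have hkerQ : RingHom.ker πr ≤ Q := by
    rw [hkerπ, Ideal.map_le_iff_le_comap, hQ]
    exact h𝔭m
  set qb : Ideal ((A ⧸ 𝔭) ⊗[k] K) := Q.map πr with hqb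
  have hqbcomap : qb.comap πr = Q := by
    rw [hqb, Ideal.comap_map_of_surjective' πr hπr, sup_eq_left]
    exact hkerQ
  haveI hqbprime : qb.IsPrime := Ideal.map_isPrime_of_surjective hπr hkerQ
  have hqbmax : qb.comap (algebraMap (A ⧸ 𝔭) ((A ⧸ 𝔭) ⊗[k] K)) = maximalIdeal (A ⧸ 𝔭) := by
    ext x
    obtain ⟨a, rfl⟩ := Ideal.Quotient.mk_surjective x
    have h1 : algebraMap (A ⧸ 𝔭) ((A ⧸ 𝔭) ⊗[k] K) (Ideal.Quotient.mk 𝔭 a) =
        πr (algebraMap A D a) := by
      rw [Algebra.TensorProduct.algebraMap_apply, Algebra.TensorProduct.algebraMap_apply]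
      show _ = π (_ ⊗ₜ 1)
      rw [Algebra.TensorProduct.map_tmul]
      rfl
    rw [Ideal.mem_comap, h1, ← Ideal.mem_comap, hqbcomap, ← Ideal.mem_comap, hQ]
    have h2 : maximalIdeal (A ⧸ 𝔭) = (maximalIdeal A).map (Ideal.Quotient.mk 𝔭) := by
      symm
      apply IsLocalRing.eq_maximalIdeal
      exact Ideal.IsMaximal.map_of_surjective_of_ker_le Ideal.Quotient.mk_surjective
        (by rw [Ideal.mk_ker]; exact h𝔭m)
    rw [h2, Ideal.mem_map_iff_of_surjective _ Ideal.Quotient.mk_surjective]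
    constructor
    · intro ha; exact ⟨a, ha, rfl⟩
    · rintro ⟨a', ha', haa'⟩
      have : a - a' ∈ 𝔭 := by
        rw [← Ideal.Quotient.eq]; exact haa'.symm
      have := Ideal.add_mem _ (h𝔭m this) ha'
      simpa using this
  have hGUC : CAlg2.IsGeomUnibranch (Localization.AtPrime qb) :=
    (Groth.Agent.S2715.result k (A ⧸ 𝔭) K qb hqbmax).mp hGU
  obtain ⟨ψ⟩ := nonempty_quotient_atPrime_equiv πr hπr Q qb hqbcomap
  set I : Ideal B := (RingHom.ker πr).map (algebraMap D B) with hI
  have hIB : I = 𝔭.map (algebraMap A B) := by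
    rw [hI, hkerπ, Ideal.map_map, ← IsScalarTower.algebraMap_eq]
  have hIle : I ≤ maximalIdeal B := by
    rw [hIB, Ideal.map_le_iff_le_comap, hcomapB]
    exact h𝔭m
  have hItop : I ≠ ⊤ := fun h => (maximalIdeal.isMaximal B).ne_top (top_le_iff.mp (h ▸ hIle))
  have hres := hasUniqueMinimalPrime_quotient B E (Localization.AtPrime qb) I hItop ψ hGUC
  have hJ : I.map (algebraMap B E) = 𝔭.map (algebraMap A E) := by
    rw [hIB, Ideal.map_map, ← IsScalarTower.algebraMap_eq]
  rw [hJ] at hres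
  exact hres

end Groth.Agent.Lib.Helper13.SHBranchB
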