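import Mathlib
import Groth.Agent.Lib.Helper13.SHBranchB

/-!
# The number of geometric branches is invariant under extension of the base field (ring form)
-/

set_option autoImplicit false
set_option linter.style.haveILetI false
universe u

namespace Groth.Agent.Lib.Helper13.SHBranchC

open IsLocalRing TensorProduct
open Groth.Agent.Lib.Helper12 Groth.Agent.Lib.Helper13.SHBranchA Groth.Agent.Lib.Helper13.SHBranchB

theorem card_eq_abstract (k R K : Type u) [Field k] [CommRing R] [Algebra k R] [Field K]
    [Algebra k K] (p : Ideal R) [p.IsPrime] (q : Ideal (R ⊗[k] K)) [q.IsPrime] [q.LiesOver p]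
    (Rh : Type u) [CommRing Rh] [IsLocalRing Rh] [Algebra (Localization.AtPrime p) Rh]
    [IsLocalHom (algebraMap (Localization.AtPrime p) Rh)]
    [Hensel.IsStrictHenselization (Localization.AtPrime p) Rh] [Algebra R Rh]
    [IsScalarTower R (Localization.AtPrime p) Rh]
    (Sh : Type u) [CommRing Sh] [IsLocalRing Sh] [Algebra (Localization.AtPrime q) Sh]
    [IsLocalHom (algebraMap (Localization.AtPrime q) Sh)]
    [Hensel.IsStrictHenselization (Localization.AtPrime q) Sh] [Algebra (R ⊗[k] K) Sh]
    [IsScalarTower (R ⊗[k] K) (Localization.AtPrime q) Sh] [Algebra R Sh]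
    [IsScalarTower R (R ⊗[k] K) Sh]
    [Algebra Rh Sh] [IsScalarTower R Rh Sh] [IsLocalHom (algebraMap Rh Sh)]
    [Algebra k Rh] [IsScalarTower k R Rh] [Algebra k Sh] [IsScalarTower k R Sh] :
    ENat.card (minimalPrimes Sh) = ENat.card (minimalPrimes Rh) := by
  classical
  haveI : HenselianLocalRing Rh :=
    Hensel.IsStrictHenselization.henselian (R := Localization.AtPrime p)
  haveI : IsSepClosed (ResidueField Rh) :=
    (Hensel.IsStrictHenselization.isSepClosure (R := Localization.AtPrime p) (S := Rh)).sep_closed
  haveI : IsScalarTower k Rh Sh := by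
    refine .of_algebraMap_eq (fun c => ?_)
    rw [IsScalarTower.algebraMap_apply k R Sh, IsScalarTower.algebraMap_apply k R Rh,
      ← IsScalarTower.algebraMap_apply R Rh Sh]
  haveI : IsScalarTower k (R ⊗[k] K) Sh := by
    refine .of_algebraMap_eq (fun c => ?_)
    rw [IsScalarTower.algebraMap_apply k R Sh, IsScalarTower.algebraMap_apply k R (R ⊗[k] K),
      ← IsScalarTower.algebraMap_apply R (R ⊗[k] K) Sh]
  let iL : Rh →+* Rh ⊗[k] K := Algebra.TensorProduct.includeLeftRingHom
  let iR : R ⊗[k] K →+* Rh ⊗[k] K :=
    (Algebra.TensorProduct.map (IsScalarTower.toAlgHom k R Rh) (AlgHom.id k K)).toRingHom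
  let φ : Rh ⊗[k] K →+* Sh :=
    (Algebra.TensorProduct.lift (IsScalarTower.toAlgHom k Rh Sh)
      ((IsScalarTower.toAlgHom k (R ⊗[k] K) Sh).comp
        (Algebra.TensorProduct.includeRight : K →ₐ[k] R ⊗[k] K))
      (fun _ _ => Commute.all _ _)).toRingHom
  have hiR : ∀ (r : R) (c : K), iR (r ⊗ₜ c) = (algebraMap R Rh r) ⊗ₜ c := by
    intro r c
    show (Algebra.TensorProduct.map (IsScalarTower.toAlgHom k R Rh) (AlgHom.id k K)) (r ⊗ₜ c) = _
    rw [Algebra.TensorProduct.map_tmul]
    rfl
  have hφ : ∀ (x : Rh) (c : K), φ (x ⊗ₜ c) =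
      algebraMap Rh Sh x * algebraMap (R ⊗[k] K) Sh (1 ⊗ₜ c) := by
    intro x c
    show (Algebra.TensorProduct.lift (IsScalarTower.toAlgHom k Rh Sh)
      ((IsScalarTower.toAlgHom k (R ⊗[k] K) Sh).comp
        (Algebra.TensorProduct.includeRight : K →ₐ[k] R ⊗[k] K))
      (fun _ _ => Commute.all _ _)) (x ⊗ₜ c) = _
    rw [Algebra.TensorProduct.lift_tmul]
    rfl
  have hcomm : iL.comp (algebraMap R Rh) = iR.comp (algebraMap R (R ⊗[k] K)) := by
    refine RingHom.ext fun r => ?_
    simp only [RingHom.comp_apply]
    rw [Algebra.TensorProduct.algebraMap_apply, hiR]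
    rfl
  have hepi : ∀ (X : Type u) [CommRing X] (a b : Rh ⊗[k] K →+* X),
      a.comp iL = b.comp iL → a.comp iR = b.comp iR → a = b := by
    intro X _ a b hL hR
    apply RingHom.ext
    intro d
    induction d using TensorProduct.induction_on with
    | zero => simp
    | tmul x y =>
      have hx : a (x ⊗ₜ 1) = b (x ⊗ₜ 1) := RingHom.congr_fun hL x
      have hy : a (1 ⊗ₜ y) = b (1 ⊗ₜ y) := by
        have := RingHom.congr_fun hR ((1 : R) ⊗ₜ[k] y)
        simp only [RingHom.comp_apply] at this
        rw [hiR, map_one] at this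
        exact this
      have hxy : x ⊗ₜ[k] y = (x ⊗ₜ 1) * (1 ⊗ₜ y) := by
        rw [Algebra.TensorProduct.tmul_mul_tmul, mul_one, one_mul]
      rw [hxy, map_mul, map_mul, hx, hy]
    | add x y hx hy => rw [map_add, map_add, hx, hy]
  have hφL : φ.comp iL = algebraMap Rh Sh := by
    refine RingHom.ext fun x => ?_
    simp only [RingHom.comp_apply]
    show φ (x ⊗ₜ 1) = _
    rw [hφ]
    have : (1 : R ⊗[k] K) = (1 : R) ⊗ₜ[k] (1 : K) := rfl
    rw [← this, map_one, mul_one]
  have hφR : φ.comp iR = algebraMap (R ⊗[k] K) Sh := by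
    refine RingHom.ext fun d => ?_
    induction d using TensorProduct.induction_on with
    | zero => simp
    | tmul r c =>
      have hrc : r ⊗ₜ[k] c = (r ⊗ₜ 1) * (1 ⊗ₜ c) := by
        rw [Algebra.TensorProduct.tmul_mul_tmul, mul_one, one_mul]
      have h1 : algebraMap Rh Sh (algebraMap R Rh r) = algebraMap (R ⊗[k] K) Sh (r ⊗ₜ 1) := by
        rw [← IsScalarTower.algebraMap_apply R Rh Sh, IsScalarTower.algebraMap_apply R (R ⊗[k] K) Sh,
          Algebra.TensorProduct.algebraMap_apply]
        rfl
      simp only [RingHom.comp_apply]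
      rw [hiR, hφ, h1, ← map_mul, ← hrc]
    | add x y hx hy => rw [map_add, map_add, hx, hy]
  set Q' : Ideal (Rh ⊗[k] K) := Ideal.comap φ (maximalIdeal Sh) with hQ'
  haveI : Q'.IsPrime := Ideal.comap_isPrime _ _
  let E := StrictHenselization (Localization.AtPrime Q')
  obtain ⟨e, -⟩ := StrictTensor.keyStrict R (R ⊗[k] K) p q Rh Sh (Rh ⊗[k] K) iL iR hcomm hepi φ
    hφL hφR Q' rfl E
  have hQ'm : Q'.comap (algebraMap Rh (Rh ⊗[k] K)) = maximalIdeal Rh := by
    have : (algebraMap Rh (Rh ⊗[k] K)) = iL := by
      refine RingHom.ext fun x => ?_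
      rw [Algebra.TensorProduct.algebraMap_apply]
      rfl
    rw [this, hQ', Ideal.comap_comap, hφL]
    exact ((local_hom_TFAE (algebraMap Rh Sh)).out 0 4).mp (inferInstance : IsLocalHom (algebraMap Rh Sh))
  rw [← card_minimalPrimes_congr e]
  exact card_minimalPrimes_sh k Rh K Q' hQ'm E

/-- existence of a local map between strict henselizations over a local homomorphism -/
theorem exists_map_strict (A B Ah Bh : Type u) [CommRing A] [IsLocalRing A] [CommRing B]
    [IsLocalRing B] [CommRing Ah] [IsLocalRing Ah] [Algebra A Ah] [IsLocalHom (algebraMap A Ah)]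
    [Hensel.IsStrictHenselization A Ah] [CommRing Bh] [IsLocalRing Bh] [Algebra B Bh]
    [IsLocalHom (algebraMap B Bh)] [Hensel.IsStrictHenselization B Bh]
    (f0 : A →+* B) [IsLocalHom f0] :
    ∃ g : Ah →+* Bh, IsLocalHom g ∧ g.comp (algebraMap A Ah) = (algebraMap B Bh).comp f0 := by
  haveI : HenselianLocalRing Bh := Hensel.IsStrictHenselization.henselian (R := B)
  haveI : IsSepClosed (ResidueField Bh) :=
    (Hensel.IsStrictHenselization.isSepClosure (R := B) (S := Bh)).sep_closed
  let f : A →+* Bh := (algebraMap B Bh).comp f0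
  haveI hfloc : IsLocalHom f := RingHom.isLocalHom_comp _ _
  letI : Algebra A Bh := f.toAlgebra
  haveI : IsLocalHom (algebraMap A Bh) := hfloc
  haveI : Algebra.IsSeparable (ResidueField A) (ResidueField Ah) :=
    (Hensel.IsStrictHenselization.isSepClosure (R := A) (S := Ah)).separable
  let τa : ResidueField Ah →ₐ[ResidueField A] ResidueField Bh := IsSepClosed.lift
  obtain ⟨g, ⟨hg1, hg2⟩, -⟩ := Hensel.IsStrictHenselization.universal
    (R := A) (S := Ah) Bh f τa.toRingHom
    (by refine RingHom.ext fun x => ?_; exact τa.commutes x)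
  refine ⟨g, ?_, hg1⟩
  constructor
  intro x hx
  rw [← residue_ne_zero_iff_isUnit] at hx ⊢
  intro h0
  apply hx
  rw [hg2, h0, map_zero]

theorem numGeomBranches_tensor (k R K : Type u) [Field k] [CommRing R] [Algebra k R] [Field K]
    [Algebra k K] (q : Ideal (R ⊗[k] K)) [q.IsPrime] (p : Ideal R) [p.IsPrime]
    (hp : q.comap (algebraMap R (R ⊗[k] K)) = p) :
    Brnch.numGeomBranches (Localization.AtPrime p) =
      Brnch.numGeomBranches (Localization.AtPrime q) := by
  classical
  haveI : q.LiesOver p := ⟨hp.symm⟩
  obtain ⟨g, hgloc, hg1⟩ := exists_map_strict (Localization.AtPrime p) (Localization.AtPrime q)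
    (StrictHenselization (Localization.AtPrime p)) (StrictHenselization (Localization.AtPrime q))
    (Localization.localRingHom p q (algebraMap R (R ⊗[k] K)) hp.symm)
  letI : Algebra R (StrictHenselization (Localization.AtPrime p)) :=
    ((algebraMap (Localization.AtPrime p) (StrictHenselization (Localization.AtPrime p))).comp
      (algebraMap R (Localization.AtPrime p))).toAlgebra
  haveI : IsScalarTower R (Localization.AtPrime p) (StrictHenselization (Localization.AtPrime p)) :=
    .of_algebraMap_eq (fun _ => rfl)
  letI : Algebra (R ⊗[k] K) (StrictHenselization (Localization.AtPrime q)) :=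
    ((algebraMap (Localization.AtPrime q) (StrictHenselization (Localization.AtPrime q))).comp
      (algebraMap (R ⊗[k] K) (Localization.AtPrime q))).toAlgebra
  haveI : IsScalarTower (R ⊗[k] K) (Localization.AtPrime q)
      (StrictHenselization (Localization.AtPrime q)) :=
    .of_algebraMap_eq (fun _ => rfl)
  letI : Algebra R (StrictHenselization (Localization.AtPrime q)) :=
    ((algebraMap (R ⊗[k] K) (StrictHenselization (Localization.AtPrime q))).comp
      (algebraMap R (R ⊗[k] K))).toAlgebra
  haveI : IsScalarTower R (R ⊗[k] K) (StrictHenselization (Localization.AtPrime q)) :=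
    .of_algebraMap_eq (fun _ => rfl)
  letI : Algebra (StrictHenselization (Localization.AtPrime p))
      (StrictHenselization (Localization.AtPrime q)) := g.toAlgebra
  haveI : IsLocalHom (algebraMap (StrictHenselization (Localization.AtPrime p))
      (StrictHenselization (Localization.AtPrime q))) := hgloc
  haveI : IsScalarTower R (StrictHenselization (Localization.AtPrime p))
      (StrictHenselization (Localization.AtPrime q)) := by
    refine .of_algebraMap_eq (fun r => ?_)
    have h1 := RingHom.congr_fun hg1 (algebraMap R (Localization.AtPrime p) r)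
    simp only [RingHom.comp_apply] at h1
    rw [Localization.localRingHom_to_map] at h1
    exact h1.symm
  letI : Algebra k (StrictHenselization (Localization.AtPrime p)) :=
    ((algebraMap R (StrictHenselization (Localization.AtPrime p))).comp (algebraMap k R)).toAlgebra
  haveI : IsScalarTower k R (StrictHenselization (Localization.AtPrime p)) :=
    .of_algebraMap_eq (fun _ => rfl)
  letI : Algebra k (StrictHenselization (Localization.AtPrime q)) :=
    ((algebraMap R (StrictHenselization (Localization.AtPrime q))).comp (algebraMap k R)).toAlgebra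
  haveI : IsScalarTower k R (StrictHenselization (Localization.AtPrime q)) :=
    .of_algebraMap_eq (fun _ => rfl)
  rw [← BrnchHens.card_minimalPrimes_strictHenselization_eq_numGeomBranches (Localization.AtPrime p)
      (StrictHenselization (Localization.AtPrime p)),
    ← BrnchHens.card_minimalPrimes_strictHenselization_eq_numGeomBranches (Localization.AtPrime q)
      (StrictHenselization (Localization.AtPrime q))]
  exact (card_eq_abstract k R K p q (StrictHenselization (Localization.AtPrime p))
    (StrictHenselization (Localization.AtPrime q))).symm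

end Groth.Agent.Lib.Helper13.SHBranchC
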