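import Mathlib

/-!
# The fibre of the graph closure of a rational map after a universally open base change
-/

universe u

open CategoryTheory CategoryTheory.Limits AlgebraicGeometry TopologicalSpace

namespace Groth.Agent.Lib.Helper13.SectionExt

theorem fibre_closure_graph_subsingleton {X X' Y S : Scheme.{u}} (pX : X ⟶ S) (pY : Y ⟶ S)
    [IsSeparated pY] (U : X.Opens) (hU : Dense (U : Set X)) (h : (U : Scheme.{u}) ⟶ Y)
    (hh : U.ι ≫ pX = h ≫ pY) (f : X' ⟶ X) [UniversallyOpen f] (x' : X') (V' : X'.Opens)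
    (hx' : x' ∈ V') (v' : (V' : Scheme.{u}) ⟶ Y) (hv'S : v' ≫ pY = V'.ι ≫ f ≫ pX)
    (hv' : X'.homOfLE (inf_le_right : f ⁻¹ᵁ U ⊓ V' ≤ V') ≫ v' =
      X'.homOfLE (inf_le_left : f ⁻¹ᵁ U ⊓ V' ≤ f ⁻¹ᵁ U) ≫ (f ∣_ U) ≫ h) :
    ∃ z₀ : ↥(pullback pX pY), pullback.fst pX pY z₀ = f x' ∧
      z₀ ∈ closure (Set.range (pullback.lift U.ι h hh)) ∧
      ∀ z ∈ closure (Set.range (pullback.lift U.ι h hh)),
        pullback.fst pX pY z = f x' → z = z₀ := by
  classical
  set p : pullback pX pY ⟶ X := pullback.fst pX pY with hp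
  haveI : IsSeparated p := inferInstanceAs (IsSeparated (pullback.fst pX pY))
  set ht : (U : Scheme.{u}) ⟶ pullback pX pY := pullback.lift U.ι h hh with hht
  have hht1 : ht ≫ p = U.ι := pullback.lift_fst _ _ _
  have hht2 : ht ≫ pullback.snd pX pY = h := pullback.lift_snd _ _ _
  -- the base change `T' = T ×_X X'`
  set φ : pullback p f ⟶ pullback pX pY := pullback.fst p f with hφ
  set p' : pullback p f ⟶ X' := pullback.snd p f with hp'
  haveI : UniversallyOpen φ := inferInstanceAs (UniversallyOpen (pullback.fst p f))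
  haveI : IsSeparated p' := inferInstanceAs (IsSeparated (pullback.snd p f))
  have hcond : φ ≫ p = p' ≫ f := pullback.condition
  -- the graph of `v'`
  have hτc : (V'.ι ≫ f) ≫ pX = v' ≫ pY := by rw [Category.assoc, hv'S]
  set τ : (V' : Scheme.{u}) ⟶ pullback pX pY := pullback.lift (V'.ι ≫ f) v' hτc with hτ
  have hτ1 : τ ≫ p = V'.ι ≫ f := pullback.lift_fst _ _ _
  have hτ2 : τ ≫ pullback.snd pX pY = v' := pullback.lift_snd _ _ _
  set σ : (V' : Scheme.{u}) ⟶ pullback p f := pullback.lift τ V'.ι hτ1 with hσ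
  have hσ1 : σ ≫ φ = τ := pullback.lift_fst _ _ _
  have hσ2 : σ ≫ p' = V'.ι := pullback.lift_snd _ _ _
  -- the open `D' = f⁻¹U ∩ V'`
  set D' : X'.Opens := f ⁻¹ᵁ U ⊓ V' with hD'
  set j₁ : (D' : Scheme.{u}) ⟶ (V' : Scheme.{u}) := X'.homOfLE inf_le_right with hj₁def
  set j₂ : (D' : Scheme.{u}) ⟶ (U : Scheme.{u}) := X'.homOfLE inf_le_left ≫ (f ∣_ U) with hj₂def
  have hj₁ : j₁ ≫ V'.ι = D'.ι := Scheme.homOfLE_ι _ _
  have hj₂ : j₂ ≫ U.ι = D'.ι ≫ f := by
    rw [hj₂def, Category.assoc, morphismRestrict_ι, ← Category.assoc, Scheme.homOfLE_ι]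
  have hj : j₁ ≫ τ = j₂ ≫ ht := by
    apply pullback.hom_ext
    · change (j₁ ≫ τ) ≫ p = (j₂ ≫ ht) ≫ p
      rw [Category.assoc, hτ1, ← Category.assoc, hj₁, Category.assoc, hht1, hj₂]
    · rw [Category.assoc, hτ2, Category.assoc, hht2]
      exact hv'
  -- the point `z₀`
  let a₀ : (V' : Scheme.{u}) := ⟨x', hx'⟩
  refine ⟨τ a₀, ?_, ?_, ?_⟩
  · change p (τ a₀) = f x'
    rw [← Scheme.Hom.comp_apply, hτ1]
    rfl
  · -- `z₀` lies in the closure of the graph
    have hdense : Dense (Set.range j₁) := by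
      have h1 : Dense ((f ⁻¹ᵁ U : X'.Opens) : Set X') := hU.preimage f.isOpenMap
      have h2 : Dense (V'.ι ⁻¹' ((f ⁻¹ᵁ U : X'.Opens) : Set X')) :=
        h1.preimage V'.ι.isOpenEmbedding.isOpenMap
      refine h2.mono ?_
      intro a ha
      have hmem : a.1 ∈ D' := ⟨ha, a.2⟩
      exact ⟨⟨a.1, hmem⟩, Scheme.homOfLE_apply' (X := X') (U := D') (V := V') inf_le_right a.1 hmem⟩
    have h1 : a₀ ∈ closure (Set.range j₁) := hdense a₀
    have h2 := image_closure_subset_closure_image τ.continuous ⟨a₀, h1, rfl⟩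
    refine closure_mono ?_ h2
    rintro _ ⟨_, ⟨d, rfl⟩, rfl⟩
    refine ⟨j₂ d, ?_⟩
    exact (congrArg (fun g => g.base d) hj).symm
  · intro z hz hpz
    obtain ⟨z', hz'1, hz'2⟩ :=
      Scheme.Pullback.exists_preimage_pullback (f := p) (g := f) z x' hpz
    set Ω : (pullback p f).Opens := p' ⁻¹ᵁ V' with hΩ
    have hz'Ω : z' ∈ Ω := by
      change p' z' ∈ V'
      rw [hz'2]; exact hx'
    have hrΩ : (p' ∣_ V') ≫ V'.ι = Ω.ι ≫ p' := morphismRestrict_ι p' V'
    -- the section `σ'` of `p'` over `V'`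
    let σ' : (V' : Scheme.{u}) ⟶ (Ω : Scheme.{u}) :=
      (isPullback_morphismRestrict p' V').lift (𝟙 _) σ (by rw [Category.id_comp, hσ2])
    have hσ'1 : σ' ≫ (p' ∣_ V') = 𝟙 _ := (isPullback_morphismRestrict p' V').lift_fst _ _ _
    have hσ'2 : σ' ≫ Ω.ι = σ := (isPullback_morphismRestrict p' V').lift_snd _ _ _
    haveI : IsSeparated (p' ∣_ V') := IsZariskiLocalAtTarget.restrict ‹_› V'
    haveI : IsClosedImmersion (σ' ≫ (p' ∣_ V')) := by rw [hσ'1]; infer_instance
    haveI : IsClosedImmersion σ' := IsClosedImmersion.of_comp σ' (p' ∣_ V')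
    have hclosed : IsClosed (Set.range σ') := σ'.isClosedEmbedding.isClosed_range
    -- Claim B
    have hB : Ω.ι ⁻¹' (φ ⁻¹' Set.range ht) ⊆ Set.range σ' := by
      intro w hw
      have hw' : Ω.ι w ∈ Set.range (pullback.snd ht φ) := by
        rw [Scheme.Pullback.range_snd]; exact hw
      obtain ⟨e, he⟩ := hw'
      set a₁ := pullback.fst ht φ with ha₁
      set a₂ := pullback.snd ht φ with ha₂
      have ha12 : a₁ ≫ ht = a₂ ≫ φ := pullback.condition
      set PV : (pullback ht φ).Opens := a₂ ⁻¹ᵁ Ω with hPV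
      have hePV : e ∈ PV := by
        change a₂ e ∈ Ω
        rw [he]; exact w.2
      have ha₂r : (a₂ ∣_ Ω) ≫ Ω.ι = PV.ι ≫ a₂ := morphismRestrict_ι a₂ Ω
      -- the map `m : PV → D'`
      have hnrange : Set.range (PV.ι ≫ a₂ ≫ p').base ⊆ Set.range D'.ι.base := by
        rintro _ ⟨e', rfl⟩
        rw [Scheme.Opens.range_ι]
        refine ⟨?_, e'.2⟩
        change f (p' (a₂ e'.1)) ∈ U
        have hm0 : a₂ ≫ p' ≫ f = a₁ ≫ U.ι := by
          rw [← hcond, ← Category.assoc, ← ha12, Category.assoc, hht1]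
        have h1 : f (p' (a₂ e'.1)) = U.ι (a₁ e'.1) := congrArg (fun g => g.base e'.1) hm0
        rw [h1]
        exact (a₁ e'.1).2
      let m : (PV : Scheme.{u}) ⟶ (D' : Scheme.{u}) := IsOpenImmersion.lift D'.ι _ hnrange
      have hm : m ≫ D'.ι = PV.ι ≫ a₂ ≫ p' := IsOpenImmersion.lift_fac _ _ _
      have hm1 : m ≫ j₁ = (a₂ ∣_ Ω) ≫ (p' ∣_ V') := by
        rw [← cancel_mono V'.ι, Category.assoc, hj₁, hm, Category.assoc, hrΩ,
          ← Category.assoc (a₂ ∣_ Ω), ha₂r, Category.assoc]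
      have hm2 : m ≫ j₂ = PV.ι ≫ a₁ := by
        rw [← cancel_mono U.ι, Category.assoc, hj₂, ← Category.assoc, hm, Category.assoc,
          Category.assoc, Category.assoc, ← hcond, ← Category.assoc a₂, ← ha12, Category.assoc,
          hht1]
      have hkey : (a₂ ∣_ Ω) ≫ (p' ∣_ V') ≫ σ' = (a₂ ∣_ Ω) := by
        rw [← cancel_mono Ω.ι, Category.assoc, Category.assoc, hσ'2, ha₂r]
        apply pullback.hom_ext
        · change ((a₂ ∣_ Ω) ≫ (p' ∣_ V') ≫ σ) ≫ φ = (PV.ι ≫ a₂) ≫ φ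
          rw [Category.assoc, Category.assoc, hσ1, ← Category.assoc, ← hm1, Category.assoc, hj,
            ← Category.assoc, hm2, Category.assoc, Category.assoc, ha12]
        · change ((a₂ ∣_ Ω) ≫ (p' ∣_ V') ≫ σ) ≫ p' = (PV.ι ≫ a₂) ≫ p'
          rw [Category.assoc, Category.assoc, hσ2, hrΩ, ← Category.assoc, ha₂r]
      let e' : (PV : Scheme.{u}) := ⟨e, hePV⟩
      have he' : (a₂ ∣_ Ω) e' = w := by
        apply Ω.ι.isOpenEmbedding.injective
        have := congrArg (fun g => g.base e') ha₂r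
        exact this.trans he
      refine ⟨(p' ∣_ V') w, ?_⟩
      have := congrArg (fun g => g.base e') hkey
      simp only [Scheme.Hom.comp_base, TopCat.coe_comp, Function.comp_apply] at this
      rw [he'] at this
      exact this
    -- conclusion
    let z'' : (Ω : Scheme.{u}) := ⟨z', hz'Ω⟩
    have h1 : z' ∈ closure (φ ⁻¹' Set.range ht) := by
      apply φ.isOpenMap.preimage_closure_subset_closure_preimage
      rw [Set.mem_preimage, hz'1]
      exact hz
    have h2 : z'' ∈ closure (Ω.ι ⁻¹' (φ ⁻¹' Set.range ht)) := by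
      rw [Ω.ι.isOpenEmbedding.isInducing.closure_eq_preimage_closure_image, Set.mem_preimage,
        Set.image_preimage_eq_inter_range, Scheme.Opens.range_ι]
      exact Ω.isOpen.closure_inter ⟨h1, hz'Ω⟩
    have h3 : z'' ∈ Set.range σ' := (hclosed.closure_subset_iff.mpr hB) h2
    obtain ⟨a, ha⟩ := h3
    have ha' : a = a₀ := by
      apply V'.ι.isOpenEmbedding.injective
      have e0 : σ' ≫ Ω.ι ≫ p' = V'.ι := by rw [← Category.assoc, hσ'2, hσ2]
      have e1 : p' (Ω.ι (σ' a)) = V'.ι a := congrArg (fun g => g.base a) e0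
      rw [← e1, ha]
      exact hz'2
    have e2 : σ' ≫ Ω.ι ≫ φ = τ := by rw [← Category.assoc, hσ'2, hσ1]
    have e3 : φ (Ω.ι (σ' a)) = τ a := congrArg (fun g => g.base a) e2
    rw [← hz'1, ← ha', ← e3, ha]
    rfl

end Groth.Agent.Lib.Helper13.SectionExt
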