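import Mathlib

/-!
# Sequential limits of surjections: every projection is surjective
-/

universe u

open CategoryTheory CategoryTheory.Limits Opposite

namespace Groth.Agent.Lib.Helper13.SeqLimSurj

variable {F : ℕᵒᵖ ⥤ Type u}

/-- chosen compatible lifts of `a : F i` to the levels `i + k`. -/
noncomputable def lifts (hF : ∀ n, Function.Surjective (F.map (homOfLE (Nat.le_succ n)).op))
    (i : ℕ) (a : F.obj ⟨i⟩) : (k : ℕ) → F.obj ⟨i + k⟩
  | 0 => a
  | k + 1 => (hF (i + k) (lifts hF i a k)).choose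

theorem lifts_succ (hF : ∀ n, Function.Surjective (F.map (homOfLE (Nat.le_succ n)).op))
    (i : ℕ) (a : F.obj ⟨i⟩) (k : ℕ) :
    F.map (homOfLE (Nat.le_succ (i + k))).op (lifts hF i a (k + 1)) = lifts hF i a k :=
  (hF (i + k) (lifts hF i a k)).choose_spec

theorem lifts_map (hF : ∀ n, Function.Surjective (F.map (homOfLE (Nat.le_succ n)).op))
    (i : ℕ) (a : F.obj ⟨i⟩) (m n : ℕ) (hmn : m ≤ n) :
    F.map (homOfLE (Nat.add_le_add_left hmn i)).op (lifts hF i a n) = lifts hF i a m := by
  induction n, hmn using Nat.le_induction with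
  | base =>
    have : (homOfLE (Nat.add_le_add_left (le_refl m) i)).op = 𝟙 (op (i + m)) := rfl
    rw [this, F.map_id]
    rfl
  | succ n hmn ih =>
    rw [← ih, ← lifts_succ hF i a n]
    change _ = (F.map _ ≫ F.map _) _
    rw [← F.map_comp]
    rfl

theorem surjective_π_app_of_surjective_map {c : Cone F} (hc : IsLimit c)
    (hF : ∀ n, Function.Surjective (F.map (homOfLE (Nat.le_succ n)).op)) (i : ℕ) :
    Function.Surjective (c.π.app ⟨i⟩) := by
  intro a
  let s : F.sections := ⟨fun j => F.map (homOfLE (Nat.le_add_left j.unop i)).op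
      (lifts hF i a j.unop), by
    rintro ⟨n⟩ ⟨m⟩ f
    have hmn : m ≤ n := f.unop.le
    change F.map f (F.map _ (lifts hF i a n)) = F.map _ (lifts hF i a m)
    rw [← lifts_map hF i a m n hmn]
    change (F.map _ ≫ F.map f) _ = (F.map _ ≫ F.map _) _
    rw [← F.map_comp, ← F.map_comp]
    rfl⟩
  refine ⟨(Types.isLimitEquivSections hc).symm s, ?_⟩
  rw [Types.isLimitEquivSections_symm_apply]
  change F.map (homOfLE (Nat.le_add_left i i)).op (lifts hF i a i) = a
  have := lifts_map hF i a 0 i (Nat.zero_le i)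
  exact this

end Groth.Agent.Lib.Helper13.SeqLimSurj
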