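import Mathlib.Topology.Sets.Opens
import Mathlib.CategoryTheory.Types.Basic
import Mathlib.CategoryTheory.Category.Preorder
import Groth.Prelude.Def_W4stktopologysheavesBas

/-!
# Sheaves on a basis: separatedness and refinement of coverings
-/

universe u

open TopologicalSpace

namespace Groth.Agent.Lib.Helper13.ShBasis

variable {X : Type u} [TopologicalSpace X] {B : Set (Opens X)}

/-- separatedness: sections agreeing on the members of a covering by members of `B` agree -/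
def IsSeparated (F : ShB.Pre B) : Prop :=
  ∀ (U : B) (ι : Type u) (V : ι → B) (hV : ∀ i, (V i : Opens X) ≤ (U : Opens X))
    (_ : (U : Opens X) ≤ ⨆ i, (V i : Opens X)) (s t : F.obj U),
    (∀ i, F.res (hV i) s = F.res (hV i) t) → s = t

theorem isSeparated_of_cofinal (F : ShB.Pre B)
    (C : ∀ U : B, Set (ShB.Cover B)) (hCU : ∀ U, ∀ c ∈ C U, c.U = U)
    (hC : ∀ (U : B) (ι : Type u) (V : ι → B), (∀ i, (V i : Opens X) ≤ (U : Opens X)) →
      (U : Opens X) ≤ ⨆ i, (V i : Opens X) →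
      ∃ c ∈ C U, ∀ i' : c.ι, ∃ i, (c.V i' : Opens X) ≤ (V i : Opens X))
    (H : ∀ U, ∀ c ∈ C U, ShB.GluesUniquely F c) : IsSeparated F := by
  intro U ι V hV hcov s t hst
  obtain ⟨c, hc, href⟩ := hC U ι V hV hcov
  have hcU := hCU U c hc
  subst hcU
  have hglue := H c.U c hc (fun i' => F.res (c.V_le i') s) (by
    intro i j k
    rw [F.res_comp, F.res_comp])
  apply hglue.unique
  · intro i'; rfl
  · intro i'
    obtain ⟨i, hle⟩ := href i'
    have h1 : F.res (c.V_le i') t = F.res hle (F.res (hV i) t) := by rw [F.res_comp]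
    have h2 : F.res (c.V_le i') s = F.res hle (F.res (hV i) s) := by rw [F.res_comp]
    rw [h1, h2, hst i]

/-- a compatible family agrees on every member of `B` contained in two members of the covering -/
theorem agree_of_compatible (hB : Opens.IsBasis B) (F : ShB.Pre B) (hsep : IsSeparated F)
    (c : ShB.Cover B) (s : ∀ i, F.obj (c.V i))
    (hs : ∀ i j k, F.res (c.W_le_left i j k) (s i) = F.res (c.W_le_right i j k) (s j))
    (i j : c.ι) (Z : B) (h1 : (Z : Opens X) ≤ (c.V i : Opens X))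
    (h2 : (Z : Opens X) ≤ (c.V j : Opens X)) :
    F.res h1 (s i) = F.res h2 (s j) := by
  let ι' : Type u := {p : (Σ _ : c.κ i j, B) // (p.2 : Opens X) ≤ (Z : Opens X) ∧
    (p.2 : Opens X) ≤ (c.W i j p.1 : Opens X)}
  apply hsep Z ι' (fun p => p.1.2) (fun p => p.2.1)
  · intro x hx
    have hx' : x ∈ (c.V i : Opens X) ⊓ (c.V j : Opens X) := ⟨h1 hx, h2 hx⟩
    have hx'' := c.W_cover i j hx'
    obtain ⟨k, hk⟩ := Opens.mem_iSup.mp hx''
    have hxm : x ∈ (Z : Opens X) ⊓ (c.W i j k : Opens X) := ⟨hx, hk⟩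
    obtain ⟨Y, hYB, hxY, hYle⟩ := (Opens.isBasis_iff_nbhd.mp hB) hxm
    exact Opens.mem_iSup.mpr ⟨⟨⟨k, ⟨Y, hYB⟩⟩, hYle.trans inf_le_left, hYle.trans inf_le_right⟩, hxY⟩
  · rintro ⟨⟨k, Y⟩, hYZ, hYW⟩
    change F.res hYZ (F.res h1 (s i)) = F.res hYZ (F.res h2 (s j))
    rw [F.res_comp, F.res_comp]
    have e1 : F.res (hYZ.trans h1) (s i) = F.res hYW (F.res (c.W_le_left i j k) (s i)) := by
      rw [F.res_comp]
    have e2 : F.res (hYZ.trans h2) (s j) = F.res hYW (F.res (c.W_le_right i j k) (s j)) := by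
      rw [F.res_comp]
    rw [e1, e2, hs i j k]

/-- the sheaf condition for a covering follows from the sheaf condition for a refinement -/
theorem gluesUniquely_of_refinement (hB : Opens.IsBasis B) (F : ShB.Pre B) (hsep : IsSeparated F)
    (c₀ c : ShB.Cover B) (hU : c.U = c₀.U)
    (href : ∀ i' : c.ι, ∃ i, (c.V i' : Opens X) ≤ (c₀.V i : Opens X))
    (hc : ShB.GluesUniquely F c) : ShB.GluesUniquely F c₀ := by
  intro s hs
  choose α hα using href
  have e₁ : (c₀.U : Opens X) ≤ (c.U : Opens X) := le_of_eq (congrArg Subtype.val hU.symm)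
  have e₂ : (c.U : Opens X) ≤ (c₀.U : Opens X) := le_of_eq (congrArg Subtype.val hU)
  have hagree := agree_of_compatible hB F hsep c₀ s hs
  obtain ⟨t, ht, -⟩ := hc (fun i' => F.res (hα i') (s (α i'))) (by
    intro i' j' k'
    rw [F.res_comp, F.res_comp]
    exact hagree (α i') (α j') (c.W i' j' k') _ _)
  refine ⟨F.res e₁ t, ?_, ?_⟩
  · intro i
    let ι' : Type u := {p : (Σ _ : c.ι, B) // (p.2 : Opens X) ≤ (c₀.V i : Opens X) ∧
      (p.2 : Opens X) ≤ (c.V p.1 : Opens X)}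
    apply hsep (c₀.V i) ι' (fun p => p.1.2) (fun p => p.2.1)
    · intro x hx
      have hx' : x ∈ (c.U : Opens X) := e₁ (c₀.V_le i hx)
      obtain ⟨i', hi'⟩ := Opens.mem_iSup.mp (c.V_cover hx')
      have hxm : x ∈ (c₀.V i : Opens X) ⊓ (c.V i' : Opens X) := ⟨hx, hi'⟩
      obtain ⟨Y, hYB, hxY, hYle⟩ := (Opens.isBasis_iff_nbhd.mp hB) hxm
      exact Opens.mem_iSup.mpr
        ⟨⟨⟨i', ⟨Y, hYB⟩⟩, hYle.trans inf_le_left, hYle.trans inf_le_right⟩, hxY⟩
    · rintro ⟨⟨i', Y⟩, hYV, hYc⟩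
      change F.res hYV (F.res (c₀.V_le i) (F.res e₁ t)) = F.res hYV (s i)
      rw [F.res_comp, F.res_comp]
      have e3 : F.res ((hYV.trans (c₀.V_le i)).trans e₁) t =
          F.res hYc (F.res (c.V_le i') t) := by rw [F.res_comp]
      rw [e3, ht i', F.res_comp]
      exact hagree (α i') i Y _ _
  · intro t' ht'
    apply hsep c₀.U c₀.ι c₀.V c₀.V_le c₀.V_cover
    intro i
    rw [ht' i]
    -- the same computation as above
    let ι' : Type u := {p : (Σ _ : c.ι, B) // (p.2 : Opens X) ≤ (c₀.V i : Opens X) ∧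
      (p.2 : Opens X) ≤ (c.V p.1 : Opens X)}
    symm
    apply hsep (c₀.V i) ι' (fun p => p.1.2) (fun p => p.2.1)
    · intro x hx
      have hx' : x ∈ (c.U : Opens X) := e₁ (c₀.V_le i hx)
      obtain ⟨i', hi'⟩ := Opens.mem_iSup.mp (c.V_cover hx')
      have hxm : x ∈ (c₀.V i : Opens X) ⊓ (c.V i' : Opens X) := ⟨hx, hi'⟩
      obtain ⟨Y, hYB, hxY, hYle⟩ := (Opens.isBasis_iff_nbhd.mp hB) hxm
      exact Opens.mem_iSup.mpr
        ⟨⟨⟨i', ⟨Y, hYB⟩⟩, hYle.trans inf_le_left, hYle.trans inf_le_right⟩, hxY⟩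
    · rintro ⟨⟨i', Y⟩, hYV, hYc⟩
      change F.res hYV (F.res (c₀.V_le i) (F.res e₁ t)) = F.res hYV (s i)
      rw [F.res_comp, F.res_comp]
      have e3 : F.res ((hYV.trans (c₀.V_le i)).trans e₁) t =
          F.res hYc (F.res (c.V_le i') t) := by rw [F.res_comp]
      rw [e3, ht i', F.res_comp]
      exact hagree (α i') i Y _ _

end Groth.Agent.Lib.Helper13.ShBasis
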