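import Groth.Agent.Lib.Helper13.LimModelMain
import Groth.Agent.Lib.Helper13.LimDescendDiag

/-!
# `Spec A` as the limit of the spectra of the finitely generated `ℤ`-subalgebras of `A`,
and models of finitely presented `A`-schemes over finitely generated subalgebras
-/

set_option autoImplicit false
universe u

open CategoryTheory CategoryTheory.Limits AlgebraicGeometry

namespace Groth.Agent.Lib.Helper13.SpecFG

variable (A : Type u) [CommRing A]

/-- the diagram of subalgebras generated by finite subsets -/
noncomputable def fgDiag : Finset A ⥤ CommRingCat.{u} where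
  obj s := CommRingCat.of (Algebra.adjoin ℤ (s : Set A))
  map {s t} f := CommRingCat.ofHom
    (Subalgebra.inclusion (Algebra.adjoin_mono (Finset.coe_subset.mpr (leOfHom f)))).toRingHom
  map_id s := by ext x; rfl
  map_comp f g := by ext x; rfl

/-- the cocone with vertex `A` -/
noncomputable def fgCocone : Cocone (fgDiag A) where
  pt := CommRingCat.of A
  ι :=
    { app := fun s => CommRingCat.ofHom (algebraMap (Algebra.adjoin ℤ (s : Set A)) A)
      naturality := fun s t f => by ext x; rfl }

/-- `A` is the filtered colimit of its finitely generated subalgebras -/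
noncomputable def fgIsColimit : IsColimit (fgCocone A) := by
  haveI : ReflectsColimit (fgDiag A) (forget CommRingCat.{u}) :=
    reflectsColimit_of_reflectsIsomorphisms _ _
  apply isColimitOfReflects (forget CommRingCat.{u})
  apply Types.FilteredColimit.isColimitOf
  · intro x
    exact ⟨{x}, ⟨x, Algebra.subset_adjoin (Finset.mem_coe.mpr (Finset.mem_singleton_self x))⟩, rfl⟩
  · intro s t x y hxy
    classical
    refine ⟨s ∪ t, homOfLE Finset.subset_union_left, homOfLE Finset.subset_union_right, ?_⟩
    apply Subtype.ext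
    exact hxy

/-- the diagram of spectra -/
noncomputable def specDiag : (Finset A)ᵒᵖ ⥤ Scheme.{u} := (fgDiag A).op ⋙ Scheme.Spec

/-- the cone with vertex `Spec A` -/
noncomputable def specCone : Cone (specDiag A) := Scheme.Spec.mapCone (fgCocone A).op

/-- it is a limit cone -/
noncomputable def specIsLimit : IsLimit (specCone A) :=
  isLimitOfPreserves Scheme.Spec (fgIsColimit A).op

instance (s : (Finset A)ᵒᵖ) : IsAffine ((specDiag A).obj s) := by
  dsimp [specDiag]; infer_instance

instance (s t : (Finset A)ᵒᵖ) (f : s ⟶ t) : IsAffineHom ((specDiag A).map f) := by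
  dsimp [specDiag]; infer_instance

lemma specCone_pt : (specCone A).pt = Spec (CommRingCat.of A) := rfl

lemma specDiag_obj (s : (Finset A)ᵒᵖ) :
    (specDiag A).obj s = Spec (CommRingCat.of (Algebra.adjoin ℤ (s.unop : Set A))) := rfl

lemma specCone_π_app (s : (Finset A)ᵒᵖ) : (specCone A).π.app s =
    Spec.map (CommRingCat.ofHom (algebraMap (Algebra.adjoin ℤ (s.unop : Set A)) A)) := rfl

variable {A}

/-- A finitely presented scheme over `Spec A` with a property `P` that descends along the limit
`Spec A = lim Spec A₀` has a model with `P` over a finitely generated `ℤ`-subalgebra. -/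
theorem exists_model_over_fg {X : Scheme.{u}} (f : X ⟶ Spec (CommRingCat.of A))
    [LocallyOfFinitePresentation f] [QuasiCompact f] [QuasiSeparated f]
    (P : MorphismProperty Scheme.{u}) [P.RespectsIso] (hf : P f)
    (core : ∀ (j₀ : (Finset A)ᵒᵖ) {X₀ : Scheme.{u}} [CompactSpace X₀] [QuasiSeparatedSpace X₀]
      (a : X₀ ⟶ (specDiag A).obj j₀) [LocallyOfFinitePresentation a],
      P (pullback.fst ((specCone A).π.app j₀) a) →
      ∃ (j : (Finset A)ᵒᵖ) (ψ : j ⟶ j₀), P (pullback.fst ((specDiag A).map ψ) a)) :
    ∃ A₀ : Subalgebra ℤ A, A₀.FG ∧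
      ∃ (X₀ : Scheme.{u}) (f₀ : X₀ ⟶ Spec (CommRingCat.of ↥A₀)) (g : X ⟶ X₀),
        P f₀ ∧ LocallyOfFinitePresentation f₀ ∧ QuasiCompact f₀ ∧ QuasiSeparated f₀ ∧
          IsPullback g f f₀ (Spec.map (CommRingCat.ofHom (algebraMap (↥A₀) A))) := by
  classical
  let f' : X ⟶ (specCone A).pt := f
  haveI : LocallyOfFinitePresentation f' := ‹LocallyOfFinitePresentation f›
  haveI : QuasiCompact f' := ‹QuasiCompact f›
  haveI : QuasiSeparated f' := ‹QuasiSeparated f›
  obtain ⟨k, ⟨M⟩⟩ := LimModel.hasModel_of_finitePresentation (specIsLimit A) f'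
  haveI : LocallyOfFinitePresentation M.h₀ := M.lfp
  haveI : QuasiCompact M.h₀ := M.qc
  haveI : QuasiSeparated M.h₀ := M.qs
  haveI : CompactSpace M.Z₀ := M.compactSpace
  haveI : QuasiSeparatedSpace M.Z₀ := M.quasiSeparatedSpace
  have h1 : P (pullback.fst ((specCone A).π.app k) M.h₀) :=
    (LimDescend.prop_iff_of_isPullback P M.pb.flip
      (IsPullback.of_hasPullback ((specCone A).π.app k) M.h₀)).mp hf
  obtain ⟨j, ψ, hj⟩ := core k M.h₀ h1
  refine ⟨Algebra.adjoin ℤ (j.unop : Set A), Subalgebra.fg_adjoin_finset j.unop,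
    pullback ((specDiag A).map ψ) M.h₀, pullback.fst ((specDiag A).map ψ) M.h₀,
    pullback.lift (f' ≫ (specCone A).π.app j) M.g
      (by rw [Category.assoc, (specCone A).w ψ, M.pb.w]), hj,
    MorphismProperty.pullback_fst (P := @LocallyOfFinitePresentation) _ _ inferInstance,
    inferInstance,
    MorphismProperty.pullback_fst (P := @QuasiSeparated) _ _ inferInstance, ?_⟩
  change IsPullback _ f' _ ((specCone A).π.app j)
  refine IsPullback.of_right ?_ (pullback.lift_fst _ _ _)
    (IsPullback.of_hasPullback ((specDiag A).map ψ) M.h₀).flip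
  rw [pullback.lift_snd, (specCone A).w ψ]
  exact M.pb

end Groth.Agent.Lib.Helper13.SpecFG
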