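import Mathlib.CategoryTheory.Comma.Over.Pullback
import Mathlib.CategoryTheory.Monoidal.Closed.Basic
import Mathlib.CategoryTheory.Monoidal.Cartesian.Basic
import Mathlib.CategoryTheory.Yoneda

/-!
# The right adjoint of `Over.star Z` applied to `Z × Y` is the internal hom
-/
universe v u
open CategoryTheory CategoryTheory.Limits MonoidalCategory

namespace Groth.Agent.Lib.Helper13.StarIhom

noncomputable def tensorIsoProd {E : Type u} [Category.{v} E] [CartesianMonoidalCategory E]
    [HasBinaryProducts E] (Z W : E) : Z ⊗ W ≅ Z ⨯ W where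
  hom := prod.lift (CartesianMonoidalCategory.fst Z W) (CartesianMonoidalCategory.snd Z W)
  inv := CartesianMonoidalCategory.lift prod.fst prod.snd
  hom_inv_id := by
    apply CartesianMonoidalCategory.hom_ext
    · rw [Category.assoc, CartesianMonoidalCategory.lift_fst, prod.lift_fst, Category.id_comp]
    · rw [Category.assoc, CartesianMonoidalCategory.lift_snd, prod.lift_snd, Category.id_comp]
  inv_hom_id := by
    apply Limits.prod.hom_ext
    · rw [Category.assoc, prod.lift_fst, CartesianMonoidalCategory.lift_fst, Category.id_comp]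
    · rw [Category.assoc, prod.lift_snd, CartesianMonoidalCategory.lift_snd, Category.id_comp]

theorem tensorIsoProd_natural {E : Type u} [Category.{v} E] [CartesianMonoidalCategory E]
    [HasBinaryProducts E] (Z : E) {W W' : E} (f : W' ⟶ W) :
    (tensorIsoProd Z W').hom ≫ prod.map (𝟙 Z) f = (Z ◁ f) ≫ (tensorIsoProd Z W).hom := by
  apply Limits.prod.hom_ext
  · rw [Category.assoc, prod.map_fst, Category.assoc]
    simp only [tensorIsoProd, prod.lift_fst, Category.comp_id]
    rw [CartesianMonoidalCategory.whiskerLeft_fst]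
  · rw [Category.assoc, prod.map_snd, Category.assoc]
    simp only [tensorIsoProd, prod.lift_snd, prod.lift_snd_assoc]
    rw [CartesianMonoidalCategory.whiskerLeft_snd]

noncomputable def starEquiv {E : Type u} [Category.{v} E] [HasBinaryProducts E] (Z W Y : E) :
    (Z ⨯ W ⟶ Y) ≃ ((Over.star Z).obj W ⟶ (Over.star Z).obj Y) :=
  (Over.forgetAdjStar Z).homEquiv ((Over.star Z).obj W) Y

theorem starEquiv_symm_natural {E : Type u} [Category.{v} E] [HasBinaryProducts E] (Z Y : E)
    {W W' : E} (f : W' ⟶ W) (a : (Over.star Z).obj W ⟶ (Over.star Z).obj Y) :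
    (starEquiv Z W' Y).symm ((Over.star Z).map f ≫ a) =
      prod.map (𝟙 Z) f ≫ (starEquiv Z W Y).symm a := by
  have h1 := (Over.forgetAdjStar Z).homEquiv_naturality_left_symm ((Over.star Z).map f) a
  have h2 : (Over.forget Z).map ((Over.star Z).map f) = prod.map (𝟙 Z) f := by
    simp <;> rfl
  rw [h2] at h1
  exact h1

theorem star_rightAdjoint_iso_ihom {E : Type u} [Category.{v} E] [CartesianMonoidalCategory E]
    [MonoidalClosed E] [HasBinaryProducts E]
    (Z Y : E) [(Over.star Z).IsLeftAdjoint] :
    Nonempty (((Over.star Z).rightAdjoint).obj ((Over.star Z).obj Y) ≅ (ihom Z).obj Y) := by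
  let adj := Adjunction.ofIsLeftAdjoint (Over.star Z)
  refine ⟨Yoneda.ext _ _
    (fun {W} g => (ihom.adjunction Z).homEquiv W Y
      ((tensorIsoProd Z W).hom ≫ (starEquiv Z W Y).symm ((adj.homEquiv W _).symm g)))
    (fun {W} g => adj.homEquiv W _ (starEquiv Z W Y
      ((tensorIsoProd Z W).inv ≫ ((ihom.adjunction Z).homEquiv W Y).symm g)))
    ?_ ?_ ?_⟩
  · intro W f
    rw [Equiv.symm_apply_apply, Iso.inv_hom_id_assoc, Equiv.apply_symm_apply,
      Equiv.apply_symm_apply]
  · intro W f
    rw [Equiv.symm_apply_apply, Equiv.symm_apply_apply, Iso.hom_inv_id_assoc,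
      Equiv.apply_symm_apply]
  · intro W W' f g
    rw [Adjunction.homEquiv_naturality_left_symm, starEquiv_symm_natural,
      ← Adjunction.homEquiv_naturality_left, ← Category.assoc, tensorIsoProd_natural,
      Category.assoc]
    rfl

end Groth.Agent.Lib.Helper13.StarIhom
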