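import Mathlib

/-!
# Stein factorisation, universally closed case

For `f : X ⟶ S` universally closed and quasi-separated, `f.toNormalization` induces isomorphisms on
sections over every open of `f.normalization`.
-/

universe u

open CategoryTheory CategoryTheory.Limits AlgebraicGeometry TopologicalSpace Opposite

namespace Groth.Agent.Lib.Helper13.SteinUC

/-- a ring map between localizations away from `g` and `φ g`, over a bijective `φ`, is bijective -/
theorem bijective_of_away {A B A' B' : Type*} [CommRing A] [CommRing B] [CommRing A'] [CommRing B']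
    [Algebra A A'] [Algebra B B'] (g : A) [IsLocalization.Away g A'] (φ : A →+* B)
    (hφ : Function.Bijective φ) [IsLocalization.Away (φ g) B'] (ψ : A' →+* B')
    (hc : ∀ a, ψ (algebraMap A A' a) = algebraMap B B' (φ a)) : Function.Bijective ψ := by
  have hug : IsUnit (algebraMap A A' g) := IsLocalization.Away.algebraMap_isUnit g
  constructor
  · rw [injective_iff_map_eq_zero]
    intro a ha
    obtain ⟨n, a', ha'⟩ := IsLocalization.Away.surj g a
    have h1 : algebraMap B B' (φ a') = 0 := by
      rw [← hc, ← ha', map_mul, ha, zero_mul]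
    obtain ⟨⟨_, m, rfl⟩, hm⟩ := (IsLocalization.map_eq_zero_iff (Submonoid.powers (φ g)) B' _).mp h1
    have h2 : φ (g ^ m * a') = 0 := by
      rw [map_mul, map_pow]; exact hm
    have h3 : g ^ m * a' = 0 := hφ.1 (by rw [h2, map_zero])
    have h4 : algebraMap A A' a' = 0 := by
      have := congrArg (algebraMap A A') h3
      rw [map_mul, map_zero, map_pow] at this
      exact (hug.pow m).mul_right_eq_zero.mp this
    rw [h4] at ha'
    exact (hug.pow n).mul_left_eq_zero.mp ha'
  · intro b
    obtain ⟨n, b', hb'⟩ := IsLocalization.Away.surj (φ g) b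
    obtain ⟨a', rfl⟩ := hφ.2 b'
    obtain ⟨u, hu⟩ := hug.pow n
    refine ⟨algebraMap A A' a' * ↑u⁻¹, ?_⟩
    have hψu : ψ (u : A') = algebraMap B B' (φ g) ^ n := by
      rw [hu, map_pow, hc]
    have hunit : IsUnit (algebraMap B B' (φ g) ^ n) :=
      (IsLocalization.Away.algebraMap_isUnit (φ g)).pow n
    apply hunit.mul_left_injective
    change ψ (algebraMap A A' a' * ↑u⁻¹) * algebraMap B B' (φ g) ^ n =
      b * algebraMap B B' (φ g) ^ n
    rw [map_mul, hc, mul_assoc, ← hψu, ← map_mul, Units.inv_mul, map_one, mul_one, hψu, ← hb']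

/-- sections over a basic open: if `t.app W` is bijective with `W` affine and `t⁻¹W` qcqs, then
`t.app D(g)` is an isomorphism -/
theorem isIso_app_basicOpen {X N : Scheme.{u}} (t : X ⟶ N) (W : N.Opens) (hW : IsAffineOpen W)
    (hc : IsCompact (t ⁻¹ᵁ W).1) (hqs : IsQuasiSeparated (t ⁻¹ᵁ W).1)
    (hiso : Function.Bijective (t.app W).hom) (g : Γ(N, W)) :
    IsIso (t.app (N.basicOpen g)) := by
  have h : t ⁻¹ᵁ N.basicOpen g = X.basicOpen (t.app W g) := Scheme.preimage_basicOpen t g
  haveI : IsLocalization.Away g Γ(N, N.basicOpen g) := hW.isLocalization_basicOpen g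
  haveI : IsLocalization.Away ((t.app W).hom g) Γ(X, X.basicOpen (t.app W g)) :=
    isLocalization_basicOpen_of_qcqs hc hqs _
  let ψ : Γ(N, N.basicOpen g) ⟶ Γ(X, X.basicOpen (t.app W g)) :=
    t.app (N.basicOpen g) ≫ X.presheaf.map (eqToHom h.symm).op
  have hψ : Function.Bijective ψ.hom := by
    refine bijective_of_away g (t.app W).hom hiso ψ.hom ?_
    intro a
    have hnat := t.naturality (homOfLE (N.basicOpen_le g)).op
    have hcomm : N.presheaf.map (homOfLE (N.basicOpen_le g)).op ≫ ψ =
        t.app W ≫ X.presheaf.map (homOfLE (X.basicOpen_le (t.app W g))).op := by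
      dsimp only [ψ]
      rw [← Category.assoc, hnat, Category.assoc, ← Functor.map_comp]
      rfl
    exact congrArg (fun k => k.hom a) hcomm
  haveI : IsIso ψ := (ConcreteCategory.isIso_iff_bijective ψ).mpr hψ
  exact IsIso.of_isIso_comp_right (t.app (N.basicOpen g)) (X.presheaf.map (eqToHom h.symm).op)

/-- a universally closed morphism is integral on sections over affine opens of the target -/
theorem isIntegral_app_of_universallyClosed {X S : Scheme.{u}} (f : X ⟶ S) [UniversallyClosed f]
    (V : S.Opens) (hV : IsAffineOpen V) : (f.app V).hom.IsIntegral := by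
  have aux : ∀ W : S.Opens, V.ι ''ᵁ ⊤ = W → (f.app W).hom.IsIntegral := by
    rintro _ rfl
    haveI : IsAffine V.toScheme := hV
    haveI : UniversallyClosed (f ∣_ V) := IsZariskiLocalAtTarget.restrict ‹_› V
    have h1 := isIntegral_appTop_of_universallyClosed (f ∣_ V)
    rw [morphismRestrict_appTop] at h1
    have h2 : ((X.presheaf.map (eqToHom (image_morphismRestrict_preimage f V ⊤)).op).hom.comp
        (f.app (V.ι ''ᵁ ⊤)).hom).IsIntegral := h1
    refine RingHom.IsIntegral.tower_bot _ _ ?_ h2
    exact (ConcreteCategory.bijective_of_isIso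
      (X.presheaf.map (eqToHom (image_morphismRestrict_preimage f V ⊤)).op)).1
  exact aux V (by simp)

theorem isIso_toNormalization_app_preimage {X S : Scheme.{u}} (f : X ⟶ S) [UniversallyClosed f]
    [QuasiSeparated f] (V : S.Opens) (hV : IsAffineOpen V) :
    Function.Bijective (f.toNormalization.app (f.fromNormalization ⁻¹ᵁ V)).hom := by
  let _ := (f.app V).hom.toAlgebra
  have htop : integralClosure Γ(S, V) Γ(X, f ⁻¹ᵁ V) = ⊤ := by
    rw [integralClosure_eq_top_iff, ← algebraMap_isIntegral_iff, RingHom.algebraMap_toAlgebra]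
    exact isIntegral_app_of_universallyClosed f V hV
  have hval : Function.Bijective
      (CommRingCat.ofHom (Subalgebra.val (integralClosure Γ(S, V) Γ(X, f ⁻¹ᵁ V))).toRingHom).hom :=
    ⟨Subtype.val_injective, fun b => ⟨⟨b, htop ▸ Algebra.mem_top⟩, rfl⟩⟩
  have h1 := f.normalizationObjIso_hom_val hV
  have h2 : Function.Bijective ((f.normalizationObjIso hV).hom ≫ CommRingCat.ofHom
      (Subalgebra.val (integralClosure Γ(S, V) Γ(X, f ⁻¹ᵁ V))).toRingHom).hom := by
    rw [CommRingCat.hom_comp, RingHom.coe_comp]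
    exact hval.comp (ConcreteCategory.bijective_of_isIso _)
  rw [h1, Scheme.Hom.appLE, CommRingCat.hom_comp, RingHom.coe_comp] at h2
  refine (Function.Bijective.of_comp_iff' ?_ _).mp h2
  have heq : f ⁻¹ᵁ V = f.toNormalization ⁻¹ᵁ f.fromNormalization ⁻¹ᵁ V := by
    rw [← Scheme.Hom.comp_preimage, Scheme.Hom.toNormalization_fromNormalization]
  have hW : ∀ (A B : X.Opens) (e : A ≤ B), A = B →
      Function.Bijective (X.presheaf.map (homOfLE e).op).hom := by
    rintro A _ e rfl
    have : homOfLE e = 𝟙 A := Subsingleton.elim _ _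
    rw [this]
    simp only [op_id, CategoryTheory.Functor.map_id]
    exact Function.bijective_id
  exact hW _ _ _ heq

theorem isIso_toNormalization_app {X S : Scheme.{u}} (f : X ⟶ S) [UniversallyClosed f]
    [QuasiSeparated f] (U : f.normalization.Opens) : IsIso (f.toNormalization.app U) := by
  let F : TopCat.Sheaf CommRingCat f.normalization := f.normalization.sheaf
  let G : TopCat.Sheaf CommRingCat f.normalization :=
    (TopCat.Sheaf.pushforward CommRingCat f.toNormalization.base).obj X.sheaf
  let φ : F ⟶ G := ⟨f.toNormalization.c⟩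
  let B : (Σ V : S.affineOpens, Γ(f.normalization, f.fromNormalization ⁻¹ᵁ V.1)) →
      f.normalization.Opens := fun i => f.normalization.basicOpen i.2
  have hB : Opens.IsBasis (Set.range B) := by
    rw [Opens.isBasis_iff_nbhd]
    intro W x hxW
    obtain ⟨V, hV, hxV⟩ : ∃ V : S.Opens, IsAffineOpen V ∧ f.fromNormalization x ∈ V := by
      obtain ⟨_, ⟨V, hV, rfl⟩, hxV, -⟩ := S.isBasis_affineOpens.exists_subset_of_mem_open
        (Set.mem_univ (f.fromNormalization x)) isOpen_univ
      exact ⟨V, hV, hxV⟩
    have hW' : IsAffineOpen (f.fromNormalization ⁻¹ᵁ V) := hV.preimage f.fromNormalization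
    obtain ⟨g, hg1, hg2⟩ := hW'.exists_basicOpen_le ⟨x, hxW⟩ hxV
    exact ⟨_, ⟨⟨⟨V, hV⟩, g⟩, rfl⟩, hg2, hg1⟩
  haveI : IsIso φ := by
    refine TopCat.Sheaf.isIso_iff_isIso_basis hB (fun i => ?_)
    obtain ⟨⟨V, hV⟩, g⟩ := i
    have hW' : IsAffineOpen (f.fromNormalization ⁻¹ᵁ V) := hV.preimage f.fromNormalization
    exact isIso_app_basicOpen f.toNormalization _ hW'
      (f.toNormalization.isCompact_preimage hW'.isCompact)
      (f.toNormalization.isQuasiSeparated_preimage hW'.isQuasiSeparated)
      (isIso_toNormalization_app_preimage f V hV) g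
  have h2 : IsIso ((TopCat.Sheaf.forget CommRingCat f.normalization).map φ) := inferInstance
  exact NatIso.isIso_app_of_isIso ((TopCat.Sheaf.forget CommRingCat f.normalization).map φ) (op U)

end Groth.Agent.Lib.Helper13.SteinUC
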