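import Mathlib

/-!
# Thickenings: basic facts

`t : X ⟶ X'` a surjective closed immersion. Opens of `X` and `X'` correspond.
-/

universe u

open CategoryTheory AlgebraicGeometry TopologicalSpace Opposite

namespace Groth.Agent.Lib.Helper13.ThickAffine

variable {X X' : Scheme.{u}} (t : X ⟶ X') [IsClosedImmersion t]

/-- Restriction of sections as a ring homomorphism. -/
noncomputable abbrev res (X : Scheme.{u}) {U V : X.Opens} (h : V ≤ U) : Γ(X, U) →+* Γ(X, V) :=
  (X.presheaf.map (homOfLE h).op).hom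

theorem res_res (X : Scheme.{u}) {U V W : X.Opens} (h : V ≤ U) (h' : W ≤ V) (s : Γ(X, U)) :
    res X h' (res X h s) = res X (h'.trans h) s := by
  change (X.presheaf.map (homOfLE h).op ≫ X.presheaf.map (homOfLE h').op).hom s = _
  rw [← Functor.map_comp]
  rfl

theorem res_self (X : Scheme.{u}) {U : X.Opens} (s : Γ(X, U)) : res X (le_refl U) s = s := by
  change (X.presheaf.map (𝟙 _)).hom s = s
  rw [X.presheaf.map_id]
  rfl

/-- `t♯` from sections over `U'` to sections over `U ≤ t⁻¹ U'`. -/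
noncomputable abbrev pb {U' : X'.Opens} {U : X.Opens} (h : U ≤ t ⁻¹ᵁ U') : Γ(X', U') →+* Γ(X, U) :=
  (t.appLE U' U h).hom

theorem pb_res {U' V' : X'.Opens} {V : X.Opens} (h' : V' ≤ U') (h : V ≤ t ⁻¹ᵁ V') (s : Γ(X', U')) :
    pb t h (res X' h' s) = pb t (h.trans (t.preimage_mono h')) s := by
  change (X'.presheaf.map (homOfLE h').op ≫ t.appLE V' V h).hom s = _
  rw [Scheme.Hom.map_appLE]

theorem res_pb {U' : X'.Opens} {U V : X.Opens} (h : U ≤ t ⁻¹ᵁ U') (hVU : V ≤ U) (s : Γ(X', U')) :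
    res X hVU (pb t h s) = pb t (hVU.trans h) s := by
  change (t.appLE U' U h ≫ X.presheaf.map (homOfLE hVU).op).hom s = _
  rw [Scheme.Hom.appLE_map]

theorem basicOpen_pb {U' : X'.Opens} {U : X.Opens} (h : U ≤ t ⁻¹ᵁ U') (s : Γ(X', U')) :
    X.basicOpen (pb t h s) = U ⊓ t ⁻¹ᵁ (X'.basicOpen s) :=
  Scheme.basicOpen_appLE t U U' h s

theorem pb_surjective {U' : X'.Opens} (hU' : IsAffineOpen U') {U : X.Opens} (h : t ⁻¹ᵁ U' = U) :
    Function.Surjective (pb t (le_of_eq h.symm)) := by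
  subst h
  have := t.app_surjective U' hU'
  rwa [← Scheme.Hom.appLE_eq_app] at this

section surj

variable (ht : Function.Surjective t)
include ht

theorem opens_le_of_preimage_le {U' V' : X'.Opens} (h : t ⁻¹ᵁ U' ≤ t ⁻¹ᵁ V') : U' ≤ V' := by
  intro x' hx'
  obtain ⟨x, rfl⟩ := ht x'
  exact h hx'

theorem opens_ext {U' V' : X'.Opens} (h : t ⁻¹ᵁ U' = t ⁻¹ᵁ V') : U' = V' :=
  le_antisymm (opens_le_of_preimage_le t ht (le_of_eq h)) (opens_le_of_preimage_le t ht (le_of_eq h.symm))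

/-- The open of `X'` corresponding to the open `W` of `X`. -/
def thickOpen (W : X.Opens) : X'.Opens :=
  ⟨t '' (W : Set X), by
    have hcl : IsClosedMap t := t.isClosedEmbedding.isClosedMap
    have : t '' (W : Set X) = (t '' (W : Set X)ᶜ)ᶜ := by
      rw [Set.image_compl_eq ⟨t.isClosedEmbedding.injective, ht⟩, compl_compl]
    rw [this]
    exact (hcl _ W.2.isClosed_compl).isOpen_compl⟩

theorem preimage_thickOpen (W : X.Opens) : t ⁻¹ᵁ thickOpen t ht W = W := by
  ext x
  change t x ∈ t '' (W : Set X) ↔ x ∈ W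
  exact t.isClosedEmbedding.injective.mem_set_image

end surj

end Groth.Agent.Lib.Helper13.ThickAffine
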