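import Groth.Agent.Lib.Helper13.ThickAffineNil

/-!
# Thickenings: the induction, parametrised by the two-open surjectivity statement

Same as `ThickAffineInd`, but instead of nilpotency we assume the surjectivity of `t♯` for two-open
standard covers (`Surj2`).
-/

universe u

open CategoryTheory AlgebraicGeometry TopologicalSpace Opposite

namespace Groth.Agent.Lib.Helper13.ThickAffine

variable {X X' : Scheme.{u}} (t : X ⟶ X') [IsClosedImmersion t]

/-- The two-open surjectivity statement below `W₀'`. -/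
def Surj2 (W₀' : X'.Opens) : Prop :=
  ∀ (W' U' V' : X'.Opens), W' ≤ W₀' → IsAffineOpen U' → IsAffineOpen V' → U' ≤ W' → V' ≤ W' →
    W' ≤ U' ⊔ V' → IsAffineOpen (t ⁻¹ᵁ W') → ∀ (f g : Γ(X, t ⁻¹ᵁ W')), t ⁻¹ᵁ U' = X.basicOpen f →
    t ⁻¹ᵁ V' = X.basicOpen g → Ideal.span {f, g} = ⊤ →
    Function.Surjective (pb t (le_refl (t ⁻¹ᵁ W')))

section gen

variable (ht : Function.Surjective t)
include ht

theorem isAffineOpen_of_two' {W' U' V' : X'.Opens}
    (hU' : IsAffineOpen U') (hV' : IsAffineOpen V')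
    (f g : Γ(X, t ⁻¹ᵁ W')) (hf : t ⁻¹ᵁ U' = X.basicOpen f) (hg : t ⁻¹ᵁ V' = X.basicOpen g)
    (hfg : Ideal.span {f, g} = ⊤)
    (hsurj : Function.Surjective (pb t (le_refl (t ⁻¹ᵁ W')))) :
    IsAffineOpen W' := by
  obtain ⟨x, y, hxy⟩ := Ideal.mem_span_pair.1
    (hfg ▸ Submodule.mem_top : (1 : Γ(X, t ⁻¹ᵁ W')) ∈ Ideal.span {f, g})
  obtain ⟨f', hf'⟩ := hsurj f
  obtain ⟨g', hg'⟩ := hsurj g
  obtain ⟨x', hx'⟩ := hsurj x
  obtain ⟨y', hy'⟩ := hsurj y
  have hu : IsUnit (x' * f' + y' * g') := by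
    apply isUnit_of_isUnit_pb t ht
    rw [map_add, map_mul, map_mul, hf', hg', hx', hy', hxy]
    exact isUnit_one
  apply isAffineOpen_of_isAffineOpen_basicOpen W' {f', g'}
  · apply Ideal.eq_top_of_isUnit_mem _ _ hu
    exact Ideal.mem_span_pair.2 ⟨x', y', rfl⟩
  · intro i hi
    rcases hi with rfl | rfl
    · rw [basicOpen_of_pb_eq t ht i f hf' hf]
      exact hU'
    · rw [basicOpen_of_pb_eq t ht i g hg' hg]
      exact hV'

theorem isAffineOpen_of_family' (W₀' : X'.Opens) (hsurj2 : Surj2 t W₀') :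
    ∀ (n : ℕ) (W' : X'.Opens) (W : X.Opens) (_ : t ⁻¹ᵁ W' = W) (_ : W' ≤ W₀')
      (_ : IsAffineOpen W) (f : Fin n → Γ(X, W)) (_ : Ideal.span (Set.range f) = ⊤)
      (_ : ∀ i, ∃ U' : X'.Opens, IsAffineOpen U' ∧ t ⁻¹ᵁ U' = X.basicOpen (f i)),
      IsAffineOpen W' := by
  intro n
  induction n with
  | zero =>
    intro W' W hW _ _ f hspan _
    have h1 : (1 : Γ(X, W)) = 0 := by
      have : (1 : Γ(X, W)) ∈ Ideal.span (Set.range f) := hspan ▸ Submodule.mem_top
      have hr : Set.range f = ∅ := Set.range_eq_empty f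
      rw [hr, Ideal.span_empty] at this
      exact this
    have h2 : W = ⊥ := by
      rw [← X.basicOpen_of_isUnit (isUnit_one (M := Γ(X, W))), h1, Scheme.basicOpen_zero]
    have h3 : W' = ⊥ := by
      apply opens_ext t ht
      rw [hW, h2]
      rfl
    rw [h3]
    exact isAffineOpen_bot X'
  | succ n ih =>
    intro W' W hW hW₀ hWa f hspan hf
    subst hW
    obtain ⟨a, ha⟩ := (Ideal.mem_span_range_iff_exists_fun).1
      (hspan ▸ Submodule.mem_top : (1 : Γ(X, t ⁻¹ᵁ W')) ∈ Ideal.span (Set.range f))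
    set g : Γ(X, t ⁻¹ᵁ W') := ∑ i : Fin n, a i.castSucc * f i.castSucc with hg
    set e : Γ(X, t ⁻¹ᵁ W') := a (Fin.last n) * f (Fin.last n) with he
    have hge : g + e = 1 := by
      rw [← ha, Fin.sum_univ_castSucc]
    -- the open `V''` corresponding to `D(e)`
    obtain ⟨U'ₙ, hU'ₙ, hU'ₙf⟩ := hf (Fin.last n)
    obtain ⟨V'', hV'', hV''e⟩ := exists_affine_basicOpen_mul t ht hU'ₙ (f (Fin.last n))
      (a (Fin.last n)) hU'ₙf
    rw [mul_comm, ← he] at hV''e
    -- the open `W'_g` corresponding to `D(g)`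
    have hWg : t ⁻¹ᵁ thickOpen t ht (X.basicOpen g) = X.basicOpen g := preimage_thickOpen t ht _
    have hWgW : thickOpen t ht (X.basicOpen g) ≤ W' := by
      apply opens_le_of_preimage_le t ht
      rw [hWg]
      exact X.basicOpen_le g
    have hV''W : V'' ≤ W' := by
      apply opens_le_of_preimage_le t ht
      rw [hV''e]
      exact X.basicOpen_le e
    have hWga : IsAffineOpen (thickOpen t ht (X.basicOpen g)) := by
      refine ih (thickOpen t ht (X.basicOpen g)) (X.basicOpen g) hWg (hWgW.trans hW₀)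
        (hWa.basicOpen g) (fun i => res X (X.basicOpen_le g) (f i.castSucc)) ?_ ?_
      · apply Ideal.eq_top_of_isUnit_mem _ _ (X.toRingedSpace.isUnit_res_basicOpen g)
        change res X (X.basicOpen_le g) g ∈ _
        rw [hg, map_sum]
        refine Ideal.sum_mem _ fun i _ => ?_
        rw [map_mul]
        exact Ideal.mul_mem_left _ _ (Ideal.subset_span ⟨i, rfl⟩)
      · intro i
        obtain ⟨U'ᵢ, hU'ᵢ, hU'ᵢf⟩ := hf i.castSucc
        obtain ⟨V'ᵢ, hV'ᵢ, hV'ᵢe⟩ := exists_affine_basicOpen_mul t ht hU'ᵢ (f i.castSucc) g hU'ᵢf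
        refine ⟨V'ᵢ, hV'ᵢ, ?_⟩
        rw [hV'ᵢe, Scheme.basicOpen_mul, inf_comm]
        exact (Scheme.basicOpen_res _ _ _).symm
    -- apply the two-open step
    have hcov : W' ≤ thickOpen t ht (X.basicOpen g) ⊔ V'' := by
      apply opens_le_of_preimage_le t ht
      intro x hx
      change t x ∈ thickOpen t ht (X.basicOpen g) ∨ t x ∈ V''
      have h1 := mem_basicOpen_or_of_add_eq_one X g e hge x hx
      rcases h1 with h1 | h1
      · left
        rw [← hWg] at h1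
        exact h1
      · right
        rw [← hV''e] at h1
        exact h1
    have hspan2 : Ideal.span {g, e} = ⊤ := by
      rw [Ideal.eq_top_iff_one]
      exact Ideal.mem_span_pair.2 ⟨1, 1, by rw [one_mul, one_mul, hge]⟩
    exact isAffineOpen_of_two' t ht hWga hV'' g e hWg hV''e hspan2
      (hsurj2 W' _ V'' hW₀ hWga hV'' hWgW hV''W hcov hWa g e hWg hV''e hspan2)


theorem isAffineOpen_of_surj2 (W' : X'.Opens) (hW : IsAffineOpen (t ⁻¹ᵁ W'))
    (hsurj2 : Surj2 t W') :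
    IsAffineOpen W' := by
  let S : Set Γ(X, t ⁻¹ᵁ W') :=
    {r | ∃ U' : X'.Opens, IsAffineOpen U' ∧ t ⁻¹ᵁ U' = X.basicOpen r}
  have hS : Ideal.span S = ⊤ := by
    rw [← hW.self_le_iSup_basicOpen_iff]
    intro x hx
    obtain ⟨O', hO', hxO', hO'W⟩ := Opens.isBasis_iff_nbhd.mp X'.isBasis_affineOpens
      (show t x ∈ W' from hx)
    obtain ⟨r, hr, hxr⟩ := hW.exists_basicOpen_le (V := t ⁻¹ᵁ O') ⟨x, hxO'⟩ hx
    have hrS : r ∈ S := by
      have hle : t ⁻¹ᵁ O' ≤ t ⁻¹ᵁ W' := t.preimage_mono hO'W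
      obtain ⟨r', hr'⟩ := pb_surjective t hO' rfl (res X hle r)
      refine ⟨X'.basicOpen r', hO'.basicOpen r', ?_⟩
      have h1 : t ⁻¹ᵁ X'.basicOpen r' = X.basicOpen (pb t (le_refl (t ⁻¹ᵁ O')) r') := by
        rw [basicOpen_pb]
        exact (inf_eq_right.2 (t.preimage_mono (X'.basicOpen_le r'))).symm
      rw [h1, hr']
      exact (Scheme.basicOpen_res _ _ _).trans (inf_eq_right.2 hr)
    exact Opens.mem_iSup.2 ⟨⟨r, hrS⟩, hxr⟩
  obtain ⟨s', hs'S, hs'⟩ := (Ideal.span_eq_top_iff_finite S).1 hS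
  refine isAffineOpen_of_family' t ht W' hsurj2 s'.card W' _ rfl le_rfl hW
    (fun i => (s'.equivFin.symm i).1) ?_ ?_
  · have : Set.range (fun i => ((s'.equivFin.symm i).1 : Γ(X, t ⁻¹ᵁ W'))) = (s' : Set _) := by
      ext y
      constructor
      · rintro ⟨i, rfl⟩
        exact (s'.equivFin.symm i).2
      · intro hy
        exact ⟨s'.equivFin ⟨y, hy⟩, by simp⟩
    rw [this]
    exact hs'
  · intro i
    exact hs'S (s'.equivFin.symm i).2


end gen

end Groth.Agent.Lib.Helper13.ThickAffine
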