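import Groth.Agent.Lib.Helper13.ThickAffineGen

/-!
# Thickenings: auxiliary lemmas for the general (nil) case

Quotient subschemes of affine opens, kernels, and compatibility of pullbacks of sections.
-/

universe u

open CategoryTheory AlgebraicGeometry TopologicalSpace Opposite

namespace Groth.Agent.Lib.Helper13.ThickAffine

section pbgen

variable {X X' X'' : Scheme.{u}}

/-- `pb` for an arbitrary morphism (no closed immersion assumption). -/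
noncomputable abbrev pb' (t : X ⟶ X') {U' : X'.Opens} {U : X.Opens} (h : U ≤ t ⁻¹ᵁ U') :
    Γ(X', U') →+* Γ(X, U) :=
  (t.appLE U' U h).hom

theorem pb'_res (t : X ⟶ X') {U' V' : X'.Opens} {V : X.Opens} (h' : V' ≤ U') (h : V ≤ t ⁻¹ᵁ V')
    (s : Γ(X', U')) : pb' t h (res X' h' s) = pb' t (h.trans (t.preimage_mono h')) s := by
  change (X'.presheaf.map (homOfLE h').op ≫ t.appLE V' V h).hom s = _
  rw [Scheme.Hom.map_appLE]

theorem res_pb' (t : X ⟶ X') {U' : X'.Opens} {U V : X.Opens} (h : U ≤ t ⁻¹ᵁ U') (hVU : V ≤ U)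
    (s : Γ(X', U')) : res X hVU (pb' t h s) = pb' t (hVU.trans h) s := by
  change (t.appLE U' U h ≫ X.presheaf.map (homOfLE hVU).op).hom s = _
  rw [Scheme.Hom.appLE_map]

theorem pb'_comp (σ : X ⟶ X'') (τ : X'' ⟶ X') {U' : X'.Opens} {U'' : X''.Opens} {U : X.Opens}
    (h₂ : U'' ≤ τ ⁻¹ᵁ U') (h₁ : U ≤ σ ⁻¹ᵁ U'') (s : Γ(X', U')) :
    pb' σ h₁ (pb' τ h₂ s) = pb' (σ ≫ τ) (h₁.trans (σ.preimage_mono h₂)) s := by
  change (τ.appLE U' U'' h₂ ≫ σ.appLE U'' U h₁).hom s = _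
  rw [Scheme.Hom.appLE_comp_appLE]

theorem pb'_congr {t t' : X ⟶ X'} (e : t = t') {U' : X'.Opens} {U : X.Opens} (h : U ≤ t ⁻¹ᵁ U')
    (s : Γ(X', U')) : pb' t h s = pb' t' (e ▸ h) s := by
  subst e
  rfl

theorem res_injective_of_eq (X : Scheme.{u}) {U D : X.Opens} (h : D ≤ U) (e : D = U) :
    Function.Injective (res X h) := by
  subst e
  intro a b hab
  rwa [res_self, res_self] at hab

/-- Membership in the kernel ideal sheaf of a quasi-compact morphism, over an affine open. -/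
theorem mem_ker_ideal_iff (f : X ⟶ X') [QuasiCompact f] {U' : X'.Opens} (hU' : IsAffineOpen U')
    (s : Γ(X', U')) : s ∈ f.ker.ideal ⟨U', hU'⟩ ↔ pb' f (le_refl (f ⁻¹ᵁ U')) s = 0 := by
  rw [Scheme.Hom.ker_apply, RingHom.mem_ker]
  change (f.app U').hom s = 0 ↔ (f.appLE U' (f ⁻¹ᵁ U') le_rfl).hom s = 0
  rw [Scheme.Hom.appLE_eq_app]

/-- If `k` is killed by `h♯` and `k|_D = b^n δ` on `D = D(b)`, then `δ` is killed by `h♯`. -/
theorem pb'_eq_zero_of_basicOpen (h : X ⟶ X') {U' D' : X'.Opens} (b : Γ(X', U'))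
    (hD : D' = X'.basicOpen b) (hDU : D' ≤ U') (δ : Γ(X', D')) (k : Γ(X', U')) (n : ℕ)
    (hk : pb' h (le_refl (h ⁻¹ᵁ U')) k = 0) (hkδ : res X' hDU k = (res X' hDU b) ^ n * δ) :
    pb' h (le_refl (h ⁻¹ᵁ D')) δ = 0 := by
  subst hD
  have hu : IsUnit (res X' hDU b) := X'.toRingedSpace.isUnit_res_basicOpen b
  have h1 : pb' h (le_refl (h ⁻¹ᵁ X'.basicOpen b)) (res X' hDU k) = 0 := by
    rw [pb'_res, ← res_pb' h (le_refl (h ⁻¹ᵁ U')) (h.preimage_mono hDU), hk, map_zero]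
  rw [hkδ, map_mul, map_pow] at h1
  exact (((hu.map (pb' h (le_refl (h ⁻¹ᵁ X'.basicOpen b)))).pow n).mul_right_eq_zero).1 h1

end pbgen

section quot

variable {Y : Scheme.{u}} {U : Y.Opens} (hU : IsAffineOpen U) (𝔨 : Ideal Γ(Y, U))

/-- The quotient map as a morphism of `CommRingCat` out of `Γ(Y, U)`. -/
noncomputable def quotMap : Γ(Y, U) ⟶ CommRingCat.of (Γ(Y, U) ⧸ 𝔨) :=
  CommRingCat.ofHom (Ideal.Quotient.mk 𝔨)

/-- The closed subscheme `Spec (Γ(Y, U) / 𝔨)` of the affine open `U`, mapped to `Y`. -/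
noncomputable def quotHom : Spec (.of (Γ(Y, U) ⧸ 𝔨)) ⟶ Y :=
  Spec.map (quotMap 𝔨) ≫ hU.fromSpec

theorem quotHom_preimage : quotHom hU 𝔨 ⁻¹ᵁ U = ⊤ := by
  change Spec.map _ ⁻¹ᵁ (hU.fromSpec ⁻¹ᵁ U) = ⊤
  rw [hU.fromSpec_preimage_self]
  rfl

theorem fromSpec_appLE_top :
    hU.fromSpec.appLE U ⊤ (le_of_eq hU.fromSpec_preimage_self.symm) = (Scheme.ΓSpecIso _).inv := by
  rw [Scheme.Hom.appLE, hU.fromSpec_app_self, Category.assoc, ← Functor.map_comp]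
  convert Category.comp_id _
  exact (Spec Γ(Y, U)).presheaf.map_id _

theorem quotHom_appLE : (quotHom hU 𝔨).appLE U ⊤ (le_of_eq (quotHom_preimage hU 𝔨).symm) =
    quotMap 𝔨 ≫ (Scheme.ΓSpecIso _).inv := by
  rw [Scheme.ΓSpecIso_inv_naturality]
  unfold quotHom
  rw [← Scheme.Hom.appLE_comp_appLE (V := ⊤) (e₁ := le_of_eq hU.fromSpec_preimage_self.symm)
    (e₂ := le_top), fromSpec_appLE_top]
  rfl

theorem pb'_quotHom_eq_zero_iff (s : Γ(Y, U)) :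
    pb' (quotHom hU 𝔨) (le_refl (quotHom hU 𝔨 ⁻¹ᵁ U)) s = 0 ↔ s ∈ 𝔨 := by
  have e := quotHom_preimage hU 𝔨
  have h1 : pb' (quotHom hU 𝔨) (le_of_eq e.symm) s = (Scheme.ΓSpecIso _).inv (quotMap 𝔨 s) := by
    change ((quotHom hU 𝔨).appLE U ⊤ _).hom s = _
    rw [quotHom_appLE]
    rfl
  have h2 : res _ (le_of_eq e.symm) (pb' (quotHom hU 𝔨) (le_refl (quotHom hU 𝔨 ⁻¹ᵁ U)) s) =
      pb' (quotHom hU 𝔨) (le_of_eq e.symm) s := res_pb' _ _ _ _
  have hinj : Function.Injective ((Scheme.ΓSpecIso (CommRingCat.of (Γ(Y, U) ⧸ 𝔨))).inv) :=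
    ((Scheme.ΓSpecIso _).symm.commRingCatIsoToRingEquiv).injective
  constructor
  · intro hs
    rw [hs, map_zero, h1] at h2
    have h3 : quotMap 𝔨 s = 0 := hinj (by rw [← h2, map_zero])
    exact Ideal.Quotient.eq_zero_iff_mem.1 h3
  · intro hs
    have h3 : quotMap 𝔨 s = 0 := Ideal.Quotient.eq_zero_iff_mem.2 hs
    rw [h1, h3, map_zero] at h2
    apply res_injective_of_eq _ (le_of_eq e.symm) e.symm
    rw [h2, map_zero]

end quot

end Groth.Agent.Lib.Helper13.ThickAffine
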