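import Groth.Agent.Lib.Helper13.ThickAffineInd

/-!
# Thickenings: the kernel is a nil ideal; Noetherian corollaries
-/

universe u

open CategoryTheory AlgebraicGeometry TopologicalSpace Opposite

namespace Groth.Agent.Lib.Helper13.ThickAffine

variable {X X' : Scheme.{u}} (t : X ⟶ X') [IsClosedImmersion t]

section

variable (ht : Function.Surjective t)
include ht

/-- Sections in the kernel of `t♯` over a quasi-compact open are nilpotent. -/
theorem isNilpotent_of_pb_eq_zero {U' : X'.Opens} (hU' : IsCompact (U' : Set X'))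
    (s : Γ(X', U')) (hs : pb t (le_refl (t ⁻¹ᵁ U')) s = 0) : IsNilpotent s := by
  rw [Scheme.isNilpotent_iff_basicOpen_eq_bot_of_isCompact hU']
  apply opens_ext t ht
  have h1 : t ⁻¹ᵁ X'.basicOpen s = X.basicOpen (pb t (le_refl (t ⁻¹ᵁ U')) s) := by
    rw [basicOpen_pb]
    exact (inf_eq_right.2 (t.preimage_mono (X'.basicOpen_le s))).symm
  rw [h1, hs, Scheme.basicOpen_zero]
  rfl

theorem ker_pb_le_nilradical {U' : X'.Opens} (hU' : IsCompact (U' : Set X')) :
    RingHom.ker (pb t (le_refl (t ⁻¹ᵁ U'))) ≤ nilradical Γ(X', U') := fun s hs =>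
  isNilpotent_of_pb_eq_zero t ht hU' s hs

/-- Over a locally Noetherian target, thickenings of affine opens are affine. -/
theorem isAffineOpen_of_isLocallyNoetherian [IsLocallyNoetherian X'] (W' : X'.Opens)
    (hW : IsAffineOpen (t ⁻¹ᵁ W')) : IsAffineOpen W' := by
  apply isAffineOpen_of_nilpotent t ht W' hW
  intro U' hU' _
  have : IsNoetherianRing Γ(X', U') := IsLocallyNoetherian.component_noetherian ⟨U', hU'⟩
  exact (Ideal.FG.isNilpotent_iff_le_nilradical (IsNoetherian.noetherian _)).2
    (ker_pb_le_nilradical t ht hU'.isCompact)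

end

end Groth.Agent.Lib.Helper13.ThickAffine
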