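import Groth.Agent.Lib.Helper13.ThickAffineBasic

/-!
# Thickenings: the two-open step

If `W' = U' ∪ V'` with `U'`, `V'` affine, `t⁻¹ W'` affine and `t⁻¹ U' = D(f)`, `t⁻¹ V' = D(g)` with
`(f, g) = 1`, and the kernel of `t♯` over `U' ∩ V'` is nilpotent, then `t♯` is surjective over `W'`
and `W'` is affine.
-/

universe u

open CategoryTheory AlgebraicGeometry TopologicalSpace Opposite

namespace Groth.Agent.Lib.Helper13.ThickAffine

variable {X X' : Scheme.{u}} (t : X ⟶ X') [IsClosedImmersion t]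

theorem exists_glue₂ (X : Scheme.{u}) (U V : X.Opens) (b : Γ(X, U)) (c : Γ(X, V))
    (h : res X inf_le_left b = res X inf_le_right c) :
    ∃ a : Γ(X, U ⊔ V), res X le_sup_left a = b ∧ res X le_sup_right a = c := by
  let x : RingHom.eqLocus
      (RingHom.comp (X.sheaf.obj.map (homOfLE inf_le_left : U ⊓ V ⟶ U).op).hom
        (RingHom.fst (X.sheaf.obj.obj <| op U) (X.sheaf.obj.obj <| op V)))
      (RingHom.comp (X.sheaf.obj.map (homOfLE inf_le_right : U ⊓ V ⟶ V).op).hom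
        (RingHom.snd (X.sheaf.obj.obj <| op U) (X.sheaf.obj.obj <| op V))) := ⟨(b, c), h⟩
  refine ⟨(X.sheaf.objSupIsoProdEqLocus U V).inv x, ?_, ?_⟩
  · exact TopCat.Sheaf.objSupIsoProdEqLocus_inv_fst X.sheaf U V x
  · exact TopCat.Sheaf.objSupIsoProdEqLocus_inv_snd X.sheaf U V x

theorem eq_of_res₂ (X : Scheme.{u}) {U V W : X.Opens} (hU : U ≤ W) (hV : V ≤ W) (hcov : W ≤ U ⊔ V)
    (s s' : Γ(X, W)) (h₁ : res X hU s = res X hU s') (h₂ : res X hV s = res X hV s') : s = s' :=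
  X.sheaf.eq_of_locally_eq₂ (homOfLE hU) (homOfLE hV) hcov s s' h₁ h₂

theorem res_eq_zero_of_eq (X : Scheme.{u}) {U D₁ D₂ : X.Opens} (h₁ : D₁ ≤ U) (h₂ : D₂ ≤ U)
    (e : D₁ = D₂) (s : Γ(X, U)) (hs : res X h₁ s = 0) : res X h₂ s = 0 := by
  subst e
  exact hs

/-- Lifting elements of the kernel from a basic open. -/
theorem exists_lift_ker {U' D' : X'.Opens} (hU' : IsAffineOpen U')
    (s : Γ(X', U')) (hD : D' = X'.basicOpen s) (hDU : D' ≤ U')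
    (δ : Γ(X', D')) (hδ : pb t (le_refl (t ⁻¹ᵁ D')) δ = 0) :
    ∃ (n : ℕ) (β : Γ(X', U')), pb t (le_refl (t ⁻¹ᵁ U')) β = 0 ∧
      res X' hDU β = (res X' hDU s) ^ n * δ := by
  subst hD
  obtain ⟨n₁, β₀, hβ₀⟩ := exists_eq_pow_mul_of_isAffineOpen X' U' hU' s δ
  replace hβ₀ : res X' hDU β₀ = (res X' hDU s) ^ n₁ * δ := hβ₀
  have hUa : IsAffineOpen (t ⁻¹ᵁ U') := hU'.preimage t
  -- the image of β₀ vanishes on the preimage of the basic open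
  have h1 : res X (t.preimage_mono hDU) (pb t (le_refl (t ⁻¹ᵁ U')) β₀) = 0 := by
    rw [res_pb]
    have := pb_res t hDU (le_refl (t ⁻¹ᵁ X'.basicOpen s)) β₀
    rw [← this, hβ₀, map_mul, hδ, mul_zero]
  have e : t ⁻¹ᵁ X'.basicOpen s = X.basicOpen (pb t (le_refl (t ⁻¹ᵁ U')) s) := by
    rw [basicOpen_pb]
    exact (inf_eq_right.2 (t.preimage_mono hDU)).symm
  have h2 := res_eq_zero_of_eq X (t.preimage_mono hDU) (X.basicOpen_le _) e _ h1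
  obtain ⟨n₂, hn₂⟩ := exists_pow_mul_eq_zero_of_res_basicOpen_eq_zero_of_isAffineOpen X hUa
    (pb t (le_refl (t ⁻¹ᵁ U')) β₀) (pb t (le_refl (t ⁻¹ᵁ U')) s) h2
  refine ⟨n₂ + n₁, s ^ n₂ * β₀, ?_, ?_⟩
  · rw [map_mul, map_pow, hn₂]
  · rw [map_mul, map_pow, hβ₀, pow_add, mul_assoc]


section two

variable (ht : Function.Surjective t)
include ht

/-- If `t⁻¹ U' = D(f)` and `b` lifts `g|_{D(f)}`, then `D(b) = U' ∩ V'` where `t⁻¹ V' = D(g)`. -/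
theorem basicOpen_lift_eq {W' U' V' : X'.Opens} (hUW : U' ≤ W')
    (g : Γ(X, t ⁻¹ᵁ W')) (hg : t ⁻¹ᵁ V' = X.basicOpen g)
    (b : Γ(X', U')) (hb : pb t (le_refl (t ⁻¹ᵁ U')) b = res X (t.preimage_mono hUW) g) :
    U' ⊓ V' = X'.basicOpen b := by
  apply opens_ext t ht
  have h1 : t ⁻¹ᵁ X'.basicOpen b = X.basicOpen (pb t (le_refl (t ⁻¹ᵁ U')) b) := by
    rw [basicOpen_pb]
    exact (inf_eq_right.2 (t.preimage_mono (X'.basicOpen_le b))).symm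
  rw [h1, hb]
  change t ⁻¹ᵁ U' ⊓ t ⁻¹ᵁ V' = _
  rw [hg]
  exact (Scheme.basicOpen_res _ _ _).symm

theorem one_step {W' U' V' : X'.Opens}
    (hU' : IsAffineOpen U') (hV' : IsAffineOpen V') (hUW : U' ≤ W') (hVW : V' ≤ W')
    (f g : Γ(X, t ⁻¹ᵁ W')) (hf : t ⁻¹ᵁ U' = X.basicOpen f) (hg : t ⁻¹ᵁ V' = X.basicOpen g)
    (hfg : Ideal.span {f, g} = ⊤)
    (δ : Γ(X', U' ⊓ V')) (hδ : pb t (le_refl (t ⁻¹ᵁ (U' ⊓ V'))) δ = 0) :
    ∃ (β : Γ(X', U')) (γ : Γ(X', V')) (ε : Γ(X', U' ⊓ V')),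
      pb t (le_refl (t ⁻¹ᵁ U')) β = 0 ∧ pb t (le_refl (t ⁻¹ᵁ V')) γ = 0 ∧
      pb t (le_refl (t ⁻¹ᵁ (U' ⊓ V'))) ε = 0 ∧
      res X' inf_le_left β - res X' inf_le_right γ = δ + ε * δ := by
  have hUWX : t ⁻¹ᵁ U' ≤ t ⁻¹ᵁ W' := t.preimage_mono hUW
  have hVWX : t ⁻¹ᵁ V' ≤ t ⁻¹ᵁ W' := t.preimage_mono hVW
  -- lifts of g on U' and f on V'
  obtain ⟨bg, hbg⟩ := pb_surjective t hU' rfl (res X hUWX g)
  obtain ⟨cf, hcf⟩ := pb_surjective t hV' rfl (res X hVWX f)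
  have eU : U' ⊓ V' = X'.basicOpen bg := basicOpen_lift_eq t ht hUW g hg bg hbg
  have eV : U' ⊓ V' = X'.basicOpen cf := by
    rw [inf_comm]
    exact basicOpen_lift_eq t ht hVW f hf cf hcf
  obtain ⟨n₁, β₁, hβ₁, hβ₁'⟩ := exists_lift_ker t hU' bg eU inf_le_left δ hδ
  obtain ⟨n₂, γ₁, hγ₁, hγ₁'⟩ := exists_lift_ker t hV' cf eV inf_le_right δ hδ
  -- partition of unity
  have hspan : Ideal.span {f ^ (n₁ + n₂), g ^ (n₁ + n₂)} = ⊤ := by
    have := Ideal.span_pow_eq_top _ hfg (n₁ + n₂)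
    rwa [Set.image_pair] at this
  obtain ⟨x, y, hxy⟩ := Ideal.mem_span_pair.1
    (hspan ▸ Submodule.mem_top : (1 : Γ(X, t ⁻¹ᵁ W')) ∈ Ideal.span {f ^ (n₁ + n₂), g ^ (n₁ + n₂)})
  obtain ⟨y', hy'⟩ := pb_surjective t hU' rfl (res X hUWX y)
  obtain ⟨x', hx'⟩ := pb_surjective t hV' rfl (res X hVWX x)
  have hle : t ⁻¹ᵁ (U' ⊓ V') ≤ t ⁻¹ᵁ W' := t.preimage_mono (inf_le_left.trans hUW)
  -- compatibilities of pullbacks on the intersection
  have key : ∀ (a : Γ(X', U')) (a₀ : Γ(X, t ⁻¹ᵁ W')),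
      pb t (le_refl (t ⁻¹ᵁ U')) a = res X hUWX a₀ →
      pb t (le_refl (t ⁻¹ᵁ (U' ⊓ V'))) (res X' inf_le_left a) = res X hle a₀ := by
    intro a a₀ h
    rw [pb_res, ← res_pb t (le_refl (t ⁻¹ᵁ U')) (t.preimage_mono inf_le_left), h, res_res]
  have key' : ∀ (a : Γ(X', V')) (a₀ : Γ(X, t ⁻¹ᵁ W')),
      pb t (le_refl (t ⁻¹ᵁ V')) a = res X hVWX a₀ →
      pb t (le_refl (t ⁻¹ᵁ (U' ⊓ V'))) (res X' inf_le_right a) = res X hle a₀ := by
    intro a a₀ h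
    rw [pb_res, ← res_pb t (le_refl (t ⁻¹ᵁ V')) (t.preimage_mono inf_le_right), h, res_res]
  refine ⟨y' * (bg ^ n₂ * β₁), -(x' * (cf ^ n₁ * γ₁)),
    res X' inf_le_left y' * (res X' inf_le_left bg) ^ (n₁ + n₂) +
      res X' inf_le_right x' * (res X' inf_le_right cf) ^ (n₁ + n₂) - 1, ?_, ?_, ?_, ?_⟩
  · rw [map_mul, map_mul, hβ₁, mul_zero, mul_zero]
  · rw [map_neg, map_mul, map_mul, hγ₁, mul_zero, mul_zero, neg_zero]
  · rw [map_sub, map_add, map_mul, map_mul, map_pow, map_pow, map_one,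
      key y' y hy', key bg g hbg, key' x' x hx', key' cf f hcf, ← map_pow, ← map_pow, ← map_mul,
      ← map_mul, ← map_add, add_comm, hxy, map_one, sub_self]
  · rw [map_mul, map_mul, map_neg, map_mul, map_mul, map_pow, map_pow, hβ₁', hγ₁']
    ring

end two


section two'

variable (ht : Function.Surjective t)
include ht

theorem exists_diff {W' U' V' : X'.Opens}
    (hU' : IsAffineOpen U') (hV' : IsAffineOpen V') (hUW : U' ≤ W') (hVW : V' ≤ W')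
    (f g : Γ(X, t ⁻¹ᵁ W')) (hf : t ⁻¹ᵁ U' = X.basicOpen f) (hg : t ⁻¹ᵁ V' = X.basicOpen g)
    (hfg : Ideal.span {f, g} = ⊤)
    (hnil : IsNilpotent (RingHom.ker (pb t (le_refl (t ⁻¹ᵁ (U' ⊓ V'))))))
    (δ : Γ(X', U' ⊓ V')) (hδ : pb t (le_refl (t ⁻¹ᵁ (U' ⊓ V'))) δ = 0) :
    ∃ (β : Γ(X', U')) (γ : Γ(X', V')),
      pb t (le_refl (t ⁻¹ᵁ U')) β = 0 ∧ pb t (le_refl (t ⁻¹ᵁ V')) γ = 0 ∧
      res X' inf_le_left β - res X' inf_le_right γ = δ := by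
  obtain ⟨N, hN⟩ := hnil
  set J := RingHom.ker (pb t (le_refl (t ⁻¹ᵁ (U' ⊓ V')))) with hJ
  have main : ∀ (k m : ℕ), N ≤ m + k → 1 ≤ m → ∀ δ ∈ J ^ m,
      ∃ (β : Γ(X', U')) (γ : Γ(X', V')),
        pb t (le_refl (t ⁻¹ᵁ U')) β = 0 ∧ pb t (le_refl (t ⁻¹ᵁ V')) γ = 0 ∧
        res X' inf_le_left β - res X' inf_le_right γ = δ := by
    intro k
    induction k with
    | zero =>
      intro m hm _ δ hδm
      have : δ = 0 := by
        have h1 : J ^ m ≤ J ^ N := Ideal.pow_le_pow_right (by omega)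
        have h2 := h1 hδm
        rw [hN] at h2
        exact h2
      exact ⟨0, 0, map_zero _, map_zero _, by rw [this, map_zero, map_zero, sub_zero]⟩
    | succ k ih =>
      intro m hm hm1 δ hδm
      have hδJ : δ ∈ J := Ideal.pow_le_self (by omega) hδm
      obtain ⟨β₁, γ₁, ε, hβ₁, hγ₁, hε, h1⟩ := one_step t ht hU' hV' hUW hVW f g hf hg hfg δ hδJ
      have hεδ : ε * δ ∈ J ^ (m + 1) := by
        rw [pow_succ']
        exact Ideal.mul_mem_mul hε hδm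
      obtain ⟨β₂, γ₂, hβ₂, hγ₂, h2⟩ := ih (m + 1) (by omega) (by omega) (ε * δ) hεδ
      refine ⟨β₁ - β₂, γ₁ - γ₂, by rw [map_sub, hβ₁, hβ₂, sub_zero],
        by rw [map_sub, hγ₁, hγ₂, sub_zero], ?_⟩
      rw [map_sub, map_sub]
      have : res X' inf_le_left β₁ - res X' inf_le_left β₂ -
          (res X' inf_le_right γ₁ - res X' inf_le_right γ₂) =
          (res X' inf_le_left β₁ - res X' inf_le_right γ₁) -
          (res X' inf_le_left β₂ - res X' inf_le_right γ₂) := by ring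
      rw [this, h1, h2]
      ring
  exact main N 1 (by omega) le_rfl δ (by rwa [pow_one])

theorem pb_surjective_of_two {W' U' V' : X'.Opens}
    (hU' : IsAffineOpen U') (hV' : IsAffineOpen V') (hUW : U' ≤ W') (hVW : V' ≤ W')
    (hcov : W' ≤ U' ⊔ V')
    (f g : Γ(X, t ⁻¹ᵁ W')) (hf : t ⁻¹ᵁ U' = X.basicOpen f) (hg : t ⁻¹ᵁ V' = X.basicOpen g)
    (hfg : Ideal.span {f, g} = ⊤)
    (hnil : IsNilpotent (RingHom.ker (pb t (le_refl (t ⁻¹ᵁ (U' ⊓ V')))))) :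
    Function.Surjective (pb t (le_refl (t ⁻¹ᵁ W'))) := by
  obtain rfl : W' = U' ⊔ V' := le_antisymm hcov (sup_le hUW hVW)
  intro a₀
  have hUWX : t ⁻¹ᵁ U' ≤ t ⁻¹ᵁ (U' ⊔ V') := t.preimage_mono hUW
  have hVWX : t ⁻¹ᵁ V' ≤ t ⁻¹ᵁ (U' ⊔ V') := t.preimage_mono hVW
  obtain ⟨b, hb⟩ := pb_surjective t hU' rfl (res X hUWX a₀)
  obtain ⟨c, hc⟩ := pb_surjective t hV' rfl (res X hVWX a₀)
  have hle : t ⁻¹ᵁ (U' ⊓ V') ≤ t ⁻¹ᵁ (U' ⊔ V') := t.preimage_mono (inf_le_left.trans hUW)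
  have hδ : pb t (le_refl (t ⁻¹ᵁ (U' ⊓ V'))) (res X' inf_le_left b - res X' inf_le_right c) = 0 := by
    rw [map_sub, pb_res, pb_res,
      ← res_pb t (le_refl (t ⁻¹ᵁ U')) (t.preimage_mono inf_le_left), hb, res_res,
      ← res_pb t (le_refl (t ⁻¹ᵁ V')) (t.preimage_mono inf_le_right), hc, res_res, sub_self]
  obtain ⟨β, γ, hβ, hγ, h⟩ := exists_diff t ht hU' hV' hUW hVW f g hf hg hfg hnil _ hδ
  obtain ⟨a, ha₁, ha₂⟩ := exists_glue₂ X' U' V' (b - β) (c - γ) (by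
    rw [map_sub, map_sub]
    have : res X' inf_le_left b - res X' inf_le_left β =
        (res X' inf_le_left b - res X' inf_le_right c) -
        (res X' inf_le_left β - res X' inf_le_right γ) +
        (res X' inf_le_right c - res X' inf_le_right γ) := by ring
    rw [this, h]
    ring)
  refine ⟨a, ?_⟩
  refine eq_of_res₂ X hUWX hVWX (le_refl _) _ _ ?_ ?_
  · rw [res_pb, ← pb_res t hUW (le_refl (t ⁻¹ᵁ U')), ha₁, map_sub, hb, hβ, sub_zero]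
  · rw [res_pb, ← pb_res t hVW (le_refl (t ⁻¹ᵁ V')), ha₂, map_sub, hc, hγ, sub_zero]

end two'


theorem isUnit_of_basicOpen_eq (X : Scheme.{u}) {U : X.Opens} (s : Γ(X, U))
    (h : X.basicOpen s = U) : IsUnit s := by
  have h1 : IsUnit (res X (X.basicOpen_le s) s) := X.toRingedSpace.isUnit_res_basicOpen s
  have aux : ∀ (D : X.Opens) (hD : D ≤ U), D = U → IsUnit (res X hD s) → IsUnit s := by
    intro D hD e hu
    subst e
    rwa [res_self] at hu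
  exact aux _ _ h h1

section two''

variable (ht : Function.Surjective t)
include ht

/-- The basic open of a lift. -/
theorem basicOpen_of_pb_eq {W' U' : X'.Opens} (s : Γ(X', W')) (f : Γ(X, t ⁻¹ᵁ W'))
    (hs : pb t (le_refl (t ⁻¹ᵁ W')) s = f) (hf : t ⁻¹ᵁ U' = X.basicOpen f) :
    X'.basicOpen s = U' := by
  apply opens_ext t ht
  rw [hf, ← hs, basicOpen_pb]
  exact (inf_eq_right.2 (t.preimage_mono (X'.basicOpen_le s))).symm

theorem isUnit_of_isUnit_pb {W' : X'.Opens} (s : Γ(X', W'))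
    (hs : IsUnit (pb t (le_refl (t ⁻¹ᵁ W')) s)) : IsUnit s := by
  apply isUnit_of_basicOpen_eq
  exact basicOpen_of_pb_eq t ht s _ rfl (X.basicOpen_of_isUnit hs).symm

theorem isAffineOpen_of_two {W' U' V' : X'.Opens}
    (hU' : IsAffineOpen U') (hV' : IsAffineOpen V') (hUW : U' ≤ W') (hVW : V' ≤ W')
    (hcov : W' ≤ U' ⊔ V')
    (f g : Γ(X, t ⁻¹ᵁ W')) (hf : t ⁻¹ᵁ U' = X.basicOpen f) (hg : t ⁻¹ᵁ V' = X.basicOpen g)
    (hfg : Ideal.span {f, g} = ⊤)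
    (hnil : IsNilpotent (RingHom.ker (pb t (le_refl (t ⁻¹ᵁ (U' ⊓ V')))))) :
    IsAffineOpen W' := by
  have hsurj := pb_surjective_of_two t ht hU' hV' hUW hVW hcov f g hf hg hfg hnil
  obtain ⟨x, y, hxy⟩ := Ideal.mem_span_pair.1
    (hfg ▸ Submodule.mem_top : (1 : Γ(X, t ⁻¹ᵁ W')) ∈ Ideal.span {f, g})
  obtain ⟨f', hf'⟩ := hsurj f
  obtain ⟨g', hg'⟩ := hsurj g
  obtain ⟨x', hx'⟩ := hsurj x
  obtain ⟨y', hy'⟩ := hsurj y
  have hu : IsUnit (x' * f' + y' * g') := by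
    apply isUnit_of_isUnit_pb t ht
    rw [map_add, map_mul, map_mul, hf', hg', hx', hy', hxy]
    exact isUnit_one
  apply isAffineOpen_of_isAffineOpen_basicOpen W' {f', g'}
  · apply Ideal.eq_top_of_isUnit_mem _ _ hu
    exact Ideal.mem_span_pair.2 ⟨x', y', rfl⟩
  · intro i hi
    rcases hi with rfl | rfl
    · rw [basicOpen_of_pb_eq t ht i f hf' hf]
      exact hU'
    · rw [basicOpen_of_pb_eq t ht i g hg' hg]
      exact hV'

end two''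

end Groth.Agent.Lib.Helper13.ThickAffine
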