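import Groth.Agent.Lib.Helper13.ThickFinite
import Groth.Agent.Lib.Helper13.ThickAffineNil

/-!
# Closed immersions across cartesian thickening squares (helper13)

`isClosedImmersion_thick`: in a cartesian square `F₀ ≫ j = i ≫ F` with `i`, `j` surjective closed
immersions, the schemes `X` and `Y` locally Noetherian and `F₀` a closed immersion, `F` is a closed
immersion.
-/

universe u

open CategoryTheory CategoryTheory.Limits AlgebraicGeometry TopologicalSpace Opposite

namespace Groth.Agent.Lib.Helper13.ThickClosedImm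

open Groth.Agent.Lib.Helper13.ThickAffine Groth.Agent.Lib.Helper13.ThickFinite
  Groth.Agent.Lib.Helper13.ThickIntegral

/-- Ring-level Nakayama for a nilpotent ideal across a commutative square. -/
theorem surjective_of_square {A A₀ B B₀ : Type*} [CommRing A] [CommRing A₀] [CommRing B]
    [CommRing B₀] (φ : A →+* B) (π : B →+* B₀) (ρ : A →+* A₀) (φ₀ : A₀ →+* B₀)
    (hsq : π.comp φ = φ₀.comp ρ) (hρ : Function.Surjective ρ)
    (hφ₀ : Function.Surjective φ₀) (hker : RingHom.ker π = Ideal.map φ (RingHom.ker ρ))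
    (hnil : IsNilpotent (RingHom.ker ρ)) : Function.Surjective φ := by
  obtain ⟨N, hN⟩ := hnil
  set 𝔞 := RingHom.ker ρ with h𝔞
  -- `B = φ(A) + 𝔞^k B` for all `k`
  have step : ∀ k : ℕ, ∀ b : B, ∃ a : A, b - φ a ∈ Ideal.map φ (𝔞 ^ k) := by
    intro k
    induction k with
    | zero =>
      intro b
      exact ⟨0, by rw [pow_zero, Ideal.one_eq_top, Ideal.map_top]; trivial⟩
    | succ k ih =>
      intro b
      obtain ⟨a, ha⟩ := ih b
      -- write `b - φ a = Σ φ(x_i) b_i` with `x_i ∈ 𝔞^k`; approximate each `b_i`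
      have key : ∀ c ∈ Ideal.map φ (𝔞 ^ k), ∃ a' : A, c - φ a' ∈ Ideal.map φ (𝔞 ^ (k + 1)) := by
        intro c hc
        refine Submodule.span_induction (p := fun c _ => ∃ a' : A, c - φ a' ∈
          Ideal.map φ (𝔞 ^ (k + 1))) ?_ ?_ ?_ ?_ hc
        · rintro _ ⟨x, hx, rfl⟩
          exact ⟨x, by simp⟩
        · exact ⟨0, by simp⟩
        · rintro c₁ c₂ _ _ ⟨a₁, h₁⟩ ⟨a₂, h₂⟩
          refine ⟨a₁ + a₂, ?_⟩
          have : c₁ + c₂ - φ (a₁ + a₂) = (c₁ - φ a₁) + (c₂ - φ a₂) := by rw [map_add]; ring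
          rw [this]
          exact Ideal.add_mem _ h₁ h₂
        · rintro r c hc' ⟨a₁, h₁⟩
          -- approximate `r` modulo `𝔞 B`
          obtain ⟨a₀, ha₀⟩ := hφ₀ (π r)
          obtain ⟨a₂, rfl⟩ := hρ a₀
          have hr : r - φ a₂ ∈ Ideal.map φ 𝔞 := by
            rw [← hker, RingHom.mem_ker, map_sub, sub_eq_zero, ← ha₀]
            exact (RingHom.congr_fun hsq a₂).symm
          -- `c ∈ 𝔞^k B`
          have hcmem : c ∈ Ideal.map φ (𝔞 ^ k) := hc'
          refine ⟨a₂ * a₁, ?_⟩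
          have e : r • c - φ (a₂ * a₁) = (r - φ a₂) * c + φ a₂ * (c - φ a₁) := by
            rw [smul_eq_mul, map_mul]; ring
          rw [e]
          refine Ideal.add_mem _ ?_ (Ideal.mul_mem_left _ _ h₁)
          have : (r - φ a₂) * c ∈ Ideal.map φ 𝔞 * Ideal.map φ (𝔞 ^ k) :=
            Ideal.mul_mem_mul hr hcmem
          rw [← Ideal.map_mul, ← pow_succ'] at this
          exact this
      obtain ⟨a', ha'⟩ := key _ ha
      refine ⟨a + a', ?_⟩
      have : b - φ (a + a') = b - φ a - φ a' := by rw [map_add]; ring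
      rw [this]
      exact ha'
  intro b
  obtain ⟨a, ha⟩ := step N b
  rw [hN, Ideal.zero_eq_bot, Ideal.map_bot, Ideal.mem_bot, sub_eq_zero] at ha
  exact ⟨a, ha.symm⟩

variable {X X₀ Y Y₀ : Scheme.{u}} (F : Y ⟶ X) (F₀ : Y₀ ⟶ X₀) (i : Y₀ ⟶ Y) (j : X₀ ⟶ X)

/-- Closed immersions lift across cartesian squares of thickenings of locally Noetherian
schemes. -/
theorem isClosedImmersion_thick [IsClosedImmersion i] [IsClosedImmersion j]
    (hi : Function.Surjective i) (hj : Function.Surjective j)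
    [IsLocallyNoetherian X] [IsLocallyNoetherian Y]
    (hc : IsPullback F₀ i j F) [IsClosedImmersion F₀] : IsClosedImmersion F := by
  have hpre : ∀ V : X.Opens, i ⁻¹ᵁ (F ⁻¹ᵁ V) = F₀ ⁻¹ᵁ (j ⁻¹ᵁ V) := fun V =>
    congrArg (fun φ : Y₀ ⟶ X => φ ⁻¹ᵁ V) hc.w.symm
  have haff : ∀ V : X.Opens, IsAffineOpen V → IsAffineOpen (F ⁻¹ᵁ V) := by
    intro V hV
    apply isAffineOpen_of_isLocallyNoetherian i hi
    rw [hpre V]
    exact (hV.preimage j).preimage F₀
  haveI : IsAffineHom F := ⟨fun V hV => haff V hV⟩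
  rw [isClosedImmersion_iff_isAffineHom]
  refine ⟨inferInstance, fun V hV => ?_⟩
  have hO : IsAffineOpen (F ⁻¹ᵁ V) := haff V hV
  have hker := ker_pb_eq_map_of_isPullback F F₀ i j hc hV hO (le_refl _)
  have hgoal : (F.app V).hom = pb' F (le_refl (F ⁻¹ᵁ V)) := by
    change _ = (F.appLE V (F ⁻¹ᵁ V) le_rfl).hom
    rw [Scheme.Hom.appLE_eq_app]
  change Function.Surjective (F.app V).hom
  rw [hgoal]
  haveI : IsNoetherianRing Γ(X, V) := IsLocallyNoetherian.component_noetherian ⟨V, hV⟩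
  refine surjective_of_square (pb' F (le_refl (F ⁻¹ᵁ V))) (pb' i (le_refl (i ⁻¹ᵁ (F ⁻¹ᵁ V))))
    (pb' j (le_refl (j ⁻¹ᵁ V))) (pb' F₀ (le_of_eq (hpre V))) ?_
    (pb_surjective j hV rfl) ?_ hker ?_
  · ext a
    change pb' i (le_refl (i ⁻¹ᵁ (F ⁻¹ᵁ V))) (pb' F (le_refl (F ⁻¹ᵁ V)) a) =
      pb' F₀ (le_of_eq (hpre V)) (pb' j (le_refl (j ⁻¹ᵁ V)) a)
    rw [pb'_comp, pb'_comp]
    exact pb'_congr hc.w.symm _ _
  · have h1 : Function.Surjective (pb' F₀ (le_refl (F₀ ⁻¹ᵁ (j ⁻¹ᵁ V)))) := by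
      have := F₀.app_surjective (j ⁻¹ᵁ V) (hV.preimage j)
      change Function.Surjective (F₀.appLE (j ⁻¹ᵁ V) (F₀ ⁻¹ᵁ (j ⁻¹ᵁ V)) le_rfl).hom
      rwa [Scheme.Hom.appLE_eq_app]
    intro b
    obtain ⟨a, ha⟩ := h1 (res Y₀ (le_of_eq (hpre V).symm) b)
    refine ⟨a, ?_⟩
    apply res_injective_of_eq Y₀ (le_of_eq (hpre V).symm) (hpre V).symm
    rw [res_pb']
    exact ha
  · exact (Ideal.FG.isNilpotent_iff_le_nilradical (IsNoetherian.noetherian _)).2
      (ker_pb_le_nilradical j hj hV.isCompact)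

/-- base change of a surjective closed immersion is a surjective closed immersion -/
theorem thick_of_isPullback (hc : IsPullback F₀ i j F) [IsClosedImmersion j]
    (hj : Function.Surjective j) : IsClosedImmersion i ∧ Function.Surjective i := by
  haveI : Surjective j := ⟨hj⟩
  refine ⟨MorphismProperty.of_isPullback (P := @IsClosedImmersion) hc inferInstance, ?_⟩
  have : Surjective i := MorphismProperty.of_isPullback (P := @Surjective) hc inferInstance
  exact this.surj

/-- In a cartesian thickening square over a locally Noetherian base, affineness lifts. -/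
theorem isAffineHom_thick [IsClosedImmersion j] (hj : Function.Surjective j)
    [IsLocallyNoetherian X] (hc : IsPullback F₀ i j F) [IsAffineHom F₀] : IsAffineHom F := by
  obtain ⟨hi1, hi⟩ := thick_of_isPullback F F₀ i j hc hj
  have hpre : ∀ V : X.Opens, i ⁻¹ᵁ (F ⁻¹ᵁ V) = F₀ ⁻¹ᵁ (j ⁻¹ᵁ V) := fun V =>
    congrArg (fun φ : Y₀ ⟶ X => φ ⁻¹ᵁ V) hc.w.symm
  refine ⟨fun V hV => ?_⟩
  apply isAffineOpen_of_nilpotent i hi
  · rw [hpre V]
    exact (hV.preimage j).preimage F₀
  · intro O hO hOV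
    haveI : IsNoetherianRing Γ(X, V) := IsLocallyNoetherian.component_noetherian ⟨V, hV⟩
    have hker := ker_pb_eq_map_of_isPullback F F₀ i j hc hV hO hOV
    change IsNilpotent (RingHom.ker (pb' i (le_refl (i ⁻¹ᵁ O))))
    rw [hker]
    apply isNilpotent_map_of_isNilpotent
    exact (Ideal.FG.isNilpotent_iff_le_nilradical (IsNoetherian.noetherian _)).2
      (ker_pb_le_nilradical j hj hV.isCompact)

/-- In a cartesian thickening square over a locally Noetherian base, finiteness lifts. -/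
theorem isFinite_thick' [IsClosedImmersion j] (hj : Function.Surjective j)
    [IsLocallyNoetherian X] (hc : IsPullback F₀ i j F) [IsFinite F₀] : IsFinite F := by
  obtain ⟨hi1, hi⟩ := thick_of_isPullback F F₀ i j hc hj
  haveI := isAffineHom_thick F F₀ i j hj hc
  refine isFinite_thick F F₀ i j hi (fun U => ?_) hc
  haveI : IsNoetherianRing Γ(X, U.1) := IsLocallyNoetherian.component_noetherian U
  exact IsNoetherian.noetherian _

end Groth.Agent.Lib.Helper13.ThickClosedImm
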