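import Groth.Agent.Lib.Helper13.ThickIntegral

/-!
# Kernel of the base change of a closed immersion, and finiteness across nilpotent thickenings
-/

universe u

open CategoryTheory CategoryTheory.Limits AlgebraicGeometry TopologicalSpace Opposite

namespace Groth.Agent.Lib.Helper13.ThickFinite

open Groth.Agent.Lib.Helper13.ThickAffine

variable {X X₀ Y Y₀ : Scheme.{u}} (F : Y ⟶ X) (F₀ : Y₀ ⟶ X₀) (i : Y₀ ⟶ Y) (j : X₀ ⟶ X)

/-- In a cartesian square with `j` a closed immersion, the kernel of `i♯` over an affine open `O`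
lying over an affine open `V` is the extension of the kernel of `j♯` over `V`. -/
theorem ker_pb_eq_map_of_isPullback [IsClosedImmersion j] (hc : IsPullback F₀ i j F)
    {V : X.Opens} (hV : IsAffineOpen V) {O : Y.Opens} (hO : IsAffineOpen O) (hOV : O ≤ F ⁻¹ᵁ V) :
    RingHom.ker (pb' i (le_refl (i ⁻¹ᵁ O))) =
      Ideal.map (pb' F hOV) (RingHom.ker (pb' j (le_refl (j ⁻¹ᵁ V)))) := by
  have hpre : i ⁻¹ᵁ (F ⁻¹ᵁ V) = F₀ ⁻¹ᵁ (j ⁻¹ᵁ V) :=
    congrArg (fun φ : Y₀ ⟶ X => φ ⁻¹ᵁ V) hc.w.symm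
  apply le_antisymm
  · -- universal property
    intro s hs
    set 𝔨 : Ideal Γ(Y, O) := Ideal.map (pb' F hOV) (RingHom.ker (pb' j (le_refl (j ⁻¹ᵁ V))))
      with h𝔨
    have hV₀ : IsAffineOpen (j ⁻¹ᵁ V) := hV.preimage j
    have hjsurj : Function.Surjective (pb' j (le_refl (j ⁻¹ᵁ V))) := pb_surjective j hV rfl
    -- the ring map `Γ(X₀, j⁻¹V) → Γ(Y, O)/𝔨`
    let g₀ : Γ(X, V) →+* Γ(Y, O) ⧸ 𝔨 := (Ideal.Quotient.mk 𝔨).comp (pb' F hOV)
    have hg₀ : RingHom.ker (pb' j (le_refl (j ⁻¹ᵁ V))) ≤ RingHom.ker g₀ := by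
      intro a ha
      rw [RingHom.mem_ker, RingHom.comp_apply, Ideal.Quotient.eq_zero_iff_mem]
      exact Ideal.mem_map_of_mem _ ha
    let ψ₀ : Γ(X₀, j ⁻¹ᵁ V) →+* Γ(Y, O) ⧸ 𝔨 :=
      (pb' j (le_refl (j ⁻¹ᵁ V))).liftOfSurjective hjsurj ⟨g₀, hg₀⟩
    have hψ₀ : ψ₀.comp (pb' j (le_refl (j ⁻¹ᵁ V))) = g₀ :=
      RingHom.liftOfSurjective_comp _ hjsurj ⟨g₀, hg₀⟩
    let a : Spec (.of (Γ(Y, O) ⧸ 𝔨)) ⟶ Y := quotHom hO 𝔨
    let b : Spec (.of (Γ(Y, O) ⧸ 𝔨)) ⟶ X₀ := Spec.map (CommRingCat.ofHom ψ₀) ≫ hV₀.fromSpec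
    have hab : b ≫ j = a ≫ F := by
      have h1 : hO.fromSpec ≫ F = Spec.map (F.appLE V O hOV) ≫ hV.fromSpec :=
        (hV.SpecMap_appLE_fromSpec F hO hOV).symm
      have h2 : hV₀.fromSpec ≫ j = Spec.map (j.appLE V (j ⁻¹ᵁ V) le_rfl) ≫ hV.fromSpec :=
        (hV.SpecMap_appLE_fromSpec j hV₀ le_rfl).symm
      change (Spec.map (CommRingCat.ofHom ψ₀) ≫ hV₀.fromSpec) ≫ j =
        (Spec.map (quotMap 𝔨) ≫ hO.fromSpec) ≫ F
      rw [Category.assoc, Category.assoc, h1, h2, ← Category.assoc, ← Category.assoc,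
        ← Spec.map_comp, ← Spec.map_comp]
      congr 2
      ext x
      exact congrArg (fun φ : Γ(X, V) →+* Γ(Y, O) ⧸ 𝔨 => φ x) hψ₀
    have hh : hc.lift b a hab ≫ i = a := hc.lift_snd b a hab
    have h3 : pb' a (le_refl (a ⁻¹ᵁ O)) s = 0 := by
      have h4 := pb'_congr hh.symm (le_refl (a ⁻¹ᵁ O)) s
      rw [h4, ← pb'_comp (hc.lift b a hab) i (le_refl (i ⁻¹ᵁ O))
        (le_of_eq (congrArg (fun φ : Spec (.of (Γ(Y, O) ⧸ 𝔨)) ⟶ Y => φ ⁻¹ᵁ O) hh.symm))]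
      rw [hs, map_zero]
    exact (pb'_quotHom_eq_zero_iff hO 𝔨 s).1 h3
  · rw [Ideal.map_le_iff_le_comap]
    intro a ha
    rw [Ideal.mem_comap, RingHom.mem_ker, pb'_comp]
    have h1 := pb'_congr hc.w.symm
      ((le_refl (i ⁻¹ᵁ O)).trans (i.preimage_mono hOV)) a
    rw [h1, ← pb'_comp F₀ j (le_refl (j ⁻¹ᵁ V)) ((i.preimage_mono hOV).trans (le_of_eq hpre))]
    rw [RingHom.mem_ker.1 ha, map_zero]


/-- Commutative square `π ∘ φ = φ₀ ∘ ρ` with `ρ`, `π` surjective, `φ₀` finite and `ker π` a finitely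
generated nil ideal: then `φ` is finite. -/
theorem finite_of_square {A A₀ B B₀ : Type*} [CommRing A] [CommRing A₀] [CommRing B] [CommRing B₀]
    (φ : A →+* B) (π : B →+* B₀) (ρ : A →+* A₀) (φ₀ : A₀ →+* B₀)
    (hsq : π.comp φ = φ₀.comp ρ) (hρ : Function.Surjective ρ) (hπ : Function.Surjective π)
    (hφ₀ : φ₀.Finite) (hnil : RingHom.ker π ≤ nilradical B) (hfg : (RingHom.ker π).FG) :
    φ.Finite := by
  letI := φ.toAlgebra
  letI : Algebra A B₀ := (π.comp φ).toAlgebra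
  have h1 : (π.comp φ).Finite := by
    rw [hsq]
    exact hφ₀.comp (RingHom.Finite.of_surjective ρ hρ)
  have h2 : Module.Finite A B₀ := h1
  let f : B →ₐ[A] B₀ := { π with commutes' := fun a => rfl }
  have hf₁ : Function.Surjective f := hπ
  have hf₂ : RingHom.ker f ≤ nilradical B := hnil
  have hf₃ : (RingHom.ker f).FG := hfg
  exact Module.finite_of_surjective_of_ker_le_nilradical f hf₁ hf₂ hf₃

open Groth.Agent.Lib.Helper13.ThickIntegral in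
/-- Finiteness across a cartesian thickening square whose target ideal is of finite type. -/
theorem isFinite_thick [IsClosedImmersion i] [IsClosedImmersion j]
    (hi : Function.Surjective i) (hfg : ∀ U : X.affineOpens, (j.ker.ideal U).FG)
    (hc : IsPullback F₀ i j F) [IsFinite F₀] [IsAffineHom F] : IsFinite F := by
  refine { finite_app := fun V hV => ?_ }
  have hO : IsAffineOpen (F ⁻¹ᵁ V) := IsAffineHom.isAffine_preimage V hV
  have hpre : i ⁻¹ᵁ (F ⁻¹ᵁ V) = F₀ ⁻¹ᵁ (j ⁻¹ᵁ V) :=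
    congrArg (fun φ : Y₀ ⟶ X => φ ⁻¹ᵁ V) hc.w.symm
  have hker := ker_pb_eq_map_of_isPullback F F₀ i j hc hV hO (le_refl _)
  have hgoal : (F.app V).hom = pb' F (le_refl (F ⁻¹ᵁ V)) := by
    change _ = (F.appLE V (F ⁻¹ᵁ V) le_rfl).hom
    rw [Scheme.Hom.appLE_eq_app]
  rw [hgoal]
  refine finite_of_square (pb' F (le_refl (F ⁻¹ᵁ V))) (pb' i (le_of_eq hpre.symm))
    (pb' j (le_refl (j ⁻¹ᵁ V))) (pb' F₀ (le_refl (F₀ ⁻¹ᵁ (j ⁻¹ᵁ V)))) ?_
    (pb_surjective j hV rfl) (pb_surjective i hO hpre) ?_ ?_ ?_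
  · ext a
    exact square_sections i j F₀ F hc.w.symm V _ rfl hpre a
  · have h1 := IsFinite.finite_app F₀ _ (hV.preimage j)
    have h2 : (F₀.app (j ⁻¹ᵁ V)).hom = pb' F₀ (le_refl (F₀ ⁻¹ᵁ (j ⁻¹ᵁ V))) := by
      change _ = (F₀.appLE (j ⁻¹ᵁ V) (F₀ ⁻¹ᵁ (j ⁻¹ᵁ V)) le_rfl).hom
      rw [Scheme.Hom.appLE_eq_app]
    rwa [h2] at h1
  · intro s hs
    apply isNilpotent_of_pb_eq_zero i hi hO.isCompact
    apply res_injective_of_eq Y₀ (le_of_eq hpre.symm) hpre.symm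
    rw [res_pb', map_zero]
    exact hs
  · have hk : RingHom.ker (pb' i (le_of_eq hpre.symm)) =
        RingHom.ker (pb' i (le_refl (i ⁻¹ᵁ (F ⁻¹ᵁ V)))) := by
      ext s
      rw [RingHom.mem_ker, RingHom.mem_ker, ← res_pb' i (le_refl (i ⁻¹ᵁ (F ⁻¹ᵁ V)))
        (le_of_eq hpre.symm)]
      constructor
      · intro h
        apply res_injective_of_eq Y₀ (le_of_eq hpre.symm) hpre.symm
        rw [h, map_zero]
      · intro h
        rw [h, map_zero]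
    rw [hk, hker]
    apply Ideal.FG.map
    have h3 := hfg ⟨V, hV⟩
    rw [Scheme.Hom.ker_apply] at h3
    have h4 : (j.app V).hom = pb' j (le_refl (j ⁻¹ᵁ V)) := by
      change _ = (j.appLE V (j ⁻¹ᵁ V) le_rfl).hom
      rw [Scheme.Hom.appLE_eq_app]
    rwa [h4] at h3

end Groth.Agent.Lib.Helper13.ThickFinite
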