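import Groth.Agent.Lib.Helper13.ThickAffineC

/-!
# Integrality across thickenings (algebra lemmas + scheme statement)
-/

universe u

open CategoryTheory AlgebraicGeometry TopologicalSpace Opposite Polynomial

namespace Groth.Agent.Lib.Helper13.ThickIntegral

open Groth.Agent.Lib.Helper13.ThickAffine

/-- Commutative square `π ∘ φ' = φ ∘ ρ` with `ρ` surjective, `φ` integral and `ker π` nil:
then `φ'` is integral. -/
theorem isIntegral_of_square_of_nil {A' A B' B : Type*} [CommRing A'] [CommRing A] [CommRing B']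
    [CommRing B] (φ' : A' →+* B') (π : B' →+* B) (ρ : A' →+* A) (φ : A →+* B)
    (hsq : ∀ a, π (φ' a) = φ (ρ a)) (hρ : Function.Surjective ρ) (hφ : φ.IsIntegral)
    (hπ : ∀ b', π b' = 0 → IsNilpotent b') : φ'.IsIntegral := by
  intro b'
  obtain ⟨p, hp, hp0⟩ := hφ (π b')
  obtain ⟨p', hp'map, -, hp'monic⟩ := lifts_and_natDegree_eq_and_monic
    (f := ρ) (p := p) (by
      rw [lifts_iff_coeff_lifts]
      intro n
      exact hρ (p.coeff n)) hp
  have h1 : π (eval₂ φ' b' p') = 0 := by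
    rw [hom_eval₂]
    have : π.comp φ' = φ.comp ρ := RingHom.ext hsq
    rw [this, ← eval₂_map, hp'map, hp0]
  obtain ⟨N, hN⟩ := hπ _ h1
  refine ⟨p' ^ N, hp'monic.pow N, ?_⟩
  rw [eval₂_pow, hN]

/-- Commutative square `π ∘ φ' = φ ∘ ρ` with `π` surjective and `φ'` integral: then `φ` is
integral. -/
theorem isIntegral_of_square_of_surjective {A' A B' B : Type*} [CommRing A'] [CommRing A]
    [CommRing B'] [CommRing B] (φ' : A' →+* B') (π : B' →+* B) (ρ : A' →+* A) (φ : A →+* B)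
    (hsq : ∀ a, π (φ' a) = φ (ρ a)) (hπ : Function.Surjective π) (hφ' : φ'.IsIntegral) :
    φ.IsIntegral := by
  intro b
  obtain ⟨b', rfl⟩ := hπ b
  obtain ⟨p', hp', hp'0⟩ := hφ' b'
  refine ⟨p'.map ρ, hp'.map ρ, ?_⟩
  rw [eval₂_map]
  have : φ.comp ρ = π.comp φ' := (RingHom.ext hsq).symm
  rw [this, ← hom_eval₂, hp'0, map_zero]


section scheme

variable {X X' S S' : Scheme.{u}} (iX : X ⟶ X') (iS : S ⟶ S') (f : X ⟶ S) (f' : X' ⟶ S')

theorem preimage_eq (w : iX ≫ f' = f ≫ iS) (V' : S'.Opens) :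
    iX ⁻¹ᵁ (f' ⁻¹ᵁ V') = f ⁻¹ᵁ (iS ⁻¹ᵁ V') :=
  congrArg (fun φ : X ⟶ S' => φ ⁻¹ᵁ V') w

theorem square_sections (w : iX ≫ f' = f ≫ iS) (V' : S'.Opens) (V : S.Opens)
    (hV : iS ⁻¹ᵁ V' = V) (hO : iX ⁻¹ᵁ (f' ⁻¹ᵁ V') = f ⁻¹ᵁ V) (a : Γ(S', V')) :
    pb' iX (le_of_eq hO.symm) (pb' f' (le_refl (f' ⁻¹ᵁ V')) a) =
      pb' f (le_refl (f ⁻¹ᵁ V)) (pb' iS (le_of_eq hV.symm) a) := by
  subst hV
  rw [pb'_comp, pb'_comp]
  exact pb'_congr w _ _

theorem isIntegral_app_iff_pb' (g : X ⟶ S) (V : S.Opens) :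
    (g.app V).hom.IsIntegral ↔ (pb' g (le_refl (g ⁻¹ᵁ V))).IsIntegral := by
  change _ ↔ (g.appLE V (g ⁻¹ᵁ V) le_rfl).hom.IsIntegral
  rw [Scheme.Hom.appLE_eq_app]

/-- Integrality across thickenings: the thick morphism is integral if the thin one is. -/
theorem isIntegralHom_thick [IsClosedImmersion iX] [IsClosedImmersion iS]
    (hXs : Function.Surjective iX) (w : iX ≫ f' = f ≫ iS) [IsIntegralHom f] [IsAffineHom f'] :
    IsIntegralHom f' := by
  refine { isIntegral_app := fun V' hV' => ?_ }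
  rw [isIntegral_app_iff_pb']
  have hO : iX ⁻¹ᵁ (f' ⁻¹ᵁ V') = f ⁻¹ᵁ (iS ⁻¹ᵁ V') := preimage_eq iX iS f f' w V'
  refine isIntegral_of_square_of_nil (pb' f' (le_refl (f' ⁻¹ᵁ V'))) (pb' iX (le_of_eq hO.symm))
    (pb' iS (le_refl (iS ⁻¹ᵁ V'))) (pb' f (le_refl (f ⁻¹ᵁ (iS ⁻¹ᵁ V'))))
    (square_sections iX iS f f' w V' _ rfl hO) (pb_surjective iS hV' rfl) ?_ ?_
  · rw [← isIntegral_app_iff_pb']
    exact IsIntegralHom.isIntegral_app f _ (hV'.preimage iS)
  · intro b' hb'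
    have hc : IsCompact ((f' ⁻¹ᵁ V' : X'.Opens) : Set X') :=
      (IsAffineHom.isAffine_preimage V' hV').isCompact
    apply isNilpotent_of_pb_eq_zero iX hXs hc
    apply res_injective_of_eq X (le_of_eq hO.symm) hO.symm
    rw [res_pb', map_zero]
    exact hb'

/-- Integrality across thickenings: the thin morphism is integral if the thick one is. -/
theorem isIntegralHom_thin [IsClosedImmersion iX] [IsClosedImmersion iS]
    (hSs : Function.Surjective iS) (w : iX ≫ f' = f ≫ iS) [IsIntegralHom f'] [IsAffineHom f] :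
    IsIntegralHom f := by
  refine { isIntegral_app := fun V hV => ?_ }
  rw [isIntegral_app_iff_pb']
  have hV' : IsAffineOpen (thickOpen iS hSs V) := by
    apply isAffineOpen_of_isAffineOpen_preimage iS hSs
    rw [preimage_thickOpen]
    exact hV
  have hVe : iS ⁻¹ᵁ thickOpen iS hSs V = V := preimage_thickOpen iS hSs V
  have hO : iX ⁻¹ᵁ (f' ⁻¹ᵁ thickOpen iS hSs V) = f ⁻¹ᵁ V := by
    rw [preimage_eq iX iS f f' w, hVe]
  refine isIntegral_of_square_of_surjective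
    (pb' f' (le_refl (f' ⁻¹ᵁ thickOpen iS hSs V))) (pb' iX (le_of_eq hO.symm))
    (pb' iS (le_of_eq hVe.symm)) (pb' f (le_refl (f ⁻¹ᵁ V)))
    (square_sections iX iS f f' w _ V hVe hO)
    (pb_surjective iX (IsAffineHom.isAffine_preimage _ hV') hO) ?_
  rw [← isIntegral_app_iff_pb']
  exact IsIntegralHom.isIntegral_app f' _ hV'

end scheme

end Groth.Agent.Lib.Helper13.ThickIntegral
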