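import Groth.Agent.Lib.Helper13.ThickClosedImm
import Groth.Agent.S13997

/-!
# Properness across cartesian thickening squares (helper13)
-/

universe u

open CategoryTheory CategoryTheory.Limits AlgebraicGeometry TopologicalSpace Opposite

namespace Groth.Agent.Lib.Helper13.ThickProper

open Groth.Agent.Lib.Helper13.ThickAffine Groth.Agent.Lib.Helper13.ThickFinite
  Groth.Agent.Lib.Helper13.ThickIntegral Groth.Agent.Lib.Helper13.ThickClosedImm

/-- A quasi-compact morphism from a reduced scheme factors through any surjective closed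
immersion. -/
theorem exists_lift_of_isReduced {Z Z₀ T : Scheme.{u}} (t : Z₀ ⟶ Z) [IsClosedImmersion t]
    (ht : Function.Surjective t) (g : T ⟶ Z) [QuasiCompact g] [IsReduced T] :
    ∃ g₀ : T ⟶ Z₀, g₀ ≫ t = g := by
  have H : t.ker ≤ g.ker := by
    intro U s hs
    rw [Scheme.Hom.ker_apply, RingHom.mem_ker] at hs ⊢
    have h1 : IsNilpotent s := by
      apply isNilpotent_of_pb_eq_zero t ht U.2.isCompact
      change (t.appLE U.1 (t ⁻¹ᵁ U.1) le_rfl).hom s = 0
      rw [Scheme.Hom.appLE_eq_app]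
      exact hs
    have h2 : IsNilpotent ((g.app U.1).hom s) := h1.map _
    exact h2.eq_zero
  exact ⟨IsClosedImmersion.lift t g H, IsClosedImmersion.lift_fac t g H⟩

variable {X X₀ Y Y₀ : Scheme.{u}} (F : Y ⟶ X) (F₀ : Y₀ ⟶ X₀) (i : Y₀ ⟶ Y) (j : X₀ ⟶ X)

/-- quasi-compactness lifts along a commutative square of homeomorphic thickenings -/
theorem quasiCompact_thick [IsClosedImmersion i] [IsClosedImmersion j]
    (hi : Function.Surjective i) (w : F₀ ≫ j = i ≫ F) [QuasiCompact F₀] : QuasiCompact F := by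
  refine ⟨fun V hVo hVc => ?_⟩
  have h1 : IsCompact (j ⁻¹' V) := j.isClosedEmbedding.isCompact_preimage hVc
  have h2 : IsCompact (F₀ ⁻¹' (j ⁻¹' V)) :=
    QuasiCompact.isCompact_preimage (f := F₀) _ (hVo.preimage j.continuous) h1
  have h3 : F ⁻¹' V = i '' (F₀ ⁻¹' (j ⁻¹' V)) := by
    ext y
    constructor
    · intro hy
      obtain ⟨y₀, rfl⟩ := hi y
      refine ⟨y₀, ?_, rfl⟩
      change j (F₀ y₀) ∈ V
      have := congr($(w) y₀)
      simp only [Scheme.Hom.comp_apply] at this
      rw [this]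
      exact hy
    · rintro ⟨y₀, hy₀, rfl⟩
      change F (i y₀) ∈ V
      have := congr($(w) y₀)
      simp only [Scheme.Hom.comp_apply] at this
      rw [← this]
      exact hy₀
  rw [h3]
  exact h2.image i.continuous

/-- Properness lifts across cartesian squares of thickenings of locally Noetherian schemes. -/
theorem isProper_thick [IsClosedImmersion i] [IsClosedImmersion j]
    (hi : Function.Surjective i) (hj : Function.Surjective j)
    [IsLocallyNoetherian X] [IsLocallyNoetherian Y]
    (hc : IsPullback F₀ i j F) [IsProper F₀] : IsProper F := by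
  haveI : Surjective i := ⟨hi⟩
  haveI : Surjective j := ⟨hj⟩
  -- nilpotency of the kernels
  have hnil : ∀ {Z Z₀ : Scheme.{u}} (t : Z₀ ⟶ Z) [IsClosedImmersion t] (_ : Function.Surjective t)
      [IsLocallyNoetherian Z] (U : Z.affineOpens), IsNilpotent (t.ker.ideal U) := by
    intro Z Z₀ t _ ht _ U
    haveI : IsNoetherianRing Γ(Z, U.1) := IsLocallyNoetherian.component_noetherian U
    refine (Ideal.FG.isNilpotent_iff_le_nilradical (IsNoetherian.noetherian _)).2 ?_
    intro s hs
    rw [Scheme.Hom.ker_apply, RingHom.mem_ker] at hs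
    apply isNilpotent_of_pb_eq_zero t ht U.2.isCompact
    change (t.appLE U.1 (t ⁻¹ᵁ U.1) le_rfl).hom s = 0
    rw [Scheme.Hom.appLE_eq_app]
    exact hs
  haveI : LocallyOfFiniteType F := by
    refine (Groth.Agent.S13997.result F F₀ i j ⟨inferInstance, inferInstance⟩
      ⟨inferInstance, inferInstance⟩ (hnil i hi) (hnil j hj) (fun U => ?_) hc.w).2 inferInstance
    haveI : IsNoetherianRing Γ(Y, U.1) := IsLocallyNoetherian.component_noetherian U
    exact IsNoetherian.noetherian _
  haveI : QuasiCompact F := quasiCompact_thick F F₀ i j hi hc.w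
  haveI : QuasiSeparated F := inferInstance
  apply IsProper.of_valuativeCriterion
  intro S
  -- transport the valuative square to `F₀`
  obtain ⟨a₁, ha₁⟩ := exists_lift_of_isReduced i hi S.i₁
  obtain ⟨a₂, ha₂⟩ := exists_lift_of_isReduced j hj S.i₂
  have hsq₀ : a₁ ≫ F₀ = Spec.map (CommRingCat.ofHom (algebraMap S.R S.K)) ≫ a₂ := by
    rw [← cancel_mono j, Category.assoc, hc.w, reassoc_of% ha₁, Category.assoc, ha₂]
    exact S.commSq.w
  let S₀ : ValuativeCommSq F₀ :=
    { R := S.R, K := S.K, i₁ := a₁, i₂ := a₂, commSq := ⟨hsq₀⟩ }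
  have hV₀ : ValuativeCriterion F₀ := by
    have h : (ValuativeCriterion ⊓ @QuasiCompact ⊓ @QuasiSeparated ⊓ @LocallyOfFiniteType) F₀ := by
      rw [← IsProper.eq_valuativeCriterion]; infer_instance
    exact h.1.1.1
  obtain ⟨hU₀⟩ := hV₀ S₀
  let l₀ := hU₀.default
  refine ⟨{ default := ⟨l₀.l ≫ i, ?_, ?_⟩, uniq := ?_ }⟩
  · rw [reassoc_of% l₀.fac_left]
    exact ha₁
  · rw [Category.assoc, ← hc.w, reassoc_of% l₀.fac_right]
    exact ha₂
  · intro l
    obtain ⟨m, hm⟩ := exists_lift_of_isReduced i hi l.l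
    have hm1 : Spec.map (CommRingCat.ofHom (algebraMap S.R S.K)) ≫ m = a₁ := by
      rw [← cancel_mono i, Category.assoc, hm, ha₁]
      exact l.fac_left
    have hm2 : m ≫ F₀ = a₂ := by
      rw [← cancel_mono j, Category.assoc, hc.w, reassoc_of% hm, ha₂]
      exact l.fac_right
    let lm : S₀.commSq.LiftStruct := ⟨m, hm1, hm2⟩
    have : lm = l₀ := hU₀.uniq lm
    have hml : m = l₀.l := congrArg CommSq.LiftStruct.l this
    ext1
    change l.l = l₀.l ≫ i
    rw [← hm, hml]

end Groth.Agent.Lib.Helper13.ThickProper
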