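import Groth.Prelude.Def_SGA4c
import Mathlib.CategoryTheory.Sites.LocallySurjective
import Mathlib.CategoryTheory.Sites.Subsheaf
import Mathlib.CategoryTheory.Sites.EpiMono

/-!
# Jointly epimorphic families in a topos of sheaves of sets: the sectionwise criterion
-/

universe w u

open CategoryTheory CategoryTheory.Limits Opposite

namespace Groth.Agent.Lib.Helper13.ToposQC

variable {C : Type u} [SmallCategory C] {J : GrothendieckTopology C}

/-- the sieve of arrows along which a section lifts to a member of the family -/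
def liftSieve {X : Sheaf J (Type u)} {ι : Type w} {F : ι → Sheaf J (Type u)}
    (π : ∀ i, F i ⟶ X) {U : C} (s : X.obj.obj (op U)) : Sieve U where
  arrows V f := ∃ (i : ι) (a : (F i).obj.obj (op V)), (π i).hom.app (op V) a = X.obj.map f.op s
  downward_closed := by
    rintro V W f ⟨i, a, ha⟩ g
    refine ⟨i, (F i).obj.map g.op a, ?_⟩
    rw [op_comp, X.obj.map_comp, ConcreteCategory.comp_apply, ← ha,
      NatTrans.naturality_apply (π i).hom]

/-- the family is jointly locally surjective -/
def JLS {X : Sheaf J (Type u)} {ι : Type w} {F : ι → Sheaf J (Type u)}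
    (π : ∀ i, F i ⟶ X) : Prop :=
  ∀ (U : C) (s : X.obj.obj (op U)), liftSieve π s ∈ J U

/-- the union of the images of the members of the family -/
def unionRange {X : Sheaf J (Type u)} {ι : Type w} {F : ι → Sheaf J (Type u)}
    (π : ∀ i, F i ⟶ X) : Subfunctor X.obj where
  obj U := {s | ∃ (i : ι) (a : (F i).obj.obj U), (π i).hom.app U a = s}
  map := by
    rintro U V f s ⟨i, a, rfl⟩
    exact ⟨i, (F i).obj.map f a, NatTrans.naturality_apply (π i).hom f a⟩

theorem jls_of_epi {X : Sheaf J (Type u)} {ι : Type w} {F : ι → Sheaf J (Type u)}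
    [HasCoproduct F] (π : ∀ i, F i ⟶ X) (h : Epi (Sigma.desc π)) : JLS π := by
  let G := unionRange π
  have hX : Presieve.IsSheaf J X.obj := (isSheaf_iff_isSheaf_of_type _ _).1 X.property
  let X' : Sheaf J (Type u) := ⟨(G.sheafify J).toFunctor, by
    rw [isSheaf_iff_isSheaf_of_type]
    exact Subfunctor.sheafify_isSheaf G hX⟩
  let j : X' ⟶ X := ⟨Subfunctor.ι _⟩
  have hle : ∀ i, Subfunctor.range (π i).hom ≤ G.sheafify J := by
    intro i
    refine le_trans ?_ (G.le_sheafify J)
    rintro U s ⟨a, rfl⟩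
    exact ⟨i, a, rfl⟩
  let π' : ∀ i, F i ⟶ X' := fun i => ⟨Subfunctor.lift (π i).hom (hle i)⟩
  have hfac : Sigma.desc π' ≫ j = Sigma.desc π := by
    apply Sigma.hom_ext
    intro i
    rw [Sigma.ι_desc_assoc, Sigma.ι_desc]
    ext1
    exact Subfunctor.lift_ι (π i).hom (hle i)
  haveI : Epi (Sigma.desc π' ≫ j) := by rw [hfac]; exact h
  haveI : Epi j := epi_of_epi (Sigma.desc π') j
  have hls : Sheaf.IsLocallySurjective j := (Sheaf.isLocallySurjective_iff_epi j).mpr inferInstance
  intro U s
  have h1 : Presheaf.imageSieve j.hom s ∈ J U := Presheaf.imageSieve_mem J j.hom s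
  have h2 : s ∈ ((G.sheafify J).sheafify J).obj (op U) := by
    change _ ∈ J U
    refine J.superset_covering ?_ h1
    rintro V f ⟨t, ht⟩
    change X.obj.map f.op s ∈ (G.sheafify J).obj (op V)
    rw [← ht]
    exact t.2
  rw [Subfunctor.sheafify_sheafify G hX] at h2
  exact h2

theorem epi_of_jls {X : Sheaf J (Type u)} {ι : Type w} {F : ι → Sheaf J (Type u)}
    [HasCoproduct F] (π : ∀ i, F i ⟶ X) (h : JLS π) : Epi (Sigma.desc π) := by
  haveI : Sheaf.IsLocallySurjective (Sigma.desc π) := by
    constructor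
    intro U s
    refine J.superset_covering ?_ (h U s)
    rintro V f ⟨i, a, ha⟩
    refine ⟨(Sigma.ι F i).hom.app (op V) a, ?_⟩
    rw [← ha]
    have := congrArg (fun φ => φ.hom.app (op V) a) (Sigma.ι_desc π i)
    exact this
  infer_instance

theorem epi_iff_jls {X : Sheaf J (Type u)} {ι : Type w} {F : ι → Sheaf J (Type u)}
    [HasCoproduct F] (π : ∀ i, F i ⟶ X) : Epi (Sigma.desc π) ↔ JLS π :=
  ⟨jls_of_epi π, epi_of_jls π⟩

end Groth.Agent.Lib.Helper13.ToposQC
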