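import Groth.Prelude.Def_SGA4c
import Mathlib.CategoryTheory.Limits.Types.Pullbacks
import Mathlib.CategoryTheory.Limits.Shapes.Pullback.IsPullback.Basic
import Mathlib.CategoryTheory.Limits.FunctorCategory.Basic
import Groth.Agent.Lib.Helper13.ToposQC

/-!
# Sections of fibre products of sheaves of sets; base change of jointly epimorphic families
-/

universe w u

open CategoryTheory CategoryTheory.Limits Opposite

namespace Groth.Agent.Lib.Helper13.ToposQC

variable {C : Type u} [SmallCategory C] {J : GrothendieckTopology C}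

/-- the functor of sections over `U` -/
noncomputable abbrev secFunctor (J : GrothendieckTopology C) (U : Cᵒᵖ) : Sheaf J (Type u) ⥤ Type u :=
  sheafToPresheaf J (Type u) ⋙ (evaluation Cᵒᵖ (Type u)).obj U

theorem isPullback_sections {P A B X : Sheaf J (Type u)} {fst : P ⟶ A} {snd : P ⟶ B}
    {f : A ⟶ X} {g : B ⟶ X} (h : IsPullback fst snd f g) (U : Cᵒᵖ) :
    IsPullback (fst.hom.app U) (snd.hom.app U) (f.hom.app U) (g.hom.app U) :=
  h.map (secFunctor J U)

theorem exists_section_of_isPullback {P A B X : Sheaf J (Type u)} {fst : P ⟶ A} {snd : P ⟶ B}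
    {f : A ⟶ X} {g : B ⟶ X} (h : IsPullback fst snd f g) (U : Cᵒᵖ)
    (a : A.obj.obj U) (b : B.obj.obj U) (hab : f.hom.app U a = g.hom.app U b) :
    ∃ p : P.obj.obj U, fst.hom.app U p = a ∧ snd.hom.app U p = b :=
  Types.exists_of_isPullback (isPullback_sections h U) a b hab

theorem ext_section_of_isPullback {P A B X : Sheaf J (Type u)} {fst : P ⟶ A} {snd : P ⟶ B}
    {f : A ⟶ X} {g : B ⟶ X} (h : IsPullback fst snd f g) (U : Cᵒᵖ)
    (p q : P.obj.obj U) (h1 : fst.hom.app U p = fst.hom.app U q)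
    (h2 : snd.hom.app U p = snd.hom.app U q) : p = q :=
  Types.ext_of_isPullback (isPullback_sections h U) h1 h2

/-- base change of a jointly locally surjective family -/
theorem jls_of_isPullback {X Y : Sheaf J (Type u)} {ι : Type w} {F : ι → Sheaf J (Type u)}
    (π : ∀ i, F i ⟶ X) (hπ : JLS π) (g : Y ⟶ X) {F' : ι → Sheaf J (Type u)}
    (π' : ∀ i, F' i ⟶ Y) (q : ∀ i, F' i ⟶ F i)
    (hpb : ∀ i, IsPullback (q i) (π' i) (π i) g) : JLS π' := by
  intro U t
  refine J.superset_covering ?_ (hπ U (g.hom.app (op U) t))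
  rintro V f ⟨i, a, ha⟩
  have hab : (π i).hom.app (op V) a = g.hom.app (op V) (Y.obj.map f.op t) := by
    rw [ha]
    exact (NatTrans.naturality_apply g.hom f.op t).symm
  obtain ⟨p, -, hp⟩ := exists_section_of_isPullback (hpb i) (op V) a _ hab
  exact ⟨i, p, hp⟩

end Groth.Agent.Lib.Helper13.ToposQC
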