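import Groth.Prelude.Def_SGA4c
import Groth.Agent.Lib.Helper13.ToposQC2

/-!
# Quasi-compact objects of a topos of sheaves of sets: basic permanence properties
-/

universe w w' u

open CategoryTheory CategoryTheory.Limits Opposite

namespace Groth.Agent.Lib.Helper13.ToposQC

variable {C : Type u} [SmallCategory C] {J : GrothendieckTopology C}

theorem liftSieve_pullback {X : Sheaf J (Type u)} {ι : Type w} {F : ι → Sheaf J (Type u)}
    (π : ∀ i, F i ⟶ X) {U V : C} (s : X.obj.obj (op U)) (f : V ⟶ U) :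
    (liftSieve π s).pullback f = liftSieve π (X.obj.map f.op s) := by
  ext W g
  change (∃ (i : ι) (a : (F i).obj.obj (op W)), (π i).hom.app (op W) a = X.obj.map (g ≫ f).op s) ↔
    ∃ (i : ι) (a : (F i).obj.obj (op W)), (π i).hom.app (op W) a =
      X.obj.map g.op (X.obj.map f.op s)
  rw [op_comp, X.obj.map_comp, ConcreteCategory.comp_apply]

/-- transitivity of joint local surjectivity -/
theorem jls_trans {X : Sheaf J (Type u)} {κ : Type w} {F : κ → Sheaf J (Type u)}
    (π : ∀ k, F k ⟶ X) (hπ : JLS π) {μ : Type w'} {G : μ → Sheaf J (Type u)}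
    (ρ : ∀ m, G m ⟶ X)
    (H : ∀ (k : κ) (V : C) (a : (F k).obj.obj (op V)),
      liftSieve ρ ((π k).hom.app (op V) a) ∈ J V) : JLS ρ := by
  intro U x
  apply J.transitive (hπ U x)
  rintro V f ⟨k, a, ha⟩
  rw [liftSieve_pullback, ← ha]
  exact H k V a

theorem isQC_iff (X : ToposFin.Sh J) :
    ToposFin.IsQC X ↔ ∀ (ι : Type u) (F : ι → ToposFin.Sh J) (π : ∀ i, F i ⟶ X), JLS π →
      ∃ s : Finset ι, JLS (fun i : s => π i) := by
  constructor
  · intro h ι F π hπ
    obtain ⟨s, hs⟩ := h ι F π (epi_of_jls π hπ)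
    exact ⟨s, jls_of_epi _ hs⟩
  · intro h ι F π hπ
    obtain ⟨s, hs⟩ := h ι F π (jls_of_epi π hπ)
    exact ⟨s, epi_of_jls _ hs⟩

/-- a finite jointly locally surjective family with quasi-compact sources has a quasi-compact
target (any finite index type) -/
theorem isQC_of_finite_jls {X : ToposFin.Sh J} {κ : Type w} [Finite κ] (F : κ → ToposFin.Sh J)
    (π : ∀ k, F k ⟶ X) (hπ : JLS π) (hF : ∀ k, ToposFin.IsQC (F k)) : ToposFin.IsQC X := by
  classical
  haveI := Fintype.ofFinite κ
  rw [isQC_iff]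
  intro ι G ρ hρ
  -- pull the family back to each `F k`
  have hk : ∀ k : κ, ∃ s : Finset ι,
      JLS (fun j : s => pullback.snd (ρ j) (π k)) := by
    intro k
    have h1 : JLS (fun j : ι => pullback.snd (ρ j) (π k)) :=
      jls_of_isPullback ρ hρ (π k) _ (fun j => pullback.fst (ρ j) (π k))
        (fun j => IsPullback.of_hasPullback (ρ j) (π k))
    exact (isQC_iff (F k)).mp (hF k) ι _ _ h1
  choose s hs using hk
  refine ⟨Finset.univ.biUnion s, ?_⟩
  apply jls_trans π hπ
  intro k V a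
  refine J.superset_covering ?_ (hs k V a)
  rintro W g ⟨⟨j, hj⟩, p, hp⟩
  have hj' : j ∈ Finset.univ.biUnion s := Finset.mem_biUnion.mpr ⟨k, Finset.mem_univ k, hj⟩
  refine ⟨⟨j, hj'⟩, (pullback.fst (ρ j) (π k)).hom.app (op W) p, ?_⟩
  have h1 : (pullback.fst (ρ j) (π k) ≫ ρ j).hom.app (op W) p =
      (pullback.snd (ρ j) (π k) ≫ π k).hom.app (op W) p := by rw [pullback.condition]
  change (ρ j).hom.app (op W) ((pullback.fst (ρ j) (π k)).hom.app (op W) p) =
    (π k).hom.app (op W) ((pullback.snd (ρ j) (π k)).hom.app (op W) p) at h1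
  change (ρ j).hom.app (op W) _ = _
  rw [h1, hp]
  exact NatTrans.naturality_apply (π k).hom g.op a

end Groth.Agent.Lib.Helper13.ToposQC
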