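import Groth.Prelude.Def_SGA4c
import Mathlib.CategoryTheory.Limits.Shapes.Pullback.IsPullback.Basic
import Groth.Agent.Lib.Helper13.ToposQC3

/-!
# Quasi-compact morphisms and quasi-separated objects of a topos: pullback-square forms
-/

universe w w' u

open CategoryTheory CategoryTheory.Limits Opposite

namespace Groth.Agent.Lib.Helper13.ToposQC

open ToposFin

variable {C : Type u} [SmallCategory C] {J : GrothendieckTopology C}

/-- quasi-compactness is invariant under isomorphism -/
theorem isQC_of_iso {X X' : Sh J} (e : X ≅ X') (h : IsQC X) : IsQC X' := by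
  intro ι F π hπ
  have h1 : Sigma.desc (fun i => π i ≫ e.inv) = Sigma.desc π ≫ e.inv := by
    apply Sigma.hom_ext; intro i; simp
  have h2 : Epi (Sigma.desc (fun i => π i ≫ e.inv)) := by
    rw [h1]; infer_instance
  obtain ⟨s, hs⟩ := h ι F (fun i => π i ≫ e.inv) h2
  refine ⟨s, ?_⟩
  have h3 : Sigma.desc (fun i : s => π i) =
      Sigma.desc (fun i : s => π i ≫ e.inv) ≫ e.hom := by
    apply Sigma.hom_ext; intro i; simp
  rw [h3]
  infer_instance

/-- a single epimorphism is a jointly locally surjective family -/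
theorem jls_single {X Y : Sh J} (f : X ⟶ Y) [Epi f] : JLS (fun _ : Unit => f) := by
  haveI : Sheaf.IsLocallySurjective f := (Sheaf.isLocallySurjective_iff_epi f).mpr inferInstance
  intro U s
  refine J.superset_covering ?_ (Presheaf.imageSieve_mem J f.hom s)
  rintro V g ⟨t, ht⟩
  exact ⟨(), t, ht⟩

/-- the image of a quasi-compact object is quasi-compact -/
theorem isQC_of_epi {X Y : Sh J} (f : X ⟶ Y) [Epi f] (hX : IsQC X) : IsQC Y :=
  isQC_of_finite_jls (fun _ : Unit => X) (fun _ => f) (jls_single f) (fun _ => hX)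

theorem isQCHom_iff {X Y : Sh J} (f : X ⟶ Y) :
    IsQCHom f ↔ ∀ {P Y' : Sh J} (fst : P ⟶ X) (snd : P ⟶ Y') (g : Y' ⟶ Y),
      IsPullback fst snd f g → IsQC Y' → IsQC P := by
  constructor
  · intro h P Y' fst snd g hpb hY'
    exact isQC_of_iso hpb.isoPullback.symm (h Y' g hY')
  · intro h Y' g hY'
    exact h _ _ g (IsPullback.of_hasPullback f g) hY'

theorem isQS_iff (X : Sh J) :
    IsQS X ↔ ∀ {P Y Z : Sh J} (fst : P ⟶ Y) (snd : P ⟶ Z) (a : Y ⟶ X) (b : Z ⟶ X),
      IsPullback fst snd a b → IsQC Y → IsQC Z → IsQC P := by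
  constructor
  · intro h P Y Z fst snd a b hpb hY hZ
    exact isQC_of_iso hpb.isoPullback.symm (h Y Z a b hY hZ)
  · intro h Y Z a b hY hZ
    exact h _ _ a b (IsPullback.of_hasPullback a b) hY hZ

/-- quasi-compact morphisms are stable under base change -/
theorem isQCHom_of_isPullback {X Y X' Y' : Sh J} {f : X ⟶ Y} {g : Y' ⟶ Y} {g' : X' ⟶ X}
    {f' : X' ⟶ Y'} (hpb : IsPullback g' f' f g) (hf : IsQCHom f) : IsQCHom f' := by
  rw [isQCHom_iff] at hf ⊢
  intro P Y'' fst snd h hpb' hY''
  exact hf (fst ≫ g') snd (h ≫ g) (hpb'.paste_horiz hpb) hY''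

theorem isQCHom_snd {X Y Y' : Sh J} (f : X ⟶ Y) (g : Y' ⟶ Y) (hf : IsQCHom f) :
    IsQCHom (pullback.snd f g) :=
  isQCHom_of_isPullback (IsPullback.of_hasPullback f g) hf

theorem isQCHom_fst {X Y Y' : Sh J} (f : X ⟶ Y) (g : Y' ⟶ Y) (hg : IsQCHom g) :
    IsQCHom (pullback.fst f g) :=
  isQCHom_of_isPullback (IsPullback.of_hasPullback f g).flip hg

/-- quasi-compact morphisms are stable under composition -/
theorem isQCHom_comp {X Y Z : Sh J} (f : X ⟶ Y) (g : Y ⟶ Z) (hf : IsQCHom f) (hg : IsQCHom g) :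
    IsQCHom (f ≫ g) := by
  rw [isQCHom_iff]
  intro P Z' fst snd h hpb hZ'
  -- factor the square through `pullback g h`
  let Q := pullback g h
  have hQ : IsQC Q := hg Z' h hZ'
  let l : P ⟶ Q := pullback.lift (fst ≫ f) snd (by rw [Category.assoc]; exact hpb.w)
  have hl : IsPullback fst l f (pullback.fst g h) := by
    have hbig : IsPullback fst (l ≫ pullback.snd g h) (f ≫ g) h := by
      have : l ≫ pullback.snd g h = snd := pullback.lift_snd _ _ _
      rw [this]
      exact hpb
    have hright := (IsPullback.of_hasPullback g h)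
    -- vertical pasting: top square over bottom square
    exact IsPullback.of_bot hbig (pullback.lift_fst _ _ _).symm hright
  exact (isQCHom_iff f).mp hf fst l (pullback.fst g h) hl hQ

theorem isQCHom_of_isIso {X Y : Sh J} (f : X ⟶ Y) [IsIso f] : IsQCHom f := by
  intro Y' g hY'
  exact isQC_of_iso (asIso (pullback.snd f g)).symm hY'

/-- the source of a quasi-compact morphism to a quasi-compact object is quasi-compact -/
theorem isQC_of_isQCHom {X Y : Sh J} (f : X ⟶ Y) (hf : IsQCHom f) (hY : IsQC Y) : IsQC X := by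
  have := (isQCHom_iff f).mp hf (𝟙 X) f (𝟙 Y) (IsPullback.of_horiz_isIso ⟨by simp⟩) hY
  exact this

end Groth.Agent.Lib.Helper13.ToposQC
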