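import Groth.Prelude.Def_SGA4c
import Groth.Agent.Lib.Helper13.ToposQC4

/-!
# Quasi-compactness of a fibre product from a finite covering of one factor
-/

universe w w' u

open CategoryTheory CategoryTheory.Limits Opposite

namespace Groth.Agent.Lib.Helper13.ToposQC

open ToposFin

variable {C : Type u} [SmallCategory C] {J : GrothendieckTopology C}

/-- the base change of a covering family of `Y'` to `P = X ×_Y Y'` -/
theorem jls_baseChange_cover {P X Y Y' : Sh J} {fst : P ⟶ X} {snd : P ⟶ Y'} {f : X ⟶ Y}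
    {g : Y' ⟶ Y} (hpb : IsPullback fst snd f g) {κ : Type w} (G : κ → Sh J)
    (c : ∀ k, G k ⟶ Y') (hc : JLS c) :
    JLS (fun k => hpb.lift (pullback.fst f (c k ≫ g)) (pullback.snd f (c k ≫ g) ≫ c k)
      (by rw [Category.assoc]; exact pullback.condition)) := by
  apply jls_of_isPullback c hc snd _ (fun k => pullback.snd f (c k ≫ g))
  intro k
  apply IsPullback.flip
  refine IsPullback.of_right ?_ (hpb.lift_snd _ _ _) hpb
  rw [hpb.lift_fst]
  exact IsPullback.of_hasPullback f (c k ≫ g)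

/-- `X ×_Y Y'` is quasi-compact as soon as `Y'` has a finite covering by objects `G k` with
`X ×_Y G k` quasi-compact -/
theorem isQC_of_cover {P X Y Y' : Sh J} {fst : P ⟶ X} {snd : P ⟶ Y'} {f : X ⟶ Y}
    {g : Y' ⟶ Y} (hpb : IsPullback fst snd f g) {κ : Type w} [Finite κ] (G : κ → Sh J)
    (c : ∀ k, G k ⟶ Y') (hc : JLS c) (hG : ∀ k, IsQC (pullback f (c k ≫ g))) : IsQC P :=
  isQC_of_finite_jls _ _ (jls_baseChange_cover hpb G c hc) hG

/-- the same with the roles of the factors exchanged -/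
theorem isQC_of_cover' {P X Y Y' : Sh J} {fst : P ⟶ Y'} {snd : P ⟶ X} {f : X ⟶ Y}
    {g : Y' ⟶ Y} (hpb : IsPullback fst snd g f) {κ : Type w} [Finite κ] (G : κ → Sh J)
    (c : ∀ k, G k ⟶ Y') (hc : JLS c) (hG : ∀ k, IsQC (pullback f (c k ≫ g))) : IsQC P :=
  isQC_of_cover hpb.flip G c hc hG

/-- quasi-compactness of a morphism can be tested on a generating family of quasi-compact
objects -/
theorem isQCHom_of_generators {α : Type u} (G : α → Sh J)
    (hgen : ∀ X : Sh J, ∃ (ι : Type u) (a : ι → α) (π : ∀ i, G (a i) ⟶ X), Epi (Sigma.desc π))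
    {X Y : Sh J} (f : X ⟶ Y) (H : ∀ (a : α) (s : G a ⟶ Y), IsQC (pullback f s)) :
    IsQCHom f := by
  intro Y' g hY'
  obtain ⟨ι, a, π, hπ⟩ := hgen Y'
  obtain ⟨s, hs⟩ := hY' ι _ π hπ
  have hjls : JLS (fun i : s => π i) := jls_of_epi _ hs
  exact isQC_of_cover (IsPullback.of_hasPullback f g) (fun i : s => G (a i)) (fun i : s => π i)
    hjls (fun i => H (a i) (π i ≫ g))

/-- an object is quasi-separated as soon as all morphisms from the members of a generating family
of quasi-compact objects to it are quasi-compact -/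
theorem isQS_of_generators {α : Type u} (G : α → Sh J)
    (hgen : ∀ X : Sh J, ∃ (ι : Type u) (a : ι → α) (π : ∀ i, G (a i) ⟶ X), Epi (Sigma.desc π))
    (Y : Sh J) (H : ∀ (a : α) (s : G a ⟶ Y), IsQCHom s) : IsQS Y := by
  intro Y₁ Y₂ a₁ a₂ h₁ h₂
  obtain ⟨ι, a, π, hπ⟩ := hgen Y₁
  obtain ⟨s, hs⟩ := h₁ ι _ π hπ
  have hjls : JLS (fun i : s => π i) := jls_of_epi _ hs
  refine isQC_of_cover' (IsPullback.of_hasPullback a₁ a₂) (fun i : s => G (a i))
    (fun i : s => π i) hjls (fun i => ?_)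
  -- `pullback a₂ (π i ≫ a₁)` is quasi-compact since `π i ≫ a₁` is a quasi-compact morphism
  have := H (a i) (π i ≫ a₁) Y₂ a₂ h₂
  exact isQC_of_iso (pullbackSymmetry _ _) this

end Groth.Agent.Lib.Helper13.ToposQC
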