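import Groth.Prelude.Def_SGA4c
import Mathlib.CategoryTheory.Limits.Shapes.Diagonal
import Groth.Agent.Lib.Helper13.ToposQC5

/-!
# Quasi-compact morphisms: cancellation and coverings of the source
-/

universe w w' u

open CategoryTheory CategoryTheory.Limits Opposite

namespace Groth.Agent.Lib.Helper13.ToposQC

open ToposFin

variable {C : Type u} [SmallCategory C] {J : GrothendieckTopology C}

/-- if `g` is quasi-separated and `f ≫ g` is quasi-compact then `f` is quasi-compact -/
theorem isQCHom_of_comp_of_isQSHom {X Y Z : Sh J} (f : X ⟶ Y) (g : Y ⟶ Z) (hg : IsQSHom g)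
    (hfg : IsQCHom (f ≫ g)) : IsQCHom f := by
  have h1 : IsQCHom (pullback.lift (𝟙 X) f (by simp) : X ⟶ pullback (f ≫ g) g) :=
    isQCHom_of_isPullback (pullback_lift_diagonal_isPullback f g) hg
  have h2 : IsQCHom (pullback.snd (f ≫ g) g) := isQCHom_snd (f ≫ g) g hfg
  have h3 := isQCHom_comp _ _ h1 h2
  rwa [pullback.lift_snd] at h3

/-- a morphism is quasi-compact if its composites with a finite jointly epimorphic family are -/
theorem isQCHom_of_finite_cover_of_source {Y Z : Sh J} (g : Y ⟶ Z) {κ : Type w} [Finite κ]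
    (X : κ → Sh J) (f : ∀ k, X k ⟶ Y) (hf : JLS f) (h : ∀ k, IsQCHom (f k ≫ g)) :
    IsQCHom g := by
  intro Z' t hZ'
  refine isQC_of_cover' (IsPullback.of_hasPullback g t) X f hf (fun k => ?_)
  exact isQC_of_iso (pullbackSymmetry _ _) (h k Z' t hZ')

end Groth.Agent.Lib.Helper13.ToposQC
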