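import Groth.Prelude.Def_SGA4c
import Mathlib.CategoryTheory.MorphismProperty.Limits
import Groth.Agent.Lib.Helper13.ToposQC6

/-!
# Quasi-compact and quasi-separated morphisms as morphism properties
-/

universe w w' u

open CategoryTheory CategoryTheory.Limits Opposite

namespace Groth.Agent.Lib.Helper13.ToposQC

open ToposFin

variable {C : Type u} [SmallCategory C] (J : GrothendieckTopology C)

/-- the class of quasi-compact morphisms -/
def qcHom : MorphismProperty (Sh J) := fun _ _ f => IsQCHom f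

instance : (qcHom J).IsStableUnderComposition where
  comp_mem f g hf hg := isQCHom_comp f g hf hg

instance : (qcHom J).RespectsIso :=
  MorphismProperty.RespectsIso.mk _
    (fun e f hf => isQCHom_comp e.hom f (isQCHom_of_isIso e.hom) hf)
    (fun e f hf => isQCHom_comp f e.hom hf (isQCHom_of_isIso e.hom))

instance : (qcHom J).IsStableUnderBaseChange where
  of_isPullback sq hg := isQCHom_of_isPullback sq hg

variable {J}

theorem isQSHom_iff_diagonal {X Y : Sh J} (f : X ⟶ Y) : IsQSHom f ↔ (qcHom J).diagonal f :=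
  Iff.rfl

theorem isQSHom_of_isPullback {X Y X' Y' : Sh J} {f : X ⟶ Y} {g : Y' ⟶ Y} {g' : X' ⟶ X}
    {f' : X' ⟶ Y'} (hpb : IsPullback g' f' f g) (hf : IsQSHom f) : IsQSHom f' :=
  (qcHom J).diagonal.of_isPullback hpb hf

theorem isQSHom_snd {X Y Y' : Sh J} (f : X ⟶ Y) (g : Y' ⟶ Y) (hf : IsQSHom f) :
    IsQSHom (pullback.snd f g) :=
  isQSHom_of_isPullback (IsPullback.of_hasPullback f g) hf

theorem isQSHom_comp {X Y Z : Sh J} (f : X ⟶ Y) (g : Y ⟶ Z) (hf : IsQSHom f) (hg : IsQSHom g) :
    IsQSHom (f ≫ g) :=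
  (qcHom J).diagonal.comp_mem f g hf hg

theorem isQSHom_of_isIso {X Y : Sh J} (f : X ⟶ Y) [IsIso f] : IsQSHom f := by
  have : IsIso (pullback.diagonal f) := (pullback.isIso_diagonal_iff f).2 inferInstance
  exact isQCHom_of_isIso _

end Groth.Agent.Lib.Helper13.ToposQC
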