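import Groth.Prelude.Def_SGA4c
import Groth.Agent.Lib.Helper13.ToposQC7

/-!
# Quasi-compact and quasi-separated morphisms are local on the target
-/

universe w w' u

open CategoryTheory CategoryTheory.Limits Opposite

namespace Groth.Agent.Lib.Helper13.ToposQC

open ToposFin

section General

variable {D : Type*} [Category D] [HasPullbacks D]

/-- the diagonal of a base change is the base change of the diagonal -/
theorem isPullback_diagonal {X Y X' Y' : D} {f : X ⟶ Y} {g : Y' ⟶ Y} {g' : X' ⟶ X}
    {f' : X' ⟶ Y'} (hpb : IsPullback g' f' f g) :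
    IsPullback g' (pullback.diagonal f') (pullback.diagonal f)
      (pullback.map f' f' f f g' g' g hpb.w.symm hpb.w.symm) := by
  have hw : g' ≫ pullback.diagonal f =
      pullback.diagonal f' ≫ pullback.map f' f' f f g' g' g hpb.w.symm hpb.w.symm := by
    apply pullback.hom_ext
    · simp only [Category.assoc, pullback.diagonal_fst, Category.comp_id, pullback.lift_fst]
      rw [pullback.diagonal_fst_assoc]
    · simp only [Category.assoc, pullback.diagonal_snd, Category.comp_id, pullback.lift_snd]
      rw [pullback.diagonal_snd_assoc]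
  refine ⟨⟨hw⟩, ⟨PullbackCone.IsLimit.mk hw (fun s => s.snd ≫ pullback.fst f' f') ?_ ?_ ?_⟩⟩
  · intro s
    have h1 := s.condition =≫ pullback.fst f f
    simp only [Category.assoc, pullback.diagonal_fst, Category.comp_id, pullback.lift_fst] at h1
    rw [Category.assoc, ← h1]
  · intro s
    have h1 := s.condition =≫ pullback.fst f f
    simp only [Category.assoc, pullback.diagonal_fst, Category.comp_id, pullback.lift_fst] at h1
    have h2 := s.condition =≫ pullback.snd f f
    simp only [Category.assoc, pullback.diagonal_snd, Category.comp_id, pullback.lift_snd] at h2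
    have heq : s.snd ≫ pullback.fst f' f' = s.snd ≫ pullback.snd f' f' := by
      apply hpb.hom_ext
      · rw [Category.assoc, Category.assoc, ← h1, ← h2]
      · rw [Category.assoc, Category.assoc, pullback.condition]
    apply pullback.hom_ext
    · simp
    · simp only [Category.assoc, pullback.diagonal_snd, Category.comp_id]
      exact heq
  · intro s m _ hm
    rw [← hm]
    simp

end General

variable {C : Type u} [SmallCategory C] {J : GrothendieckTopology C}

/-- joint local surjectivity of a composite family -/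
theorem jls_comp_family {X : Sh J} {ι : Type w} {F : ι → Sh J} (π : ∀ i, F i ⟶ X) (hπ : JLS π)
    {M : ι → Type w'} (G : ∀ i, M i → Sh J) (c : ∀ i m, G i m ⟶ F i) (hc : ∀ i, JLS (c i)) :
    JLS (fun p : Σ i, M i => c p.1 p.2 ≫ π p.1) := by
  apply jls_trans π hπ
  intro i V a
  refine J.superset_covering ?_ (hc i V a)
  rintro W h ⟨m, b, hb⟩
  refine ⟨⟨i, m⟩, b, ?_⟩
  change (π i).hom.app (op W) ((c i m).hom.app (op W) b) = _
  rw [hb]
  exact NatTrans.naturality_apply (π i).hom h.op a

/-- every object is covered by quasi-compact objects refining a given covering -/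
theorem exists_qc_refinement (hE : HasQCGenerators J) {X : Sh J} {ι : Type u} {F : ι → Sh J}
    (π : ∀ i, F i ⟶ X) (hπ : JLS π) :
    ∃ (μ : Type u) (G : μ → Sh J) (a : μ → ι) (c : ∀ m, G m ⟶ F (a m)),
      (∀ m, IsQC (G m)) ∧ JLS (fun m => c m ≫ π (a m)) := by
  choose M G c hG hc using fun i => hE (F i)
  refine ⟨Σ i, M i, fun p => G p.1 p.2, fun p => p.1, fun p => c p.1 p.2, fun p => hG p.1 p.2, ?_⟩
  exact jls_comp_family π hπ G c (fun i => jls_of_epi _ (hc i))

/-- quasi-compactness of a morphism is local on the target -/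
theorem isQCHom_of_local (hE : HasQCGenerators J) {X Y : Sh J} (f : X ⟶ Y) {ι : Type u}
    (Yi : ι → Sh J) (g : ∀ i, Yi i ⟶ Y) (hg : JLS g) (Xi : ι → Sh J) (g' : ∀ i, Xi i ⟶ X)
    (fi : ∀ i, Xi i ⟶ Yi i) (hpb : ∀ i, IsPullback (g' i) (fi i) f (g i))
    (h : ∀ i, IsQCHom (fi i)) : IsQCHom f := by
  intro Y' t hY'
  -- base change of the covering to `Y'`, refined by quasi-compact objects
  have h1 : JLS (fun i => pullback.fst t (g i)) :=
    jls_of_isPullback g hg t _ (fun i => pullback.snd t (g i))
      (fun i => (IsPullback.of_hasPullback t (g i)).flip)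
  obtain ⟨μ, G, a, c, hG, hc⟩ := exists_qc_refinement hE _ h1
  obtain ⟨s, hs⟩ := (isQC_iff Y').mp hY' μ _ _ hc
  refine isQC_of_cover (IsPullback.of_hasPullback f t) (fun m : s => G m)
    (fun m : s => c m ≫ pullback.fst t (g (a m))) hs (fun m => ?_)
  -- `X ×_Y G m` is the base change of `X i → Y i`
  have e : (c m ≫ pullback.fst t (g (a m))) ≫ t =
      (c m ≫ pullback.snd t (g (a m))) ≫ g (a m) := by
    rw [Category.assoc, Category.assoc, pullback.condition]
  refine isQC_of_iso (pullback.congrHom rfl e.symm) ?_
  refine (isQCHom_iff (fi (a m))).mp (h (a m)) ((hpb (a m)).lift (pullback.fst f _) (pullback.snd f _ ≫ c m ≫ pullback.snd t _)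
    (by rw [pullback.condition]; simp)) (pullback.snd f _) (c m ≫ pullback.snd t (g (a m))) ?_
    (hG m)
  refine IsPullback.of_right ?_ ((hpb (a m)).lift_snd _ _ _) (hpb (a m))
  rw [(hpb (a m)).lift_fst]
  exact IsPullback.of_hasPullback f _

end Groth.Agent.Lib.Helper13.ToposQC
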