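import Groth.Prelude.Def_SGA4c
import Groth.Agent.Lib.Helper13.ToposQC8

/-!
# Quasi-separated morphisms are local on the target
-/

universe w w' u

open CategoryTheory CategoryTheory.Limits Opposite

namespace Groth.Agent.Lib.Helper13.ToposQC

open ToposFin

variable {C : Type u} [SmallCategory C] {J : GrothendieckTopology C}

theorem comp_app_apply {A B D : Sh J} (φ : A ⟶ B) (ψ : B ⟶ D) (U : Cᵒᵖ) (a : A.obj.obj U) :
    (φ ≫ ψ).hom.app U a = ψ.hom.app U (φ.hom.app U a) := rfl

theorem condition_apply {A B D : Sh J} (φ : A ⟶ D) (ψ : B ⟶ D) (U : Cᵒᵖ)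
    (p : (pullback φ ψ).obj.obj U) :
    φ.hom.app U ((pullback.fst φ ψ).hom.app U p) = ψ.hom.app U ((pullback.snd φ ψ).hom.app U p) := by
  rw [← comp_app_apply, ← comp_app_apply, pullback.condition]

/-- the fibre squares of the base changes of `f` cover the fibre square of `f` -/
theorem jls_map_pullback {X Y : Sh J} (f : X ⟶ Y) {ι : Type w} (Yi : ι → Sh J)
    (g : ∀ i, Yi i ⟶ Y) (hg : JLS g) (Xi : ι → Sh J) (g' : ∀ i, Xi i ⟶ X)
    (fi : ∀ i, Xi i ⟶ Yi i) (hpb : ∀ i, IsPullback (g' i) (fi i) f (g i)) :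
    JLS (fun i => pullback.map (fi i) (fi i) f f (g' i) (g' i) (g i) (hpb i).w.symm
      (hpb i).w.symm) := by
  intro U s
  have hx := condition_apply f f (op U) s
  refine J.superset_covering ?_ (hg U (f.hom.app (op U) ((pullback.fst f f).hom.app (op U) s)))
  rintro V h ⟨i, yi, hyi⟩
  have e1 : f.hom.app (op V) (X.obj.map h.op ((pullback.fst f f).hom.app (op U) s)) =
      (g i).hom.app (op V) yi := by
    rw [hyi]
    exact NatTrans.naturality_apply f.hom h.op _
  have e2 : f.hom.app (op V) (X.obj.map h.op ((pullback.snd f f).hom.app (op U) s)) =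
      (g i).hom.app (op V) yi := by
    rw [hyi, hx]
    exact NatTrans.naturality_apply f.hom h.op _
  obtain ⟨a1, ha1, ha1'⟩ := exists_section_of_isPullback (hpb i) (op V) _ yi e1
  obtain ⟨a2, ha2, ha2'⟩ := exists_section_of_isPullback (hpb i) (op V) _ yi e2
  obtain ⟨p, hp1, hp2⟩ := exists_section_of_isPullback
    (IsPullback.of_hasPullback (fi i) (fi i)) (op V) a1 a2 (by rw [ha1', ha2'])
  refine ⟨i, p, ?_⟩
  apply ext_section_of_isPullback (IsPullback.of_hasPullback f f) (op V)
  · rw [← comp_app_apply, pullback.lift_fst, comp_app_apply, hp1, ha1]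
    exact (NatTrans.naturality_apply (pullback.fst f f).hom h.op s).symm
  · rw [← comp_app_apply, pullback.lift_snd, comp_app_apply, hp2, ha2]
    exact (NatTrans.naturality_apply (pullback.snd f f).hom h.op s).symm

/-- quasi-separatedness of a morphism is local on the target -/
theorem isQSHom_of_local (hE : HasQCGenerators J) {X Y : Sh J} (f : X ⟶ Y) {ι : Type u}
    (Yi : ι → Sh J) (g : ∀ i, Yi i ⟶ Y) (hg : JLS g) (Xi : ι → Sh J) (g' : ∀ i, Xi i ⟶ X)
    (fi : ∀ i, Xi i ⟶ Yi i) (hpb : ∀ i, IsPullback (g' i) (fi i) f (g i))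
    (h : ∀ i, IsQSHom (fi i)) : IsQSHom f :=
  isQCHom_of_local hE (pullback.diagonal f) _ _ (jls_map_pullback f Yi g hg Xi g' fi hpb) Xi g'
    (fun i => pullback.diagonal (fi i)) (fun i => isPullback_diagonal (hpb i)) h

end Groth.Agent.Lib.Helper13.ToposQC
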