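import Groth.Prelude.Def_SGA4c
import Groth.Agent.Lib.Helper13.ToposQC9

/-!
# Quasi-separated objects and coverings
-/

universe w w' u

open CategoryTheory CategoryTheory.Limits Opposite

namespace Groth.Agent.Lib.Helper13.ToposQC

open ToposFin

variable {C : Type u} [SmallCategory C] {J : GrothendieckTopology C}

/-- transitivity of fibre products: `X ×_Y G = (X ×_Y Y') ×_{Y'} G` -/
theorem isPullback_lift_comp {P X Y Y' G : Sh J} {fst : P ⟶ X} {snd : P ⟶ Y'} {f : X ⟶ Y}
    {g : Y' ⟶ Y} (hpb : IsPullback fst snd f g) (u : G ⟶ Y') :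
    IsPullback (hpb.lift (pullback.fst f (u ≫ g)) (pullback.snd f (u ≫ g) ≫ u)
      (by rw [Category.assoc]; exact pullback.condition)) (pullback.snd f (u ≫ g)) snd u := by
  refine IsPullback.of_right ?_ (hpb.lift_snd _ _ _) hpb
  rw [hpb.lift_fst]
  exact IsPullback.of_hasPullback f (u ≫ g)

/-- if `Y'` is quasi-separated, `G` and `X ×_Y Y'` are quasi-compact, then `X ×_Y G` is
quasi-compact for every `G ⟶ Y'` -/
theorem isQC_pullback_comp_of_isQS {X Y Y' G : Sh J} (f : X ⟶ Y) (g : Y' ⟶ Y) (u : G ⟶ Y')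
    (hY' : IsQS Y') (hG : IsQC G) (h : IsQC (pullback f g)) : IsQC (pullback f (u ≫ g)) :=
  (isQS_iff Y').mp hY' _ _ _ _ (isPullback_lift_comp (IsPullback.of_hasPullback f g) u) h hG

/-- a finite covering of a quasi-compact object by quasi-compact objects, refining the base change
of a given covering of the base -/
theorem exists_finite_qc_cover (hE : HasQCGenerators J) {A Y : Sh J} (a : A ⟶ Y) (hA : IsQC A)
    {ι : Type u} (Yi : ι → Sh J) (g : ∀ i, Yi i ⟶ Y) (hg : JLS g) :
    ∃ (μ : Type u) (_ : Finite μ) (G : μ → Sh J) (i : μ → ι) (c : ∀ m, G m ⟶ A)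
      (u : ∀ m, G m ⟶ Yi (i m)), (∀ m, IsQC (G m)) ∧ JLS c ∧ ∀ m, c m ≫ a = u m ≫ g (i m) := by
  have h1 : JLS (fun i => pullback.fst a (g i)) :=
    jls_of_isPullback g hg a _ (fun i => pullback.snd a (g i))
      (fun i => (IsPullback.of_hasPullback a (g i)).flip)
  obtain ⟨μ, G, i, c, hG, hc⟩ := exists_qc_refinement hE _ h1
  obtain ⟨s, hs⟩ := (isQC_iff A).mp hA μ _ _ hc
  refine ⟨s, inferInstance, fun m => G m, fun m => i m,
    fun m => c m ≫ pullback.fst a (g (i m)), fun m => c m ≫ pullback.snd a (g (i m)),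
    fun m => hG m, hs, fun m => ?_⟩
  rw [Category.assoc, Category.assoc, pullback.condition]

/-- an object covered by quasi-separated objects along quasi-compact morphisms is quasi-separated -/
theorem isQS_of_qs_cover_qc_maps (hE : HasQCGenerators J) {Y : Sh J} {ι : Type u}
    (Yi : ι → Sh J) (g : ∀ i, Yi i ⟶ Y) (hg : JLS g) (hqs : ∀ i, IsQS (Yi i))
    (hqc : ∀ i, IsQCHom (g i)) : IsQS Y := by
  intro A B a b hA hB
  obtain ⟨μ, _, G, i, c, u, hG, hc, hcu⟩ := exists_finite_qc_cover hE a hA Yi g hg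
  refine isQC_of_cover' (IsPullback.of_hasPullback a b) G c hc (fun m => ?_)
  refine isQC_of_iso (pullback.congrHom rfl (hcu m).symm) ?_
  apply isQC_pullback_comp_of_isQS b (g (i m)) (u m) (hqs (i m)) (hG m)
  exact isQC_of_iso (pullbackSymmetry _ _) (hqc (i m) B b hB)

/-- an object covered by coherent objects with quasi-compact double fibre products is
quasi-separated -/
theorem isQCHom_of_coherent_cover (hE : HasQCGenerators J) {Y : Sh J} {ι : Type u}
    (Yi : ι → Sh J) (g : ∀ i, Yi i ⟶ Y) (hg : JLS g) (hY : ∀ i, IsCoherent (Yi i))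
    (h : ∀ i j, IsQC (pullback (g i) (g j))) (i : ι) : IsQCHom (g i) := by
  intro B b hB
  obtain ⟨μ, _, G, j, c, u, hG, hc, hcu⟩ := exists_finite_qc_cover hE b hB Yi g hg
  refine isQC_of_cover (IsPullback.of_hasPullback (g i) b) G c hc (fun m => ?_)
  refine isQC_of_iso (pullback.congrHom rfl (hcu m).symm) ?_
  exact isQC_pullback_comp_of_isQS (g i) (g (j m)) (u m) (hY (j m)).2 (hG m) (h i (j m))

end Groth.Agent.Lib.Helper13.ToposQC
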