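import Groth.Prelude.Def_SGA4c
import Groth.Agent.Lib.Helper13.ToposQC10

/-!
# Quasi-separated morphisms and coverings of the source
-/

universe w w' u

open CategoryTheory CategoryTheory.Limits Opposite

namespace Groth.Agent.Lib.Helper13.ToposQC

open ToposFin

variable {C : Type u} [SmallCategory C] {J : GrothendieckTopology C}

theorem nat_apply {A B : Sh J} (φ : A ⟶ B) {U V : C} (h : V ⟶ U) (a : A.obj.obj (op U)) :
    φ.hom.app (op V) (A.obj.map h.op a) = B.obj.map h.op (φ.hom.app (op U) a) :=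
  NatTrans.naturality_apply φ.hom h.op a

theorem map_comp_apply (A : Sh J) {U V W : C} (h : V ⟶ U) (k : W ⟶ V) (a : A.obj.obj (op U)) :
    A.obj.map (k ≫ h).op a = A.obj.map k.op (A.obj.map h.op a) := by
  rw [op_comp, A.obj.map_comp]
  rfl

/-- the fibre products of the members of a covering family of `Y` cover `Y ×_Z Y` -/
theorem jls_map_prod {Y Z : Sh J} (g : Y ⟶ Z) {ι : Type w} (X : ι → Sh J) (f : ∀ i, X i ⟶ Y)
    (hf : JLS f) :
    JLS (fun p : ι × ι => pullback.map (f p.1 ≫ g) (f p.2 ≫ g) g g (f p.1) (f p.2) (𝟙 Z)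
      (Category.comp_id _) (Category.comp_id _)) := by
  intro U s
  have hs := condition_apply g g (op U) s
  apply J.transitive (hf U ((pullback.fst g g).hom.app (op U) s))
  rintro V h ⟨i, x1, hx1⟩
  refine J.superset_covering ?_
    (hf V (Y.obj.map h.op ((pullback.snd g g).hom.app (op U) s)))
  rintro W k ⟨j, x2, hx2⟩
  -- the section `(x1|W, x2)` of `X i ×_Z X j`
  have e : (f i ≫ g).hom.app (op W) ((X i).obj.map k.op x1) = (f j ≫ g).hom.app (op W) x2 := by
    rw [comp_app_apply, comp_app_apply, hx2, nat_apply (f i) k x1, hx1, nat_apply g k,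
      nat_apply g h, nat_apply g k, nat_apply g h, hs]
  obtain ⟨p, hp1, hp2⟩ := exists_section_of_isPullback
    (IsPullback.of_hasPullback (f i ≫ g) (f j ≫ g)) (op W) _ x2 e
  refine ⟨(i, j), p, ?_⟩
  change _ = (pullback g g).obj.map (k ≫ h).op s
  apply ext_section_of_isPullback (IsPullback.of_hasPullback g g) (op W)
  · rw [← comp_app_apply, pullback.lift_fst, comp_app_apply, hp1, nat_apply (f i) k x1, hx1,
      nat_apply (pullback.fst g g) (k ≫ h) s, map_comp_apply]
  · rw [← comp_app_apply, pullback.lift_snd, comp_app_apply, hp2, hx2,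
      nat_apply (pullback.snd g g) (k ≫ h) s, map_comp_apply]

theorem isQSHom_fst {X Y Y' : Sh J} (f : X ⟶ Y) (g : Y' ⟶ Y) (hg : IsQSHom g) :
    IsQSHom (pullback.fst f g) :=
  isQSHom_of_isPullback (IsPullback.of_hasPullback f g).flip hg

/-- a morphism from a quasi-compact object to a quasi-separated object is quasi-compact -/
theorem isQCHom_of_isQC_of_isQS {X Y : Sh J} (f : X ⟶ Y) (hX : IsQC X) (hY : IsQS Y) :
    IsQCHom f := fun T t hT => hY X T f t hX hT

/-- `g` is quasi-separated if it becomes so after composition with the members of a jointly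
epimorphic family of quasi-compact morphisms -/
theorem isQSHom_of_cover_of_source (hE : HasQCGenerators J) {Y Z : Sh J} (g : Y ⟶ Z)
    {ι : Type u} (X : ι → Sh J) (f : ∀ i, X i ⟶ Y) (hf : JLS f) (hqc : ∀ i, IsQCHom (f i))
    (hqs : ∀ i, IsQSHom (f i ≫ g)) : IsQSHom g := by
  refine isQCHom_of_local hE (pullback.diagonal g) _ _ (jls_map_prod g X f hf)
    (fun p : ι × ι => pullback (f p.1) (f p.2)) (fun p => pullback.fst _ _ ≫ f p.1)
    (fun p => pullback.map (f p.1) (f p.2) (f p.1 ≫ g) (f p.2 ≫ g) (𝟙 _) (𝟙 _) g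
      (Category.id_comp _).symm (Category.id_comp _).symm)
    (fun p => pullback_map_diagonal_isPullback (f p.1) (f p.2) g) (fun p => ?_)
  -- the comparison map is quasi-compact by cancellation
  apply isQCHom_of_comp_of_isQSHom _ (pullback.fst (f p.1 ≫ g) (f p.2 ≫ g))
    (isQSHom_fst _ _ (hqs p.2))
  rw [pullback.lift_fst, Category.comp_id]
  exact isQCHom_fst _ _ (hqc p.2)

/-- `f : X ⟶ Y` is quasi-separated if `X` is quasi-separated and is covered by quasi-compact
objects whose fibre products over `Y` are quasi-separated -/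
theorem isQSHom_of_cover_with_qs_products (hE : HasQCGenerators J) {X Y : Sh J} (f : X ⟶ Y)
    {ι : Type u} (Xi : ι → Sh J) (g : ∀ i, Xi i ⟶ X) (hg : JLS g) (hqc : ∀ i, IsQC (Xi i))
    (hqs : ∀ i j, IsQS (pullback (g i ≫ f) (g j ≫ f))) (hX : IsQS X) : IsQSHom f := by
  refine isQCHom_of_local hE (pullback.diagonal f) _ _ (jls_map_prod f Xi g hg)
    (fun p : ι × ι => pullback (g p.1) (g p.2)) (fun p => pullback.fst _ _ ≫ g p.1)
    (fun p => pullback.map (g p.1) (g p.2) (g p.1 ≫ f) (g p.2 ≫ f) (𝟙 _) (𝟙 _) f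
      (Category.id_comp _).symm (Category.id_comp _).symm)
    (fun p => pullback_map_diagonal_isPullback (g p.1) (g p.2) f) (fun p => ?_)
  exact isQCHom_of_isQC_of_isQS _ (hX _ _ _ _ (hqc p.1) (hqc p.2)) (hqs p.1 p.2)

end Groth.Agent.Lib.Helper13.ToposQC
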