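import Groth.Prelude.Def_SGA4c
import Groth.Agent.Lib.Helper13.ToposQC11
import Groth.Agent.S3066

/-!
# Subobjects of quasi-separated objects
-/

universe w w' u

open CategoryTheory CategoryTheory.Limits Opposite

namespace Groth.Agent.Lib.Helper13.ToposQC

open ToposFin

variable {C : Type u} [SmallCategory C] {J : GrothendieckTopology C}

theorem isQSHom_of_mono {X Y : Sh J} (i : X ⟶ Y) [Mono i] : IsQSHom i := by
  have : IsIso (pullback.diagonal i) := (pullback.isIso_diagonal_iff i).2 inferInstance
  exact isQCHom_of_isIso _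

/-- a subobject of a quasi-separated object is quasi-separated -/
theorem isQS_of_mono {X Y : Sh J} (i : X ⟶ Y) [Mono i] (hY : IsQS Y) : IsQS X :=
  Groth.Agent.S3066.result i (isQSHom_of_mono i) hY

/-- the source of a quasi-separated morphism to a quasi-separated object is quasi-separated -/
theorem isQS_of_isQSHom {X Y : Sh J} (f : X ⟶ Y) (hf : IsQSHom f) (hY : IsQS Y) : IsQS X :=
  Groth.Agent.S3066.result f hf hY

instance mono_prod_lift_pullback {A B D : Sh J} (a : A ⟶ D) (b : B ⟶ D) :
    Mono (prod.lift (pullback.fst a b) (pullback.snd a b)) := by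
  constructor
  intro T u v h
  have h1 := h =≫ prod.fst
  have h2 := h =≫ prod.snd
  simp only [Category.assoc, prod.lift_fst, prod.lift_snd] at h1 h2
  exact pullback.hom_ext h1 h2

theorem hasQCGenerators_of_generators {α : Type u} (G : α → Sh J) (hG : ∀ a, IsQC (G a))
    (hgen : ∀ X : Sh J, ∃ (ι : Type u) (a : ι → α) (π : ∀ i, G (a i) ⟶ X), Epi (Sigma.desc π)) :
    HasQCGenerators J := by
  intro X
  obtain ⟨ι, a, π, hπ⟩ := hgen X
  exact ⟨ι, fun i => G (a i), π, fun i => hG (a i), hπ⟩

end Groth.Agent.Lib.Helper13.ToposQC
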