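import Groth.Prelude.Def_SGA4c
import Mathlib.CategoryTheory.Sites.LocallySurjective
import Mathlib.CategoryTheory.Sites.LocallyInjective
import Groth.Agent.Lib.Helper13.ToposQC12

/-!
# The sheaf associated to a representable presheaf
-/

universe w w' u

open CategoryTheory CategoryTheory.Limits Opposite

namespace Groth.Agent.Lib.Helper13.ToposQC

open ToposFin

variable {C : Type u} [SmallCategory C] (J : GrothendieckTopology C)

/-- the section of `eps X` over `V` attached to `g : V ⟶ X` -/
noncomputable def epsOf {V X : C} (g : V ⟶ X) : (eps J X).obj.obj (op V) :=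
  (toSheafify J (yoneda.obj X)).app (op V) g

/-- `eps` on morphisms -/
noncomputable def epsMap {X Y : C} (g : X ⟶ Y) : eps J X ⟶ eps J Y :=
  (presheafToSheaf J (Type u)).map (yoneda.map g)

theorem epsOf_map {V W X : C} (h : W ⟶ V) (g : V ⟶ X) :
    (eps J X).obj.map h.op (epsOf J g) = epsOf J (h ≫ g) := by
  have := NatTrans.naturality_apply (toSheafify J (yoneda.obj X)) h.op g
  exact this.symm

theorem epsMap_epsOf {V X Y : C} (h : V ⟶ X) (g : X ⟶ Y) :
    (epsMap J g).hom.app (op V) (epsOf J h) = epsOf J (h ≫ g) := by
  have := ConcreteCategory.congr_hom (congr_app (toSheafify_naturality J (yoneda.map g)) (op V)) h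
  exact this.symm

/-- every section of `eps X` locally comes from a morphism to `X` -/
theorem epsOf_locally_surjective {U X : C} (s : (eps J X).obj.obj (op U)) :
    Presheaf.imageSieve (toSheafify J (yoneda.obj X)) s ∈ J U :=
  Presheaf.imageSieve_mem J (toSheafify J (yoneda.obj X)) s

theorem epsOf_locally_injective {V X : C} (g g' : V ⟶ X) (h : epsOf J g = epsOf J g') :
    Presheaf.equalizerSieve (F := yoneda.obj X) (X := op V) g g' ∈ J V :=
  Presheaf.equalizerSieve_mem J (toSheafify J (yoneda.obj X)) (X := op V) g g' h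

/-- the morphism `eps V ⟶ F` attached to a section of `F` over `V` -/
noncomputable def secMap {F : Sh J} {V : C} (a : F.obj.obj (op V)) : eps J V ⟶ F :=
  ⟨sheafifyLift J (yonedaEquiv.symm a) F.property⟩

theorem secMap_epsOf {F : Sh J} {V W : C} (a : F.obj.obj (op V)) (h : W ⟶ V) :
    (secMap J a).hom.app (op W) (epsOf J h) = F.obj.map h.op a := by
  have := ConcreteCategory.congr_hom
    (congr_app (toSheafify_sheafifyLift J (yonedaEquiv.symm a) F.property) (op W)) h
  exact this

/-- every sheaf is covered by the sheaves `eps V` -/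
theorem jls_secMap (F : Sh J) :
    JLS (fun p : (Σ V : C, F.obj.obj (op V)) => secMap J p.2) := by
  intro U s
  refine J.superset_covering ?_ (J.top_mem U)
  intro V f _
  refine ⟨⟨U, s⟩, epsOf J f, ?_⟩
  exact secMap_epsOf J s f

end Groth.Agent.Lib.Helper13.ToposQC
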