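import Groth.Prelude.Def_SGA4c
import Groth.Agent.Lib.Helper13.ToposEps

/-!
# Quasi-compactness of the sheaf associated to a representable presheaf
-/

universe w w' u

open CategoryTheory CategoryTheory.Limits Opposite

namespace Groth.Agent.Lib.Helper13.ToposQC

open ToposFin

variable {C : Type u} [SmallCategory C] (J : GrothendieckTopology C)

theorem isQC_eps_of_isQCSite (X : C) (hX : IsQCSite J X) : IsQC (eps J X) := by
  classical
  rw [isQC_iff]
  intro ι F π hπ
  have hS := hπ X (epsOf J (𝟙 X))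
  obtain ⟨n, V, g, hgS, hcov⟩ := hX _ hS
  choose i a ha using hgS
  have ha' : ∀ k, (π (i k)).hom.app (op (V k)) (a k) = epsOf J (g k) := by
    intro k
    rw [ha k, epsOf_map, Category.comp_id]
  refine ⟨Finset.univ.image i, ?_⟩
  intro U t
  apply J.transitive (epsOf_locally_surjective J t)
  rintro W f ⟨h, hh⟩
  rw [liftSieve_pullback]
  refine J.superset_covering ?_ (J.pullback_stable h hcov)
  intro W' l hl
  obtain ⟨k, m, hm⟩ := (Sieve.mem_ofArrows_iff V g (l ≫ h)).mp hl
  refine ⟨⟨i k, Finset.mem_image_of_mem i (Finset.mem_univ k)⟩,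
    (F (i k)).obj.map m.op (a k), ?_⟩
  change (π (i k)).hom.app (op W') _ = _
  rw [nat_apply, ha', epsOf_map, ← hm, ← hh]
  exact (epsOf_map J l h).symm

theorem isQCSite_of_isQC_eps (X : C) (h : IsQC (eps J X)) : IsQCSite J X := by
  classical
  intro S hS
  have hπ : JLS (fun p : (Σ V : C, {g : V ⟶ X // S g}) => epsMap J p.2.1) := by
    intro U t
    apply J.transitive (epsOf_locally_surjective J t)
    rintro W f ⟨h, hh⟩
    rw [liftSieve_pullback]
    refine J.superset_covering ?_ (J.pullback_stable h hS)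
    intro W' l hl
    refine ⟨⟨W', l ≫ h, hl⟩, epsOf J (𝟙 W'), ?_⟩
    change (epsMap J (l ≫ h)).hom.app (op W') _ = _
    rw [epsMap_epsOf, Category.id_comp, ← hh]
    exact (epsOf_map J l h).symm
  obtain ⟨s, hs⟩ := (isQC_iff _).mp h _ _ _ hπ
  let e := s.equivFin
  refine ⟨s.card, fun k => (e.symm k).1.1, fun k => (e.symm k).1.2.1,
    fun k => (e.symm k).1.2.2, ?_⟩
  apply J.transitive (hs X (epsOf J (𝟙 X)))
  rintro W f ⟨p, a, hpa⟩
  change (epsMap J p.1.2.1).hom.app (op W) a = _ at hpa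
  rw [epsOf_map, Category.comp_id] at hpa
  apply J.transitive (epsOf_locally_surjective J a)
  rintro W' j ⟨h, hh⟩
  have e1 : epsOf J (h ≫ p.1.2.1) = epsOf J (j ≫ f) := by
    rw [← epsMap_epsOf, ← epsOf_map, ← hpa, ← nat_apply]
    exact congrArg _ hh
  refine J.superset_covering ?_ (epsOf_locally_injective J _ _ e1)
  intro W'' l hl
  change l ≫ h ≫ p.1.2.1 = l ≫ j ≫ f at hl
  change Sieve.ofArrows _ _ ((l ≫ j) ≫ f)
  rw [Sieve.mem_ofArrows_iff]
  refine ⟨e p, l ≫ h ≫ eqToHom (by rw [Equiv.symm_apply_apply]), ?_⟩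
  rw [Category.assoc, ← hl]
  have : ∀ (p' : s) (hp : p' = p), (eqToHom (by rw [hp]) : p.1.1 ⟶ p'.1.1) ≫ p'.1.2.1 = p.1.2.1 := by
    rintro p' rfl
    simp
  rw [Category.assoc, Category.assoc, this _ (Equiv.symm_apply_apply e p)]

end Groth.Agent.Lib.Helper13.ToposQC
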