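import Groth.Prelude.Def_SGA4c
import Mathlib.CategoryTheory.Limits.Preserves.Shapes.Pullbacks
import Mathlib.CategoryTheory.Limits.Preserves.Yoneda
import Groth.Agent.Lib.Helper13.ToposEps2

/-!
# Coherence of the sheaf associated to a representable presheaf
-/

universe w w' u

open CategoryTheory CategoryTheory.Limits Opposite

namespace Groth.Agent.Lib.Helper13.ToposQC

open ToposFin

variable {C : Type u} [SmallCategory C] (J : GrothendieckTopology C)

/-- morphisms out of `eps V` are determined by the image of the universal section -/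
theorem eps_hom_ext {V : C} {F : Sh J} (φ ψ : eps J V ⟶ F)
    (h : φ.hom.app (op V) (epsOf J (𝟙 V)) = ψ.hom.app (op V) (epsOf J (𝟙 V))) : φ = ψ := by
  apply Sheaf.hom_ext
  apply sheafify_hom_ext J _ _ F.property
  apply yonedaEquiv.injective
  exact h

/-- coverings by representable sheaves adapted to a morphism to `eps X` -/
theorem exists_eps_cover {A : Sh J} {X : C} (a : A ⟶ eps J X) :
    ∃ (ι : Type u) (V : ι → C) (c : ∀ k, eps J (V k) ⟶ A) (g : ∀ k, V k ⟶ X),
      JLS c ∧ ∀ k, c k ≫ a = epsMap J (g k) := by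
  refine ⟨Σ (V : C) (α : A.obj.obj (op V)), {g : V ⟶ X // a.hom.app (op V) α = epsOf J g},
    fun p => p.1, fun p => secMap J p.2.1, fun p => p.2.2.1, ?_, ?_⟩
  · intro U s
    refine J.superset_covering ?_ (epsOf_locally_surjective J (a.hom.app (op U) s))
    rintro W f ⟨g, hg⟩
    refine ⟨⟨W, A.obj.map f.op s, g, ?_⟩, epsOf J (𝟙 W), ?_⟩
    · rw [nat_apply]
      exact hg.symm
    · change (secMap J (A.obj.map f.op s)).hom.app (op W) _ = _
      rw [secMap_epsOf]
      simp
  · rintro ⟨V, α, g, hg⟩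
    apply eps_hom_ext
    change (secMap J α ≫ a).hom.app (op V) _ = (epsMap J g).hom.app (op V) _
    rw [comp_app_apply, secMap_epsOf, epsMap_epsOf, Category.id_comp, ← hg]
    simp

/-- the finite version for quasi-compact objects -/
theorem exists_finite_eps_cover {A : Sh J} (hA : IsQC A) {X : C} (a : A ⟶ eps J X) :
    ∃ (ι : Type u) (_ : Finite ι) (V : ι → C) (c : ∀ k, eps J (V k) ⟶ A) (g : ∀ k, V k ⟶ X),
      JLS c ∧ ∀ k, c k ≫ a = epsMap J (g k) := by
  obtain ⟨ι, V, c, g, hc, hcg⟩ := exists_eps_cover J a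
  obtain ⟨s, hs⟩ := (isQC_iff A).mp hA _ _ _ hc
  exact ⟨s, inferInstance, fun k => V k, fun k => c k, fun k => g k, hs, fun k => hcg k⟩

variable [HasPullbacks C]

theorem isQC_pullback_epsMap (hC : ∀ X : C, IsQCSite J X) {V W X : C} (g : V ⟶ X) (h : W ⟶ X) :
    IsQC (pullback (epsMap J g) (epsMap J h)) := by
  have e : (yoneda ⋙ presheafToSheaf J (Type u)).obj (pullback g h) ≅
      pullback (epsMap J g) (epsMap J h) :=
    PreservesPullback.iso (yoneda ⋙ presheafToSheaf J (Type u)) g h
  exact isQC_of_iso e (isQC_eps_of_isQCSite J _ (hC _))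

theorem isQS_eps (hC : ∀ X : C, IsQCSite J X) (X : C) : IsQS (eps J X) := by
  intro A B a b hA hB
  obtain ⟨ι, _, V, c, g, hc, hcg⟩ := exists_finite_eps_cover J hA a
  obtain ⟨κ, _, W, d, h, hd, hdh⟩ := exists_finite_eps_cover J hB b
  refine isQC_of_cover (IsPullback.of_hasPullback a b) _ d hd (fun l => ?_)
  refine isQC_of_cover' (IsPullback.of_hasPullback a (d l ≫ b)) _ c hc (fun k => ?_)
  refine isQC_of_iso (pullback.congrHom (hdh l).symm (hcg k).symm) ?_
  exact isQC_of_iso (pullbackSymmetry _ _) (isQC_pullback_epsMap J hC (g k) (h l))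

theorem isCoherent_eps (hC : ∀ X : C, IsQCSite J X) (X : C) : IsCoherent (eps J X) :=
  ⟨isQC_eps_of_isQCSite J X (hC X), isQS_eps J hC X⟩

end Groth.Agent.Lib.Helper13.ToposQC

namespace Groth.Agent.Lib.Helper13.ToposQC

open ToposFin

variable {C : Type u} [SmallCategory C] (J : GrothendieckTopology C)

theorem hasQCGenerators_of_isQCSite (hC : ∀ X : C, IsQCSite J X) : HasQCGenerators J := by
  intro F
  exact ⟨(Σ V : C, F.obj.obj (op V)), fun p => eps J p.1, fun p => secMap J p.2,
    fun p => isQC_eps_of_isQCSite J p.1 (hC _), epi_of_jls _ (jls_secMap J F)⟩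

variable [HasPullbacks C]

/-- every morphism from a quasi-separated object to `eps X` is quasi-separated -/
theorem isQSHom_to_eps (hC : ∀ X : C, IsQCSite J X) {X : C} {G : Sh J} (g : G ⟶ eps J X)
    (hG : IsQS G) : IsQSHom g := by
  obtain ⟨ι, V, c, gk, hc, hcg⟩ := exists_eps_cover J g
  refine isQSHom_of_cover_with_qs_products (hasQCGenerators_of_isQCSite J hC) g _ c hc
    (fun i => isQC_eps_of_isQCSite J _ (hC _)) (fun i j => ?_) hG
  have e : (yoneda ⋙ presheafToSheaf J (Type u)).obj (pullback (gk i) (gk j)) ≅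
      pullback (c i ≫ g) (c j ≫ g) :=
    PreservesPullback.iso (yoneda ⋙ presheafToSheaf J (Type u)) (gk i) (gk j) ≪≫
      pullback.congrHom (hcg i).symm (hcg j).symm
  exact isQS_of_mono e.inv (isQS_eps J hC _)

theorem isQS_pullback_over_eps (hC : ∀ X : C, IsQCSite J X) {X : C} {G H : Sh J}
    (g : G ⟶ eps J X) (h : H ⟶ eps J X) (hG : IsQS G) (hH : IsQS H) : IsQS (pullback g h) :=
  isQS_of_isQSHom (pullback.snd g h) (isQSHom_snd g h (isQSHom_to_eps J hC g hG)) hH

end Groth.Agent.Lib.Helper13.ToposQC
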