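import Groth.Prelude.Def_SGA4c
import Groth.Prelude.Def_ToposFin2
import Mathlib.CategoryTheory.Limits.Types.Equalizers
import Groth.Agent.Lib.Helper13.ToposQC12

/-!
# Generating sets of quasi-compact objects
-/

universe w w' u

open CategoryTheory CategoryTheory.Limits Opposite

namespace Groth.Agent.Lib.Helper13.ToposQC

open ToposFin

variable {C : Type u} [SmallCategory C] {J : GrothendieckTopology C}

theorem jls_of_cancel {X : Sh J} {ι : Type u} {F : ι → Sh J} (π : ∀ i, F i ⟶ X)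
    (h : ∀ (Z : Sh J) (a b : X ⟶ Z), (∀ i, π i ≫ a = π i ≫ b) → a = b) : JLS π := by
  apply jls_of_epi
  constructor
  intro Z a b hab
  apply h
  intro i
  have := Sigma.ι F i ≫= hab
  rwa [Sigma.ι_desc_assoc, Sigma.ι_desc_assoc] at this

theorem cancel_of_jls {X : Sh J} {ι : Type u} {F : ι → Sh J} (π : ∀ i, F i ⟶ X) (h : JLS π)
    (Z : Sh J) (a b : X ⟶ Z) (hab : ∀ i, π i ≫ a = π i ≫ b) : a = b := by
  haveI := epi_of_jls π h
  rw [← cancel_epi (Sigma.desc π)]
  apply Sigma.hom_ext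
  intro i
  rw [Sigma.ι_desc_assoc, Sigma.ι_desc_assoc]
  exact hab i

/-- covering by members of a generating set -/
theorem exists_cover_of_isGenerating {S : Set (Sh J)} (hgen : IsGenerating S) (X : Sh J) :
    ∃ (ι : Type u) (F : ι → Sh J) (π : ∀ i, F i ⟶ X), (∀ i, F i ∈ S) ∧ JLS π := by
  obtain ⟨ι, F, π, hF, hπ⟩ := hgen X
  exact ⟨ι, F, π, hF, jls_of_cancel π hπ⟩

theorem hasQCGenerators_of_isGenerating {S : Set (Sh J)} (hqc : ∀ K ∈ S, IsQC K)
    (hgen : IsGenerating S) : HasQCGenerators J := by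
  intro X
  obtain ⟨ι, F, π, hF, hπ⟩ := exists_cover_of_isGenerating hgen X
  exact ⟨ι, F, π, fun i => hqc _ (hF i), epi_of_jls π hπ⟩

/-- quasi-compactness of a morphism can be tested on a generating set of quasi-compact objects -/
theorem isQCHom_of_isGenerating {S : Set (Sh J)} (hgen : IsGenerating S) {X Y : Sh J} (f : X ⟶ Y)
    (H : ∀ K ∈ S, ∀ s : K ⟶ Y, IsQC (pullback f s)) : IsQCHom f := by
  intro Y' g hY'
  obtain ⟨ι, F, π, hF, hπ⟩ := exists_cover_of_isGenerating hgen Y'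
  obtain ⟨s, hs⟩ := (isQC_iff Y').mp hY' ι F π hπ
  exact isQC_of_cover (IsPullback.of_hasPullback f g) (fun i : s => F i) (fun i : s => π i)
    hs (fun i => H _ (hF i) (π i ≫ g))

/-- quasi-separatedness of an object can be tested on a generating set of quasi-compact
objects -/
theorem isQS_of_isGenerating {S : Set (Sh J)} (hgen : IsGenerating S) (Y : Sh J)
    (H : ∀ K ∈ S, ∀ s : K ⟶ Y, IsQCHom s) : IsQS Y := by
  intro Y₁ Y₂ a₁ a₂ h₁ h₂
  obtain ⟨ι, F, π, hF, hπ⟩ := exists_cover_of_isGenerating hgen Y₁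
  obtain ⟨s, hs⟩ := (isQC_iff Y₁).mp h₁ ι F π hπ
  refine isQC_of_cover' (IsPullback.of_hasPullback a₁ a₂) (fun i : s => F i)
    (fun i : s => π i) hs (fun i => ?_)
  exact isQC_of_iso (pullbackSymmetry _ _) (H _ (hF i) (π i ≫ a₁) Y₂ a₂ h₂)

/-- the members of a generating set of quasi-compact objects stable under fibre products are
coherent -/
theorem isCoherent_of_mem {S : Set (Sh J)} (hqc : ∀ K ∈ S, IsQC K) (hgen : IsGenerating S)
    (hpb : ClosedUnderPullbacks S) {K : Sh J} (hK : K ∈ S) : IsCoherent K := by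
  refine ⟨hqc K hK, ?_⟩
  apply isQS_of_isGenerating hgen
  intro G hG t
  apply isQCHom_of_isGenerating hgen
  intro G' hG' s
  obtain ⟨P, p, q, hP, hsq⟩ := hpb t s hG hG' hK
  exact isQC_of_iso hsq.isoPullback (hqc P hP)

/-- sections of an equalizer -/
theorem exists_section_of_fork {P K L : Sh J} {a b : K ⟶ L} {e : P ⟶ K} (w : e ≫ a = e ≫ b)
    (hl : IsLimit (Fork.ofι e w)) (U : Cᵒᵖ) (k : K.obj.obj U)
    (hk : a.hom.app U k = b.hom.app U k) : ∃ p : P.obj.obj U, e.hom.app U p = k := by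
  have hl' := isLimitForkMapOfIsLimit (secFunctor J U) w hl
  obtain ⟨p, hp, -⟩ := Types.unique_of_type_equalizer _ _ hl' k hk
  exact ⟨p, hp⟩

end Groth.Agent.Lib.Helper13.ToposQC
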