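import Groth.Prelude.Def_SGA4c
import Groth.Prelude.Def_ToposFin2
import Groth.Agent.Lib.Helper13.ToposQC13

/-!
# Quasi-separated objects and morphisms in algebraic / locally coherent topoi
-/

universe w w' u

open CategoryTheory CategoryTheory.Limits Opposite

namespace Groth.Agent.Lib.Helper13.ToposQC

open ToposFin

variable {C : Type u} [SmallCategory C] {J : GrothendieckTopology C}

/-- In a topos with a generating set of quasi-compact objects stable under equalizers, every
morphism with quasi-separated source is quasi-separated. -/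
theorem isQSHom_of_isQS_of_equalizers {S : Set (Sh J)} (hqc : ∀ K ∈ S, IsQC K)
    (hgen : IsGenerating S) (heq : ClosedUnderEqualizers S) {X Y : Sh J} (f : X ⟶ Y)
    (hX : IsQS X) : IsQSHom f := by
  apply isQCHom_of_isGenerating hgen
  intro K hK t
  set x1 : K ⟶ X := t ≫ pullback.fst f f with hx1
  set x2 : K ⟶ X := t ≫ pullback.snd f f with hx2
  have hP : IsQC (pullback x1 x2) := hX K K x1 x2 (hqc K hK) (hqc K hK)
  obtain ⟨ι, F, π, hF, hπ⟩ := exists_cover_of_isGenerating hgen (pullback x1 x2)
  obtain ⟨s, hs⟩ := (isQC_iff _).mp hP ι F π hπ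
  -- the equalizers
  have hE : ∀ i : s, ∃ (Q : Sh J) (e : Q ⟶ F i)
      (w : e ≫ (π i ≫ pullback.fst x1 x2) = e ≫ (π i ≫ pullback.snd x1 x2)),
      Q ∈ S ∧ Nonempty (IsLimit (Fork.ofι e w)) := fun i =>
    heq (π i ≫ pullback.fst x1 x2) (π i ≫ pullback.snd x1 x2) (hF i) hK
  choose Q e w hQ hl using hE
  have hcond : ∀ i : s, (e i ≫ π i ≫ pullback.fst x1 x2 ≫ x1) ≫ pullback.diagonal f =
      (e i ≫ π i ≫ pullback.fst x1 x2) ≫ t := by
    intro i
    apply pullback.hom_ext
    · simp only [Category.assoc, pullback.diagonal_fst, Category.comp_id, hx1]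
    · simp only [Category.assoc, pullback.diagonal_snd, Category.comp_id]
      rw [pullback.condition, ← Category.assoc (π i), ← Category.assoc (e i),
        ← Category.assoc (π i), ← w i]
      simp only [Category.assoc, hx2]
  refine isQC_of_finite_jls Q (fun i => pullback.lift _ _ (hcond i)) ?_ (fun i => hqc _ (hQ i))
  intro U z
  -- the components of the section `z`
  set x := (pullback.fst (pullback.diagonal f) t).hom.app (op U) z with hx
  set k := (pullback.snd (pullback.diagonal f) t).hom.app (op U) z with hk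
  have hz := condition_apply (pullback.diagonal f) t (op U) z
  have h1 : x1.hom.app (op U) k = x := by
    rw [hx1, comp_app_apply, ← hz, ← comp_app_apply, pullback.diagonal_fst]
    rfl
  have h2 : x2.hom.app (op U) k = x := by
    rw [hx2, comp_app_apply, ← hz, ← comp_app_apply, pullback.diagonal_snd]
    rfl
  obtain ⟨p, hp1, hp2⟩ := exists_section_of_isPullback (IsPullback.of_hasPullback x1 x2) (op U)
    k k (h1.trans h2.symm)
  refine J.superset_covering ?_ (hs U p)
  rintro V h ⟨i, l, hl'⟩
  have hfork : (π i ≫ pullback.fst x1 x2).hom.app (op V) l =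
      (π i ≫ pullback.snd x1 x2).hom.app (op V) l := by
    rw [comp_app_apply, comp_app_apply, hl', nat_apply, nat_apply, hp1, hp2]
  obtain ⟨q, hq⟩ := exists_section_of_fork (w i) (hl i).some (op V) l hfork
  refine ⟨i, q, ?_⟩
  apply ext_section_of_isPullback (IsPullback.of_hasPullback (pullback.diagonal f) t) (op V)
  · rw [← comp_app_apply, pullback.lift_fst, nat_apply, ← hx, ← h1, comp_app_apply,
      comp_app_apply, comp_app_apply, hq, hl', nat_apply, hp1, nat_apply]
  · rw [← comp_app_apply, pullback.lift_snd, nat_apply, ← hk, comp_app_apply,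
      comp_app_apply, hq, hl', nat_apply, hp1]

/-- a morphism `f : X ⟶ Y` is quasi-separated as soon as `X ×_Y K` is quasi-separated for all the
members `K` of a generating set of quasi-compact objects -/
theorem isQSHom_of_pullback_qs {S : Set (Sh J)} (hqc : ∀ K ∈ S, IsQC K)
    (hgen : IsGenerating S) {X Y : Sh J} (f : X ⟶ Y)
    (H : ∀ K ∈ S, ∀ g : K ⟶ Y, IsQS (pullback f g)) : IsQSHom f := by
  apply isQCHom_of_isGenerating hgen
  intro K hK t
  have hx : (t ≫ pullback.fst f f) ≫ f = (t ≫ pullback.snd f f) ≫ f := by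
    simp only [Category.assoc, pullback.condition]
  obtain ⟨σ1, h1f, h1s⟩ : ∃ σ1 : K ⟶ pullback f ((t ≫ pullback.fst f f) ≫ f),
      σ1 ≫ pullback.fst _ _ = t ≫ pullback.fst f f ∧ σ1 ≫ pullback.snd _ _ = 𝟙 K :=
    ⟨pullback.lift (t ≫ pullback.fst f f) (𝟙 K) (by rw [Category.id_comp]),
      pullback.lift_fst _ _ _, pullback.lift_snd _ _ _⟩
  obtain ⟨σ2, h2f, h2s⟩ : ∃ σ2 : K ⟶ pullback f ((t ≫ pullback.fst f f) ≫ f),
      σ2 ≫ pullback.fst _ _ = t ≫ pullback.snd f f ∧ σ2 ≫ pullback.snd _ _ = 𝟙 K :=
    ⟨pullback.lift (t ≫ pullback.snd f f) (𝟙 K) (by rw [Category.id_comp, hx]),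
      pullback.lift_fst _ _ _, pullback.lift_snd _ _ _⟩
  have hP : IsQC (pullback σ1 σ2) := H K hK _ K K σ1 σ2 (hqc K hK) (hqc K hK)
  have h12 : pullback.fst σ1 σ2 = pullback.snd σ1 σ2 := by
    have := pullback.condition (f := σ1) (g := σ2) =≫ pullback.snd f _
    simp only [Category.assoc] at this
    rwa [h1s, h2s, Category.comp_id, Category.comp_id] at this
  have h12' : pullback.fst σ1 σ2 ≫ t ≫ pullback.fst f f =
      pullback.snd σ1 σ2 ≫ t ≫ pullback.snd f f := by
    have := pullback.condition (f := σ1) (g := σ2) =≫ pullback.fst f _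
    simp only [Category.assoc] at this
    rwa [h1f, h2f] at this
  have hc : (pullback.fst σ1 σ2 ≫ t ≫ pullback.fst f f) ≫ pullback.diagonal f =
      pullback.fst σ1 σ2 ≫ t := by
    apply pullback.hom_ext
    · simp only [Category.assoc, pullback.diagonal_fst, Category.comp_id]
    · simp only [Category.assoc, pullback.diagonal_snd, Category.comp_id]
      rw [h12', h12]
  have hd1 : pullback.snd (pullback.diagonal f) t ≫ t ≫ pullback.fst f f =
      pullback.fst (pullback.diagonal f) t := by
    rw [← pullback.condition_assoc, pullback.diagonal_fst, Category.comp_id]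
  have hd2 : pullback.snd (pullback.diagonal f) t ≫ t ≫ pullback.snd f f =
      pullback.fst (pullback.diagonal f) t := by
    rw [← pullback.condition_assoc, pullback.diagonal_snd, Category.comp_id]
  have hc' : pullback.snd (pullback.diagonal f) t ≫ σ1 =
      pullback.snd (pullback.diagonal f) t ≫ σ2 := by
    apply pullback.hom_ext
    · simp only [Category.assoc]
      rw [h1f, h2f, hd1, hd2]
    · simp only [Category.assoc]
      rw [h1s, h2s]
  have hψφ : pullback.lift _ _ hc' ≫ pullback.lift _ _ hc = 𝟙 _ := by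
    apply pullback.hom_ext
    · rw [Category.assoc, pullback.lift_fst, pullback.lift_fst_assoc, Category.id_comp, hd1]
    · rw [Category.assoc, pullback.lift_snd, pullback.lift_fst, Category.id_comp]
  have : IsSplitEpi (pullback.lift _ _ hc) := ⟨⟨pullback.lift _ _ hc', hψφ⟩⟩
  exact isQC_of_epi (pullback.lift _ _ hc) hP

end Groth.Agent.Lib.Helper13.ToposQC
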