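import Groth.Prelude.Def_SGA4c
import Groth.Prelude.Def_ToposFin2
import Groth.Agent.Lib.Helper13.ToposQC14

/-!
# Inverse image functors and coverings
-/

universe w w' u

open CategoryTheory CategoryTheory.Limits Opposite

namespace Groth.Agent.Lib.Helper13.ToposQC

open ToposFin

variable {C D : Type u} [SmallCategory C] [SmallCategory D] {J : GrothendieckTopology C}
  {K : GrothendieckTopology D}

/-- a left adjoint preserves jointly epimorphic families -/
theorem jls_map_of_adjunction (F : Sh K ⥤ Sh J) (R : Sh J ⥤ Sh K) (adj : F ⊣ R) {X : Sh K}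
    {ι : Type u} {G : ι → Sh K} (π : ∀ i, G i ⟶ X) (hπ : JLS π) :
    JLS (fun i => F.map (π i)) := by
  apply jls_of_cancel
  intro Z a b hab
  apply (adj.homEquiv _ _).injective
  apply cancel_of_jls π hπ
  intro i
  rw [← adj.homEquiv_naturality_left, ← adj.homEquiv_naturality_left, hab i]

end Groth.Agent.Lib.Helper13.ToposQC
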