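import Groth.Prelude.Def_SGA4c
import Groth.Prelude.Def_ToposFin2
import Mathlib.CategoryTheory.Sites.Pullback
import Groth.Agent.Lib.Helper13.ToposEps3
import Groth.Agent.Lib.Helper13.ToposQC15

/-!
# Inverse images of representable sheaves
-/

universe w w' u

open CategoryTheory CategoryTheory.Limits Opposite

namespace Groth.Agent.Lib.Helper13.ToposQC

open ToposFin

variable {C D : Type u} [SmallCategory C] [SmallCategory D] (J : GrothendieckTopology C)
  (K : GrothendieckTopology D) (G : C ⥤ D) [Functor.IsContinuous G J K]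

/-- the inverse image of the sheaf attached to `X` is the sheaf attached to `G X` -/
theorem nonempty_iso_eps (L : Sh J ⥤ Sh K)
    (adj : L ⊣ G.sheafPushforwardContinuous (Type u) J K) (X : C) :
    Nonempty (L.obj (eps J X) ≅ eps K (G.obj X)) := by
  let σ : (L.obj (eps J X)).obj.obj (op (G.obj X)) :=
    (adj.unit.app (eps J X)).hom.app (op X) (epsOf J (𝟙 X))
  let φ : eps K (G.obj X) ⟶ L.obj (eps J X) := secMap K σ
  let τ : ((G.sheafPushforwardContinuous (Type u) J K).obj (eps K (G.obj X))).obj.obj (op X) :=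
    epsOf K (𝟙 (G.obj X))
  let ψ : L.obj (eps J X) ⟶ eps K (G.obj X) := (adj.homEquiv _ _).symm (secMap J τ)
  have hψ : adj.homEquiv _ _ ψ = secMap J τ := Equiv.apply_symm_apply _ _
  have hφ : φ.hom.app (op (G.obj X)) (epsOf K (𝟙 (G.obj X))) = σ := by
    change (secMap K σ).hom.app _ _ = _
    rw [secMap_epsOf]
    simp
  have hψσ : ψ.hom.app (op (G.obj X)) σ = epsOf K (𝟙 (G.obj X)) := by
    have h1 : (adj.homEquiv _ _ ψ).hom.app (op X) (epsOf J (𝟙 X)) = ψ.hom.app (op (G.obj X)) σ := by
      rw [Adjunction.homEquiv_unit]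
      rfl
    rw [← h1, hψ, secMap_epsOf]
    simp only [op_id, FunctorToTypes.map_id_apply, τ]
  refine ⟨⟨ψ, φ, ?_, ?_⟩⟩
  · apply (adj.homEquiv _ _).injective
    rw [Adjunction.homEquiv_naturality_right, hψ]
    apply eps_hom_ext
    rw [comp_app_apply, secMap_epsOf, Adjunction.homEquiv_unit]
    have : (L.obj (eps J X)).obj.map (𝟙 (G.obj X)).op σ = σ := by simp
    change φ.hom.app (op (G.obj X)) ((eps K (G.obj X)).obj.map (G.map (𝟙 X)).op τ) = _
    rw [G.map_id]
    have h2 : (eps K (G.obj X)).obj.map (𝟙 (G.obj X)).op τ = τ := by simp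
    rw [h2, hφ]
    simp [σ]
  · apply eps_hom_ext
    rw [comp_app_apply, hφ, hψσ]
    rfl

end Groth.Agent.Lib.Helper13.ToposQC
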