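import Groth.Prelude.Def_SGA4c
import Mathlib.CategoryTheory.Sites.IsSheafFor
import Groth.Agent.Lib.Helper13.ToposEps3

/-!
# Coproduct decompositions of sheaves associated to representable presheaves
-/

universe w w' u

open CategoryTheory CategoryTheory.Limits Opposite

namespace Groth.Agent.Lib.Helper13.ToposQC

open ToposFin

variable {C : Type u} [SmallCategory C] (J : GrothendieckTopology C)

theorem secMap_self_epsOf {F : Sh J} {V : C} (a : F.obj.obj (op V)) :
    (secMap J a).hom.app (op V) (epsOf J (𝟙 V)) = a := by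
  rw [secMap_epsOf]
  simp

theorem epsMap_comp_secMap {F : Sh J} {V W : C} (g : W ⟶ V) (a : F.obj.obj (op V)) :
    epsMap J g ≫ secMap J a = secMap J (F.obj.map g.op a) := by
  apply eps_hom_ext
  rw [comp_app_apply, epsMap_epsOf, secMap_epsOf, secMap_self_epsOf, Category.id_comp]

theorem eq_secMap {F : Sh J} {V : C} (m : eps J V ⟶ F) :
    m = secMap J (m.hom.app (op V) (epsOf J (𝟙 V))) := by
  apply eps_hom_ext
  rw [secMap_self_epsOf]

/-- the criterion for `eps X` to be the coproduct of the `eps (Y i)` -/
theorem isColimit_cofan_eps_iff {X : C} {ι : Type u} (Y : ι → C) (s : ∀ i, Y i ⟶ X) :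
    Nonempty (IsColimit (Cofan.mk (eps J X) (fun i => epsMap J (s i)))) ↔
      ∀ F : Sh J, Function.Bijective
        (fun (a : F.obj.obj (op X)) (i : ι) => F.obj.map (s i).op a) := by
  constructor
  · rintro ⟨hc⟩ F
    constructor
    · intro a a' h
      have e : secMap J a = secMap J a' := by
        apply Cofan.IsColimit.hom_ext hc
        intro i
        change epsMap J (s i) ≫ _ = epsMap J (s i) ≫ _
        rw [epsMap_comp_secMap, epsMap_comp_secMap]
        exact congrArg _ (congrFun h i)
      rw [← secMap_self_epsOf J a, e, secMap_self_epsOf]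
    · intro b
      refine ⟨(Cofan.IsColimit.desc hc (fun i => secMap J (b i))).hom.app (op X)
        (epsOf J (𝟙 X)), ?_⟩
      funext i
      have h1 := Cofan.IsColimit.fac hc (fun i => secMap J (b i)) i
      change epsMap J (s i) ≫ _ = _ at h1
      rw [eq_secMap J (Cofan.IsColimit.desc hc (fun i => secMap J (b i))),
        epsMap_comp_secMap] at h1
      have h2 := congrArg (fun m => m.hom.app (op (Y i)) (epsOf J (𝟙 (Y i)))) h1
      simp only [secMap_self_epsOf] at h2
      exact h2
  · intro H
    have hex : ∀ t : Cofan (fun i => eps J (Y i)), ∃ a : t.pt.obj.obj (op X),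
        ∀ i, t.pt.obj.map (s i).op a = (t.inj i).hom.app (op (Y i)) (epsOf J (𝟙 (Y i))) := by
      intro t
      obtain ⟨a, ha⟩ := (H t.pt).2 (fun i => (t.inj i).hom.app (op (Y i)) (epsOf J (𝟙 (Y i))))
      exact ⟨a, fun i => congrFun ha i⟩
    choose a ha using hex
    refine ⟨mkCofanColimit _ (fun t => secMap J (a t)) (fun t i => ?_) (fun t m hm => ?_)⟩
    · change epsMap J (s i) ≫ _ = _
      rw [epsMap_comp_secMap, ha, ← eq_secMap]
    · rw [eq_secMap J m]
      congr 1
      apply (H t.pt).1
      funext i
      change t.pt.obj.map (s i).op _ = t.pt.obj.map (s i).op _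
      rw [ha, ← hm i]
      change _ = (epsMap J (s i) ≫ m).hom.app _ _
      rw [comp_app_apply, epsMap_epsOf, Category.id_comp, ← nat_apply, epsOf_map,
        Category.comp_id]

end Groth.Agent.Lib.Helper13.ToposQC
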