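import Groth.Prelude.Def_SGA4c
import Mathlib.CategoryTheory.Sites.CartesianClosed
import Mathlib.CategoryTheory.Monoidal.Closed.Types
import Mathlib.CategoryTheory.Distributive.Cartesian
import Mathlib.CategoryTheory.Sites.Limits
import Mathlib.CategoryTheory.Sites.LeftExact
import Mathlib.CategoryTheory.Extensive
import Groth.Agent.Lib.Helper13.ToposQC13

/-!
# Coproducts in a topos of sheaves of sets: injections are monomorphisms, disjointness,
quasi-compactness of summands
-/

universe w w' u

open CategoryTheory CategoryTheory.Limits Opposite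

namespace Groth.Agent.Lib.Helper13.ToposQC

open ToposFin

variable {C : Type u} [SmallCategory C] (J : GrothendieckTopology C)

theorem isMonoidalLeftDistrib : IsMonoidalLeftDistrib (Sheaf J (Type u)) :=
  MonoidalClosed.isMonoidalLeftDistrib

theorem isCartesianDistributive : IsCartesianDistributive (Sheaf J (Type u)) :=
  @IsCartesianDistributive.of_isMonoidalLeftDistrib _ _ _ _ (isMonoidalLeftDistrib J)

theorem monoCoprod : MonoCoprod (Sheaf J (Type u)) :=
  @IsCartesianDistributive.monoCoprod _ _ _ _ (isCartesianDistributive J)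

variable {J}

section

variable {ι : Type u} {X : ι → Sh J} (c : Cofan X) (hc : IsColimit c)

include hc

theorem mono_inj (i : ι) : Mono (c.inj i) := by
  haveI := monoCoprod J
  exact MonoCoprod.mono_inj X c hc i

theorem jls_inj : JLS (fun i => c.inj i) :=
  jls_of_cancel _ (fun _ _ _ h => Cofan.IsColimit.hom_ext hc _ _ h)

/-- disjointness of coproducts -/
theorem exists_to_initial {i j : ι} (hij : i ≠ j) {T : Sh J} (p : T ⟶ X i) (q : T ⟶ X j)
    (h : p ≫ c.inj i = q ≫ c.inj j) : Nonempty (T ⟶ ⊥_ (Sh J)) := by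
  classical
  let χ : c.pt ⟶ (⊤_ (Sh J)) ⨿ (⊤_ (Sh J)) := Cofan.IsColimit.desc hc
    (fun k => if k = i then terminal.from _ ≫ coprod.inl else terminal.from _ ≫ coprod.inr)
  have h1 : c.inj i ≫ χ = terminal.from _ ≫ coprod.inl := by
    rw [Cofan.IsColimit.fac, if_pos rfl]
  have h2 : c.inj j ≫ χ = terminal.from _ ≫ coprod.inr := by
    rw [Cofan.IsColimit.fac, if_neg (Ne.symm hij)]
  have h3 : terminal.from T ≫ (coprod.inl : ⊤_ (Sh J) ⟶ _) = terminal.from T ≫ coprod.inr := by
    have := h =≫ χ
    rw [Category.assoc, Category.assoc, h1, h2, ← Category.assoc, ← Category.assoc] at this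
    rwa [terminal.comp_from, terminal.comp_from] at this
  have hpb := BinaryCofan.isPullback_initial_to_of_isVanKampen
    (FinitaryExtensive.vanKampen _ (coprodIsCoprod (⊤_ (Sh J)) (⊤_ (Sh J))))
  exact ⟨hpb.lift _ _ h3⟩

omit hc in
theorem eq_of_hom_to_initial {T Z : Sh J} (φ : T ⟶ ⊥_ (Sh J)) (a b : T ⟶ Z) : a = b := by
  haveI : IsIso φ := initialIsInitial.isIso_to φ
  rw [← cancel_epi (inv φ)]
  exact initialIsInitial.hom_ext _ _

omit hc in
theorem aux_inl {P G T Z : Sh J} (fstT : P ⟶ T) [Mono fstT] (gk : G ⟶ P) (α β : P ⟶ Z)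
    (h : gk ≫ α = gk ≫ β) :
    pullback.snd (gk ≫ fstT) fstT ≫ α = pullback.snd (gk ≫ fstT) fstT ≫ β := by
  have e : pullback.snd (gk ≫ fstT) fstT = pullback.fst (gk ≫ fstT) fstT ≫ gk := by
    rw [← cancel_mono fstT, Category.assoc]
    exact pullback.condition.symm
  rw [e, Category.assoc, Category.assoc, h]

theorem aux_inr {T Z : Sh J} (a : T ⟶ c.pt) {i j : ι} (hj : j ≠ i)
    (α β : pullback a (c.inj i) ⟶ Z) :
    pullback.snd (pullback.fst a (c.inj j)) (pullback.fst a (c.inj i)) ≫ α =
      pullback.snd (pullback.fst a (c.inj j)) (pullback.fst a (c.inj i)) ≫ β := by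
  have e : (pullback.fst (pullback.fst a (c.inj j)) (pullback.fst a (c.inj i)) ≫
      pullback.snd a (c.inj j)) ≫ c.inj j =
      (pullback.snd (pullback.fst a (c.inj j)) (pullback.fst a (c.inj i)) ≫
      pullback.snd a (c.inj i)) ≫ c.inj i := by
    rw [Category.assoc, Category.assoc, ← pullback.condition, ← pullback.condition,
      ← Category.assoc, ← Category.assoc]
    congr 1
    exact pullback.condition
  obtain ⟨φ⟩ := exists_to_initial c hc hj _ _ e
  exact eq_of_hom_to_initial φ _ _

/-- the summands of a quasi-compact object are quasi-compact -/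
theorem isQC_pullback_inj {T : Sh J} (hT : IsQC T) (a : T ⟶ c.pt) (i : ι) :
    IsQC (pullback a (c.inj i)) := by
  classical
  haveI := mono_inj c hc i
  rw [isQC_iff]
  intro κ G g hg
  let fam : κ ⊕ {j : ι // j ≠ i} → Sh J := Sum.elim G (fun j => pullback a (c.inj j))
  let π : ∀ m, fam m ⟶ T := fun m => Sum.rec (motive := fun m => fam m ⟶ T)
    (fun k => g k ≫ pullback.fst a (c.inj i)) (fun j => pullback.fst a (c.inj j)) m
  have hbase : JLS (fun j => pullback.fst a (c.inj j)) :=
    jls_of_isPullback _ (jls_inj c hc) a _ (fun j => pullback.snd a (c.inj j))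
      (fun j => (IsPullback.of_hasPullback a (c.inj j)).flip)
  have hπ : JLS π := by
    apply jls_of_cancel
    intro Z α β hαβ
    apply cancel_of_jls _ hbase
    intro j
    by_cases hj : j = i
    · rw [hj]
      apply cancel_of_jls _ hg
      intro k
      have : (g k ≫ pullback.fst a (c.inj i)) ≫ α = (g k ≫ pullback.fst a (c.inj i)) ≫ β :=
        hαβ (Sum.inl k)
      rwa [Category.assoc, Category.assoc] at this
    · exact hαβ (Sum.inr ⟨j, hj⟩)
  obtain ⟨s, hs⟩ := (isQC_iff T).mp hT _ fam π hπ
  refine ⟨s.toLeft, ?_⟩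
  apply jls_of_cancel
  intro Z α β hαβ
  have h1 : JLS (fun m : s => pullback.snd (π m) (pullback.fst a (c.inj i))) :=
    jls_of_isPullback (fun m : s => π m) hs (pullback.fst a (c.inj i)) _
      (fun m => pullback.fst _ _) (fun m => IsPullback.of_hasPullback _ _)
  apply cancel_of_jls _ h1
  rintro ⟨m, hm⟩
  cases m with
  | inl k =>
    exact aux_inl (pullback.fst a (c.inj i)) (g k) α β (hαβ ⟨k, Finset.mem_toLeft.2 hm⟩)
  | inr j =>
    obtain ⟨j, hj⟩ := j
    exact aux_inr c hc a hj α β

/-- the injections of a coproduct are quasi-compact morphisms -/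
theorem isQCHom_inj (i : ι) : IsQCHom (c.inj i) := by
  intro T a hT
  exact isQC_of_iso (pullbackSymmetry _ _) (isQC_pullback_inj c hc hT a i)

end

end Groth.Agent.Lib.Helper13.ToposQC
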