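import Groth.Prelude.Def_SGA4c
import Mathlib.CategoryTheory.Sites.IsSheafFor
import Groth.Agent.Lib.Helper13.ToposEps5
import Groth.Agent.Lib.Helper13.ToposQC16

/-!
# Coproduct decompositions of `eps X`: sufficient conditions
-/

universe w w' u

open CategoryTheory CategoryTheory.Limits Opposite

namespace Groth.Agent.Lib.Helper13.ToposQC

open ToposFin

variable {C : Type u} [SmallCategory C] (J : GrothendieckTopology C)

/-- if the empty sieve covers `Z` then every sheaf has at most one section over `Z` -/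
theorem subsingleton_of_bot_mem (F : Sh J) {Z : C} (h : (⊥ : Sieve Z) ∈ J Z) :
    Subsingleton (F.obj.obj (op Z)) := by
  constructor
  intro a b
  have hF : Presieve.IsSheaf J F.obj := (isSheaf_iff_isSheaf_of_type _ _).1 F.property
  exact (hF _ h).isSeparatedFor.ext (fun W f hf => hf.elim)

/-- a section of an initial sheaf over `Z` forces the empty sieve to cover `Z` -/
theorem bot_mem_of_section_initial {I : Sh J} (hI : IsInitial I) {Z : C}
    (t : I.obj.obj (op Z)) : (⊥ : Sieve Z) ∈ J Z := by
  have hjls : JLS (fun i : PEmpty.{u+1} => (PEmpty.elim i : (PEmpty.elim i : Sh J) ⟶ I)) :=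
    jls_of_cancel _ (fun Z a b _ => hI.hom_ext a b)
  refine J.superset_covering ?_ (hjls Z t)
  rintro W f ⟨i, _⟩
  exact i.elim

/-- sufficient condition for `eps X` to be the coproduct of the `eps (Y i)` -/
theorem isColimit_cofan_eps_of_locally_disjoint {X : C} {ι : Type u} (Y : ι → C)
    (s : ∀ i, Y i ⟶ X) (hcov : Sieve.ofArrows Y s ∈ J X)
    (h1 : ∀ (i : ι) (Z : C) (g g' : Z ⟶ Y i), g ≫ s i = g' ≫ s i →
      ∃ S ∈ J Z, ∀ (W : C) (f : W ⟶ Z), S f → f ≫ g = f ≫ g')
    (h2 : ∀ (i j : ι), i ≠ j → ∀ (Z : C) (gi : Z ⟶ Y i) (gj : Z ⟶ Y j),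
      gi ≫ s i = gj ≫ s j → (⊥ : Sieve Z) ∈ J Z) :
    Nonempty (IsColimit (Cofan.mk (eps J X) (fun i => epsMap J (s i)))) := by
  rw [isColimit_cofan_eps_iff]
  intro F
  have hF : Presieve.IsSheaf J F.obj := (isSheaf_iff_isSheaf_of_type _ _).1 F.property
  constructor
  · intro a a' h
    refine (hF _ hcov).isSeparatedFor.ext ?_
    rintro W f ⟨V, g, _, ⟨i⟩, rfl⟩
    rw [op_comp, F.obj.map_comp]
    change F.obj.map g.op (F.obj.map (s i).op a) = F.obj.map g.op (F.obj.map (s i).op a')
    exact congrArg _ (congrFun h i)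
  · intro b
    have hsh : Presieve.IsSheafFor F.obj (Presieve.ofArrows Y s) := by
      rw [Presieve.isSheafFor_iff_generate]
      exact hF _ hcov
    rw [Presieve.isSheafFor_arrows_iff] at hsh
    have hcompat : Presieve.Arrows.Compatible F.obj s b := by
      intro i j Z gi gj hg
      by_cases hij : i = j
      · subst hij
        obtain ⟨S, hS, hSf⟩ := h1 i Z gi gj hg
        refine (hF _ hS).isSeparatedFor.ext ?_
        intro W f hf
        rw [← map_comp_apply, ← map_comp_apply, hSf W f hf]
      · have := subsingleton_of_bot_mem J F (h2 i j hij Z gi gj hg)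
        exact Subsingleton.elim _ _
    obtain ⟨t, ht, _⟩ := hsh b hcompat
    exact ⟨t, funext ht⟩

end Groth.Agent.Lib.Helper13.ToposQC
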