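import Groth.Prelude.Def_SGA4c
import Mathlib.CategoryTheory.Sites.LocallyBijective
import Groth.Agent.Lib.Helper13.ToposEps6

/-!
# Coproduct decompositions of `eps X`: necessary conditions
-/

universe w w' u

open CategoryTheory CategoryTheory.Limits Opposite

namespace Groth.Agent.Lib.Helper13.ToposQC

open ToposFin

variable {C : Type u} [SmallCategory C] (J : GrothendieckTopology C)

/-- the element of the fibre product of representable presheaves attached to a commutative square -/
noncomputable def pbElt {X Yi Yj Z : C} (si : Yi ⟶ X) (sj : Yj ⟶ X) (gi : Z ⟶ Yi) (gj : Z ⟶ Yj)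
    (h : gi ≫ si = gj ≫ sj) : (pullback (yoneda.map si) (yoneda.map sj)).obj (op Z) :=
  (pullback.lift (yoneda.map gi) (yoneda.map gj)
    (by rw [← Functor.map_comp, ← Functor.map_comp, h])).app (op Z) (𝟙 Z)

theorem pbElt_fst {X Yi Yj Z : C} (si : Yi ⟶ X) (sj : Yj ⟶ X) (gi : Z ⟶ Yi) (gj : Z ⟶ Yj)
    (h : gi ≫ si = gj ≫ sj) :
    (pullback.fst (yoneda.map si) (yoneda.map sj)).app (op Z) (pbElt si sj gi gj h) = gi := by
  have := congrFun (congrArg (fun φ => φ.app (op Z)) (pullback.lift_fst (yoneda.map gi) (yoneda.map gj)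
    (by rw [← Functor.map_comp, ← Functor.map_comp, h]))) (𝟙 Z)
  simpa [pbElt] using this

theorem pbElt_snd {X Yi Yj Z : C} (si : Yi ⟶ X) (sj : Yj ⟶ X) (gi : Z ⟶ Yi) (gj : Z ⟶ Yj)
    (h : gi ≫ si = gj ≫ sj) :
    (pullback.snd (yoneda.map si) (yoneda.map sj)).app (op Z) (pbElt si sj gi gj h) = gj := by
  have := congrFun (congrArg (fun φ => φ.app (op Z)) (pullback.lift_snd (yoneda.map gi) (yoneda.map gj)
    (by rw [← Functor.map_comp, ← Functor.map_comp, h]))) (𝟙 Z)
  simpa [pbElt] using this

/-- if the sheafified relative diagonal is an isomorphism, parallel arrows with the same composite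
agree locally -/
theorem locally_eq_of_isIso_diagonal {X Yi : C} (si : Yi ⟶ X)
    (hd : IsIso ((presheafToSheaf J (Type u)).map (pullback.diagonal (yoneda.map si))))
    {Z : C} (g g' : Z ⟶ Yi) (hg : g ≫ si = g' ≫ si) :
    ∃ S ∈ J Z, ∀ (W : C) (f : W ⟶ Z), S f → f ≫ g = f ≫ g' := by
  have hls : Presheaf.IsLocallySurjective J (pullback.diagonal (yoneda.map si)) := by
    rw [← Presheaf.isLocallySurjective_presheafToSheaf_map_iff]
    infer_instance
  refine ⟨_, Presheaf.imageSieve_mem J (pullback.diagonal (yoneda.map si)) (pbElt si si g g' hg), ?_⟩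
  rintro W f ⟨t, ht⟩
  have e1 := congrArg ((pullback.fst (yoneda.map si) (yoneda.map si)).app (op W)) ht
  have e2 := congrArg ((pullback.snd (yoneda.map si) (yoneda.map si)).app (op W)) ht
  rw [FunctorToTypes.naturality, pbElt_fst] at e1
  rw [FunctorToTypes.naturality, pbElt_snd] at e2
  have d1 := congrFun (congrArg (fun φ => φ.app (op W))
    (pullback.diagonal_fst (yoneda.map si))) t
  have d2 := congrFun (congrArg (fun φ => φ.app (op W))
    (pullback.diagonal_snd (yoneda.map si))) t
  change (pullback.fst (yoneda.map si) (yoneda.map si)).app (op W)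
    ((pullback.diagonal (yoneda.map si)).app (op W) t) = t at d1
  change (pullback.snd (yoneda.map si) (yoneda.map si)).app (op W)
    ((pullback.diagonal (yoneda.map si)).app (op W) t) = t at d2
  rw [d1] at e1
  rw [d2] at e2
  exact (e1.symm.trans e2)

/-- if the sheafified fibre product of representables is initial, commuting squares only exist over
objects covered by the empty sieve -/
theorem bot_mem_of_isInitial_pullback {X Yi Yj : C} (si : Yi ⟶ X) (sj : Yj ⟶ X)
    (hI : IsInitial ((presheafToSheaf J (Type u)).obj (pullback (yoneda.map si) (yoneda.map sj))))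
    {Z : C} (gi : Z ⟶ Yi) (gj : Z ⟶ Yj) (hg : gi ≫ si = gj ≫ sj) : (⊥ : Sieve Z) ∈ J Z :=
  bot_mem_of_section_initial J hI
    ((toSheafify J (pullback (yoneda.map si) (yoneda.map sj))).app (op Z) (pbElt si sj gi gj hg))

/-- a jointly locally surjective family of `epsMap`s comes from a covering family -/
theorem ofArrows_mem_of_jls {X : C} {ι : Type u} (Y : ι → C) (s : ∀ i, Y i ⟶ X)
    (hjls : JLS (fun i => epsMap J (s i))) : Sieve.ofArrows Y s ∈ J X := by
  refine J.transitive (hjls X (epsOf J (𝟙 X))) _ ?_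
  rintro V f ⟨i, a, ha⟩
  refine J.transitive (epsOf_locally_surjective J a) _ ?_
  rintro W k ⟨g, hgk⟩
  have e : epsOf J (g ≫ s i) = epsOf J (k ≫ f) := by
    rw [← epsMap_epsOf]
    change (epsMap J (s i)).hom.app (op W) ((toSheafify J (yoneda.obj (Y i))).app (op W) g) = _
    rw [hgk, nat_apply, ha, ← map_comp_apply, epsOf_map, Category.comp_id]
  refine J.superset_covering ?_ (epsOf_locally_injective J _ _ e)
  intro W' m hm
  change (yoneda.obj X).map m.op (g ≫ s i) = (yoneda.obj X).map m.op (k ≫ f) at hm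
  change Sieve.ofArrows Y s ((m ≫ k) ≫ f)
  have hm' : m ≫ g ≫ s i = m ≫ k ≫ f := hm
  rw [Category.assoc, ← hm', ← Category.assoc]
  exact Sieve.downward_closed _ (Sieve.ofArrows_mk Y s i) _

/-- the sheafified relative diagonal of a morphism whose sheafification is a monomorphism is an
isomorphism -/
theorem isIso_map_diagonal_of_mono {P Q : Cᵒᵖ ⥤ Type u} (f : P ⟶ Q)
    [Mono ((presheafToSheaf J (Type u)).map f)] :
    IsIso ((presheafToSheaf J (Type u)).map (pullback.diagonal f)) := by
  have hpb := (IsPullback.of_hasPullback f f).map (presheafToSheaf J (Type u))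
  have h1 : IsIso ((presheafToSheaf J (Type u)).map (pullback.fst f f)) :=
    PullbackCone.isIso_fst_of_mono_of_isLimit hpb.isLimit
  have h2 : (presheafToSheaf J (Type u)).map (pullback.diagonal f) ≫
      (presheafToSheaf J (Type u)).map (pullback.fst f f) = 𝟙 _ := by
    rw [← Functor.map_comp, pullback.diagonal_fst, CategoryTheory.Functor.map_id]
  have h3 : IsIso ((presheafToSheaf J (Type u)).map (pullback.diagonal f) ≫
      (presheafToSheaf J (Type u)).map (pullback.fst f f)) := by
    rw [h2]; infer_instance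
  exact IsIso.of_isIso_comp_right _ ((presheafToSheaf J (Type u)).map (pullback.fst f f))

/-- a sheaf with a morphism to the initial sheaf is initial -/
noncomputable def isInitialOfHomToInitial {T : Sh J} (φ : T ⟶ ⊥_ (Sh J)) : IsInitial T :=
  IsInitial.ofUniqueHom (fun Y => φ ≫ initial.to Y) (fun _ _ => eq_of_hom_to_initial φ _ _)

/-- necessary conditions for `eps X` to be the coproduct of the `eps (Y i)` -/
theorem of_isColimit_cofan_eps {X : C} {ι : Type u} (Y : ι → C) (s : ∀ i, Y i ⟶ X)
    (hc : IsColimit (Cofan.mk (eps J X) (fun i => epsMap J (s i)))) :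
    Sieve.ofArrows Y s ∈ J X ∧
      (∀ i, IsIso ((presheafToSheaf J (Type u)).map (pullback.diagonal (yoneda.map (s i))))) ∧
      (∀ i j, i ≠ j → Nonempty (IsInitial ((presheafToSheaf J (Type u)).obj
        (pullback (yoneda.map (s i)) (yoneda.map (s j)))))) := by
  refine ⟨ofArrows_mem_of_jls J Y s (jls_inj _ hc), fun i => ?_, fun i j hij => ?_⟩
  · have : Mono ((presheafToSheaf J (Type u)).map (yoneda.map (s i))) := mono_inj _ hc i
    exact isIso_map_diagonal_of_mono J _
  · have hpb := (IsPullback.of_hasPullback (yoneda.map (s i)) (yoneda.map (s j))).map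
      (presheafToSheaf J (Type u))
    obtain ⟨φ⟩ := exists_to_initial _ hc hij _ _ hpb.w
    exact ⟨isInitialOfHomToInitial J φ⟩

end Groth.Agent.Lib.Helper13.ToposQC
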