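import Groth.Prelude.Def_SGA4c
import Mathlib.CategoryTheory.Sites.Canonical
import Mathlib.CategoryTheory.Limits.VanKampen
import Mathlib.CategoryTheory.Limits.Shapes.DisjointCoproduct
import Groth.Agent.Lib.Helper13.ToposEps7

/-!
# Coproduct decompositions of `eps X` for a subcanonical topology and disjoint universal coproducts
-/

universe w w' u

open CategoryTheory CategoryTheory.Limits Opposite

namespace Groth.Agent.Lib.Helper13.ToposQC

open ToposFin

variable {C : Type u} [SmallCategory C] (J : GrothendieckTopology C)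

/-- for a subcanonical topology, a coproduct decomposition of `eps X` comes from one of `X` -/
theorem isColimit_of_isColimit_cofan_eps (hsub : ∀ T : C, Presieve.IsSheaf J (yoneda.obj T))
    {X : C} {ι : Type u} (Y : ι → C) (s : ∀ i, Y i ⟶ X)
    (hc : Nonempty (IsColimit (Cofan.mk (eps J X) (fun i => epsMap J (s i))))) :
    Nonempty (IsColimit (Cofan.mk X s)) := by
  have H := (isColimit_cofan_eps_iff J Y s).1 hc
  have HT : ∀ T : C, Function.Bijective (fun (a : X ⟶ T) (i : ι) => s i ≫ a) := fun T =>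
    H ⟨yoneda.obj T, (isSheaf_iff_isSheaf_of_type _ _).2 (hsub T)⟩
  have hex : ∀ t : Cofan Y, ∃ a : X ⟶ t.pt, ∀ i, s i ≫ a = t.inj i := by
    intro t
    obtain ⟨a, ha⟩ := (HT t.pt).2 (fun i => t.inj i)
    exact ⟨a, fun i => congrFun ha i⟩
  choose a ha using hex
  refine ⟨mkCofanColimit _ (fun t => a t) (fun t i => ha t i) (fun t m hm => ?_)⟩
  apply (HT t.pt).1
  funext i
  change s i ≫ m = s i ≫ a t
  rw [ha]
  exact hm i

/-- an object over which the empty sieve is covering is initial, for a subcanonical topology -/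
theorem isInitial_of_bot_mem (hsub : ∀ T : C, Presieve.IsSheaf J (yoneda.obj T)) {Z : C}
    (h : (⊥ : Sieve Z) ∈ J Z) : Nonempty (IsInitial Z) := by
  have key : ∀ T : C, Nonempty (Unique (Z ⟶ T)) := by
    intro T
    obtain ⟨t, -, ht⟩ := hsub T (⊥ : Sieve Z) h (fun _ _ hf => hf.elim)
      (fun _ _ _ _ _ _ _ h₁ => h₁.elim)
    exact ⟨⟨⟨t⟩, fun a => ht a (fun _ _ hf => hf.elim)⟩⟩
  have : ∀ T : C, Unique (Z ⟶ T) := fun T => (key T).some
  exact ⟨IsInitial.ofUnique Z⟩

/-- the base change of a universal coproduct cofan -/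
theorem pullbackCofan_isColimit {X : C} {ι : Type u} (Y : ι → C) (s : ∀ i, Y i ⟶ X)
    [∀ (i : ι) (Z : C) (g : Z ⟶ X), HasPullback (s i) g]
    (hu : IsUniversalColimit (Cofan.mk X s)) {Z : C} (g : Z ⟶ X) :
    Nonempty (IsColimit (Cofan.mk Z (fun k => pullback.snd (s k) g))) := by
  refine hu (Cofan.mk Z (fun k => pullback.snd (s k) g))
    (Discrete.natTrans (fun k => pullback.fst (s k.as) g)) g ?_ (.of_discrete _) ?_
  · ext ⟨k⟩
    exact pullback.condition
  · rintro ⟨k⟩
    exact (IsPullback.of_hasPullback (s k) g).flip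

/-- disjointness and universality force objects over two different summands to be initial -/
theorem isInitial_of_universal {X : C} {ι : Type u} (Y : ι → C) (s : ∀ i, Y i ⟶ X)
    [∀ (i : ι) (Z : C) (g : Z ⟶ X), HasPullback (s i) g]
    (hu : IsUniversalColimit (Cofan.mk X s)) {i j : ι} (hij : i ≠ j)
    (hI : IsInitial (pullback (s i) (s j))) {W : C} (wi : W ⟶ Y i) (wj : W ⟶ Y j)
    (hw : wi ≫ s i = wj ≫ s j) : Nonempty (IsInitial W) := by
  classical
  obtain ⟨hc⟩ := pullbackCofan_isColimit Y s hu (wi ≫ s i)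
  let σi : W ⟶ pullback (s i) (wi ≫ s i) := pullback.lift wi (𝟙 W) (by simp)
  let σj : W ⟶ pullback (s j) (wi ≫ s i) := pullback.lift wj (𝟙 W) (by simp [hw])
  have hσi : σi ≫ pullback.snd (s i) (wi ≫ s i) = 𝟙 W := pullback.lift_snd _ _ _
  have hσj : σj ≫ pullback.snd (s j) (wi ≫ s i) = 𝟙 W := pullback.lift_snd _ _ _
  have huniq : ∀ (T : C) (p q : W ⟶ T), p = q := by
    intro T p q
    let t : W ⟶ T := Cofan.IsColimit.desc hc
      (fun k => if k = i then pullback.snd (s k) (wi ≫ s i) ≫ p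
        else pullback.snd (s k) (wi ≫ s i) ≫ q)
    have h1 : pullback.snd (s i) (wi ≫ s i) ≫ t = pullback.snd (s i) (wi ≫ s i) ≫ p := by
      have := Cofan.IsColimit.fac hc
        (fun k => if k = i then pullback.snd (s k) (wi ≫ s i) ≫ p
          else pullback.snd (s k) (wi ≫ s i) ≫ q) i
      simpa using this
    have h2 : pullback.snd (s j) (wi ≫ s i) ≫ t = pullback.snd (s j) (wi ≫ s i) ≫ q := by
      have := Cofan.IsColimit.fac hc
        (fun k => if k = i then pullback.snd (s k) (wi ≫ s i) ≫ p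
          else pullback.snd (s k) (wi ≫ s i) ≫ q) j
      simpa [Ne.symm hij] using this
    have e1 : t = p := by
      have := σi ≫= h1
      rwa [← Category.assoc, ← Category.assoc, hσi, Category.id_comp, Category.id_comp] at this
    have e2 : t = q := by
      have := σj ≫= h2
      rwa [← Category.assoc, ← Category.assoc, hσj, Category.id_comp, Category.id_comp] at this
    exact e1.symm.trans e2
  exact ⟨IsInitial.ofUniqueHom (fun T => pullback.lift wi wj hw ≫ hI.to T)
    (fun T m => huniq T _ _)⟩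

/-- a universal coproduct cofan generates a covering sieve of the canonical topology -/
theorem ofArrows_mem_canonical_of_universal {X : C} {ι : Type u} (Y : ι → C) (s : ∀ i, Y i ⟶ X)
    [∀ (i : ι) (Z : C) (g : Z ⟶ X), HasPullback (s i) g]
    (hu : IsUniversalColimit (Cofan.mk X s)) :
    Sieve.ofArrows Y s ∈ Sheaf.canonicalTopology C X := by
  apply Sheaf.mem_finestTopology_of_forall_isSheafFor
  rintro P ⟨T, rfl⟩ Z g
  have hS : (Sieve.ofArrows Y s).pullback g =
      Sieve.ofArrows (fun k => pullback (s k) g) (fun k => pullback.snd (s k) g) := by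
    ext W k
    rw [Sieve.mem_ofArrows_iff]
    change Sieve.ofArrows Y s (k ≫ g) ↔ _
    rw [Sieve.mem_ofArrows_iff]
    constructor
    · rintro ⟨i, m, hm⟩
      exact ⟨i, pullback.lift m k hm.symm, (pullback.lift_snd _ _ _).symm⟩
    · rintro ⟨i, m, rfl⟩
      exact ⟨i, m ≫ pullback.fst (s i) g, by
        rw [Category.assoc, Category.assoc, pullback.condition]⟩
  rw [hS]
  change Presieve.IsSheafFor _ (Sieve.generate (Presieve.ofArrows _ _)).arrows
  rw [← Presieve.isSheafFor_iff_generate, Presieve.isSheafFor_arrows_iff]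
  obtain ⟨hc⟩ := pullbackCofan_isColimit Y s hu g
  intro x _
  refine ⟨Cofan.IsColimit.desc hc x, fun i => Cofan.IsColimit.fac hc x i, fun t ht => ?_⟩
  apply Cofan.IsColimit.hom_ext hc
  intro i
  rw [Cofan.IsColimit.fac]
  exact ht i

/-- sufficient condition: disjoint universal coproducts decompose `eps X` for the canonical
topology -/
theorem isColimit_cofan_eps_canonical_of_universal {X : C} {ι : Type u} (Y : ι → C)
    (s : ∀ i, Y i ⟶ X) [∀ (i : ι) (Z : C) (g : Z ⟶ X), HasPullback (s i) g]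
    (hmono : ∀ i, Mono (s i))
    (hI : ∀ i j, i ≠ j → Nonempty (IsInitial (pullback (s i) (s j))))
    (hu : IsUniversalColimit (Cofan.mk X s)) :
    Nonempty (IsColimit (Cofan.mk (eps (Sheaf.canonicalTopology C) X)
      (fun i => epsMap (Sheaf.canonicalTopology C) (s i)))) := by
  refine isColimit_cofan_eps_of_locally_disjoint _ Y s
    (ofArrows_mem_canonical_of_universal Y s hu) ?_ ?_
  · intro i Z g g' hg
    have := hmono i
    refine ⟨⊤, GrothendieckTopology.top_mem _ Z, fun W f _ => ?_⟩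
    rw [(cancel_mono (s i)).1 hg]
  · intro i j hij Z gi gj hg
    obtain ⟨hIij⟩ := hI i j hij
    apply Sheaf.mem_finestTopology_of_forall_isSheafFor
    rintro P ⟨T, rfl⟩ W f
    obtain ⟨hW⟩ := isInitial_of_universal Y s hu hij hIij (f ≫ gi) (f ≫ gj)
      (by rw [Category.assoc, Category.assoc, hg])
    rw [Sieve.pullback_bot]
    intro x _
    exact ⟨hW.to T, fun _ _ hf => hf.elim, fun a _ => hW.hom_ext _ _⟩

section necessary

variable (hsub : ∀ T : C, Presieve.IsSheaf J (yoneda.obj T))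
  {X : C} {ι : Type u} (Y : ι → C) (s : ∀ i, Y i ⟶ X)
  (hc : IsColimit (Cofan.mk (eps J X) (fun i => epsMap J (s i))))

include hsub hc

theorem mono_of_isColimit_cofan_eps (i : ι) : Mono (s i) := by
  constructor
  intro Z g g' hg
  obtain ⟨_, hdiag, _⟩ := of_isColimit_cofan_eps J Y s hc
  obtain ⟨S, hS, hSf⟩ := locally_eq_of_isIso_diagonal J (s i) (hdiag i) g g' hg
  exact (hsub (Y i) S hS).isSeparatedFor.ext (fun W f hf => hSf W f hf)

theorem bot_mem_of_isColimit_cofan_eps {i j : ι} (hij : i ≠ j) {Z : C} (gi : Z ⟶ Y i)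
    (gj : Z ⟶ Y j) (hg : gi ≫ s i = gj ≫ s j) : (⊥ : Sieve Z) ∈ J Z := by
  obtain ⟨_, _, hdisj⟩ := of_isColimit_cofan_eps J Y s hc
  obtain ⟨hI⟩ := hdisj i j hij
  exact bot_mem_of_isInitial_pullback J (s i) (s j) hI gi gj hg

theorem isUniversalColimit_of_isColimit_cofan_eps : IsUniversalColimit (Cofan.mk X s) := by
  intro F' c' α f hcomm _ hpb
  have hcov := (of_isColimit_cofan_eps J Y s hc).1
  have hmono := mono_of_isColimit_cofan_eps J hsub Y s hc
  have hcomm' : ∀ k : ι, α.app ⟨k⟩ ≫ s k = c'.ι.app ⟨k⟩ ≫ f := fun k => (hpb ⟨k⟩).w.symm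
  have h' : Nonempty (IsColimit (Cofan.mk (eps J c'.pt)
      (fun k => epsMap J (c'.ι.app ⟨k⟩)))) := by
    refine isColimit_cofan_eps_of_locally_disjoint J (fun k => F'.obj ⟨k⟩)
      (fun k => c'.ι.app ⟨k⟩) ?_ ?_ ?_
    · refine J.superset_covering ?_ (J.pullback_stable f hcov)
      intro W k hk
      change Sieve.ofArrows Y s (k ≫ f) at hk
      rw [Sieve.mem_ofArrows_iff] at hk
      obtain ⟨i, m, hm⟩ := hk
      rw [Sieve.mem_ofArrows_iff]
      exact ⟨i, (hpb ⟨i⟩).lift k m hm, ((hpb ⟨i⟩).lift_fst k m hm).symm⟩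
    · intro i Z g g' hg
      refine ⟨⊤, J.top_mem Z, fun W k _ => ?_⟩
      have := hmono i
      have e : g = g' := by
        apply (hpb ⟨i⟩).hom_ext hg
        rw [← cancel_mono (s i), Category.assoc, Category.assoc, hcomm', ← Category.assoc,
          ← Category.assoc, hg]
      rw [e]
    · intro i j hij Z gi gj hg
      refine bot_mem_of_isColimit_cofan_eps J hsub Y s hc hij (gi ≫ α.app ⟨i⟩) (gj ≫ α.app ⟨j⟩) ?_
      rw [Category.assoc, Category.assoc, hcomm', hcomm', ← Category.assoc, ← Category.assoc, hg]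
  obtain ⟨hc''⟩ := isColimit_of_isColimit_cofan_eps J hsub _ _ h'
  exact ⟨{ desc := fun t => Cofan.IsColimit.desc hc'' (fun i => t.ι.app ⟨i⟩)
           fac := fun t ⟨i⟩ => Cofan.IsColimit.fac hc'' _ i
           uniq := fun t m hm => Cofan.IsColimit.hom_ext hc'' _ _ (fun i => by
              rw [Cofan.IsColimit.fac]; exact hm ⟨i⟩) }⟩

end necessary

end Groth.Agent.Lib.Helper13.ToposQC
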