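import Groth.Prelude.Def_SGA4c
import Groth.Prelude.Def_SGA4a
import Mathlib.CategoryTheory.Limits.VanKampen
import Mathlib.CategoryTheory.Limits.Shapes.DisjointCoproduct
import Groth.Agent.Lib.Helper13.ToposEps7

/-!
# Giraud's exactness properties for sheaves of sets on a small site: coproducts
-/

universe w w' u

open CategoryTheory CategoryTheory.Limits Opposite

namespace Groth.Agent.Lib.Helper13.ToposQC

open ToposFin

variable {C : Type u} [SmallCategory C] {J : GrothendieckTopology C}

theorem injective_app_of_mono {A B : Sh J} (φ : A ⟶ B) [Mono φ] (U : Cᵒᵖ) :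
    Function.Injective (φ.hom.app U) := by
  have h1 : Mono ((sheafToPresheaf J (Type u)).map φ) := inferInstance
  have h2 : Mono (φ.hom.app U) := (NatTrans.mono_iff_mono_app φ.hom).1 h1 U
  exact (mono_iff_injective _).1 h2

theorem secMap_comp {F G : Sh J} {V : C} (a : F.obj.obj (op V)) (m : F ⟶ G) :
    secMap J a ≫ m = secMap J (m.hom.app (op V) a) := by
  apply eps_hom_ext
  rw [comp_app_apply, secMap_self_epsOf, secMap_self_epsOf]

/-- a jointly locally surjective family of monomorphisms with locally disjoint images is a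
coproduct -/
theorem isColimit_cofan_of_jls_mono_disjoint {T : Sh J} {ι : Type u} {F : ι → Sh J}
    (π : ∀ i, F i ⟶ T) (h1 : JLS π) (h2 : ∀ i, Mono (π i))
    (h3 : ∀ i j, i ≠ j → ∀ (V : C) (a : (F i).obj.obj (op V)) (b : (F j).obj.obj (op V)),
      (π i).hom.app (op V) a = (π j).hom.app (op V) b → (⊥ : Sieve V) ∈ J V) :
    Nonempty (IsColimit (Cofan.mk T π)) := by
  have hepi : Epi (Sigma.desc π) := epi_of_jls π h1
  have hmono : Mono (Sigma.desc π) := by
    apply Sheaf.mono_of_injective
    rintro ⟨U⟩ a b hab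
    have hsep : Presieve.IsSheaf J (∐ F).obj := (isSheaf_iff_isSheaf_of_type _ _).1 (∐ F).property
    have hjls := jls_inj (Cofan.mk (∐ F) (Sigma.ι F)) (coproductIsCoproduct F)
    refine (hsep _ (J.intersection_covering (hjls U a) (hjls U b))).isSeparatedFor.ext ?_
    rintro V f ⟨⟨i, a', ha'⟩, ⟨j, b', hb'⟩⟩
    change (Sigma.ι F i).hom.app (op V) a' = (∐ F).obj.map f.op a at ha'
    change (Sigma.ι F j).hom.app (op V) b' = (∐ F).obj.map f.op b at hb'
    have e : (π i).hom.app (op V) a' = (π j).hom.app (op V) b' := by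
      have e1 : (π i).hom.app (op V) a' =
          (Sigma.desc π).hom.app (op V) ((Sigma.ι F i).hom.app (op V) a') := by
        rw [← comp_app_apply, Sigma.ι_desc]
      have e2 : (π j).hom.app (op V) b' =
          (Sigma.desc π).hom.app (op V) ((Sigma.ι F j).hom.app (op V) b') := by
        rw [← comp_app_apply, Sigma.ι_desc]
      rw [e1, e2, ha', hb', nat_apply, nat_apply, hab]
    by_cases hij : i = j
    · subst hij
      have := h2 i
      have e' := injective_app_of_mono (π i) (op V) e
      rw [← ha', ← hb', e']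
    · have := subsingleton_of_bot_mem J (∐ F) (h3 i j hij V a' b' e)
      exact Subsingleton.elim _ _
  have hiso : IsIso (Sigma.desc π) := isIso_of_mono_of_epi _
  let e : ∐ F ≅ T := asIso (Sigma.desc π)
  refine ⟨IsColimit.ofIsoColimit (coproductIsCoproduct F) (Cocones.ext e ?_)⟩
  rintro ⟨i⟩
  exact Sigma.ι_desc π i

section coproducts

variable {ι : Type u} {X : ι → Sh J} (c : Cofan X) (hc : IsColimit c)

include hc

/-- sections of two different summands which agree in the coproduct only exist over objects covered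
by the empty sieve -/
theorem bot_mem_of_inj_eq {i j : ι} (hij : i ≠ j) (V : C) (a : (X i).obj.obj (op V))
    (b : (X j).obj.obj (op V)) (h : (c.inj i).hom.app (op V) a = (c.inj j).hom.app (op V) b) :
    (⊥ : Sieve V) ∈ J V := by
  obtain ⟨g⟩ := exists_to_initial c hc hij (secMap J a) (secMap J b)
    (by rw [secMap_comp, secMap_comp, h])
  exact bot_mem_of_section_initial J initialIsInitial (g.hom.app (op V) (epsOf J (𝟙 V)))

theorem coproductDisjoint_of_isColimit : CoproductDisjoint X := by
  have : ∀ i, Mono (c.inj i) := fun i => mono_inj c hc i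
  refine CoproductDisjoint.of_cofan hc (fun {i j} _ => pullback.cone (c.inj i) (c.inj j))
    (fun {i j} _ => pullback.isLimit (c.inj i) (c.inj j)) (fun {i j} hij => ?_)
  exact isInitialOfHomToInitial J (exists_to_initial c hc hij (pullback.fst (c.inj i) (c.inj j))
    (pullback.snd (c.inj i) (c.inj j)) pullback.condition).some

theorem isUniversalColimit_of_isColimit : IsUniversalColimit c := by
  intro F' c' α f _ _ hpb
  have h' : Nonempty (IsColimit (Cofan.mk c'.pt (fun i => c'.ι.app ⟨i⟩))) := by
    refine isColimit_cofan_of_jls_mono_disjoint (fun i => c'.ι.app ⟨i⟩) ?_ ?_ ?_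
    · exact jls_of_isPullback (fun i => c.inj i) (jls_inj c hc) f (fun i => c'.ι.app ⟨i⟩)
        (fun i => α.app ⟨i⟩) (fun i => (hpb ⟨i⟩).flip)
    · intro i
      have : Mono (c.ι.app ⟨i⟩) := mono_inj c hc i
      exact PullbackCone.mono_fst_of_is_pullback_of_mono (hpb ⟨i⟩).isLimit
    · intro i j hij V a b hab
      refine bot_mem_of_inj_eq c hc hij V ((α.app ⟨i⟩).hom.app (op V) a)
        ((α.app ⟨j⟩).hom.app (op V) b) ?_
      have e1 : (c.inj i).hom.app (op V) ((α.app ⟨i⟩).hom.app (op V) a) =
          f.hom.app (op V) ((c'.ι.app ⟨i⟩).hom.app (op V) a) := by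
        rw [← comp_app_apply, ← comp_app_apply]
        exact congrArg (fun m => m.hom.app (op V) a) (hpb ⟨i⟩).w.symm
      have e2 : (c.inj j).hom.app (op V) ((α.app ⟨j⟩).hom.app (op V) b) =
          f.hom.app (op V) ((c'.ι.app ⟨j⟩).hom.app (op V) b) := by
        rw [← comp_app_apply, ← comp_app_apply]
        exact congrArg (fun m => m.hom.app (op V) b) (hpb ⟨j⟩).w.symm
      rw [e1, e2, hab]
  obtain ⟨hc''⟩ := h'
  exact ⟨{ desc := fun t => Cofan.IsColimit.desc hc'' (fun i => t.ι.app ⟨i⟩)
           fac := fun t ⟨i⟩ => Cofan.IsColimit.fac hc'' _ i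
           uniq := fun t m hm => Cofan.IsColimit.hom_ext hc'' _ _ (fun i => by
              rw [Cofan.IsColimit.fac]; exact hm ⟨i⟩) }⟩

end coproducts

theorem hasDisjointUniversalCoproducts (J : GrothendieckTopology C) :
    SGA4.HasDisjointUniversalCoproducts.{u + 1, u} (Sheaf J (Type u)) := by
  intro ι X
  exact ⟨Cofan.mk (∐ X) (Sigma.ι X), coproductIsCoproduct X,
    coproductDisjoint_of_isColimit _ (coproductIsCoproduct X),
    isUniversalColimit_of_isColimit _ (coproductIsCoproduct X)⟩

end Groth.Agent.Lib.Helper13.ToposQC
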