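import Groth.Prelude.Def_SGA4c
import Groth.Prelude.Def_SGA4a
import Mathlib.CategoryTheory.Sites.RegularEpi
import Groth.Agent.Lib.Helper13.ToposGiraud

/-!
# Giraud's exactness properties for sheaves of sets on a small site: equivalence relations
-/

universe w w' u

open CategoryTheory CategoryTheory.Limits Opposite

namespace Groth.Agent.Lib.Helper13.ToposQC

open ToposFin

variable {C : Type u} [SmallCategory C] {J : GrothendieckTopology C}

variable {R A : Sh J} (p₁ p₂ : R ⟶ A)

/-- the sectionwise relation defined by a pair of parallel morphisms -/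
def secRel (U : Cᵒᵖ) (a b : A.obj.obj U) : Prop :=
  ∃ r : R.obj.obj U, p₁.hom.app U r = a ∧ p₂.hom.app U r = b

theorem secRel_map {U V : Cᵒᵖ} (f : U ⟶ V) {a b : A.obj.obj U} (h : secRel p₁ p₂ U a b) :
    secRel p₁ p₂ V (A.obj.map f a) (A.obj.map f b) := by
  obtain ⟨r, rfl, rfl⟩ := h
  exact ⟨R.obj.map f r, NatTrans.naturality_apply p₁.hom f r,
    NatTrans.naturality_apply p₂.hom f r⟩

/-- the presheaf quotient -/
def quotPresheaf : Cᵒᵖ ⥤ Type u where
  obj U := Quot (secRel p₁ p₂ U)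
  map {U V} f := ↾(Quot.map (A.obj.map f) (fun _ _ h => secRel_map p₁ p₂ f h))
  map_id U := by
    apply ConcreteCategory.hom_ext
    intro x
    induction x using Quot.ind with
    | mk a =>
      change Quot.mk _ (A.obj.map (𝟙 U) a) = Quot.mk _ a
      rw [A.obj.map_id_apply]
  map_comp f g := by
    apply ConcreteCategory.hom_ext
    intro x
    induction x using Quot.ind with
    | mk a =>
      change Quot.mk _ (A.obj.map (f ≫ g) a) = Quot.mk _ (A.obj.map g (A.obj.map f a))
      rw [A.obj.map_comp_apply]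

/-- the projection to the presheaf quotient -/
def quotProj : A.obj ⟶ quotPresheaf p₁ p₂ where
  app U := ↾(Quot.mk _)
  naturality U V f := by
    apply ConcreteCategory.hom_ext
    intro a
    rfl

/-- the morphism to the sheafified quotient -/
noncomputable def quotMap : A ⟶ (presheafToSheaf J (Type u)).obj (quotPresheaf p₁ p₂) :=
  ⟨quotProj p₁ p₂ ≫ toSheafify J (quotPresheaf p₁ p₂)⟩

theorem quotMap_apply (U : Cᵒᵖ) (a : A.obj.obj U) :
    (quotMap p₁ p₂).hom.app U a =
      (toSheafify J (quotPresheaf p₁ p₂)).app U (Quot.mk _ a : (quotPresheaf p₁ p₂).obj U) := rfl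

theorem quotMap_condition : p₁ ≫ quotMap p₁ p₂ = p₂ ≫ quotMap p₁ p₂ := by
  apply Sheaf.hom_ext
  apply NatTrans.ext
  funext U
  apply ConcreteCategory.hom_ext
  intro r
  change (quotMap p₁ p₂).hom.app U (p₁.hom.app U r) = (quotMap p₁ p₂).hom.app U (p₂.hom.app U r)
  rw [quotMap_apply, quotMap_apply]
  congr 1
  exact Quot.sound ⟨r, rfl, rfl⟩

theorem secRel_of_quotMap_eq (hEq : ∀ U : Cᵒᵖ, Equivalence (secRel p₁ p₂ U)) {U : C}
    (a b : A.obj.obj (op U))
    (h : (quotMap p₁ p₂).hom.app (op U) a = (quotMap p₁ p₂).hom.app (op U) b) :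
    ∃ S ∈ J U, ∀ (V : C) (f : V ⟶ U), S f →
      secRel p₁ p₂ (op V) (A.obj.map f.op a) (A.obj.map f.op b) := by
  rw [quotMap_apply, quotMap_apply] at h
  refine ⟨_, Presheaf.equalizerSieve_mem J (toSheafify J (quotPresheaf p₁ p₂)) _ _ h, ?_⟩
  intro V f hf
  change (quotPresheaf p₁ p₂).map f.op (Quot.mk _ a) = (quotPresheaf p₁ p₂).map f.op (Quot.mk _ b)
    at hf
  change Quot.mk (secRel p₁ p₂ (op V)) (A.obj.map f.op a) = Quot.mk _ (A.obj.map f.op b) at hf
  exact (hEq (op V)).eqvGen_iff.1 (Quot.eqvGen_exact hf)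

theorem secRel_iff (U : C) (a b : A.obj.obj (op U)) :
    secRel p₁ p₂ (op U) a b ↔
      ∃ f : eps J U ⟶ R, f ≫ p₁ = secMap J a ∧ f ≫ p₂ = secMap J b := by
  constructor
  · rintro ⟨r, rfl, rfl⟩
    exact ⟨secMap J r, secMap_comp r p₁, secMap_comp r p₂⟩
  · rintro ⟨f, h1, h2⟩
    refine ⟨f.hom.app (op U) (epsOf J (𝟙 U)), ?_, ?_⟩
    · rw [← comp_app_apply, h1, secMap_self_epsOf]
    · rw [← comp_app_apply, h2, secMap_self_epsOf]

theorem secRel_equivalence (hR : SGA4.IsEquivRel p₁ p₂) (U : Cᵒᵖ) :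
    Equivalence (secRel p₁ p₂ U) := by
  obtain ⟨U⟩ := U
  have hE := (hR (eps J U)).2
  refine ⟨fun a => ?_, fun {a b} h => ?_, fun {a b c} h1 h2 => ?_⟩
  · exact (secRel_iff p₁ p₂ U a a).2 (hE.refl (secMap J a))
  · exact (secRel_iff p₁ p₂ U b a).2 (hE.symm ((secRel_iff p₁ p₂ U a b).1 h))
  · exact (secRel_iff p₁ p₂ U a c).2
      (hE.trans ((secRel_iff p₁ p₂ U a b).1 h1) ((secRel_iff p₁ p₂ U b c).1 h2))

/-- effectiveness: an equivalence relation of sheaves is the kernel pair of its coequalizer -/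
theorem isPullback_of_isEquivRel_of_isColimit (hR : SGA4.IsEquivRel p₁ p₂) {B : Sh J}
    (π : A ⟶ B) (w : p₁ ≫ π = p₂ ≫ π) (hπ : IsColimit (Cofork.ofπ π w)) :
    IsPullback p₁ p₂ π π := by
  let h : B ⟶ (presheafToSheaf J (Type u)).obj (quotPresheaf p₁ p₂) :=
    Cofork.IsColimit.desc hπ (quotMap p₁ p₂) (quotMap_condition p₁ p₂)
  have hh : π ≫ h = quotMap p₁ p₂ := Cofork.IsColimit.π_desc hπ
  let k : R ⟶ pullback π π := pullback.lift p₁ p₂ w
  have hk1 : k ≫ pullback.fst π π = p₁ := pullback.lift_fst _ _ _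
  have hk2 : k ≫ pullback.snd π π = p₂ := pullback.lift_snd _ _ _
  have hmono : Mono k := by
    constructor
    intro T g g' hg
    apply (hR T).1
    have e1 : g ≫ p₁ = g' ≫ p₁ := by
      rw [← hk1, ← Category.assoc, ← Category.assoc, hg]
    have e2 : g ≫ p₂ = g' ≫ p₂ := by
      rw [← hk2, ← Category.assoc, ← Category.assoc, hg]
    exact Prod.ext e1 e2
  have hls : Sheaf.IsLocallySurjective k := by
    constructor
    intro U z
    have hab : π.hom.app (op U) ((pullback.fst π π).hom.app (op U) z) =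
        π.hom.app (op U) ((pullback.snd π π).hom.app (op U) z) := condition_apply π π (op U) z
    have hq : (quotMap p₁ p₂).hom.app (op U) ((pullback.fst π π).hom.app (op U) z) =
        (quotMap p₁ p₂).hom.app (op U) ((pullback.snd π π).hom.app (op U) z) := by
      rw [← hh, comp_app_apply, comp_app_apply, hab]
    obtain ⟨S, hS, hSf⟩ := secRel_of_quotMap_eq p₁ p₂ (secRel_equivalence p₁ p₂ hR) _ _ hq
    refine J.superset_covering ?_ hS
    intro V f hf
    obtain ⟨r, hr1, hr2⟩ := hSf V f hf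
    refine ⟨r, ?_⟩
    apply ext_section_of_isPullback (IsPullback.of_hasPullback π π) (op V)
    · change (pullback.fst π π).hom.app (op V) (k.hom.app (op V) r) =
        (pullback.fst π π).hom.app (op V) ((pullback π π).obj.map f.op z)
      rw [← comp_app_apply, hk1, hr1, nat_apply]
    · change (pullback.snd π π).hom.app (op V) (k.hom.app (op V) r) =
        (pullback.snd π π).hom.app (op V) ((pullback π π).obj.map f.op z)
      rw [← comp_app_apply, hk2, hr2, nat_apply]
  have hepi : Epi k := inferInstance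
  have hiso : IsIso k := isIso_of_mono_of_epi k
  exact IsPullback.of_iso_pullback ⟨w⟩ (asIso k) hk1 hk2

/-- the coequalizer square of a reflexive pair is a pushout -/
theorem isPushout_of_isEquivRel_of_isColimit (hR : SGA4.IsEquivRel p₁ p₂) {B : Sh J}
    (π : A ⟶ B) (w : p₁ ≫ π = p₂ ≫ π) (hπ : IsColimit (Cofork.ofπ π w)) :
    IsPushout p₁ p₂ π π := by
  obtain ⟨r₀, hr1, hr2⟩ := (hR A).2.refl (𝟙 A)
  have heq : ∀ s : PushoutCocone p₁ p₂, s.inl = s.inr := by
    intro s
    calc s.inl = r₀ ≫ p₁ ≫ s.inl := by rw [← Category.assoc, hr1, Category.id_comp]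
      _ = r₀ ≫ p₂ ≫ s.inr := by rw [s.condition]
      _ = s.inr := by rw [← Category.assoc, hr2, Category.id_comp]
  have hcond : ∀ s : PushoutCocone p₁ p₂, p₁ ≫ s.inl = p₂ ≫ s.inl := by
    intro s
    rw [s.condition, heq s]
  refine ⟨⟨w⟩, ⟨PushoutCocone.IsColimit.mk _
    (fun s => Cofork.IsColimit.desc hπ s.inl (hcond s)) (fun s => ?_) (fun s => ?_)
    (fun s m h1 _ => ?_)⟩⟩
  · exact Cofork.IsColimit.π_desc' hπ s.inl (hcond s)
  · rw [← heq s]
    exact Cofork.IsColimit.π_desc' hπ s.inl (hcond s)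
  · apply Cofork.IsColimit.hom_ext hπ
    exact h1.trans (Cofork.IsColimit.π_desc' hπ s.inl (hcond s)).symm

/-- base changes of epimorphisms of sheaves are effective epimorphisms -/
theorem effectiveEpi_pullback_snd_of_epi {A B B' : Sh J} (π : A ⟶ B) [Epi π] (g : B' ⟶ B) :
    EffectiveEpi (pullback.snd π g) := by
  have h1 : Sheaf.IsLocallySurjective π := (Sheaf.isLocallySurjective_iff_epi π).2 inferInstance
  have h2 : Sheaf.IsLocallySurjective (pullback.snd π g) := by
    constructor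
    intro U t
    refine J.superset_covering ?_ (Presheaf.imageSieve_mem J π.hom (g.hom.app (op U) t))
    rintro V f ⟨a, ha⟩
    have hab : π.hom.app (op V) a = g.hom.app (op V) (B'.obj.map f.op t) := by
      rw [nat_apply]
      exact ha
    obtain ⟨p, -, hp⟩ := exists_section_of_isPullback (IsPullback.of_hasPullback π g) (op V) a
      (B'.obj.map f.op t) hab
    exact ⟨p, hp⟩
  have h3 : Epi (pullback.snd π g) := inferInstance
  rw [← isRegularEpi_iff_effectiveEpi]
  exact IsRegularEpiCategory.regularEpiOfEpi _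

/-- every equivalence relation of sheaves of sets is effective and universal -/
theorem isEffectiveUniversalEquivRel (hR : SGA4.IsEquivRel p₁ p₂) :
    SGA4.IsEffectiveUniversalEquivRel p₁ p₂ := by
  have hπ : IsColimit (Cofork.ofπ (coequalizer.π p₁ p₂) (coequalizer.condition p₁ p₂)) :=
    coequalizerIsCoequalizer p₁ p₂
  refine ⟨coequalizer p₁ p₂, coequalizer.π p₁ p₂,
    isPullback_of_isEquivRel_of_isColimit p₁ p₂ hR _ _ hπ,
    isPushout_of_isEquivRel_of_isColimit p₁ p₂ hR _ _ hπ, fun B' g => ?_⟩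
  exact effectiveEpi_pullback_snd_of_epi _ g

end Groth.Agent.Lib.Helper13.ToposQC
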