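import Groth.Prelude.Def_SGA4c
import Groth.Prelude.Def_SGA4a
import Mathlib.CategoryTheory.Sites.Canonical
import Mathlib.CategoryTheory.Sites.EffectiveEpimorphic
import Groth.Agent.Lib.Helper13.ToposGiraud2

/-!
# Effective universal equivalence relations and the canonical topology
-/

universe w w' u

open CategoryTheory CategoryTheory.Limits Opposite

namespace Groth.Agent.Lib.Helper13.ToposQC

open ToposFin

section general

variable {D : Type*} [Category D] {R X B : D} (p₁ p₂ : R ⟶ X)

/-- the coequalizer square of a reflexive pair is a pushout -/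
theorem isPushout_of_refl_of_isColimit (r₀ : X ⟶ R) (hr1 : r₀ ≫ p₁ = 𝟙 X) (hr2 : r₀ ≫ p₂ = 𝟙 X)
    (π : X ⟶ B) (w : p₁ ≫ π = p₂ ≫ π) (hπ : IsColimit (Cofork.ofπ π w)) :
    IsPushout p₁ p₂ π π := by
  have heq : ∀ s : PushoutCocone p₁ p₂, s.inl = s.inr := by
    intro s
    calc s.inl = r₀ ≫ p₁ ≫ s.inl := by rw [← Category.assoc, hr1, Category.id_comp]
      _ = r₀ ≫ p₂ ≫ s.inr := by rw [s.condition]
      _ = s.inr := by rw [← Category.assoc, hr2, Category.id_comp]
  have hcond : ∀ s : PushoutCocone p₁ p₂, p₁ ≫ s.inl = p₂ ≫ s.inl := by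
    intro s
    rw [s.condition, heq s]
  refine ⟨⟨w⟩, ⟨PushoutCocone.IsColimit.mk _
    (fun s => Cofork.IsColimit.desc hπ s.inl (hcond s)) (fun s => ?_) (fun s => ?_)
    (fun s m h1 _ => ?_)⟩⟩
  · exact Cofork.IsColimit.π_desc' hπ s.inl (hcond s)
  · rw [← heq s]
    exact Cofork.IsColimit.π_desc' hπ s.inl (hcond s)
  · apply Cofork.IsColimit.hom_ext hπ
    exact h1.trans (Cofork.IsColimit.π_desc' hπ s.inl (hcond s)).symm

/-- a pushout square with equal legs gives a coequalizer -/
noncomputable def isColimitCoforkOfIsPushout {π : X ⟶ B} (h : IsPushout p₁ p₂ π π) :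
    IsColimit (Cofork.ofπ π h.w) :=
  Cofork.IsColimit.mk _ (fun s => h.desc s.π s.π s.condition) (fun s => h.inl_desc _ _ _)
    (fun s m hm => by
      apply h.hom_ext
      · rw [h.inl_desc]; exact hm
      · rw [h.inr_desc]; exact hm)

end general

variable {C : Type u} [SmallCategory C]

/-- the sieve generated by a morphism is canonical-covering iff the morphism is a universally
effective epimorphism -/
theorem generateSingleton_mem_canonical_iff [HasPullbacks C] {X B : C} (π : X ⟶ B) :
    Sieve.generateSingleton π ∈ Sheaf.canonicalTopology C B ↔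
      ∀ (B' : C) (g : B' ⟶ B), EffectiveEpi (pullback.snd π g) := by
  have hS : ∀ (B' : C) (g : B' ⟶ B), (Sieve.generateSingleton π).pullback g =
      Sieve.generateSingleton (pullback.snd π g) := by
    intro B' g
    ext W k
    constructor
    · rintro ⟨e, he⟩
      exact ⟨pullback.lift e k he, pullback.lift_snd _ _ _⟩
    · rintro ⟨e, rfl⟩
      exact ⟨e ≫ pullback.fst π g, by rw [Category.assoc, Category.assoc, pullback.condition]⟩
  constructor
  · intro h B' g
    have h1 := (Sheaf.canonicalTopology C).pullback_stable g h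
    rw [hS] at h1
    rw [← Sieve.effectiveEpimorphic_singleton]
    change Sieve.EffectiveEpimorphic _
    rw [Sieve.generateSingleton_eq, Sieve.EffectiveEpimorphic.iff_forall_isSheafFor_yoneda]
    intro W
    exact Sheaf.isSheaf_yoneda_obj W _ h1
  · intro h
    apply Sheaf.mem_finestTopology_of_forall_isSheafFor
    rintro P ⟨W, rfl⟩ B' g
    rw [hS]
    have h1 := (Sieve.effectiveEpimorphic_singleton (pullback.snd π g)).2 (h B' g)
    change Sieve.EffectiveEpimorphic _ at h1
    rw [Sieve.generateSingleton_eq, Sieve.EffectiveEpimorphic.iff_forall_isSheafFor_yoneda] at h1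
    exact h1 W

variable (J : GrothendieckTopology C)

/-- a covering family induces a jointly locally surjective family of `epsMap`s -/
theorem jls_epsMap_of_ofArrows_mem {X : C} {ι : Type u} (Y : ι → C) (s : ∀ i, Y i ⟶ X)
    (hcov : Sieve.ofArrows Y s ∈ J X) : JLS (fun i => epsMap J (s i)) := by
  intro U t
  apply J.transitive (epsOf_locally_surjective J t)
  rintro W f ⟨h, hh⟩
  rw [liftSieve_pullback]
  refine J.superset_covering ?_ (J.pullback_stable h hcov)
  intro W' l hl
  change Sieve.ofArrows Y s (l ≫ h) at hl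
  rw [Sieve.mem_ofArrows_iff] at hl
  obtain ⟨i, m, hm⟩ := hl
  refine ⟨i, epsOf J m, ?_⟩
  change (epsMap J (s i)).hom.app (op W') _ = _
  rw [epsMap_epsOf, ← hm, ← hh]
  exact (epsOf_map J l h).symm

/-- for a subcanonical topology the sections of `eps X` are the morphisms to `X` -/
theorem epsOf_bijective (hsub : ∀ T : C, Presieve.IsSheaf J (yoneda.obj T)) (V X : C) :
    Function.Bijective (epsOf J : (V ⟶ X) → (eps J X).obj.obj (op V)) := by
  have h1 : IsIso (toSheafify J (yoneda.obj X)) :=
    isIso_toSheafify J ((isSheaf_iff_isSheaf_of_type _ _).2 (hsub X))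
  have h2 : IsIso ((toSheafify J (yoneda.obj X)).app (op V)) := inferInstance
  exact (isIso_iff_bijective _).1 h2

end Groth.Agent.Lib.Helper13.ToposQC
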