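import Groth.Prelude.Def_SGA4c
import Groth.Prelude.Def_SGA4a
import Groth.Agent.Lib.Helper13.ToposGiraud3

/-!
# Effective universal equivalence relations and the canonical topology, II
-/

universe w w' u

open CategoryTheory CategoryTheory.Limits Opposite

namespace Groth.Agent.Lib.Helper13.ToposQC

open ToposFin

variable {C : Type u} [SmallCategory C] {J : GrothendieckTopology C}

section sectionwise

variable {R A : Sh J} (p₁ p₂ : R ⟶ A)

/-- effectiveness, with sectionwise hypotheses -/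
theorem isPullback_of_secRel_of_isColimit
    (hinj : ∀ (U : Cᵒᵖ) (r r' : R.obj.obj U), p₁.hom.app U r = p₁.hom.app U r' →
      p₂.hom.app U r = p₂.hom.app U r' → r = r')
    (hEq : ∀ U : Cᵒᵖ, Equivalence (secRel p₁ p₂ U)) {B : Sh J}
    (π : A ⟶ B) (w : p₁ ≫ π = p₂ ≫ π) (hπ : IsColimit (Cofork.ofπ π w)) :
    IsPullback p₁ p₂ π π := by
  let h : B ⟶ (presheafToSheaf J (Type u)).obj (quotPresheaf p₁ p₂) :=
    Cofork.IsColimit.desc hπ (quotMap p₁ p₂) (quotMap_condition p₁ p₂)
  have hh : π ≫ h = quotMap p₁ p₂ := Cofork.IsColimit.π_desc hπ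
  let k : R ⟶ pullback π π := pullback.lift p₁ p₂ w
  have hk1 : k ≫ pullback.fst π π = p₁ := pullback.lift_fst _ _ _
  have hk2 : k ≫ pullback.snd π π = p₂ := pullback.lift_snd _ _ _
  have hmono : Mono k := by
    apply Sheaf.mono_of_injective
    intro U r r' hr
    apply hinj U r r'
    · rw [← hk1, comp_app_apply, comp_app_apply, hr]
    · rw [← hk2, comp_app_apply, comp_app_apply, hr]
  have hls : Sheaf.IsLocallySurjective k := by
    constructor
    intro U z
    have hab : π.hom.app (op U) ((pullback.fst π π).hom.app (op U) z) =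
        π.hom.app (op U) ((pullback.snd π π).hom.app (op U) z) := condition_apply π π (op U) z
    have hq : (quotMap p₁ p₂).hom.app (op U) ((pullback.fst π π).hom.app (op U) z) =
        (quotMap p₁ p₂).hom.app (op U) ((pullback.snd π π).hom.app (op U) z) := by
      rw [← hh, comp_app_apply, comp_app_apply, hab]
    obtain ⟨S, hS, hSf⟩ := secRel_of_quotMap_eq p₁ p₂ hEq _ _ hq
    refine J.superset_covering ?_ hS
    intro V f hf
    obtain ⟨r, hr1, hr2⟩ := hSf V f hf
    refine ⟨r, ?_⟩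
    apply ext_section_of_isPullback (IsPullback.of_hasPullback π π) (op V)
    · change (pullback.fst π π).hom.app (op V) (k.hom.app (op V) r) =
        (pullback.fst π π).hom.app (op V) ((pullback π π).obj.map f.op z)
      rw [← comp_app_apply, hk1, hr1, nat_apply]
    · change (pullback.snd π π).hom.app (op V) (k.hom.app (op V) r) =
        (pullback.snd π π).hom.app (op V) ((pullback π π).obj.map f.op z)
      rw [← comp_app_apply, hk2, hr2, nat_apply]
  have hepi : Epi k := inferInstance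
  have hiso : IsIso k := isIso_of_mono_of_epi k
  exact IsPullback.of_iso_pullback ⟨w⟩ (asIso k) hk1 hk2

end sectionwise

section representable

variable (J) (hsub : ∀ T : C, Presieve.IsSheaf J (yoneda.obj T)) {R X : C} (p₁ p₂ : R ⟶ X)
  (hR : SGA4.IsEquivRel p₁ p₂)

include hsub hR

theorem secRel_epsMap_iff {U : C} (a b : U ⟶ X) :
    secRel (epsMap J p₁) (epsMap J p₂) (op U) (epsOf J a) (epsOf J b) ↔
      ∃ g : U ⟶ R, g ≫ p₁ = a ∧ g ≫ p₂ = b := by
  constructor
  · rintro ⟨r, hr1, hr2⟩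
    obtain ⟨g, rfl⟩ := (epsOf_bijective J hsub U R).2 r
    rw [epsMap_epsOf] at hr1 hr2
    exact ⟨g, (epsOf_bijective J hsub U X).1 hr1, (epsOf_bijective J hsub U X).1 hr2⟩
  · rintro ⟨g, rfl, rfl⟩
    exact ⟨epsOf J g, epsMap_epsOf J g p₁, epsMap_epsOf J g p₂⟩

theorem secRel_epsMap_equivalence (U : Cᵒᵖ) :
    Equivalence (secRel (epsMap J p₁) (epsMap J p₂) U) := by
  obtain ⟨U⟩ := U
  have hE := (hR U).2
  refine ⟨fun a => ?_, fun {a b} h => ?_, fun {a b c} h1 h2 => ?_⟩
  · obtain ⟨a, rfl⟩ := (epsOf_bijective J hsub U X).2 a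
    exact (secRel_epsMap_iff J hsub p₁ p₂ hR a a).2 (hE.refl a)
  · obtain ⟨a, rfl⟩ := (epsOf_bijective J hsub U X).2 a
    obtain ⟨b, rfl⟩ := (epsOf_bijective J hsub U X).2 b
    exact (secRel_epsMap_iff J hsub p₁ p₂ hR b a).2
      (hE.symm ((secRel_epsMap_iff J hsub p₁ p₂ hR a b).1 h))
  · obtain ⟨a, rfl⟩ := (epsOf_bijective J hsub U X).2 a
    obtain ⟨b, rfl⟩ := (epsOf_bijective J hsub U X).2 b
    obtain ⟨c, rfl⟩ := (epsOf_bijective J hsub U X).2 c
    exact (secRel_epsMap_iff J hsub p₁ p₂ hR a c).2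
      (hE.trans ((secRel_epsMap_iff J hsub p₁ p₂ hR a b).1 h1)
        ((secRel_epsMap_iff J hsub p₁ p₂ hR b c).1 h2))

theorem epsMap_jointly_injective (U : Cᵒᵖ) (r r' : (eps J R).obj.obj U)
    (h1 : (epsMap J p₁).hom.app U r = (epsMap J p₁).hom.app U r')
    (h2 : (epsMap J p₂).hom.app U r = (epsMap J p₂).hom.app U r') : r = r' := by
  obtain ⟨U⟩ := U
  obtain ⟨g, rfl⟩ := (epsOf_bijective J hsub U R).2 r
  obtain ⟨g', rfl⟩ := (epsOf_bijective J hsub U R).2 r'
  rw [epsMap_epsOf, epsMap_epsOf] at h1 h2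
  have e1 := (epsOf_bijective J hsub U X).1 h1
  have e2 := (epsOf_bijective J hsub U X).1 h2
  rw [(hR U).1 (Prod.ext e1 e2)]

/-- if `eps` takes the cofork to a coequalizer, the equivalence relation is the kernel pair of the
quotient map -/
theorem isPullback_of_isColimit_eps {B : C} (π : X ⟶ B) (w : p₁ ≫ π = p₂ ≫ π)
    (w' : epsMap J p₁ ≫ epsMap J π = epsMap J p₂ ≫ epsMap J π)
    (hπ : IsColimit (Cofork.ofπ (epsMap J π) w')) : IsPullback p₁ p₂ π π := by
  have hpb := isPullback_of_secRel_of_isColimit (epsMap J p₁) (epsMap J p₂)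
    (epsMap_jointly_injective J hsub p₁ p₂ hR) (secRel_epsMap_equivalence J hsub p₁ p₂ hR)
    (epsMap J π) w' hπ
  have hex : ∀ s : PullbackCone π π, ∃ g : s.pt ⟶ R, g ≫ p₁ = s.fst ∧ g ≫ p₂ = s.snd := by
    intro s
    have hab : (epsMap J π).hom.app (op s.pt) (epsOf J s.fst) =
        (epsMap J π).hom.app (op s.pt) (epsOf J s.snd) := by
      rw [epsMap_epsOf, epsMap_epsOf, s.condition]
    exact (secRel_epsMap_iff J hsub p₁ p₂ hR s.fst s.snd).1
      (exists_section_of_isPullback hpb (op s.pt) _ _ hab)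
  choose g hg1 hg2 using hex
  refine ⟨⟨w⟩, ⟨PullbackCone.IsLimit.mk _ (fun s => g s) (fun s => hg1 s) (fun s => hg2 s)
    (fun s m h1 h2 => ?_)⟩⟩
  apply (hR s.pt).1
  exact Prod.ext (h1.trans (hg1 s).symm) (h2.trans (hg2 s).symm)

end representable

end Groth.Agent.Lib.Helper13.ToposQC
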