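import Groth.Prelude.Def_SGA4c
import Groth.Agent.Lib.Helper13.ToposQC16

/-!
# Coproducts in a topos of sheaves of sets: quasi-separatedness
-/

universe w w' u

open CategoryTheory CategoryTheory.Limits Opposite

namespace Groth.Agent.Lib.Helper13.ToposQC

open ToposFin

variable {C : Type u} [SmallCategory C] {J : GrothendieckTopology C}

/-- an object all of whose maps to `⊤ ⨿ ⊤` agree maps to the initial object -/
theorem exists_to_initial_of_subsingleton {T : Sh J}
    (h : ∀ a b : T ⟶ (⊤_ (Sh J)) ⨿ (⊤_ (Sh J)), a = b) : Nonempty (T ⟶ ⊥_ (Sh J)) := by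
  have hpb := BinaryCofan.isPullback_initial_to_of_isVanKampen
    (FinitaryExtensive.vanKampen _ (coprodIsCoprod (⊤_ (Sh J)) (⊤_ (Sh J))))
  exact ⟨hpb.lift (terminal.from T) (terminal.from T) (h _ _)⟩

section

variable {ι : Type u} {X : ι → Sh J} (c : Cofan X) (hc : IsColimit c)

include hc

theorem jls_pullback_fst_inj {A : Sh J} (a : A ⟶ c.pt) :
    JLS (fun j => pullback.fst a (c.inj j)) :=
  jls_of_isPullback _ (jls_inj c hc) a _ (fun j => pullback.snd a (c.inj j))
    (fun j => (IsPullback.of_hasPullback a (c.inj j)).flip)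

/-- a coproduct of quasi-separated objects is quasi-separated -/
theorem isQS_of_cofan (h : ∀ i, IsQS (X i)) : IsQS c.pt := by
  intro A B a b hA hB
  obtain ⟨s, hs⟩ := (isQC_iff A).mp hA _ _ _ (jls_pullback_fst_inj c hc a)
  have hcond : ∀ i : ι, (pullback.fst (pullback.snd a (c.inj i)) (pullback.snd b (c.inj i)) ≫
      pullback.fst a (c.inj i)) ≫ a =
      (pullback.snd (pullback.snd a (c.inj i)) (pullback.snd b (c.inj i)) ≫
      pullback.fst b (c.inj i)) ≫ b := by
    intro i
    rw [Category.assoc, Category.assoc, pullback.condition, pullback.condition,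
      ← Category.assoc, ← Category.assoc, pullback.condition]
  refine isQC_of_finite_jls
    (fun i : s => pullback (pullback.snd a (c.inj i)) (pullback.snd b (c.inj i)))
    (fun i => pullback.lift _ _ (hcond i)) ?_
    (fun i => h i _ _ _ _ (isQC_pullback_inj c hc hA a i) (isQC_pullback_inj c hc hB b i))
  intro U z
  have hz := condition_apply a b (op U) z
  refine J.superset_covering ?_ (hs U ((pullback.fst a b).hom.app (op U) z))
  rintro V f ⟨i, x', hx'⟩
  have hx'' := condition_apply a (c.inj i) (op V) x'
  have e1 : b.hom.app (op V) (B.obj.map f.op ((pullback.snd a b).hom.app (op U) z)) =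
      (c.inj i).hom.app (op V) ((pullback.snd a (c.inj i)).hom.app (op V) x') := by
    rw [← hx'', hx', nat_apply, nat_apply, hz]
  obtain ⟨y', hy1, hy2⟩ := exists_section_of_isPullback
    (IsPullback.of_hasPullback b (c.inj i)) (op V) _ _ e1
  obtain ⟨p, hp1, hp2⟩ := exists_section_of_isPullback
    (IsPullback.of_hasPullback (pullback.snd a (c.inj i)) (pullback.snd b (c.inj i))) (op V)
    x' y' hy2.symm
  refine ⟨i, p, ?_⟩
  apply ext_section_of_isPullback (IsPullback.of_hasPullback a b) (op V)
  · rw [← comp_app_apply, pullback.lift_fst, comp_app_apply, hp1, hx', nat_apply]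
  · rw [← comp_app_apply, pullback.lift_snd, comp_app_apply, hp2, hy1, nat_apply]

end

end Groth.Agent.Lib.Helper13.ToposQC
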