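import Groth.Prelude.Def_SGA4c
import Groth.Agent.Lib.Helper13.ToposQC17

/-!
# Coproducts in a topos of sheaves of sets: quasi-separated morphisms
-/

universe w w' u

open CategoryTheory CategoryTheory.Limits Opposite

namespace Groth.Agent.Lib.Helper13.ToposQC

open ToposFin

variable {C : Type u} [SmallCategory C] {J : GrothendieckTopology C}

section

variable {ι : Type u} {X : ι → Sh J} (c : Cofan X) (hc : IsColimit c)

include hc

/-- a morphism out of a coproduct is quasi-separated if its components are -/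
theorem isQSHom_of_cofan {Y : Sh J} (f : c.pt ⟶ Y) (h : ∀ i, IsQSHom (c.inj i ≫ f)) :
    IsQSHom f := by
  intro T t hT
  obtain ⟨t1, t2, ht1, ht2⟩ : ∃ t1 t2 : T ⟶ c.pt, t ≫ pullback.fst f f = t1 ∧
    t ≫ pullback.snd f f = t2 := ⟨_, _, rfl, rfl⟩
  have ht12 : t1 ≫ f = t2 ≫ f := by
    rw [← ht1, ← ht2, Category.assoc, Category.assoc, pullback.condition]
  -- the objects `A i`
  have H1 : ∀ i, ∃ (A : Sh J) (p : A ⟶ T) (ξ : A ⟶ X i), IsPullback p ξ t1 (c.inj i) ∧ IsQC A :=
    fun i => ⟨_, _, _, IsPullback.of_hasPullback _ _, isQC_pullback_inj c hc hT _ i⟩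
  choose A p ξ hpbA hA using H1
  have hp : JLS p := jls_of_isPullback _ (jls_inj c hc) t1 p ξ (fun i => (hpbA i).flip)
  obtain ⟨s, hs⟩ := (isQC_iff T).mp hT _ _ _ hp
  -- the objects `B i`
  have H2 : ∀ i, ∃ (B : Sh J) (q : B ⟶ A i) (η : B ⟶ X i),
      IsPullback q η (p i ≫ t2) (c.inj i) ∧ IsQC B :=
    fun i => ⟨_, _, _, IsPullback.of_hasPullback _ _, isQC_pullback_inj c hc (hA i) _ i⟩
  choose B q η hpbB hB using H2
  have H3 : ∀ i, ∃ τ : B i ⟶ pullback (c.inj i ≫ f) (c.inj i ≫ f),
      τ ≫ pullback.fst _ _ = q i ≫ ξ i ∧ τ ≫ pullback.snd _ _ = η i := by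
    intro i
    have e : (q i ≫ ξ i) ≫ c.inj i ≫ f = η i ≫ c.inj i ≫ f := by
      rw [Category.assoc, ← (hpbA i).w_assoc, ← (hpbB i).w_assoc, ht12]
      simp only [Category.assoc]
    exact ⟨pullback.lift _ _ e, pullback.lift_fst _ _ _, pullback.lift_snd _ _ _⟩
  choose τ hτ1 hτ2 using H3
  have H4 : ∀ i, ∃ (E : Sh J) (ε1 : E ⟶ X i) (ε2 : E ⟶ B i),
      IsPullback ε1 ε2 (pullback.diagonal (c.inj i ≫ f)) (τ i) ∧ IsQC E :=
    fun i => ⟨_, _, _, IsPullback.of_hasPullback _ _, h i _ (τ i) (hB i)⟩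
  choose E ε1 ε2 hpbE hE using H4
  have h41 : ∀ i, ε1 i = ε2 i ≫ q i ≫ ξ i := by
    intro i
    have := (hpbE i).w =≫ pullback.fst _ _
    rwa [Category.assoc, Category.assoc, pullback.diagonal_fst, Category.comp_id, hτ1] at this
  have h42 : ∀ i, ε1 i = ε2 i ≫ η i := by
    intro i
    have := (hpbE i).w =≫ pullback.snd _ _
    rwa [Category.assoc, Category.assoc, pullback.diagonal_snd, Category.comp_id, hτ2] at this
  have H5 : ∀ i, ∃ m : E i ⟶ pullback (pullback.diagonal f) t,
      m ≫ pullback.fst _ _ = ε1 i ≫ c.inj i ∧ m ≫ pullback.snd _ _ = ε2 i ≫ q i ≫ p i := by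
    intro i
    have e : (ε1 i ≫ c.inj i) ≫ pullback.diagonal f = (ε2 i ≫ q i ≫ p i) ≫ t := by
      apply pullback.hom_ext
      · rw [Category.assoc, Category.assoc, pullback.diagonal_fst, Category.comp_id,
          Category.assoc, Category.assoc, Category.assoc, ht1, (hpbA i).w, h41 i]
        simp only [Category.assoc]
      · rw [Category.assoc, Category.assoc, pullback.diagonal_snd, Category.comp_id,
          Category.assoc, Category.assoc, Category.assoc, ht2, (hpbB i).w, h42 i]
        simp only [Category.assoc]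
    exact ⟨pullback.lift _ _ e, pullback.lift_fst _ _ _, pullback.lift_snd _ _ _⟩
  choose m hm1 hm2 using H5
  refine isQC_of_finite_jls (fun i : s => E i) (fun i => m i) ?_ (fun i => hE i)
  intro U z
  have hz := condition_apply (pullback.diagonal f) t (op U) z
  have hz1 : t1.hom.app (op U) ((pullback.snd (pullback.diagonal f) t).hom.app (op U) z) =
      (pullback.fst (pullback.diagonal f) t).hom.app (op U) z := by
    rw [← ht1, comp_app_apply, ← hz, ← comp_app_apply, pullback.diagonal_fst]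
    rfl
  have hz2 : t2.hom.app (op U) ((pullback.snd (pullback.diagonal f) t).hom.app (op U) z) =
      (pullback.fst (pullback.diagonal f) t).hom.app (op U) z := by
    rw [← ht2, comp_app_apply, ← hz, ← comp_app_apply, pullback.diagonal_snd]
    rfl
  refine J.superset_covering ?_ (hs U ((pullback.snd (pullback.diagonal f) t).hom.app (op U) z))
  rintro V g ⟨i, α, hα⟩
  have hα' : t1.hom.app (op V) ((p i).hom.app (op V) α) =
      (c.inj i).hom.app (op V) ((ξ i).hom.app (op V) α) := by
    rw [← comp_app_apply, ← comp_app_apply, (hpbA i).w]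
  have e1 : (p i ≫ t2).hom.app (op V) α = (c.inj i).hom.app (op V) ((ξ i).hom.app (op V) α) := by
    rw [← hα', comp_app_apply, hα, nat_apply, hz2, nat_apply, hz1]
  obtain ⟨β, hβ1, hβ2⟩ := exists_section_of_isPullback (hpbB i) (op V) α _ e1
  have e2 : (pullback.diagonal (c.inj i ≫ f)).hom.app (op V) ((ξ i).hom.app (op V) α) =
      (τ i).hom.app (op V) β := by
    apply ext_section_of_isPullback (IsPullback.of_hasPullback (c.inj i ≫ f) (c.inj i ≫ f)) (op V)
    · rw [← comp_app_apply (τ i), hτ1, comp_app_apply, hβ1,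
        ← comp_app_apply (pullback.diagonal _), pullback.diagonal_fst]
      rfl
    · rw [← comp_app_apply (τ i), hτ2, hβ2,
        ← comp_app_apply (pullback.diagonal _), pullback.diagonal_snd]
      rfl
  obtain ⟨ε, hε1, hε2⟩ := exists_section_of_isPullback (hpbE i) (op V) _ β e2
  refine ⟨i, ε, ?_⟩
  apply ext_section_of_isPullback (IsPullback.of_hasPullback (pullback.diagonal f) t) (op V)
  · rw [← comp_app_apply, hm1, comp_app_apply, hε1, ← hα', hα, nat_apply, nat_apply, hz1]
  · rw [← comp_app_apply, hm2, comp_app_apply, comp_app_apply, hε2, hβ1, hα, nat_apply]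

end

end Groth.Agent.Lib.Helper13.ToposQC
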