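import Mathlib
set_option autoImplicit false
open Polynomial

namespace Groth.Agent.Lib.Helper13.ValFin

variable {R B : Type*} [CommRing R] [IsDomain R] [CommRing B] [Algebra R B]

theorem isAlgebraic_residueField_of_quasiFiniteAt (q₀ : Ideal B) [q₀.IsPrime] (h0 : q₀.under R = ⊥)
    [Algebra.QuasiFiniteAt R q₀] (b : B) :
    IsAlgebraic R (algebraMap B q₀.ResidueField b) := by
  have : q₀.LiesOver (⊥ : Ideal R) := ⟨h0.symm⟩
  let := Localization.AtPrime.algebraOfLiesOver (⊥ : Ideal R) q₀
  have : Module.Finite (⊥ : Ideal R).ResidueField q₀.ResidueField := inferInstance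
  have h1 : IsAlgebraic (⊥ : Ideal R).ResidueField (algebraMap B q₀.ResidueField b) :=
    IsAlgebraic.of_finite _ _
  exact (IsFractionRing.isAlgebraic_iff R (⊥ : Ideal R).ResidueField q₀.ResidueField).mpr h1

omit [IsDomain R] in
/-- The inductive core: if `a ∈ q₂`, the primes `q₁ ≤ q₂` lie over the same prime `P` of `R`, and
`a` satisfies modulo `q₁` a polynomial with a coefficient outside `P`, then `a ∈ q₁`. -/
theorem mem_of_aeval_mem (q₁ q₂ : Ideal B) [q₁.IsPrime] [q₂.IsPrime] (h12 : q₁ ≤ q₂)
    (h : q₁.under R = q₂.under R) (a : B) (ha : a ∈ q₂) :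
    ∀ (n : ℕ) (r : R[X]), r.natDegree ≤ n → (∃ i, r.coeff i ∉ q₁.under R) → aeval a r ∈ q₁ →
      a ∈ q₁ := by
  intro n
  induction n with
  | zero =>
    intro r hr ⟨i, hi⟩ hmem
    exfalso
    have hrC : r = C (r.coeff 0) := eq_C_of_natDegree_le_zero hr
    have hi0 : i = 0 := by
      by_contra hne
      apply hi
      rw [hrC, coeff_C, if_neg hne]
      exact Ideal.zero_mem _
    subst hi0
    apply hi
    rw [hrC, aeval_C] at hmem
    exact hmem
  | succ n ih =>
    intro r hr ⟨i, hi⟩ hmem
    have hdecomp : aeval a r = aeval a r.divX * a + algebraMap R B (r.coeff 0) := by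
      conv_lhs => rw [← divX_mul_X_add r]
      simp
    by_cases h0 : r.coeff 0 ∈ q₁.under R
    · have h0' : algebraMap R B (r.coeff 0) ∈ q₁ := h0
      have hprod : aeval a r.divX * a ∈ q₁ := by
        have := Ideal.sub_mem _ hmem h0'
        rwa [hdecomp, add_sub_cancel_right] at this
      rcases Ideal.IsPrime.mem_or_mem ‹q₁.IsPrime› hprod with h1 | h1
      · have hi0 : i ≠ 0 := fun e => hi (e ▸ h0)
        obtain ⟨i', rfl⟩ := Nat.exists_eq_succ_of_ne_zero hi0
        refine ih r.divX ?_ ⟨i', by rwa [coeff_divX]⟩ h1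
        rw [natDegree_divX_eq_natDegree_tsub_one]
        omega
      · exact h1
    · exfalso
      apply h0
      rw [h]
      change algebraMap R B (r.coeff 0) ∈ q₂
      have h2 : aeval a r ∈ q₂ := h12 hmem
      rw [hdecomp] at h2
      have h3 : aeval a r.divX * a ∈ q₂ := Ideal.mul_mem_left _ _ ha
      have := Ideal.sub_mem _ h2 h3
      rwa [add_sub_cancel_left] at this

/-- In a valuation ring, among finitely many elements one divides all the others. -/
theorem exists_dvd_all {ι : Type*} [ValuationRing R] (s : Finset ι) (hs : s.Nonempty) (f : ι → R) :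
    ∃ j ∈ s, ∀ i ∈ s, f j ∣ f i := by
  classical
  induction s using Finset.induction_on with
  | empty => exact absurd hs (by simp)
  | insert x s hx ih =>
    by_cases hs' : s.Nonempty
    · obtain ⟨j, hj, hjall⟩ := ih hs'
      rcases ValuationRing.dvd_total (f j) (f x) with h | h
      · refine ⟨j, Finset.mem_insert_of_mem hj, fun i hi => ?_⟩
        rcases Finset.mem_insert.mp hi with rfl | hi
        · exact h
        · exact hjall i hi
      · refine ⟨x, Finset.mem_insert_self _ _, fun i hi => ?_⟩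
        rcases Finset.mem_insert.mp hi with rfl | hi
        · exact dvd_rfl
        · exact h.trans (hjall i hi)
    · rw [Finset.not_nonempty_iff_eq_empty] at hs'
      subst hs'
      exact ⟨x, by simp, fun i hi => by simp at hi; subst hi; exact dvd_rfl⟩

theorem eq_of_le_of_under_eq [ValuationRing R]
    (q₀ q₁ q₂ : Ideal B) [q₀.IsPrime] [q₁.IsPrime] [q₂.IsPrime]
    (h01 : q₀ ≤ q₁) (h12 : q₁ ≤ q₂) (h0 : q₀.under R = ⊥) [Algebra.QuasiFiniteAt R q₀]
    (h : q₁.under R = q₂.under R) : q₁ = q₂ := by
  refine le_antisymm h12 fun a ha => ?_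
  obtain ⟨p, hp0, hpa⟩ := isAlgebraic_residueField_of_quasiFiniteAt q₀ h0 a
  rw [aeval_algebraMap_apply] at hpa
  have hpa' : aeval a p ∈ q₀ := by
    rwa [Ideal.algebraMap_residueField_eq_zero] at hpa
  have hsupp : p.support.Nonempty := by
    rwa [Polynomial.support_nonempty]
  obtain ⟨j, hj, hjall⟩ := exists_dvd_all p.support hsupp p.coeff
  have hcj : p.coeff j ≠ 0 := Polynomial.mem_support_iff.mp hj
  have hdvd : C (p.coeff j) ∣ p := by
    rw [Polynomial.C_dvd_iff_dvd_coeff]
    intro i
    by_cases hi : i ∈ p.support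
    · exact hjall i hi
    · rw [Polynomial.notMem_support_iff.mp hi]
      exact dvd_zero _
  obtain ⟨p', hp'⟩ := hdvd
  have hcoeff : p'.coeff j = 1 := by
    have := congrArg (fun q => q.coeff j) hp'
    simp only [coeff_C_mul] at this
    exact mul_left_cancel₀ hcj (by rw [← this, mul_one])
  have hmem' : aeval a p' ∈ q₀ := by
    rw [hp', map_mul, aeval_C] at hpa'
    rcases Ideal.IsPrime.mem_or_mem ‹q₀.IsPrime› hpa' with h1 | h1
    · exfalso
      apply hcj
      have : p.coeff j ∈ q₀.under R := h1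
      rw [h0] at this
      exact this
    · exact h1
  refine mem_of_aeval_mem q₁ q₂ h12 h a ha p'.natDegree p' le_rfl ⟨j, ?_⟩ (h01 hmem')
  rw [hcoeff]
  intro h1
  have : (1 : B) ∈ q₁ := by
    have := h1
    rw [Ideal.under_def, Ideal.mem_comap, map_one] at this
    exact this
  exact ‹q₁.IsPrime›.ne_top ((Ideal.eq_top_iff_one _).mpr this)

end Groth.Agent.Lib.Helper13.ValFin
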