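import Mathlib
import Groth.Agent.Lib.Helper13.ValFinAlg
set_option autoImplicit false
universe u
open CategoryTheory CategoryTheory.Limits AlgebraicGeometry TopologicalSpace

namespace Groth.Agent.Lib.Helper13.ValFin

/-- Finite fibres of morphisms locally of finite type consist of quasi-finite points. -/
theorem quasiFiniteAt_of_finite_fibre {X Y : Scheme.{u}} (f : X ⟶ Y) [LocallyOfFiniteType f]
    (x : X) (hfin : (f ⁻¹' {f x}).Finite) : f.QuasiFiniteAt x := by
  have : Finite (f.fiber (f x)) := (f.fiberHomeo (f x)).finite_iff.mpr hfin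
  exact Scheme.Hom.quasiFiniteAt_iff_isOpen_singleton_asFiber.mpr (isOpen_discrete _)

theorem primeIdealOf_le {Y : Scheme.{u}} {W : Y.Opens} (hW : IsAffineOpen W) {x y : Y}
    (hx : x ∈ W) (hy : y ∈ W) (h : x ⤳ y) :
    (hW.primeIdealOf ⟨x, hx⟩).asIdeal ≤ (hW.primeIdealOf ⟨y, hy⟩).asIdeal := by
  have h' : (⟨x, hx⟩ : W) ⤳ ⟨y, hy⟩ := (subtype_specializes_iff _ _).mpr h
  have h'' : hW.primeIdealOf ⟨x, hx⟩ ⤳ hW.primeIdealOf ⟨y, hy⟩ :=
    h'.map hW.isoSpec.hom.continuous
  exact (PrimeSpectrum.le_iff_specializes _ _).mpr h''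

theorem primeIdealOf_injective {Y : Scheme.{u}} {W : Y.Opens} (hW : IsAffineOpen W) :
    Function.Injective hW.primeIdealOf :=
  hW.isoSpec.hom.homeomorph.injective

/-- Over a valuation ring, a flat morphism locally of finite type with finite generic fibre has no
non-trivial specializations inside its fibres. -/
theorem eq_of_specializes_of_fibre {Y S : Scheme.{u}} [IsAffine S] [IsDomain Γ(S, ⊤)]
    [ValuationRing Γ(S, ⊤)] (f : Y ⟶ S) [LocallyOfFiniteType f] [Flat f] (η : S)
    (hη : ∀ s : S, η ⤳ s) (hfin : (f ⁻¹' {η}).Finite) {z' z : Y} (h : z' ⤳ z)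
    (hf : f z' = f z) : z' = z := by
  obtain ⟨ξ, hξ, hfξ⟩ := Flat.generalizingMap f (hη (f z'))
  have hqf : f.QuasiFiniteAt ξ := quasiFiniteAt_of_finite_fibre f ξ (by rw [hfξ]; exact hfin)
  obtain ⟨_, ⟨W, hW : IsAffineOpen W, rfl⟩, hzW, -⟩ :=
    Y.isBasis_affineOpens.exists_subset_of_mem_open (Set.mem_univ z) isOpen_univ
  have hz'W : z' ∈ W := h.mem_open W.isOpen hzW
  have hξW : ξ ∈ W := hξ.mem_open W.isOpen hz'W
  have hS : IsAffineOpen (⊤ : S.Opens) := isAffineOpen_top S
  have hWS : W ≤ f ⁻¹ᵁ ⊤ := le_top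
  algebraize [(f.appLE ⊤ W hWS).hom]
  have key : ∀ (y : Y) (hy : y ∈ W), (hW.primeIdealOf ⟨y, hy⟩).asIdeal.under Γ(S, ⊤) =
      (hS.primeIdealOf ⟨f y, trivial⟩).asIdeal := by
    intro y hy
    have := IsAffineOpen.comap_primeIdealOf_appLE (f := f) ⊤ hS W hW hWS hy
    exact congrArg PrimeSpectrum.asIdeal this
  have hQF : Algebra.QuasiFiniteAt Γ(S, ⊤) (hW.primeIdealOf ⟨ξ, hξW⟩).asIdeal :=
    hqf.quasiFiniteAt hW hS hWS hξW
  have h0 : (hW.primeIdealOf ⟨ξ, hξW⟩).asIdeal.under Γ(S, ⊤) = ⊥ := by
    rw [key ξ hξW, hfξ]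
    have hle : (hS.primeIdealOf ⟨η, trivial⟩).asIdeal ≤ (⊥ : Ideal Γ(S, ⊤)) := by
      let b : PrimeSpectrum Γ(S, ⊤) := ⟨⊥, Ideal.isPrime_bot⟩
      have h1 : η ⤳ hS.fromSpec b := hη _
      have h2 := primeIdealOf_le hS (x := η) (y := hS.fromSpec b) trivial trivial h1
      have h3 : hS.primeIdealOf ⟨hS.fromSpec b, trivial⟩ = b := by
        apply hS.fromSpec.isOpenEmbedding.injective
        rw [hS.fromSpec_primeIdealOf]
      rw [h3] at h2
      exact h2
    exact le_bot_iff.mp hle
  have heq := eq_of_le_of_under_eq (R := Γ(S, ⊤)) (hW.primeIdealOf ⟨ξ, hξW⟩).asIdeal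
    (hW.primeIdealOf ⟨z', hz'W⟩).asIdeal (hW.primeIdealOf ⟨z, hzW⟩).asIdeal
    (primeIdealOf_le hW hξW hz'W hξ) (primeIdealOf_le hW hz'W hzW h) h0
    (by rw [key z' hz'W, key z hzW]; congr 2; exact Subtype.ext hf)
  have := primeIdealOf_injective hW (PrimeSpectrum.ext heq)
  exact congrArg Subtype.val this


set_option backward.isDefEq.respectTransparency.types false in
/-- A fibre of a quasi-compact morphism locally of finite type which has no non-trivial
specializations is finite. -/
theorem finite_fibre_of_no_specializations {Y S : Scheme.{u}} (f : Y ⟶ S) [LocallyOfFiniteType f]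
    [QuasiCompact f] (s : S)
    (h : ∀ z' z : Y, f z' = s → f z = s → z' ⤳ z → z' = z) : (f ⁻¹' {s}).Finite := by
  have hlft : LocallyOfFiniteType (f.fiberToSpecResidueField s) :=
    MorphismProperty.pullback_snd _ _ inferInstance
  have hqc : QuasiCompact (f.fiberToSpecResidueField s) :=
    MorphismProperty.pullback_snd _ _ inferInstance
  have hN : IsNoetherian (f.fiber s) :=
    { toIsLocallyNoetherian := LocallyOfFiniteType.isLocallyNoetherian (f.fiberToSpecResidueField s)
      toCompactSpace := inferInstance }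
  have hfinC : (irreducibleComponents (f.fiber s)).Finite :=
    finite_irreducibleComponents_of_isNoetherian
  have hsub : ∀ Z ∈ irreducibleComponents (f.fiber s), Z.Subsingleton := by
    intro Z hZ
    obtain ⟨g, hg⟩ := QuasiSober.sober hZ.1 (isClosed_of_mem_irreducibleComponents Z hZ)
    have hall : ∀ y ∈ Z, y = g := by
      intro y hy
      have hgy : g ⤳ y := by
        rw [specializes_iff_mem_closure, hg.def]
        exact hy
      have h1 : (f.fiberHomeo s g) ⤳ (f.fiberHomeo s y) := hgy.map (f.fiberHomeo s).continuous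
      have h2 : ((f.fiberHomeo s g) : Y) ⤳ ((f.fiberHomeo s y) : Y) :=
        (subtype_specializes_iff _ _).mp h1
      have h3 := h _ _ (f.fiberHomeo s g).2 (f.fiberHomeo s y).2 h2
      exact ((f.fiberHomeo s).injective (Subtype.ext h3)).symm
    intro a ha b hb
    rw [hall a ha, hall b hb]
  have huniv : (Set.univ : Set (f.fiber s)) = ⋃ Z ∈ irreducibleComponents (f.fiber s), Z := by
    rw [← Set.sUnion_eq_biUnion, sUnion_irreducibleComponents]
  have hfin : (Set.univ : Set (f.fiber s)).Finite := by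
    rw [huniv]
    exact hfinC.biUnion fun Z hZ => (hsub Z hZ).finite
  have : Finite (f.fiber s) := Set.finite_univ_iff.mp hfin
  exact (f.fiberHomeo s).finite_iff.mp this

/-- A flat proper morphism to the spectrum of a valuation ring whose generic fibre is finite is
finite. -/
theorem isFinite_of_flat_proper_genericallyFinite {R : Type u} [CommRing R] [IsDomain R]
    [ValuationRing R] {Y : Scheme.{u}} (f : Y ⟶ Spec (CommRingCat.of R)) [Flat f] [IsProper f]
    (hgen : IsFinite (pullback.snd f
      (Spec.map (CommRingCat.ofHom (algebraMap R (FractionRing R)))))) :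
    IsFinite f := by
  let e : Γ(Spec (CommRingCat.of R), ⊤) ≃+* R :=
    (Scheme.ΓSpecIso (CommRingCat.of R)).commRingCatIsoToRingEquiv
  have hd : IsDomain Γ(Spec (CommRingCat.of R), ⊤) := e.toMulEquiv.isDomain R
  have hv : ValuationRing Γ(Spec (CommRingCat.of R), ⊤) :=
    Function.Surjective.valuationRing (R := R) e.symm.toRingHom e.symm.surjective
  let η₀ : PrimeSpectrum R := ⟨⊥, Ideal.isPrime_bot⟩
  let η : ↥(Spec (CommRingCat.of R)) := η₀
  have hη : ∀ s : ↥(Spec (CommRingCat.of R)), η ⤳ s := by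
    intro s
    exact (PrimeSpectrum.le_iff_specializes η₀ (show PrimeSpectrum R from s)).mp bot_le
  set ι := Spec.map (CommRingCat.ofHom (algebraMap R (FractionRing R))) with hι
  -- the generic fibre is a finite set
  have hfinP : Finite ↥(pullback f ι) := by
    let pt : ↥(Spec (CommRingCat.of (FractionRing R))) :=
      (⟨⊥, Ideal.isPrime_bot⟩ : PrimeSpectrum (FractionRing R))
    have h1 := (pullback.snd f ι).finite_preimage_singleton pt
    have h2 : (pullback.snd f ι) ⁻¹' {pt} = Set.univ := by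
      ext x
      simp only [Set.mem_preimage, Set.mem_singleton_iff, Set.mem_univ, iff_true]
      exact Subsingleton.elim (α := PrimeSpectrum (FractionRing R)) _ _
    rw [h2] at h1
    exact Set.finite_univ_iff.mp h1
  have hfin : (f ⁻¹' {η}).Finite := by
    have hr : Set.range (pullback.fst f ι) = f ⁻¹' Set.range ι := Scheme.Pullback.range_fst f ι
    have hηr : η ∈ Set.range ι := by
      refine ⟨(⟨⊥, Ideal.isPrime_bot⟩ : PrimeSpectrum (FractionRing R)), ?_⟩
      change (PrimeSpectrum.comap (algebraMap R (FractionRing R)))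
        (⟨⊥, Ideal.isPrime_bot⟩ : PrimeSpectrum (FractionRing R)) = η₀
      apply PrimeSpectrum.ext
      change Ideal.comap (algebraMap R (FractionRing R)) ⊥ = ⊥
      rw [← RingHom.ker_eq_comap_bot]
      exact (RingHom.injective_iff_ker_eq_bot _).mp (IsFractionRing.injective R (FractionRing R))
    refine (Set.finite_range (pullback.fst f ι)).subset ?_
    rw [hr]
    intro y hy
    have : f y = η := hy
    change f y ∈ Set.range ι
    rw [this]
    exact hηr
  have hfib : ∀ s : ↥(Spec (CommRingCat.of R)), (f ⁻¹' {s}).Finite := by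
    intro s
    refine finite_fibre_of_no_specializations f s fun z' z hz' hz h => ?_
    exact eq_of_specializes_of_fibre f η hη hfin h (hz'.trans hz.symm)
  have : LocallyQuasiFinite f := .of_finite_preimage_singleton f hfib
  exact IsFinite.of_isProper_of_locallyQuasiFinite f

end Groth.Agent.Lib.Helper13.ValFin
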