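import Mathlib

/-!
# Orders of vanishing and restriction to open subschemes
-/

set_option autoImplicit false
universe u
open CategoryTheory AlgebraicGeometry TopologicalSpace Opposite Limits WithZero

namespace Groth.Agent.Lib.Helper13.WDivOpen

section alg

variable {R R' K K' : Type*} [CommRing R] [IsDomain R] [IsDiscreteValuationRing R]
  [IsNoetherianRing R] [Ring.KrullDimLE 1 R]
  [CommRing R'] [IsDomain R'] [IsDiscreteValuationRing R'] [IsNoetherianRing R']
  [Ring.KrullDimLE 1 R']
  [Field K] [Field K'] [Algebra R K] [IsFractionRing R K] [Algebra R' K'] [IsFractionRing R' K']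

theorem ordFrac_algebraMap_ringEquiv (e : R ≃+* R') (a : R) (ha : a ≠ 0) :
    Ring.ordFrac R' (algebraMap R' K' (e a)) = Ring.ordFrac R (algebraMap R K a) := by
  obtain ⟨ϖ, hϖ⟩ := IsDiscreteValuationRing.exists_irreducible R
  obtain ⟨n, u, rfl⟩ := IsDiscreteValuationRing.eq_unit_mul_pow_irreducible ha hϖ
  have hϖ' : Irreducible (e ϖ) := (MulEquiv.irreducible_iff e.toMulEquiv).2 hϖ
  have hu' : IsUnit (e (u : R)) := u.isUnit.map e
  simp only [map_mul, map_pow]
  rw [Ring.ordFrac_of_isUnit (R := R') (K := K') hu',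
    Ring.ordFrac_of_isUnit (R := R) (K := K) u.isUnit,
    Ring.ordFrac_irreducible (K := K') hϖ', Ring.ordFrac_irreducible (K := K) hϖ]

theorem ordFrac_ringEquiv (e : R ≃+* R') (ψ : K →+* K')
    (hψ : ∀ r, ψ (algebraMap R K r) = algebraMap R' K' (e r)) (k : K) :
    Ring.ordFrac R' (ψ k) = Ring.ordFrac R k := by
  by_cases hk : k = 0
  · rw [hk, map_zero, map_zero, map_zero]
  obtain ⟨a, b, hb, rfl⟩ := IsFractionRing.div_surjective (A := R) (K := K) k
  have hb0 : b ≠ 0 := nonZeroDivisors.ne_zero hb
  have ha0 : a ≠ 0 := by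
    rintro rfl
    apply hk
    rw [map_zero, zero_div]
  rw [map_div₀, map_div₀, map_div₀, hψ, hψ, ordFrac_algebraMap_ringEquiv (K := K) e a ha0,
    ordFrac_algebraMap_ringEquiv (K := K) e b hb0]

end alg

section sch

variable {X : Scheme.{u}} [IsIntegral X] [IsLocallyNoetherian X] (U : X.Opens) [Nonempty U]

/-- restriction of rational functions to a nonempty open subscheme -/
noncomputable def ffRes : X.functionField ⟶ (U : Scheme.{u}).functionField :=
  X.presheaf.stalkSpecializes
    (specializes_of_eq (genericPoint_eq_of_isOpenImmersion U.ι)) ≫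
      U.ι.stalkMap (genericPoint ↥(U : Scheme.{u}))

instance : IsIso (ffRes U) := by
  have h1 : IsIso (X.presheaf.stalkSpecializes
      (specializes_of_eq (genericPoint_eq_of_isOpenImmersion U.ι))) := by
    refine ⟨X.presheaf.stalkSpecializes
      (specializes_of_eq (genericPoint_eq_of_isOpenImmersion U.ι).symm), ?_, ?_⟩
    · rw [TopCat.Presheaf.stalkSpecializes_comp, TopCat.Presheaf.stalkSpecializes_refl]
    · rw [TopCat.Presheaf.stalkSpecializes_comp, TopCat.Presheaf.stalkSpecializes_refl]
  unfold ffRes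
  infer_instance

theorem ffRes_injective : Function.Injective (ffRes U).hom :=
  (ConcreteCategory.bijective_of_isIso (ffRes U)).1

theorem ffRes_surjective : Function.Surjective (ffRes U).hom :=
  (ConcreteCategory.bijective_of_isIso (ffRes U)).2

theorem ffRes_algebraMap (u : ↥(U : Scheme.{u})) (r : X.presheaf.stalk (U.ι u)) :
    (ffRes U).hom (algebraMap (X.presheaf.stalk (U.ι u)) X.functionField r) =
      algebraMap ((U : Scheme.{u}).presheaf.stalk u) (U : Scheme.{u}).functionField
        ((U.ι.stalkMap u).hom r) := by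
  rw [RingHom.algebraMap_toAlgebra, RingHom.algebraMap_toAlgebra]
  have h := Scheme.Hom.stalkSpecializes_stalkMap U.ι (genericPoint ↥(U : Scheme.{u})) u
    (genericPoint_specializes u)
  have h2 : X.presheaf.stalkSpecializes (genericPoint_specializes (U.ι u)) ≫ ffRes U =
      U.ι.stalkMap u ≫ (U : Scheme.{u}).presheaf.stalkSpecializes (genericPoint_specializes u) := by
    rw [← h]
    unfold ffRes
    rw [TopCat.Presheaf.stalkSpecializes_comp_assoc]
  exact congr($h2 r)

/-- **Orders of vanishing are compatible with restriction to an open subscheme.** -/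
theorem ordHom_ffRes (u : ↥(U : Scheme.{u})) (hu : Order.coheight u = 1) (hu' : Order.coheight (U.ι u) = 1)
    [IsDiscreteValuationRing (X.presheaf.stalk (U.ι u))] (k : X.functionField) :
    (U : Scheme.{u}).ordHom u hu ((ffRes U).hom k) = X.ordHom (U.ι u) hu' k := by
  let e : X.presheaf.stalk (U.ι u) ≃+* (U : Scheme.{u}).presheaf.stalk u :=
    (asIso (U.ι.stalkMap u)).commRingCatIsoToRingEquiv
  haveI : IsDiscreteValuationRing ((U : Scheme.{u}).presheaf.stalk u) :=
    IsDiscreteValuationRing.RingEquivClass.isDiscreteValuationRing e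
  haveI : Ring.KrullDimLE 1 ((U : Scheme.{u}).presheaf.stalk u) := krullDimLE_of_coheight_le hu.le
  haveI : Ring.KrullDimLE 1 (X.presheaf.stalk (U.ι u)) := krullDimLE_of_coheight_le hu'.le
  exact ordFrac_ringEquiv e (ffRes U).hom (fun r => ffRes_algebraMap U u r) k

theorem ord_ffRes (u : ↥(U : Scheme.{u})) (hu' : Order.coheight (U.ι u) = 1)
    [IsDiscreteValuationRing (X.presheaf.stalk (U.ι u))] (k : X.functionField) :
    Scheme.ord ((ffRes U).hom k) u = Scheme.ord k (U.ι u) := by
  have hu : Order.coheight u = 1 := by rw [← coheight_eq_of_isOpenImmersion U.ι, hu']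
  by_cases hk : k = 0
  · rw [hk, map_zero, Scheme.ord_zero, Scheme.ord_zero]; rfl
  have hk' : (ffRes U).hom k ≠ 0 := (map_ne_zero_iff _ (ffRes_injective U)).2 hk
  rw [Scheme.ord_eq_iff hu hk', ordHom_ffRes U u hu hu', ← Scheme.ord_eq_iff hu' hk]

end sch

end Groth.Agent.Lib.Helper13.WDivOpen
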