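import Mathlib

/-!
# Weil divisors on the spectrum of a Noetherian UFD are principal
-/

set_option autoImplicit false
universe u
open CategoryTheory AlgebraicGeometry TopologicalSpace Opposite Limits WithZero

namespace Groth.Agent.Lib.Helper13.WDivUFD

/-- order of a generator of the maximal ideal -/
theorem ordFrac_of_span_isMaximal {R : Type*} [CommRing R] [IsDomain R] [IsNoetherianRing R]
    [Ring.KrullDimLE 1 R] {K : Type*} [Field K] [Algebra R K] [IsFractionRing R K]
    {ϖ : R} (h0 : ϖ ≠ 0) (hmax : (Ideal.span {ϖ}).IsMaximal) :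
    Ring.ordFrac R (algebraMap R K ϖ) =
      ((Multiplicative.ofAdd (1 : ℤ) : Multiplicative ℤ) : ℤᵐ⁰) := by
  have hnz : ϖ ∈ nonZeroDivisors R := mem_nonZeroDivisors_of_ne_zero h0
  have hord : Ring.ord R ϖ = ((1 : ℕ) : ℕ∞) := by
    rw [Ring.ord, Nat.cast_one, Module.length_eq_one_iff]
    rw [isSimpleModule_iff_isSimpleModule_of_algebraMap_surjective (S := R ⧸ Ideal.span {ϖ})
      Ideal.Quotient.mk_surjective]
    let := Ideal.Quotient.field (Ideal.span {ϖ})
    exact instIsSimpleModule _
  rw [Ring.ordFrac_eq_ord R h0, Ring.ordMonoidWithZeroHom_eq_coe R hnz hord]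
  rfl

variable (R : CommRingCat.{u}) [IsDomain R] [IsNoetherianRing R]

/-- the image of `a : R` in the function field, through the stalk at `y` -/
theorem algebraMap_functionField_eq (y : PrimeSpectrum R) (a : R) :
    algebraMap R (Spec R).functionField a =
      algebraMap ((Spec R).presheaf.stalk y) (Spec R).functionField
        (StructureSheaf.toStalk R y a) := by
  have h := StructureSheaf.toStalk_stalkSpecializes (R := R)
    (genericPoint_specializes (α := ↥(Spec R)) y)
  rw [RingHom.algebraMap_toAlgebra, RingHom.algebraMap_toAlgebra]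
  exact (congr($h a)).symm

theorem ordHom_of_notMem (y : PrimeSpectrum R)
    (hy : Order.coheight (α := ↥(Spec R)) y = 1) (a : R) (ha : a ∉ y.asIdeal) :
    (Spec R).ordHom y hy (algebraMap R (Spec R).functionField a) = 1 := by
  letI : Algebra R ((Spec R).presheaf.stalk y) := StructureSheaf.stalkAlgebra R y
  haveI : IsLocalization.AtPrime ((Spec R).presheaf.stalk y) y.asIdeal :=
    StructureSheaf.IsLocalization.to_stalk R y
  haveI : Ring.KrullDimLE 1 ((Spec R).presheaf.stalk y) := krullDimLE_of_coheight_le hy.le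
  rw [algebraMap_functionField_eq R y a]
  have hu : IsUnit (StructureSheaf.toStalk R y a) :=
    IsLocalization.map_units ((Spec R).presheaf.stalk y) (⟨a, ha⟩ : y.asIdeal.primeCompl)
  exact Ring.ordFrac_of_isUnit (R := (Spec R).presheaf.stalk y) hu

theorem ordHom_of_span_eq (y : PrimeSpectrum R)
    (hy : Order.coheight (α := ↥(Spec R)) y = 1) (a : R) (ha0 : a ≠ 0)
    (ha : y.asIdeal = Ideal.span {a}) :
    (Spec R).ordHom y hy (algebraMap R (Spec R).functionField a) =
      ((Multiplicative.ofAdd (1 : ℤ) : Multiplicative ℤ) : ℤᵐ⁰) := by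
  letI : Algebra R ((Spec R).presheaf.stalk y) := StructureSheaf.stalkAlgebra R y
  haveI : IsLocalization.AtPrime ((Spec R).presheaf.stalk y) y.asIdeal :=
    StructureSheaf.IsLocalization.to_stalk R y
  haveI : Ring.KrullDimLE 1 ((Spec R).presheaf.stalk y) := krullDimLE_of_coheight_le hy.le
  rw [algebraMap_functionField_eq R y a]
  have hinj : Function.Injective (algebraMap R ((Spec R).presheaf.stalk y)) :=
    IsLocalization.injective _ y.asIdeal.primeCompl_le_nonZeroDivisors
  have h0 : StructureSheaf.toStalk R y a ≠ 0 := by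
    intro h
    exact ha0 (hinj (by rw [map_zero]; exact h))
  have hmax : (Ideal.span {(StructureSheaf.toStalk R y a : (Spec R).presheaf.stalk y)}).IsMaximal := by
    have h1 := IsLocalization.AtPrime.map_eq_maximalIdeal y.asIdeal ((Spec R).presheaf.stalk y)
    have hM : (IsLocalRing.maximalIdeal ((Spec R).presheaf.stalk y)).IsMaximal :=
      IsLocalRing.maximalIdeal.isMaximal _
    rw [ha, Ideal.map_span, Set.image_singleton] at h1
    rw [← h1] at hM
    exact hM
  exact ordFrac_of_span_isMaximal (R := (Spec R).presheaf.stalk y) h0 hmax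

/-- **Weil divisors on the spectrum of a Noetherian UFD are principal.** -/
theorem exists_principal [UniqueFactorizationMonoid R] (D : ↥(Spec R) → ℤ)
    (hD : ∀ x, Order.coheight x ≠ 1 → D x = 0) (hfin : {x | D x ≠ 0}.Finite) :
    ∃ f : (Spec R).functionField, f ≠ 0 ∧
      ∀ x : ↥(Spec R), Order.coheight x = 1 → Scheme.ord f x = D x := by
  classical
  have hht : ∀ x : ↥(Spec R), Order.coheight x = 1 →
      (x : PrimeSpectrum R).asIdeal.height = 1 := by
    intro x hx
    rw [idealHeight_eq_coheight R x, hx]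
  have hgen : ∀ x : ↥(Spec R), Order.coheight x = 1 →
      ∃ a : R, a ≠ 0 ∧ (x : PrimeSpectrum R).asIdeal = Ideal.span {a} := by
    intro x hx
    have hh := hht x hx
    obtain ⟨a, ha⟩ := (UniqueFactorizationMonoid.isPrincipal_of_height_eq_one hh).principal
    refine ⟨a, ?_, ha⟩
    rintro rfl
    have hb : (x : PrimeSpectrum R).asIdeal = ⊥ := by
      rw [ha]; simp
    exact Ideal.ne_bot_of_height_eq_one hh hb
  choose! π hπ using hgen
  let K := (Spec R).functionField
  have hinj : Function.Injective (algebraMap R K) := IsFractionRing.injective R K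
  let S := hfin.toFinset
  have hS : ∀ x ∈ S, Order.coheight x = 1 := by
    intro x hx
    by_contra hne
    exact (hfin.mem_toFinset.1 hx) (hD x hne)
  let g : ↥(Spec R) → K := fun x => algebraMap R K (π x)
  have hg0 : ∀ x ∈ S, g x ≠ 0 := fun x hx =>
    (map_ne_zero_iff _ hinj).2 (hπ x (hS x hx)).1
  have hf : ∏ x ∈ S, g x ^ D x ≠ 0 :=
    Finset.prod_ne_zero_iff.2 fun x hx => zpow_ne_zero _ (hg0 x hx)
  refine ⟨∏ x ∈ S, g x ^ D x, hf, fun y hy => ?_⟩
  rw [Scheme.ord_eq_iff hy hf, map_prod]
  simp_rw [map_zpow₀]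
  -- the factors away from `y` are trivial
  have hne : ∀ x ∈ S, x ≠ y → (Spec R).ordHom y hy (g x) = 1 := by
    intro x hx hxy
    refine ordHom_of_notMem R y hy (π x) fun hmem => hxy ?_
    have hle : (x : PrimeSpectrum R).asIdeal ≤ (y : PrimeSpectrum R).asIdeal := by
      rw [(hπ x (hS x hx)).2, Ideal.span_singleton_le_iff_mem]
      exact hmem
    have heq := Ideal.eq_of_le_of_height_le (h := hle)
      (h_height := by rw [hht x (hS x hx), hht y hy])
    exact PrimeSpectrum.ext heq
  by_cases hyS : y ∈ S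
  · rw [Finset.prod_eq_single_of_mem y hyS (fun x hx hxy => by rw [hne x hx hxy, one_zpow]),
      ordHom_of_span_eq R y hy (π y) (hπ y hy).1 (hπ y hy).2, ← WithZero.coe_zpow, ← ofAdd_zsmul,
      smul_eq_mul, mul_one]
  · have hDy : D y = 0 := by
      by_contra h
      exact hyS (hfin.mem_toFinset.2 h)
    rw [hDy, Finset.prod_eq_one (fun x hx => by
      rw [hne x hx (fun h => hyS (h ▸ hx)), one_zpow])]
    rfl

end Groth.Agent.Lib.Helper13.WDivUFD
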