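import Groth.Agent.Lib.Helper13.DivDim
import Mathlib.LinearAlgebra.Charpoly.Basic
import Mathlib.LinearAlgebra.Charpoly.ToMatrix
import Mathlib.Algebra.Algebra.Bilinear

/-! # Wedderburn's factorisation trick for cubic division algebras (helper13) -/

set_option autoImplicit false

namespace Groth.Agent.Lib.Helper13.Wedderburn3

open Module Polynomial

section ring

variable {K : Type*} [Field K] {A : Type*} [Ring A] [Algebra K A]

/-- If `v * a = b * v` then `v * q(a) = q(b) * v` for every polynomial `q`. -/
theorem semiconj_aeval (v a b : A) (h : v * a = b * v) (q : K[X]) :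
    v * aeval a q = aeval b q * v := by
  have hpow : ∀ n : ℕ, v * a ^ n = b ^ n * v := by
    intro n
    induction n with
    | zero => simp
    | succ n ih => rw [pow_succ, ← mul_assoc, ih, mul_assoc, h, ← mul_assoc, ← pow_succ]
  induction q using Polynomial.induction_on' with
  | add q r hq hr => rw [map_add, map_add, mul_add, add_mul, hq, hr]
  | monomial n c =>
    rw [aeval_monomial, aeval_monomial, ← mul_assoc, ← Algebra.commutes, mul_assoc, hpow, mul_assoc]

theorem aeval_monic {f : K[X]} (hf : f.Monic) (x : A) :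
    aeval x f = x ^ f.natDegree + ∑ i ∈ Finset.range f.natDegree, f.coeff i • x ^ i := by
  conv_lhs => rw [hf.as_sum]
  simp only [map_add, map_pow, aeval_X, map_sum, map_mul, aeval_C, Algebra.smul_def]

/-- The rotation lemma: if `a + b + c` is central and `c b a = b a c` then `[a,b] a = b [a,b]`. -/
theorem rot {a b c : A} {σ : K} (hs : a + b + c = σ • (1 : A)) (h : c * b * a = b * a * c) :
    (a * b - b * a) * a = b * (a * b - b * a) := by
  have hc : c = σ • (1 : A) - a - b := by rw [← hs]; abel
  rw [hc] at h
  have h2 : (a * b - b * a) * a - b * (a * b - b * a) =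
      -((σ • (1 : A) - a - b) * b * a - b * a * (σ • (1 : A) - a - b)) := by
    simp only [sub_mul, mul_sub, smul_mul_assoc, mul_smul_comm, one_mul, mul_one, mul_assoc]
    module
  rw [h, sub_self, neg_zero] at h2
  exact sub_eq_zero.mp h2

end ring

section division

variable {K : Type*} [Field K] {A : Type*} [DivisionRing A] [Algebra K A]

theorem mul_comm_of_eq_central {a b : A} {k : K} (hb : b ≠ 0) (h : a * b = k • (1 : A)) :
    b * a = k • (1 : A) := by
  have : b * a * b = (k • (1 : A)) * b := by
    rw [mul_assoc, h, mul_smul_comm, mul_one, smul_mul_assoc, one_mul]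
  exact mul_right_cancel₀ hb this

variable [FiniteDimensional K A]

/-- A monic relation of degree `finrank K (adjoin K {x})`. -/
theorem exists_monic_relation (x : A) :
    ∃ f : K[X], f.Monic ∧ f.natDegree = finrank K (Algebra.adjoin K {x}) ∧ aeval x f = 0 := by
  set L : Subalgebra K A := Algebra.adjoin K {x} with hL
  have hxL : x ∈ L := Algebra.subset_adjoin (Set.mem_singleton x)
  let x' : L := ⟨x, hxL⟩
  let φ : L →ₗ[K] L := LinearMap.mulLeft K x'
  refine ⟨φ.charpoly, φ.charpoly_monic, φ.charpoly_natDegree, ?_⟩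
  have h1 : aeval φ φ.charpoly = 0 := φ.aeval_self_charpoly
  have h2 : aeval φ φ.charpoly = LinearMap.mulLeft K (aeval x' φ.charpoly) := by
    have := aeval_algHom_apply (Algebra.lmul K L) x' φ.charpoly
    exact this
  rw [h2] at h1
  have h3 : aeval x' φ.charpoly = 0 := by
    have := congrArg (fun g : L →ₗ[K] L => g 1) h1
    simpa using this
  have h4 : aeval (L.val x') φ.charpoly = L.val (aeval x' φ.charpoly) :=
    aeval_algHom_apply L.val x' φ.charpoly
  rw [h3, map_zero] at h4
  exact h4

end division

section central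

variable {K : Type*} [Field K] {A : Type*} [DivisionRing A] [Algebra K A] [FiniteDimensional K A]
  [Algebra.IsCentral K A]

open Groth.Agent.Lib.Helper13.DivDim

theorem exists_not_mem_range (hA : finrank K A ≠ 1) : ∃ x : A, x ∉ (algebraMap K A).range := by
  by_contra hcon
  push Not at hcon
  apply hA
  rw [← Subalgebra.bot_eq_top_iff_finrank_eq_one]
  symm
  rw [eq_bot_iff]
  intro x _
  obtain ⟨k, hk⟩ := hcon x
  exact Algebra.mem_bot.2 ⟨k, hk⟩

omit [FiniteDimensional K A] in
theorem exists_commutator_ne_zero {x : A} (hx : x ∉ (algebraMap K A).range) :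
    ∃ y : A, x * y - y * x ≠ 0 := by
  by_contra hcon
  push Not at hcon
  apply hx
  apply mem_range_of_forall_commute
  intro y
  exact (sub_eq_zero.mp (hcon y)).symm

/-- Degree two, characteristic two: there is an inseparable element. -/
theorem exists_inseparable_two [CharP K 2] (hA : finrank K A = 2 ^ 2) :
    ∃ v : A, ¬ IsSeparable K v := by
  have hp : (2 : ℕ).Prime := Nat.prime_two
  have : ExpChar K 2 := ExpChar.prime hp
  have : CharP A 2 := charP_of_injective_algebraMap (algebraMap K A).injective 2
  obtain ⟨x, hx⟩ := exists_not_mem_range (K := K) (A := A) (by rw [hA]; norm_num)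
  obtain ⟨y, hc⟩ := exists_commutator_ne_zero hx
  set c := x * y - y * x with hcdef
  obtain ⟨f, hfm, hfd, hfx⟩ := exists_monic_relation (K := K) x
  rw [finrank_adjoin_singleton hp hA hx] at hfd
  rw [aeval_monic hfm, hfd, Finset.sum_range_succ, Finset.sum_range_one, pow_zero, pow_one] at hfx
  set α := f.coeff 1
  set β := f.coeff 0
  have hxx : x * x = -(α • x) - β • (1 : A) := by
    have : x * x = x ^ 2 := (sq x).symm
    rw [this, eq_neg_of_add_eq_zero_left hfx]
    abel
  have hcx : c * x = (-(α • (1 : A)) - x) * c := by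
    have h1 : (x * y - y * x) * x + x * (x * y - y * x) = (x * x) * y - y * (x * x) := by
      noncomm_ring
    rw [hxx] at h1
    have h2 : (x * y - y * x) * x = (-(α • x) - β • (1 : A)) * y - y * (-(α • x) - β • (1 : A)) -
        x * (x * y - y * x) := by
      rw [← h1]; abel
    rw [hcdef, h2]
    simp only [neg_mul, sub_mul, mul_neg, mul_sub, smul_mul_assoc, mul_smul_comm, one_mul, mul_one]
    module
  by_cases hcomm : c * x = x * c
  · -- then `α = 0` and `x² ∈ K`
    refine ⟨x, not_isSeparable_of_pow_mem (p := 2) hx ?_⟩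
    have h1 : (x + x + α • (1 : A)) * c = 0 := by
      have : x * c = (-(α • (1 : A)) - x) * c := hcomm ▸ hcx
      have h2 : (x + x + α • (1 : A)) * c = x * c - (-(α • (1 : A)) - x) * c := by
        simp only [add_mul, sub_mul, neg_mul]; abel
      rw [h2, ← this, sub_self]
    have h2 : x + x + α • (1 : A) = 0 := (mul_eq_zero.mp h1).resolve_right hc
    rw [CharTwo.add_self_eq_zero, zero_add] at h2
    have hα : α • x = 0 := by
      have : α • x = (α • (1 : A)) * x := by rw [smul_mul_assoc, one_mul]
      rw [this, h2, zero_mul]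
    refine ⟨-β, ?_⟩
    rw [sq, hxx, hα, neg_zero, zero_sub, map_neg, Algebra.algebraMap_eq_smul_one]
  · -- `c² ∈ K`, `c ∉ K`
    have hcK : c ∉ (algebraMap K A).range := by
      rintro ⟨k, hk⟩
      exact hcomm (hk ▸ Algebra.commutes k x)
    refine ⟨c, not_isSeparable_of_pow_mem (p := 2) hcK ?_⟩
    have hc2 : c * c * x = x * (c * c) := by
      calc c * c * x = c * (c * x) := mul_assoc _ _ _
        _ = c * ((-(α • (1 : A)) - x) * c) := by rw [hcx]
        _ = (-(α • (1 : A)) * c - c * x) * c := by
            simp only [neg_mul, sub_mul, mul_neg, mul_sub, smul_mul_assoc, mul_smul_comm, one_mul,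
              mul_one, mul_assoc]
        _ = (-(α • (1 : A)) * c - (-(α • (1 : A)) - x) * c) * c := by rw [hcx]
        _ = x * (c * c) := by
            simp only [neg_mul, sub_mul, smul_mul_assoc, one_mul, mul_assoc]
            abel
    rw [sq]
    exact mem_range_of_commute_pair hp hA hcomm (mul_assoc c c c) hc2

end central

section cubic

variable {K : Type*} [Field K] {A : Type*} [DivisionRing A] [Algebra K A] [FiniteDimensional K A]
  [Algebra.IsCentral K A]

open Groth.Agent.Lib.Helper13.DivDim

/-- In degree three, some commutator `[x, y]` does not commute with `x`. -/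
theorem exists_commutator_not_commute (hA : finrank K A = 3 ^ 2) {x : A}
    (hx : x ∉ (algebraMap K A).range) :
    ∃ y : A, (x * y - y * x) * x ≠ x * (x * y - y * x) := by
  have hp : (3 : ℕ).Prime := Nat.prime_three
  by_contra hcon
  push Not at hcon
  let adx : A →ₗ[K] A := LinearMap.mulLeft K x - LinearMap.mulRight K x
  have hadx : ∀ z, adx z = x * z - z * x := fun z => rfl
  have hker : LinearMap.ker adx = Subalgebra.toSubmodule (Subalgebra.centralizer K {x}) := by
    ext z
    rw [LinearMap.mem_ker, hadx, Subalgebra.mem_toSubmodule, Subalgebra.mem_centralizer_iff]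
    constructor
    · intro h g hg
      rw [Set.mem_singleton_iff] at hg
      subst hg
      exact sub_eq_zero.mp h
    · intro h
      exact sub_eq_zero.mpr (h x rfl)
  have hkerdim : finrank K (LinearMap.ker adx) = 3 := by
    rw [hker]
    change finrank K (Subalgebra.centralizer K {x}) = 3
    rw [centralizer_singleton_eq hp hA hx, finrank_adjoin_singleton hp hA hx]
  have hle : LinearMap.range adx ≤ LinearMap.ker adx := by
    rintro _ ⟨y, rfl⟩
    rw [LinearMap.mem_ker, hadx, hadx]
    exact sub_eq_zero.mpr (hcon y).symm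
  have h1 := LinearMap.finrank_range_add_finrank_ker adx
  have h2 := Submodule.finrank_mono hle
  rw [hkerdim] at h1 h2
  rw [hA] at h1
  omega

/-- **Wedderburn's trick**: if `x₂ = c x c⁻¹` (`c = [x, y]`) does not commute with `x`, then
`w = [x, x₂]` is not a scalar but `w³` is. -/
theorem wedderburn_core (hA : finrank K A = 3 ^ 2) {x y : A} (hx : x ∉ (algebraMap K A).range)
    (hc0 : x * y - y * x ≠ 0)
    (hw : x * ((x * y - y * x) * x * (x * y - y * x)⁻¹) ≠
      ((x * y - y * x) * x * (x * y - y * x)⁻¹) * x) :
    ∃ w : A, w ∉ (algebraMap K A).range ∧ w ^ 3 ∈ (algebraMap K A).range := by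
  have hp : (3 : ℕ).Prime := Nat.prime_three
  set c := x * y - y * x with hcdef
  have hx0 : x ≠ 0 := by
    rintro rfl
    exact hx ⟨0, by simp⟩
  set x₂ := c * x * c⁻¹ with hx2
  have hx2c : x₂ * c = c * x := by rw [hx2, mul_assoc, inv_mul_cancel₀ hc0, mul_one]
  have hx20 : x₂ ≠ 0 := by
    intro h
    rw [h, zero_mul] at hx2c
    exact hx0 ((mul_eq_zero.mp hx2c.symm).resolve_left hc0)
  obtain ⟨f, hfm, hfd, hfx⟩ := exists_monic_relation (K := K) x
  rw [finrank_adjoin_singleton hp hA hx] at hfd
  rw [aeval_monic hfm, hfd, Finset.sum_range_succ, Finset.sum_range_succ, Finset.sum_range_one,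
    pow_zero, pow_one] at hfx
  set α := f.coeff 2
  set β := f.coeff 1
  set γ := f.coeff 0
  have hx3 : x * x * x = -(α • (x * x)) - β • x - γ • (1 : A) := by
    have e : x * x * x = x ^ 3 := by rw [pow_succ, pow_two]
    have e2 : x * x = x ^ 2 := (sq x).symm
    rw [e, e2, eq_neg_of_add_eq_zero_left hfx]
    abel
  -- (W1)
  have hW1 : x₂ * x₂ + (x + α • (1 : A)) * x₂ + (x * x + α • x + β • (1 : A)) = 0 := by
    have h1 : (x₂ * x₂ + (x + α • (1 : A)) * x₂ + (x * x + α • x + β • (1 : A))) * c = 0 := by
      have e1 : x₂ * x₂ * c = c * x * x := by rw [mul_assoc, hx2c, ← mul_assoc, hx2c]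
      have e2 : (x + α • (1 : A)) * x₂ * c = (x + α • (1 : A)) * (c * x) := by rw [mul_assoc, hx2c]
      rw [add_mul, add_mul, e1, e2]
      have h3 : c * x * x + (x + α • (1 : A)) * (c * x) + (x * x + α • x + β • (1 : A)) * c
          = (x * x * x + α • (x * x) + β • x) * y - y * (x * x * x + α • (x * x) + β • x) := by
        rw [hcdef]
        simp only [add_mul, mul_add, sub_mul, mul_sub, smul_mul_assoc, mul_smul_comm, one_mul,
          mul_one, mul_assoc]
        module
      rw [h3, hx3]
      have : -(α • (x * x)) - β • x - γ • (1 : A) + α • (x * x) + β • x = -(γ • (1 : A)) := by abel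
      rw [this]
      simp only [neg_mul, mul_neg, smul_mul_assoc, mul_smul_comm, one_mul, mul_one, sub_self]
    exact (mul_eq_zero.mp h1).resolve_right hc0
  set x₃ := (-α) • (1 : A) - x - x₂ with hx3def
  have hsum : x + x₂ + x₃ = (-α) • (1 : A) := by rw [hx3def]; abel
  -- (W3)
  have h32 : x₃ * x₂ = x * x + α • x + β • (1 : A) := by
    have : x₃ * x₂ = -(x₂ * x₂ + (x + α • (1 : A)) * x₂) := by
      rw [hx3def]
      simp only [sub_mul, add_mul, neg_smul, neg_mul, smul_mul_assoc, one_mul]
      abel
    rw [this, eq_neg_of_add_eq_zero_left hW1, neg_neg]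
  have h321 : x₃ * x₂ * x = (-γ) • (1 : A) := by
    rw [h32]
    have : (x * x + α • x + β • (1 : A)) * x = x * x * x + α • (x * x) + β • x := by
      simp only [add_mul, smul_mul_assoc, one_mul]
    rw [this, hx3, neg_smul]
    abel
  have h132 : x * x₃ * x₂ = (-γ) • (1 : A) := by
    rw [mul_assoc]
    exact mul_comm_of_eq_central hx0 h321
  have h213 : x₂ * x * x₃ = (-γ) • (1 : A) := by
    have : x₃ * (x₂ * x) = (-γ) • (1 : A) := by rw [← mul_assoc]; exact h321
    exact mul_comm_of_eq_central (mul_ne_zero hx20 hx0) this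
  set w := x * x₂ - x₂ * x with hwdef
  have hw0 : w ≠ 0 := fun h => hw (sub_eq_zero.mp h)
  -- rotations
  have r1 : w * x = x₂ * w := rot (σ := -α) hsum (by rw [h321, h213])
  have r2 : w * x₂ = x₃ * w := by
    have hs2 : x₂ + x₃ + x = (-α) • (1 : A) := by rw [← hsum]; abel
    have := rot (σ := -α) hs2 (by rw [h132, h321])
    have hw2 : x₂ * x₃ - x₃ * x₂ = w := by
      rw [hx3def, hwdef]
      simp only [mul_sub, sub_mul, mul_smul_comm, smul_mul_assoc, mul_one, one_mul]
      abel
    rwa [hw2] at this
  have r3 : w * x₃ = x * w := by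
    have hs3 : x₃ + x + x₂ = (-α) • (1 : A) := by rw [← hsum]; abel
    have := rot (σ := -α) hs3 (by rw [h213, h132])
    have hw3 : x₃ * x - x * x₃ = w := by
      rw [hx3def, hwdef]
      simp only [mul_sub, sub_mul, mul_smul_comm, smul_mul_assoc, mul_one, one_mul]
      abel
    rwa [hw3] at this
  have hz1 : w * w * w * x = x * (w * w * w) := by
    calc w * w * w * x = w * w * (w * x) := by noncomm_ring
      _ = w * w * (x₂ * w) := by rw [r1]
      _ = w * (w * x₂) * w := by noncomm_ring
      _ = w * (x₃ * w) * w := by rw [r2]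
      _ = (w * x₃) * w * w := by noncomm_ring
      _ = x * w * w * w := by rw [r3]
      _ = x * (w * w * w) := by noncomm_ring
  have hz2 : w * w * w * x₂ = x₂ * (w * w * w) := by
    calc w * w * w * x₂ = w * w * (w * x₂) := by noncomm_ring
      _ = w * w * (x₃ * w) := by rw [r2]
      _ = w * (w * x₃) * w := by noncomm_ring
      _ = w * (x * w) * w := by rw [r3]
      _ = (w * x) * w * w := by noncomm_ring
      _ = x₂ * w * w * w := by rw [r1]
      _ = x₂ * (w * w * w) := by noncomm_ring
  refine ⟨w, ?_, ?_⟩
  · rintro ⟨k, hk⟩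
    have hcomm : w * x = x * w := by rw [← hk]; exact Algebra.commutes k x
    rw [r1] at hcomm
    have : x₂ = x := mul_right_cancel₀ hw0 hcomm
    apply hw
    rw [this]
  · have : w ^ 3 = w * w * w := by rw [pow_succ, pow_two]
    rw [this]
    exact mem_range_of_commute_pair hp hA hw hz1 hz2

end cubic

end Groth.Agent.Lib.Helper13.Wedderburn3
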