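import Mathlib
import Groth.Agent.Lib.Helper13.WeilClosed

/-!
# `Over (Spec k)` versions of `WeilClosed.exists_closed`
-/

set_option autoImplicit false
universe u
open CategoryTheory MonoidalCategory CartesianMonoidalCategory AlgebraicGeometry Limits

namespace Groth.Agent.Lib.Helper13.WeilClosedOver

variable (k : Type u) [Field k]

/-- scheme-level closed immersion `c : E ⟶ A ×ₖ B` gives a closed subscheme of `A`
representing `x ↦ (x × id_B factors through E)`. -/
theorem exists_closed_scheme (A B : Over (Spec (CommRingCat.of k))) {E : Scheme.{u}}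
    (c : E ⟶ (A ⊗ B).left) [IsClosedImmersion c] :
    ∃ (Z : Over (Spec (CommRingCat.of k))) (j : Z ⟶ A), IsClosedImmersion j.left ∧
      ∀ (T : Over (Spec (CommRingCat.of k))) (x : T ⟶ A),
        (∃ z : T ⟶ Z, z ≫ j = x) ↔ ∃ w : (T ⊗ B).left ⟶ E, w ≫ c = (x ▷ B).left := by
  obtain ⟨Z', j', hj', hZ⟩ := Groth.Agent.Lib.Helper13.WeilClosed.exists_closed' A.hom B.hom c
  refine ⟨Over.mk (j' ≫ A.hom), Over.homMk j' rfl, hj', ?_⟩
  intro T x
  have h1 : (∃ z : T ⟶ Over.mk (j' ≫ A.hom), z ≫ (Over.homMk j' rfl : Over.mk (j' ≫ A.hom) ⟶ A) = x) ↔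
      ∃ z : T.left ⟶ Z', z ≫ j' = x.left := by
    constructor
    · rintro ⟨z, rfl⟩
      exact ⟨z.left, rfl⟩
    · rintro ⟨z, hz⟩
      refine ⟨Over.homMk z ?_, ?_⟩
      · simp only [Over.mk_hom]
        rw [← Category.assoc, hz, Over.w]
      · apply Over.OverMorphism.ext
        simpa using hz
  rw [h1, hZ T.hom x.left (Over.w x)]
  rfl

/-- two morphisms `f g : A ⊗ B ⟶ C` into a separated `C`: the locus of `x` in `A` where
`f(x, -) = g(x, -)` is a closed subscheme. -/
theorem exists_closed_eq (A B C : Over (Spec (CommRingCat.of k))) [IsSeparated C.hom]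
    (f g : A ⊗ B ⟶ C) :
    ∃ (Z : Over (Spec (CommRingCat.of k))) (j : Z ⟶ A), IsClosedImmersion j.left ∧
      ∀ (T : Over (Spec (CommRingCat.of k))) (x : T ⟶ A),
        (∃ z : T ⟶ Z, z ≫ j = x) ↔ (x ▷ B) ≫ f = (x ▷ B) ≫ g := by
  haveI : IsClosedImmersion (equalizer.ι f g).left := isClosedImmersion_equalizer_ι_left f g
  obtain ⟨Z, j, hj, hZ⟩ := exists_closed_scheme k A B (equalizer.ι f g).left
  refine ⟨Z, j, hj, ?_⟩
  intro T x
  rw [hZ]
  constructor
  · rintro ⟨w, hw⟩
    apply Over.OverMorphism.ext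
    rw [Over.comp_left, Over.comp_left]
    have hc : (equalizer.ι f g).left ≫ f.left = (equalizer.ι f g).left ≫ g.left := by
      rw [← Over.comp_left, ← Over.comp_left, equalizer.condition]
    rw [← hw, Category.assoc, hc, Category.assoc]
  · intro h
    refine ⟨(equalizer.lift (x ▷ B) h).left, ?_⟩
    rw [← Over.comp_left, equalizer.lift_ι]

end Groth.Agent.Lib.Helper13.WeilClosedOver
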