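import Mathlib
import Groth.Agent.Lib.Helper13.WeilProjLocal
import Groth.Agent.Lib.Helper13.WeilProjOver

/-!
# `Over S` versions of `WeilProjLocal.exists_closed`: `B` affine over `S` with locally projective
coordinate ring
-/

set_option autoImplicit false
universe u
open CategoryTheory MonoidalCategory CartesianMonoidalCategory AlgebraicGeometry Limits TensorProduct

namespace Groth.Agent.Lib.Helper13.WeilLocFreeOver

open Groth.Agent.Lib.Helper13.WeilProj Groth.Agent.Lib.Helper13.WeilProjOver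

variable {S : Scheme.{u}}

/-- `B` is affine over `S` with coordinate ring projective over a cover of affine opens -/
def LocProj (B : Over S) : Prop :=
  ∀ s : S, ∃ U : S.affineOpens, s ∈ (U : S.Opens) ∧
    @Module.Projective Γ(S, U) _ Γ(B.left, B.hom ⁻¹ᵁ U) _ (B.hom.app U).hom.toAlgebra.toModule

theorem locProj_of_free (B : Over S)
    (h : ∀ s : S, ∃ U : S.affineOpens, s ∈ (U : S.Opens) ∧
      @Module.Free Γ(S, U) Γ(B.left, B.hom ⁻¹ᵁ U) _ _ (B.hom.app U).hom.toAlgebra.toModule) :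
    LocProj B := by
  intro s
  obtain ⟨U, hsU, hU⟩ := h s
  refine ⟨U, hsU, ?_⟩
  letI := (B.hom.app U).hom.toAlgebra
  exact Module.Projective.of_free

/-- charts -/
theorem exists_chart (A B : Over S) [IsAffineHom B.hom] (hB : LocProj B) (p : A.left) :
    ∃ (V : A.left.Opens) (hV : IsAffineOpen V), p ∈ V ∧
      ∃ (P : Type u) (_ : CommRing P) (_ : Algebra Γ(A.left, V) P)
        (_ : Module.Projective Γ(A.left, V) P)
        (ρ : Spec (CommRingCat.of P) ⟶ (A ⊗ B).left),
        IsPullback ρ (Spec.map (CommRingCat.ofHom (algebraMap Γ(A.left, V) P))) (fst A B).left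
          hV.fromSpec := by
  obtain ⟨U, hsU, hU⟩ := hB (A.hom p)
  have hUa : IsAffineOpen U.1 := U.2
  obtain ⟨V, hV, hpV, hVU⟩ := exists_isAffineOpen_mem_and_subset (x := p) (U := A.hom ⁻¹ᵁ U.1) hsU
  obtain ⟨ψ, hψ⟩ : ∃ ψ : Γ(S, U.1) ⟶ Γ(A.left, V), ψ = A.hom.appLE U.1 V hVU := ⟨_, rfl⟩
  have hr : hV.fromSpec ≫ A.hom = Spec.map ψ ≫ hUa.fromSpec := by
    rw [hψ]; exact (IsAffineOpen.SpecMap_appLE_fromSpec A.hom hUa hV hVU).symm
  letI := (B.hom.app U.1).hom.toAlgebra
  letI := ψ.hom.toAlgebra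
  haveI : Module.Projective Γ(S, U.1) Γ(B.left, B.hom ⁻¹ᵁ U.1) := hU
  have hT := isPullback_tensor B.hom hUa ψ
  rw [← hr] at hT
  have hR : IsPullback (snd A B).left (fst A B).left B.hom A.hom :=
    (IsPullback.of_hasPullback A.hom B.hom).flip
  have hw : (Spec.map (CommRingCat.ofHom (Algebra.TensorProduct.includeRight :
        Γ(B.left, B.hom ⁻¹ᵁ U.1) →ₐ[Γ(S, U.1)]
          Γ(A.left, V) ⊗[Γ(S, U.1)] Γ(B.left, B.hom ⁻¹ᵁ U.1)).toRingHom) ≫ chart B.hom hUa) ≫ B.hom =
      (Spec.map (CommRingCat.ofHom (Algebra.TensorProduct.includeLeftRingHom :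
        Γ(A.left, V) →+* Γ(A.left, V) ⊗[Γ(S, U.1)] Γ(B.left, B.hom ⁻¹ᵁ U.1))) ≫ hV.fromSpec) ≫
        A.hom := by
    rw [Category.assoc (Spec.map _) hV.fromSpec]; exact hT.w
  refine ⟨V, hV, hpV, Γ(A.left, V) ⊗[Γ(S, U.1)] Γ(B.left, B.hom ⁻¹ᵁ U.1), inferInstance,
    inferInstance, inferInstance, hR.lift _ _ hw, ?_⟩
  refine IsPullback.of_right ?_ (hR.lift_snd _ _ hw) hR
  rw [hR.lift_fst]
  exact hT

/-- scheme-level closed immersion `c : E ⟶ A ×_S B` with `B ⟶ S` affine with locally projective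
coordinate ring gives a closed subscheme of `A` representing `x ↦ (x × id_B factors through E)`. -/
theorem exists_closed_scheme (A B : Over S) [IsAffineHom B.hom] (hB : LocProj B) {E : Scheme.{u}}
    (c : E ⟶ (A ⊗ B).left) [IsClosedImmersion c] :
    ∃ (Z : Over S) (j : Z ⟶ A), IsClosedImmersion j.left ∧
      ∀ (T : Over S) (x : T ⟶ A),
        (∃ z : T ⟶ Z, z ≫ j = x) ↔ ∃ w : (T ⊗ B).left ⟶ E, w ≫ c = (x ▷ B).left := by
  obtain ⟨Z', j', hj', hZ⟩ :=
    Groth.Agent.Lib.Helper13.WeilProjLocal.exists_closed' (fst A B).left c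
      (fun p => exists_chart A B hB p)
  refine ⟨Over.mk (j' ≫ A.hom), Over.homMk j' rfl, hj', ?_⟩
  intro T x
  have h1 : (∃ z : T ⟶ Over.mk (j' ≫ A.hom), z ≫ (Over.homMk j' rfl : Over.mk (j' ≫ A.hom) ⟶ A) = x) ↔
      ∃ z : T.left ⟶ Z', z ≫ j' = x.left := by
    constructor
    · rintro ⟨z, rfl⟩
      exact ⟨z.left, rfl⟩
    · rintro ⟨z, hz⟩
      refine ⟨Over.homMk z ?_, ?_⟩
      · simp only [Over.mk_hom]
        rw [← Category.assoc, hz, Over.w]
      · apply Over.OverMorphism.ext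
        simpa using hz
  rw [h1]
  exact hZ x.left (x ▷ B).left (fst T B).left (isPullback_whiskerRight A B T x)

/-- two morphisms `f g : A ⊗ B ⟶ C` into a separated `C`: the locus of `x` in `A` where
`f(x, -) = g(x, -)` is a closed subscheme. -/
theorem exists_closed_eq (A B C : Over S) [IsAffineHom B.hom] (hB : LocProj B)
    [IsSeparated C.hom] (f g : A ⊗ B ⟶ C) :
    ∃ (Z : Over S) (j : Z ⟶ A), IsClosedImmersion j.left ∧
      ∀ (T : Over S) (x : T ⟶ A),
        (∃ z : T ⟶ Z, z ≫ j = x) ↔ (x ▷ B) ≫ f = (x ▷ B) ≫ g := by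
  haveI : IsClosedImmersion (equalizer.ι f g).left := isClosedImmersion_equalizer_ι_left f g
  obtain ⟨Z, j, hj, hZ⟩ := exists_closed_scheme A B hB (equalizer.ι f g).left
  refine ⟨Z, j, hj, ?_⟩
  intro T x
  rw [hZ]
  constructor
  · rintro ⟨w, hw⟩
    apply Over.OverMorphism.ext
    rw [Over.comp_left, Over.comp_left]
    have hc : (equalizer.ι f g).left ≫ f.left = (equalizer.ι f g).left ≫ g.left := by
      rw [← Over.comp_left, ← Over.comp_left, equalizer.condition]
    rw [← hw, Category.assoc, hc, Category.assoc]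
  · intro h
    refine ⟨(equalizer.lift (x ▷ B) h).left, ?_⟩
    rw [← Over.comp_left, equalizer.lift_ι]

/-- closed subscheme `c : E ⟶ C` and a morphism `f : A ⊗ B ⟶ C`: the locus of `x` in `A` with
`f(x, -) ∈ E`. -/
theorem exists_closed_preimage (A B C : Over S) [IsAffineHom B.hom] (hB : LocProj B)
    (f : A ⊗ B ⟶ C) {E : Over S} (c : E ⟶ C) [IsClosedImmersion c.left] :
    ∃ (Z : Over S) (j : Z ⟶ A), IsClosedImmersion j.left ∧
      ∀ (T : Over S) (x : T ⟶ A),
        (∃ z : T ⟶ Z, z ≫ j = x) ↔ ∃ w : T ⊗ B ⟶ E, w ≫ c = (x ▷ B) ≫ f := by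
  haveI : IsClosedImmersion (pullback.snd c.left f.left) := inferInstance
  obtain ⟨Z, j, hj, hZ⟩ := exists_closed_scheme A B hB (pullback.snd c.left f.left)
  refine ⟨Z, j, hj, ?_⟩
  intro T x
  rw [hZ]
  constructor
  · rintro ⟨w, hw⟩
    refine ⟨Over.homMk (w ≫ pullback.fst c.left f.left) ?_, ?_⟩
    · have h1 : pullback.fst c.left f.left ≫ E.hom = pullback.snd c.left f.left ≫ (A ⊗ B).hom := by
        rw [← Over.w c, ← Category.assoc, pullback.condition, Category.assoc, Over.w f]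
      rw [Category.assoc, h1, ← Category.assoc, hw, Over.w]
    · apply Over.OverMorphism.ext
      rw [Over.comp_left, Over.comp_left]
      change (w ≫ pullback.fst c.left f.left) ≫ c.left = _
      rw [Category.assoc, pullback.condition, ← Category.assoc, hw]
  · rintro ⟨w, hw⟩
    refine ⟨pullback.lift w.left (x ▷ B).left ?_, pullback.lift_snd _ _ _⟩
    rw [← Over.comp_left, hw, Over.comp_left]

/-- **Fixed points are closed**: `G` a group scheme over `S`, affine with locally projective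
coordinate ring, acting on a separated `Y`. -/
theorem exists_closed_fixed (G Y : Over S) [IsAffineHom G.hom] (hG : LocProj G)
    [IsSeparated Y.hom] (act : G ⊗ Y ⟶ Y) :
    ∃ (Z : Over S) (i : Z ⟶ Y), IsClosedImmersion i.left ∧
      ∀ (T : Over S) (y : T ⟶ Y),
        (∀ (T' : Over S) (t : T' ⟶ T) (g : T' ⟶ G), lift g (t ≫ y) ≫ act = t ≫ y) ↔
          ∃ z : T ⟶ Z, z ≫ i = y := by
  obtain ⟨Z, i, hi, hZ⟩ := exists_closed_eq Y G Y hG ((β_ Y G).hom ≫ act) (fst Y G)
  refine ⟨Z, i, hi, ?_⟩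
  intro T y
  rw [hZ]
  have key : (y ▷ G) ≫ (β_ Y G).hom = lift (snd T G) (fst T G ≫ y) := by
    apply CartesianMonoidalCategory.hom_ext <;> simp
  constructor
  · intro h
    have := h (T ⊗ G) (fst T G) (snd T G)
    rw [← key, Category.assoc] at this
    rw [this, whiskerRight_fst]
  · intro h T' t g
    have h1 : lift g (t ≫ y) = lift t g ≫ (y ▷ G) ≫ (β_ Y G).hom := by
      apply CartesianMonoidalCategory.hom_ext <;> simp
    rw [h1, Category.assoc, Category.assoc, h, whiskerRight_fst, lift_fst_assoc]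

end Groth.Agent.Lib.Helper13.WeilLocFreeOver
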