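import Mathlib
import Groth.Agent.Lib.Helper13.WeilFinAlg

/-! Helper13: the Weil restriction algebra `Q A B C = Pol ⧸ J` (along a finite free `A → B`) of a
formally smooth / formally unramified / smooth / étale `A`-algebra `C` is again such. -/

set_option autoImplicit false
set_option linter.unusedSectionVars false
universe u
open TensorProduct

namespace Groth.Agent.Lib.Helper13.WeilSmAlg

open Groth.Agent.Lib.Helper13.WeilFreeAlg Groth.Agent.Lib.Helper13.WeilFinAlg

attribute [local instance] Algebra.TensorProduct.rightAlgebra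

variable {A B C : Type u} [CommRing A] [CommRing B] [CommRing C] [Algebra A B] [Algebra A C]
  [Module.Free A B] [Module.Finite A B]

section ker

variable {R : Type u} [CommRing R] [Algebra A R] (I : Ideal R)

/-- reduction modulo `I` on `R ⊗ B` -/
noncomputable abbrev red : R ⊗[A] B →ₐ[A] (R ⧸ I) ⊗[A] B :=
  Algebra.TensorProduct.map (Ideal.Quotient.mkₐ A I) (AlgHom.id A B)

theorem red_surjective : Function.Surjective (red (A := A) (B := B) I) :=
  Algebra.TensorProduct.map_surjective _ _ (Ideal.Quotient.mkₐ_surjective A I)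
    Function.surjective_id

theorem red_ker_sq (hI : I ^ 2 = ⊥) : RingHom.ker (red (A := A) (B := B) I) ^ 2 = ⊥ := by
  rw [Algebra.TensorProduct.rTensor_ker _ (Ideal.Quotient.mkₐ_surjective A I)]
  have hk : RingHom.ker (Ideal.Quotient.mkₐ A I) = I := by
    ext x
    rw [RingHom.mem_ker]
    exact Ideal.Quotient.eq_zero_iff_mem
  rw [hk, ← Ideal.map_pow, hI, Ideal.map_bot]

theorem red_ker_nilpotent (hI : I ^ 2 = ⊥) : IsNilpotent (RingHom.ker (red (A := A) (B := B) I)) :=
  ⟨2, red_ker_sq I hI⟩

end ker

section pt

variable {R : Type u} [CommRing R] [Algebra A R]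

/-- the point of `C` with values in `R ⊗ B` attached to a point of `Q` with values in `R` -/
noncomputable def pt (θ : Q A B C →ₐ[A] R) : C →ₐ[A] R ⊗[A] B :=
  (Algebra.TensorProduct.map θ (AlgHom.id A B)).comp (y (A := A) (B := B) (C := C))

theorem coord_pt (θ : Q A B C →ₐ[A] R) (c : C) (i : Idx A B) :
    coord R (pt θ c) i = θ (pr A B C (MvPolynomial.X (c, i))) := by
  change coord R (Algebra.TensorProduct.map θ (AlgHom.id A B) (y (A := A) (B := B) (C := C) c)) i = _
  rw [coord_map, coord_y]

theorem pt_injective : Function.Injective (pt (A := A) (B := B) (C := C) (R := R)) := by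
  intro θ₁ θ₂ h
  obtain ⟨θ, -, huniq⟩ := univ (A := A) (B := B) (C := C) R (pt θ₁)
  rw [huniq θ₁ fun c i => (coord_pt θ₁ c i).symm,
    huniq θ₂ fun c i => by rw [h]; exact (coord_pt θ₂ c i).symm]

theorem pt_surjective : Function.Surjective (pt (A := A) (B := B) (C := C) (R := R)) := by
  intro β
  obtain ⟨θ, hθ, -⟩ := univ (A := A) (B := B) (C := C) R β
  refine ⟨θ, AlgHom.ext fun c => ?_⟩
  apply (coord (A := A) (B := B) R).injective
  funext i
  rw [coord_pt, hθ]

theorem pt_comp {R' : Type u} [CommRing R'] [Algebra A R'] (φ : R →ₐ[A] R')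
    (θ : Q A B C →ₐ[A] R) :
    pt (φ.comp θ) = (Algebra.TensorProduct.map φ (AlgHom.id A B)).comp (pt θ) := by
  refine AlgHom.ext fun c => ?_
  apply (coord (A := A) (B := B) R').injective
  funext i
  change _ = coord R' (Algebra.TensorProduct.map φ (AlgHom.id A B) (pt θ c)) i
  rw [coord_pt, coord_map, coord_pt]
  rfl

end pt

section main

theorem formallyUnramified [Algebra.FormallyUnramified A C] :
    Algebra.FormallyUnramified A (Q A B C) := by
  rw [Algebra.FormallyUnramified.iff_comp_injective]
  intro R _ _ I hI θ₁ θ₂ h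
  apply pt_injective
  refine Algebra.FormallyUnramified.ext' (red (A := A) (B := B) I).toRingHom ?_ _ _ fun c => ?_
  · exact red_ker_nilpotent I hI
  · have h1 := pt_comp (Ideal.Quotient.mkₐ A I) θ₁
    have h2 := pt_comp (Ideal.Quotient.mkₐ A I) θ₂
    have := h1.symm.trans ((congrArg pt h).trans h2)
    exact DFunLike.congr_fun this c

theorem formallySmooth [Algebra.FormallySmooth A C] :
    Algebra.FormallySmooth A (Q A B C) := by
  refine Algebra.FormallySmooth.of_comp_surjective fun R _ _ I hI θ' => ?_
  let β : C →ₐ[A] R ⊗[A] B :=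
    Algebra.FormallySmooth.liftOfSurjective (pt θ') (red (A := A) (B := B) I)
      (red_surjective I) (red_ker_nilpotent I hI)
  have hβ : (red (A := A) (B := B) I).comp β = pt θ' :=
    Algebra.FormallySmooth.comp_liftOfSurjective _ _ _ _
  obtain ⟨θ, hθ⟩ := pt_surjective (A := A) (B := B) (C := C) β
  refine ⟨θ, pt_injective ?_⟩
  rw [pt_comp, hθ, hβ]

set_option synthInstance.maxHeartbeats 200000 in
theorem smooth [Algebra.Smooth A C] : Algebra.Smooth A (Q A B C) :=
  ⟨formallySmooth, finitePresentation⟩

set_option synthInstance.maxHeartbeats 200000 in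
theorem etale [Algebra.Etale A C] : Algebra.Etale A (Q A B C) :=
  { formallyEtale :=
      haveI := formallyUnramified (A := A) (B := B) (C := C)
      haveI := formallySmooth (A := A) (B := B) (C := C)
      Algebra.FormallyEtale.of_formallyUnramified_and_formallySmooth
    finitePresentation := finitePresentation }

end main

end Groth.Agent.Lib.Helper13.WeilSmAlg
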