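import Mathlib
import Groth.Agent.Lib.Helper13.WeilFin
import Groth.Agent.Lib.Helper13.WeilSmAlg

/-! Helper13: Weil restriction along a finite locally free morphism of an affine morphism:
the representing scheme is smooth / étale over the base when the affine morphism is. -/

set_option autoImplicit false
set_option linter.unusedSectionVars false
set_option linter.style.haveILetI false
universe u
open CategoryTheory CategoryTheory.Limits AlgebraicGeometry Opposite

namespace Groth.Agent.Lib.Helper13.WeilSm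

open Groth.Agent.Lib.Helper13.WeilFreeAlg Groth.Agent.Lib.Helper13.WeilFree
  Groth.Agent.Lib.Helper13.WeilFin

section free

variable {Z X S : Scheme.{u}} [IsAffine Z] [IsAffine X] [IsAffine S] (g : Z ⟶ S) (f : X ⟶ S)
  [Algebra Γ(S, ⊤) Γ(Z, ⊤)] [Algebra Γ(S, ⊤) Γ(X, ⊤)]
  (hB : algebraMap Γ(S, ⊤) Γ(Z, ⊤) = g.appTop.hom) (hC : algebraMap Γ(S, ⊤) Γ(X, ⊤) = f.appTop.hom)
  [Module.Free Γ(S, ⊤) Γ(Z, ⊤)] [Module.Finite Γ(S, ⊤) Γ(Z, ⊤)]

include hC in
theorem smooth_W (hf : Smooth f) : Smooth (W Z X S).hom := by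
  have h1 : f.appTop.hom.Smooth :=
    (HasRingHomProperty.iff_of_isAffine (P := @Smooth)).mp hf
  rw [← hC] at h1
  haveI : Algebra.Smooth Γ(S, ⊤) Γ(X, ⊤) := RingHom.smooth_algebraMap.mp h1
  have h2 : Algebra.Smooth Γ(S, ⊤) (WaT Z X S) :=
    WeilSmAlg.smooth (A := Γ(S, ⊤)) (B := Γ(Z, ⊤)) (C := Γ(X, ⊤))
  have h3 : Smooth
      (Spec.map (CommRingCat.ofHom (algebraMap Γ(S, ⊤) (WaT Z X S)))) := by
    rw [HasRingHomProperty.Spec_iff (P := @Smooth)]
    exact RingHom.smooth_algebraMap.mpr h2
  change Smooth (Spec.map _ ≫ S.isoSpec.inv)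
  infer_instance

include hC in
theorem etale_W (hf : Etale f) : Etale (W Z X S).hom := by
  have h1 : f.appTop.hom.Etale :=
    (HasRingHomProperty.iff_of_isAffine (P := @Etale)).mp hf
  rw [← hC] at h1
  haveI : Algebra.Etale Γ(S, ⊤) Γ(X, ⊤) := RingHom.etale_algebraMap.mp h1
  have h2 : Algebra.Etale Γ(S, ⊤) (WaT Z X S) :=
    WeilSmAlg.etale (A := Γ(S, ⊤)) (B := Γ(Z, ⊤)) (C := Γ(X, ⊤))
  have h3 : Etale
      (Spec.map (CommRingCat.ofHom (algebraMap Γ(S, ⊤) (WaT Z X S)))) := by
    rw [HasRingHomProperty.Spec_iff (P := @Etale)]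
    exact RingHom.etale_algebraMap.mpr h2
  change Etale (Spec.map _ ≫ S.isoSpec.inv)
  infer_instance

include hB hC in
theorem main_fin : ∃ W' : Over S, IsAffine W'.left ∧
    Nonempty ((Flatn.morS g f).RepresentableBy W') ∧
    (LocallyOfFiniteType f → LocallyOfFiniteType W'.hom) ∧
    (LocallyOfFinitePresentation f → LocallyOfFinitePresentation W'.hom) ∧
    (Smooth f → Smooth W'.hom) ∧ (Etale f → Etale W'.hom) := by
  obtain ⟨ξ, hξ⟩ := exists_xi g f hB hC
  refine ⟨W Z X S, inferInstance, ⟨?_⟩, lft_W f hC, lfp_W f hC, smooth_W f hC, etale_W f hC⟩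
  exact
    { homEquiv := fun {T} => Equiv.ofBijective (fun φ => (Flatn.morS g f).map φ.op ξ)
        ⟨fun φ φ' h => injective_general g f hB hC ξ hξ T φ φ' h,
          fun b => surjective_general g f hB hC ξ hξ T b⟩
      homEquiv_comp := fun {T T'} a b => by
        change (Flatn.morS g f).map (a ≫ b).op ξ = (Flatn.morS g f).map a.op _
        rw [op_comp, Functor.map_comp_apply]
        rfl }

end free

section general

open Groth.Agent.Lib.Helper13

set_option backward.isDefEq.respectTransparency.types false in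
theorem main {Z X S : Scheme.{u}} (g : Z ⟶ S) (f : X ⟶ S) (hg : Mor2.IsFinLocFree g)
    [IsAffineHom f] :
    ∃ W : Over S, IsAffineHom W.hom ∧ Nonempty ((Flatn.morS g f).RepresentableBy W) ∧
      (LocallyOfFiniteType f → LocallyOfFiniteType W.hom) ∧
      (LocallyOfFinitePresentation f → LocallyOfFinitePresentation W.hom) ∧
      (Smooth f → Smooth W.hom) ∧ (Etale f → Etale W.hom) := by
  haveI := hg.1
  haveI := hg.2.1
  haveI := hg.2.2
  choose S' q hq hs haff hPaff hfree using fun s => FinLocFreeChart.exists_free_chart g s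
  haveI := hq
  haveI := haff
  haveI := hPaff
  haveI : ∀ s, IsAffine (pullback f (q s)) := fun s => isAffine_of_isAffineHom (pullback.snd f (q s))
  have hloc : ∀ s : S, ∃ W : Over (S' s), IsAffine W.left ∧
      Nonempty ((Flatn.morS (pullback.snd g (q s)) (pullback.snd f (q s))).RepresentableBy W) ∧
      (LocallyOfFiniteType (pullback.snd f (q s)) → LocallyOfFiniteType W.hom) ∧
      (LocallyOfFinitePresentation (pullback.snd f (q s)) →
        LocallyOfFinitePresentation W.hom) ∧
      (Smooth (pullback.snd f (q s)) → Smooth W.hom) ∧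
      (Etale (pullback.snd f (q s)) → Etale W.hom) := by
    intro s
    letI := (pullback.snd g (q s)).appTop.hom.toAlgebra
    letI := (pullback.snd f (q s)).appTop.hom.toAlgebra
    haveI := (hfree s).1
    haveI := (hfree s).2
    exact main_fin (pullback.snd g (q s)) (pullback.snd f (q s)) rfl rfl
  choose W hWaff hWrep hWft hWfp hWsm hWet using hloc
  let r : ∀ s, ((Over.map (q s)).op ⋙ Flatn.morS g f).RepresentableBy (W s) := fun s =>
    (hWrep s).some.ofIso (Groth.Agent.Lib.Helper26.MorSchBC.morSIso g f (q s))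
  obtain ⟨W₀, rep, hW₀⟩ := RelLocRep.exists_representableBy_of_local q W r
    (fun s => ⟨s, hs s⟩) (MorSSheaf.morS_isZarSheaf g f)
  let 𝒰 : S.OpenCover :=
    { I₀ := S, X := S', f := q,
      mem₀ := by
        rw [Scheme.presieve₀_mem_precoverage_iff]
        exact ⟨fun x => ⟨x, hs x⟩, fun s => hq s⟩ }
  haveI : ∀ i, IsAffine (𝒰.X i) := haff
  have hsnd : ∀ s, ∃ e : pullback W₀.hom (q s) ≅ (W s).left,
      pullback.snd W₀.hom (q s) = e.hom ≫ (W s).hom := by
    intro s
    obtain ⟨j, hj⟩ := hW₀ s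
    refine ⟨hj.isoPullback.symm, ?_⟩
    change _ = hj.isoPullback.inv ≫ _
    rw [IsPullback.isoPullback_inv_snd]
  refine ⟨W₀, ?_, ⟨rep⟩, ?_, ?_, ?_, ?_⟩
  · apply HasAffineProperty.of_openCover (P := @IsAffineHom) (Q := fun X _ _ _ => IsAffine X) 𝒰
    intro s
    obtain ⟨e, -⟩ := hsnd s
    change IsAffine (pullback W₀.hom (q s))
    haveI := hWaff s
    exact IsAffine.of_isIso e.hom
  · intro hf
    apply IsZariskiLocalAtTarget.of_openCover (P := @LocallyOfFiniteType) 𝒰
    intro s
    obtain ⟨e, he⟩ := hsnd s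
    change LocallyOfFiniteType (pullback.snd W₀.hom (q s))
    rw [he]
    haveI := hWft s inferInstance
    infer_instance
  · intro hf
    apply IsZariskiLocalAtTarget.of_openCover (P := @LocallyOfFinitePresentation) 𝒰
    intro s
    obtain ⟨e, he⟩ := hsnd s
    change LocallyOfFinitePresentation (pullback.snd W₀.hom (q s))
    rw [he]
    haveI := hWfp s inferInstance
    infer_instance
  · intro hf
    apply IsZariskiLocalAtTarget.of_openCover (P := @Smooth) 𝒰
    intro s
    obtain ⟨e, he⟩ := hsnd s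
    change Smooth (pullback.snd W₀.hom (q s))
    rw [he]
    haveI := hWsm s inferInstance
    infer_instance
  · intro hf
    apply IsZariskiLocalAtTarget.of_openCover (P := @Etale) 𝒰
    intro s
    obtain ⟨e, he⟩ := hsnd s
    change Etale (pullback.snd W₀.hom (q s))
    rw [he]
    haveI := hWet s inferInstance
    infer_instance

end general

end Groth.Agent.Lib.Helper13.WeilSm
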