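import Mathlib
import Groth.Agent.Lib.Helper13.WeilClosedOver

/-!
# Transporters into closed subschemes over a field are closed
-/

set_option autoImplicit false
universe u
open CategoryTheory MonoidalCategory CartesianMonoidalCategory AlgebraicGeometry Limits

namespace Groth.Agent.Lib.Helper13.WeilTransporter

/-- factorisation in `Over S` can be tested on underlying schemes -/
theorem over_factor_iff {S : Scheme.{u}} {T G S' : Over S} (t : T ⟶ G) (g : S' ⟶ G) :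
    (∃ z : S' ⟶ T, z ≫ t = g) ↔ ∃ z' : S'.left ⟶ T.left, z' ≫ t.left = g.left := by
  constructor
  · rintro ⟨z, rfl⟩
    exact ⟨z.left, rfl⟩
  · rintro ⟨z, hz⟩
    refine ⟨Over.homMk z ?_, ?_⟩
    · rw [← Over.w t, ← Category.assoc, hz, Over.w]
    · apply Over.OverMorphism.ext
      simpa using hz

variable (k : Type u) [Field k]

/-- `φ : A ⊗ B ⟶ C`, `y : Y ⟶ C` a closed immersion: the locus of `x` in `A` with
`φ(x, -)` factoring through `Y` is closed. -/
theorem exists_closed_transporter (A B C Y : Over (Spec (CommRingCat.of k)))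
    (φ : A ⊗ B ⟶ C) (y : Y ⟶ C) [IsClosedImmersion y.left] :
    ∃ (T : Over (Spec (CommRingCat.of k))) (t : T ⟶ A), IsClosedImmersion t.left ∧
      ∀ (S' : Over (Spec (CommRingCat.of k))) (g : S' ⟶ A),
        (∃ z : S' ⟶ T, z ≫ t = g) ↔ ∃ ψ : S' ⊗ B ⟶ Y, ψ ≫ y = (g ▷ B) ≫ φ := by
  obtain ⟨T, t, ht, hT⟩ := Groth.Agent.Lib.Helper13.WeilClosedOver.exists_closed_scheme k A B
    (pullback.snd y.left φ.left)
  refine ⟨T, t, ht, ?_⟩
  intro S' g
  rw [hT, over_factor_iff y ((g ▷ B) ≫ φ)]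
  constructor
  · rintro ⟨w, hw⟩
    refine ⟨w ≫ pullback.fst y.left φ.left, ?_⟩
    rw [Category.assoc, pullback.condition, ← Category.assoc, hw, Over.comp_left]
  · rintro ⟨ψ, hψ⟩
    refine ⟨pullback.lift ψ (g ▷ B).left ?_, pullback.lift_snd _ _ _⟩
    rw [hψ, Over.comp_left]

/-- intersection of two closed subschemes -/
theorem exists_closed_inter {S : Scheme.{u}} {A T₁ T₂ : Over S} (t₁ : T₁ ⟶ A) (t₂ : T₂ ⟶ A)
    [IsClosedImmersion t₁.left] [IsClosedImmersion t₂.left] :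
    ∃ (T : Over S) (t : T ⟶ A), IsClosedImmersion t.left ∧
      ∀ (S' : Over S) (g : S' ⟶ A),
        (∃ z : S' ⟶ T, z ≫ t = g) ↔ (∃ z : S' ⟶ T₁, z ≫ t₁ = g) ∧ (∃ z : S' ⟶ T₂, z ≫ t₂ = g) := by
  let t' : pullback t₁.left t₂.left ⟶ A.left := pullback.fst t₁.left t₂.left ≫ t₁.left
  haveI : IsClosedImmersion t' := inferInstance
  refine ⟨Over.mk (t' ≫ A.hom), Over.homMk t' rfl, ‹_›, ?_⟩
  intro S' g
  rw [over_factor_iff, over_factor_iff t₁, over_factor_iff t₂]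
  constructor
  · rintro ⟨z, hz⟩
    refine ⟨⟨z ≫ pullback.fst _ _, ?_⟩, ⟨z ≫ pullback.snd _ _, ?_⟩⟩
    · rw [Category.assoc]; exact hz
    · rw [Category.assoc, ← pullback.condition]; exact hz
  · rintro ⟨⟨z₁, hz₁⟩, ⟨z₂, hz₂⟩⟩
    refine ⟨pullback.lift z₁ z₂ (by rw [hz₁, hz₂]), ?_⟩
    change pullback.lift z₁ z₂ _ ≫ pullback.fst t₁.left t₂.left ≫ t₁.left = g.left
    rw [pullback.lift_fst_assoc, hz₁]

end Groth.Agent.Lib.Helper13.WeilTransporter
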