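import Mathlib
import Groth.Agent.Lib.Helper13.WeilTransporter
import Groth.Agent.Lib.Helper3.SubGrpMono
import Groth.Agent.Lib.Helper4.GrpFieldSep

/-!
# Closed subgroup schemes of a group scheme over a field defined by conditions on points
-/

set_option autoImplicit false
universe u
open CategoryTheory CategoryTheory.Limits MonoidalCategory CartesianMonoidalCategory MonObj GrpObj AlgebraicGeometry

namespace Groth.Agent.Lib.Helper13.WeilSubgroups

/-- a mono representing a subgroup-like predicate on points is a subgroup -/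
theorem exists_grpObj_of_pred {S : Scheme.{u}} {G N : Over S} [GrpObj G] (n : N ⟶ G) [Mono n]
    (P : ∀ X : Over S, (X ⟶ G) → Prop)
    (hN : ∀ (X : Over S) (x : X ⟶ G), (∃ z : X ⟶ N, z ≫ n = x) ↔ P X x)
    (hcomp : ∀ (X X₁ : Over S) (u : X₁ ⟶ X) (x : X ⟶ G), P X x → P X₁ (u ≫ x))
    (hone : ∀ X : Over S, P X 1)
    (hmul : ∀ (X : Over S) (x₁ x₂ : X ⟶ G), P X x₁ → P X x₂ → P X (x₁ * x₂))
    (hinv : ∀ (X : Over S) (x : X ⟶ G), P X x → P X x⁻¹) : ∃ _ : GrpObj N, IsMonHom n := by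
  have hnn : P N n := (hN N n).mp ⟨𝟙 _, Category.id_comp _⟩
  obtain ⟨e, he⟩ := (hN _ η[G]).mpr (by
    have := hone (𝟙_ (Over S))
    rwa [Hom.one_def, toUnit_unique (toUnit _) (𝟙 _), Category.id_comp] at this)
  obtain ⟨m, hm⟩ := (hN _ ((n ⊗ₘ n) ≫ μ[G])).mpr (by
    have := hmul _ _ _ (hcomp _ _ (fst N N) n hnn) (hcomp _ _ (snd N N) n hnn)
    rwa [Hom.mul_def, lift_fst_comp_snd_comp] at this)
  obtain ⟨v, hv⟩ := (hN _ (n ≫ ι[G])).mpr (hinv _ n hnn)
  exact Groth.Agent.Lib.Helper3.SubGrp.exists_grpObj_of_mono n e he m hm v hv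

variable (k : Type u) [Field k]

/-- the centralizer of an arbitrary family of points `b : B ⟶ G` of a group scheme over a field
is a closed subgroup scheme -/
theorem exists_centralizer (G B : Over (Spec (CommRingCat.of k))) [GrpObj G] (b : B ⟶ G) :
    ∃ (Z : Over (Spec (CommRingCat.of k))) (_ : GrpObj Z) (z : Z ⟶ G), IsMonHom z ∧
      IsClosedImmersion z.left ∧
      ∀ (X : Over (Spec (CommRingCat.of k))) (x : X ⟶ G), (∃ w : X ⟶ Z, w ≫ z = x) ↔
        ∀ (X' : Over (Spec (CommRingCat.of k))) (s : X' ⟶ X) (y : X' ⟶ B),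
          (s ≫ x) * (y ≫ b) = (y ≫ b) * (s ≫ x) := by
  haveI : IsSeparated G.hom := Groth.Agent.Lib.Helper4.GrpFieldSep.isSeparated_of_field k G
  obtain ⟨Z, z, hz, hZ⟩ := Groth.Agent.Lib.Helper13.WeilClosedOver.exists_closed_eq k G B G
    (fst G B * (snd G B ≫ b)) ((snd G B ≫ b) * fst G B)
  have hZ' : ∀ (X : Over (Spec (CommRingCat.of k))) (x : X ⟶ G), (∃ w : X ⟶ Z, w ≫ z = x) ↔
        ∀ (X' : Over (Spec (CommRingCat.of k))) (s : X' ⟶ X) (y : X' ⟶ B),
          (s ≫ x) * (y ≫ b) = (y ≫ b) * (s ≫ x) := by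
    intro X x
    rw [hZ]
    have h1 : (x ▷ B) ≫ (fst G B * (snd G B ≫ b)) = (fst X B ≫ x) * (snd X B ≫ b) := by
      rw [MonObj.comp_mul, whiskerRight_fst, whiskerRight_snd_assoc]
    have h2 : (x ▷ B) ≫ ((snd G B ≫ b) * fst G B) = (snd X B ≫ b) * (fst X B ≫ x) := by
      rw [MonObj.comp_mul, whiskerRight_fst, whiskerRight_snd_assoc]
    rw [h1, h2]
    constructor
    · intro h X' s y
      have := congrArg (fun m => lift s y ≫ m) h
      simp only [MonObj.comp_mul, lift_fst_assoc, lift_snd_assoc] at this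
      exact this
    · intro h
      exact h (X ⊗ B) (fst X B) (snd X B)
  haveI : Mono z.left := inferInstance
  haveI : Mono z := Over.mono_of_mono_left z
  obtain ⟨inst, hmon⟩ := exists_grpObj_of_pred z
    (fun X x => ∀ (X' : Over (Spec (CommRingCat.of k))) (s : X' ⟶ X) (y : X' ⟶ B),
          (s ≫ x) * (y ≫ b) = (y ≫ b) * (s ≫ x)) hZ'
    (by
      intro X X₁ u x hx X' s y
      have := hx X' (s ≫ u) y
      simpa only [Category.assoc] using this)
    (by
      intro X X' s y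
      rw [MonObj.comp_one, _root_.one_mul, _root_.mul_one])
    (by
      intro X x₁ x₂ h1 h2 X' s y
      rw [MonObj.comp_mul]
      calc (s ≫ x₁) * (s ≫ x₂) * (y ≫ b) = (s ≫ x₁) * ((s ≫ x₂) * (y ≫ b)) := _root_.mul_assoc _ _ _
        _ = (s ≫ x₁) * ((y ≫ b) * (s ≫ x₂)) := by rw [h2 X' s y]
        _ = ((s ≫ x₁) * (y ≫ b)) * (s ≫ x₂) := (_root_.mul_assoc _ _ _).symm
        _ = ((y ≫ b) * (s ≫ x₁)) * (s ≫ x₂) := by rw [h1 X' s y]
        _ = (y ≫ b) * ((s ≫ x₁) * (s ≫ x₂)) := _root_.mul_assoc _ _ _)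
    (by
      intro X x h1 X' s y
      rw [GrpObj.comp_inv]
      have := h1 X' s y
      have h2 : (y ≫ b) * (s ≫ x)⁻¹ = (s ≫ x)⁻¹ * ((s ≫ x) * (y ≫ b)) * (s ≫ x)⁻¹ := by group
      rw [h2, this]
      group)
  exact ⟨Z, inst, z, hmon, hz, hZ'⟩

end Groth.Agent.Lib.Helper13.WeilSubgroups
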