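import Mathlib
import Groth.Agent.Lib.Helper13.ZMTFinAffine

/-!
# Open immersions of affine schemes and localizations away from elements
-/

universe u

open CategoryTheory CategoryTheory.Limits AlgebraicGeometry TopologicalSpace

namespace Groth.Agent.Lib.Helper13.ZMTFin

set_option maxHeartbeats 800000 in
/-- If `Spec B ⟶ Spec B'` is an open immersion whose range contains `D(r)`, then `B[1/r]` is the
localization of `B'` away from `r`. -/
theorem isLocalization_away_of_isOpenImmersion {B' B : CommRingCat.{u}} (φ : B' ⟶ B)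
    [IsOpenImmersion (Spec.map φ)] (r : B')
    (hr : (PrimeSpectrum.basicOpen r : Set (PrimeSpectrum B')) ⊆ Set.range (Spec.map φ)) :
    letI : Algebra B' (Localization.Away (φ.hom r)) :=
      ((algebraMap B (Localization.Away (φ.hom r))).comp φ.hom).toAlgebra
    IsLocalization.Away r (Localization.Away (φ.hom r)) := by
  letI : Algebra B' (Localization.Away (φ.hom r)) :=
    ((algebraMap B (Localization.Away (φ.hom r))).comp φ.hom).toAlgebra
  let lB' : B' ⟶ CommRingCat.of (Localization.Away r) :=
    CommRingCat.ofHom (algebraMap B' (Localization.Away r))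
  let lB : B ⟶ CommRingCat.of (Localization.Away (φ.hom r)) :=
    CommRingCat.ofHom (algebraMap B (Localization.Away (φ.hom r)))
  haveI : IsOpenImmersion (Spec.map lB') := IsOpenImmersion.of_isLocalization r
  haveI : IsOpenImmersion (Spec.map lB) := IsOpenImmersion.of_isLocalization (φ.hom r)
  have h1 : Set.range (Spec.map lB') = (PrimeSpectrum.basicOpen r : Set (PrimeSpectrum B')) :=
    PrimeSpectrum.localization_away_comap_range _ r
  have h2 : Set.range (Spec.map lB) =
      (PrimeSpectrum.basicOpen (φ.hom r) : Set (PrimeSpectrum B)) :=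
    PrimeSpectrum.localization_away_comap_range _ (φ.hom r)
  have hrange : Set.range (Spec.map lB ≫ Spec.map φ) = Set.range (Spec.map lB') := by
    rw [h1, Scheme.Hom.comp_base, TopCat.coe_comp, Set.range_comp, h2]
    have h3 : (PrimeSpectrum.basicOpen (φ.hom r) : Set (PrimeSpectrum B)) =
        (Spec.map φ) ⁻¹' (PrimeSpectrum.basicOpen r : Set (PrimeSpectrum B')) := rfl
    rw [h3, Set.image_preimage_eq_inter_range]
    exact Set.inter_eq_left.mpr hr
  let e := IsOpenImmersion.isoOfRangeEq (Spec.map lB ≫ Spec.map φ) (Spec.map lB') hrange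
  have he : e.hom ≫ Spec.map lB' = Spec.map lB ≫ Spec.map φ :=
    IsOpenImmersion.isoOfRangeEq_hom_fac _ _ _
  let θ : CommRingCat.of (Localization.Away r) ⟶ CommRingCat.of (Localization.Away (φ.hom r)) :=
    Spec.preimage e.hom
  have hθ : Spec.map θ = e.hom := Spec.map_preimage _
  have hbij : Function.Bijective θ.hom := by
    rw [← isIso_SpecMap_iff, hθ]
    infer_instance
  have hcomm : lB' ≫ θ = φ ≫ lB := by
    apply Spec.map_injective
    rw [Spec.map_comp, Spec.map_comp, hθ, he]
  have hcomm' : ∀ b : B', θ.hom (algebraMap B' (Localization.Away r) b) =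
      algebraMap B' (Localization.Away (φ.hom r)) b := by
    intro b
    have := congrArg (fun ψ => ψ.hom b) hcomm
    exact this
  let eq : Localization.Away r ≃ₐ[B'] Localization.Away (φ.hom r) :=
    AlgEquiv.ofBijective ⟨θ.hom, hcomm'⟩ hbij
  exact IsLocalization.isLocalization_of_algEquiv (Submonoid.powers r) eq

set_option maxHeartbeats 800000 in
/-- A criterion for `Spec B ⟶ Spec C` to be an open immersion: `Spec B` is covered by `D(ψ c)`,
`c ∈ t`, with `B[1/ψ c] = C[1/c]`. -/
theorem isOpenImmersion_SpecMap_of_away {C B : CommRingCat.{u}} (ψ : C ⟶ B) (t : Set C)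
    (hcov : ∀ p : PrimeSpectrum B, ∃ c ∈ t, ψ.hom c ∉ p.asIdeal)
    (hloc : ∀ c ∈ t,
      letI : Algebra C (Localization.Away (ψ.hom c)) :=
        ((algebraMap B (Localization.Away (ψ.hom c))).comp ψ.hom).toAlgebra
      IsLocalization.Away c (Localization.Away (ψ.hom c))) :
    IsOpenImmersion (Spec.map ψ) := by
  let lB : ∀ c : C, B ⟶ CommRingCat.of (Localization.Away (ψ.hom c)) := fun c =>
    CommRingCat.ofHom (algebraMap B (Localization.Away (ψ.hom c)))
  haveI : ∀ c : C, IsOpenImmersion (Spec.map (lB c)) := fun c =>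
    IsOpenImmersion.of_isLocalization (ψ.hom c)
  have hrange : ∀ c : C, Set.range (Spec.map (lB c)) =
      (PrimeSpectrum.basicOpen (ψ.hom c) : Set (PrimeSpectrum B)) := fun c =>
    PrimeSpectrum.localization_away_comap_range _ (ψ.hom c)
  have hpiece : ∀ c ∈ t, IsOpenImmersion (Spec.map (lB c) ≫ Spec.map ψ) := by
    intro c hc
    letI : Algebra C (Localization.Away (ψ.hom c)) :=
      ((algebraMap B (Localization.Away (ψ.hom c))).comp ψ.hom).toAlgebra
    haveI : IsLocalization.Away c (Localization.Away (ψ.hom c)) := hloc c hc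
    have h1 : IsOpenImmersion (Spec.map (CommRingCat.ofHom
        (algebraMap C (Localization.Away (ψ.hom c))))) := IsOpenImmersion.of_isLocalization c
    have h2 : CommRingCat.ofHom (algebraMap C (Localization.Away (ψ.hom c))) = ψ ≫ lB c := rfl
    rw [h2, Spec.map_comp] at h1
    exact h1
  have hcomap : ∀ (p : Spec B) (c : C), c ∈ (Spec.map ψ p).asIdeal ↔ ψ.hom c ∈ p.asIdeal :=
    fun p c => Iff.rfl
  apply IsOpenImmersion.of_forall_source_exists
  · intro x y hxy
    obtain ⟨c, hc, hcx⟩ := hcov x
    have hcy : ψ.hom c ∉ y.asIdeal := by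
      intro hcy
      apply hcx
      have h1 : c ∈ (Spec.map ψ y).asIdeal := (hcomap _ _).mpr hcy
      rw [← hxy] at h1
      exact (hcomap _ _).mp h1
    have hx' : x ∈ Set.range (Spec.map (lB c)) := by rw [hrange]; exact hcx
    have hy' : y ∈ Set.range (Spec.map (lB c)) := by rw [hrange]; exact hcy
    obtain ⟨x', rfl⟩ := hx'
    obtain ⟨y', rfl⟩ := hy'
    haveI := hpiece c hc
    have hinj := (Spec.map (lB c) ≫ Spec.map ψ).isOpenEmbedding.injective
    have : x' = y' := hinj (by simpa [Scheme.Hom.comp_apply] using hxy)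
    rw [this]
  · intro x
    obtain ⟨c, hc, hcx⟩ := hcov x
    refine ⟨Spec (CommRingCat.of (Localization.Away (ψ.hom c))), Spec.map (lB c), inferInstance,
      ?_, hpiece c hc⟩
    change x ∈ Set.range (Spec.map (lB c))
    rw [hrange]
    exact hcx

end Groth.Agent.Lib.Helper13.ZMTFin
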